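import Cfsg.Agent.H77.E4Poly_m3
import Cfsg.Agent.BpExc.AsmN_m3
import Cfsg.Agent.H46.Gen.PairW
import Cfsg.Agent.H168.ExcE8_m3
import Cfsg.Agent.H493.EigFast
import Cfsg.Agent.H378.TwAdj
import Cfsg.Agent.H493.PGD4T
import Cfsg.Agent.H378.Eng.Expo
import Cfsg.Agent.H378.OmD4
import Cfsg.Agent.H378.SmallTor_m3
import Cfsg.Agent.R2.Spec.X1.TD.Spec_m3
import Cfsg.Agent.H129.CycRow
import Cfsg.Agent.H94.Sp.Base_m3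
import Cfsg.Agent.FastGrp
import Cfsg.Agent.Prune
set_option linter.all false

section
prune_inst 0x7ffcfff8efb8bfffffff7e7ffed9dffe19d1dfffe6dffb43ffe8e3ff0b9f03041bc56bad1de050ff0ed6e0b410b87853fb7eefffee6fdc7ffffdfff45ffbee5ff7ffbf8951d384240f3c0fff93f07f8a7f3fffffffffffffffffffffffffffbeffffffffffff

-- part: R2/Spec/EE/CertBase
section
prune_inst 0x7004000000000018000062001e6282000092004b8000414002440e80ac4220010e21002003129030bad4003000481100011002200000000008004118008000010000c0990d08200006008004400000000000000000000000000000000000000000000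
set_option linter.all false
open scoped Cfsg.Agent.FastGrp

/-!
# Adjacency with the characteristic through a torus, untwisted groups (helper2)

* `pow_range` : `y ^ d ∈ emb (D.group F)` for every fixed point `y` of the Frobenius automorphism;
* `rel_p_of_eig` : `w` fixes a root on which the functional vanishes;
* `rel_p_of_orb` : `w` permutes three commuting roots on which the functional vanishes.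
-/

set_option autoImplicit false
set_option linter.unusedSectionVars false

namespace Cfsg.Agent.R2.Spec.EE.CertBase

open CoxeterSystem Cfsg Cfsg.Lie Cfsg.Lie.ChevalleyDatum
open Cfsg.Agent Cfsg.Agent.ChevalleyStructure Cfsg.Agent.ChevalleyStructure.Elts
  Cfsg.Agent.ChevalleyStructure.CoxeterGeom
  Cfsg.Agent.ChevalleyStructure.CoxeterGeomTypes Cfsg.Agent.ChevalleyStructure.NPerm
open Cfsg.Agent.Tits.Roots Cfsg.Agent.Tits.Core Cfsg.Agent.Nodes Cfsg.Agent.Nodes.Reps Cfsg.Agent.Nodes.BNOf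
  Cfsg.Agent.Nodes.RGDChev Cfsg.Agent.Nodes.Bruhat Cfsg.Agent.Nodes.SubComb Cfsg.Agent.Nodes.Coroot
open Cfsg.Agent.KFacts.RgdField Cfsg.Agent.KFacts.RgdChevCoord Cfsg.Agent.BpExc.TorCent Cfsg.Agent.BpExc.TorChev
open Cfsg.Agent.GpExc.Field Cfsg.Agent.BpExc.Tow Cfsg.Agent.BpExc.TowChev Cfsg.Agent.BpExc.Fr
  Cfsg.Agent.BpExc.LangFr Cfsg.Agent.LangThm Cfsg.Agent.BpExc Cfsg.Agent.H129.TorusChar Cfsg.Agent.H129.TorusCent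
  Cfsg.Agent.H129.TorusTw Cfsg.Agent.H129.TorusMain Cfsg.Agent.H493 Cfsg.Agent.H493.PGTorus
  Cfsg.Agent.H493.PGTwist Cfsg.Agent.H129.TorusUntw

universe u

section

variable {D : ChevalleyDatum} {l : ℕ} {M : CoxeterMatrix (Fin l)} (hp : IsType D l M) {k : Type u} [Field k]
  [IsAlgClosed k] {W : Type*} [Group W] (cs : CoxeterSystem M W) {p e : ℕ} [Fact p.Prime] [CharP k p]

section Fix

variable {F : Type u} [Field F] [Fintype F] (f : F →+* k)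

include cs in
/-- A fixed torus element normalises the image. -/
theorem torus_norm (hq : Fintype.card F = p ^ e) {t : ↥(D.group k)} (ht : t ∈ TT D k) (hf : phi D k p e t = t) :
    t ∈ Subgroup.normalizer ((emb hp.inList f).range : Set ↥(D.group k)) := by
  have h1 : ∀ r : ℕ, ∃ b : F, f b = cX hp t (vec D l r) := fun r => fix_cX hp cs f hq ht hf _
  choose b hb using h1
  refine FamExt.mem_normalizer hp f (c := b) (fun r hr s => ?_) fun r hr h0 => ?_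
  · have h3 := (act hp hr ht).2 (f s)
    rw [← cX_root hp cs ht ((isRoot_iff hp cs _).2 ⟨r, hr, rfl⟩)] at h3
    rw [h3, ← hb, map_mul]
  · have h1 := hb r
    rw [h0, map_zero] at h1
    exact (isMC_cX hp ht).ne_zero _ h1.symm

include cs in
/-- **`y ^ d` in the image.** -/
theorem pow_range (hq : Fintype.card F = p ^ e) {d : ℕ} {B : Fin l → Fin l → ℤ}
    (hB : InvC D l d B) (hd : d ≠ 0) {y : ↥(D.group k)} (hy : phi D k p e y = y) :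
    y ^ d ∈ (emb hp.inList f).range := by
  obtain ⟨x, t, ht, rfl⟩ := fix_split hp f hq hy
  rw [map_mul, phi_emb hp f hq] at hy
  have hf : phi D k p e t = t := mul_left_cancel hy
  have hn := torus_norm hp cs f hq ht hf
  have key : ∀ n : ℕ, ∃ z ∈ (emb hp.inList f).range, (emb hp.inList f x * t) ^ n = z * t ^ n := by
    intro n
    induction n with
    | zero => exact ⟨1, one_mem _, by simp⟩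
    | succ n ih =>
      obtain ⟨z, hz, h⟩ := ih
      refine ⟨z * (t ^ n * emb hp.inList f x * (t ^ n)⁻¹), mul_mem hz ?_, ?_⟩
      · exact (Subgroup.mem_normalizer_iff.1 (pow_mem hn n) _).1 ⟨x, rfl⟩
      · rw [pow_succ, h, pow_succ]
        group
  obtain ⟨z, hz, h⟩ := key d
  rw [h]
  exact mul_mem hz (fix_pow hp cs f hq hB hd ht hf)

end Fix

end

section Main

variable {D : ChevalleyDatum} {l : ℕ} {M : CoxeterMatrix (Fin l)} (hp : IsType D l M) {W : Type*} [Group W] [Finite W]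
  (cs : CoxeterSystem M W)

/-- a prime power of a fixed element, order prime to the exponent -/
theorem rel_desc {G0 Y : Type*} [Group G0] [Finite G0] [Group Y] {e0 : G0 →* Y} (he0 : Function.Injective e0)
    {y y' : Y} {m n : ℕ} (hy : y ^ m ∈ e0.range) (hy' : y' ^ n ∈ e0.range) (hc : y * y' = y' * y) {r s : ℕ}
    (hr : r.Prime) (hs : s.Prime) (hrs : r ≠ s) (hyr : orderOf y = r) (hys : orderOf y' = s)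
    (hrm : ¬ r ∣ m) (hsn : ¬ s ∣ n) : PG.Rel G0 r s := by
  obtain ⟨x, hx⟩ := hy
  obtain ⟨x', hx'⟩ := hy'
  have key : ∀ {y : Y} {x : G0} {r d : ℕ}, r.Prime → orderOf y = r → ¬ r ∣ d → e0 x = y ^ d → orderOf x = r := by
    intro y x r d hr hyr hrd hx
    rw [← orderOf_injective e0 he0 x, hx, Nat.Coprime.orderOf_pow, hyr]
    rw [hyr]
    exact (Nat.Prime.coprime_iff_not_dvd hr).2 hrd
  refine PG.Rel.of_commute hr hs hrs (x := x) (y := x') ?_ (by rw [key hr hyr hrm hx]) (by rw [key hs hys hsn hx'])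
  apply he0
  rw [map_mul, map_mul, hx, hx']
  exact ((show Commute y y' from hc).pow_pow m n).eq

include cs in
/-- the exponent for the characteristic -/
theorem exists_exp {F : Type u} [Field F] [Fintype F] {k : Type u} [Field k] [IsAlgClosed k] (f : F →+* k) {p e : ℕ}
    [Fact p.Prime] [CharP k p] (hq : Fintype.card F = p ^ e) {d : ℕ} {B : Fin l → Fin l → ℤ}
    (hB : InvC D l d B) (hd : d ≠ 0) (hF : p ∣ d → ∀ a : F, ∃ b : F, b ^ d = a) :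
    ∃ n : ℕ, ¬ p ∣ n ∧ ∀ y : ↥(D.group k), phi D k p e y = y → y ^ n ∈ (emb hp.inList f).range := by
  by_cases h : p ∣ d
  · refine ⟨1, fun h1 => (Fact.out : p.Prime).one_lt.ne' (Nat.dvd_one.1 h1), fun y hy => ?_⟩
    rw [pow_one]
    exact fix_range hp cs f hq hB hd (hF h) hy
  · exact ⟨d, h, fun y hy => pow_range hp cs f hq hB hd hy⟩

/-- **Adjacency with the characteristic.** -/
theorem rel_p_of_eig {d : ℕ} {B : Fin l → Fin l → ℤ} (hB : InvC D l d B) (hd : d ≠ 0) {F : Type u} [Field F] [Finite F]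
    {w : W} {Th : Fin l → Fin l → ℤ} (hw : ∀ j, rep cs hp.isCartan w (sr j) = Th j)
    {f : ℕ} {c : Fin (f + 1) → ℤ} {V : Fin (f + 1) → Fin l → ℤ} {U : Fin l → ℤ}
    (h : EigOK (fun i j => Th j i) c V U) (hc : c 0 = 1 ∨ c 0 = -1) {r₀ : ℕ} (hr₀ : r₀ < D.nroots)
    (hfix : ∀ m, ∑ j, vec D l r₀ j * Th j m = vec D l r₀ m) (hV : ∀ i, ∑ m, vec D l r₀ m * V i m = 0)
    {r s : ℕ} (hr : r.Prime) (hs : s.Prime) (hrd : ¬ r ∣ d) (hF : s ∣ d → ∀ a : F, ∃ b : F, b ^ d = a)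
    (h1 : (r : ℤ) ∣ pv c (Nat.card F)) (h2 : s ∣ Nat.card F) : PG.Rel ↥(D.group F) r s := by
  have : Fintype F := Fintype.ofFinite F
  rw [Nat.card_eq_fintype_card] at h1 h2
  obtain ⟨p, e, hpF, hpc, hpk, he, hq, hk⟩ := exists_closure (F := F) rfl
  have hsp : s = p := (Nat.prime_dvd_prime_iff_eq hs hpF.out).1 (hs.dvd_of_dvd_pow (hq ▸ h2))
  subst hsp
  rw [hq] at h1
  have hrs := ne_char hc hs he h1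
  obtain ⟨n, hn, hrange⟩ := exists_exp hp cs (algebraMap F (AlgebraicClosure F)) hq hB hd hF
  have hroot := (isRoot_iff hp cs (vec D l r₀)).2 ⟨r₀, hr₀, rfl⟩
  obtain ⟨m, z, hz, hσ', F'⟩ := exists_z hp cs hk he (isFrob_phi (p := s) (e := e))
    (fr_phi hp cs (k := AlgebraicClosure F)) w
  obtain ⟨t, ht, h3, h4, h5⟩ := exists_t hp cs hσ' F' hB hd hr hrs (hL_of_eig hp cs hw h h1)
    (x₀ := U) (by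
      rw [lam_unit h]
      intro h7
      have h8 := Int.natCast_dvd_natCast.mp (by simpa using h7 : (r : ℤ) ∣ ((1 : ℕ) : ℤ))
      exact hr.one_lt.ne' (Nat.dvd_one.mp h8))
  have hwa : (AddEquiv.refl (Fin l → ℤ)).trans (repAut cs hp.isCartan w) (vec D l r₀) = vec D l r₀ := by
    funext i
    rw [← hfix i]
    exact rep_apply_eq hp cs hw _ _
  obtain ⟨x, hx1, hx2, hx3⟩ := exists_x hp cs hk he hσ' F' hroot hwa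
  have hcomm : t * x = x * t := hx3 t ht (h5 _ (by rw [lam_zero hV]; exact dvd_zero _))
  have ho : ∀ y : ↥(D.group (AlgebraicClosure F)), orderOf (z * y * z⁻¹) = orderOf y := fun y =>
    orderOf_injective (MulAut.conj z).toMonoidHom (MulAut.conj z).injective y
  refine rel_desc (emb_injective hp.inList (algebraMap F (AlgebraicClosure F))) (y := z * t * z⁻¹)
    (y' := z * x * z⁻¹) (pow_range hp cs _ hq hB hd (fix_conj hz h3)) (hrange _ (fix_conj hz hx1)) ?_ hr hs hrs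
    ((ho t).trans h4) ((ho x).trans hx2) hrd hn
  calc z * t * z⁻¹ * (z * x * z⁻¹) = z * (t * x) * z⁻¹ := by group
    _ = z * (x * t) * z⁻¹ := by rw [hcomm]
    _ = _ := by group

/-- **Unipotent elements, three roots.** -/
theorem exists_x3 {k : Type u} [Field k] [IsAlgClosed k] {p e : ℕ} [Fact p.Prime] [CharP k p]
    {σ : MulAut ↥(D.group k)} {g : (Fin l → ℤ) ≃+ (Fin l → ℤ)} (he : 0 < e) (hσ : IsFrob p e σ)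
    (F : Fr cs hp.isCartan (TT D k) (XX D l k) σ g) {d : ℕ} {B : Fin l → Fin l → ℤ} (hB : InvC D l d B) (hd : d ≠ 0)
    {r₀ r₁ r₂ : ℕ} (h0 : r₀ < D.nroots) (h1 : r₁ < D.nroots) (h2 : r₂ < D.nroots)
    (g0 : g (vec D l r₀) = vec D l r₁) (g1 : g (vec D l r₁) = vec D l r₂) (g2 : g (vec D l r₂) = vec D l r₀)
    (c01 : r₁ ≠ r₀ ∧ r₁ ≠ D.neg r₀ ∧ D.commTerms r₀ r₁ = []) (c02 : r₂ ≠ r₀ ∧ r₂ ≠ D.neg r₀ ∧ D.commTerms r₀ r₂ = [])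
    (c12 : r₂ ≠ r₁ ∧ r₂ ≠ D.neg r₁ ∧ D.commTerms r₁ r₂ = []) {L : Fin l → ℤ} (L0 : ∑ m, vec D l r₀ m * L m = 1)
    (L1 : ∑ m, vec D l r₁ m * L m = 0) (L2 : ∑ m, vec D l r₂ m * L m = 0) :
    ∃ x : ↥(D.group k), σ x = x ∧ orderOf x = p ∧ ∀ t ∈ TT D k, cX hp t (vec D l r₀) = 1 →
      cX hp t (vec D l r₁) = 1 → cX hp t (vec D l r₂) = 1 → t * x = x * t := by
  have hroot : ∀ {r : ℕ}, r < D.nroots → IsRoot cs hp.isCartan (vec D l r) := fun hr =>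
    (isRoot_iff hp cs _).2 ⟨_, hr, rfl⟩
  obtain ⟨y, hy, hy1, hyf⟩ := Cfsg.Agent.BpExc.HX.exists_fixed hp cs he hσ F (hroot h0)
  obtain ⟨a, rfl⟩ := (Cfsg.Agent.BpExc.HX.mem_XX_xc hp h0).1 hy
  obtain ⟨a1, e1⟩ := (Cfsg.Agent.BpExc.HX.mem_XX_xc hp h1).1 (g0 ▸ (F.map _ (hroot h0) _).2 hy)
  obtain ⟨a2, e2⟩ := (Cfsg.Agent.BpExc.HX.mem_XX_xc hp h2).1 (g1 ▸ (F.map _ (hroot h1) _).2 ((Cfsg.Agent.BpExc.HX.mem_XX_xc hp h1).2 ⟨a1, rfl⟩))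
  have e3 : σ (xc hp (vec D l r₂) a2) = xc hp (vec D l r₀) a := by
    have := hyf 3 (by
      show g (g (g (vec D l r₀))) = _
      rw [g0, g1, g2])
    rw [← this]
    show _ = σ (σ (σ _))
    rw [e1, e2]
  have comm : ∀ {r s : ℕ} (hr : r < D.nroots) (hs : s < D.nroots) (hc : s ≠ r ∧ s ≠ D.neg r ∧ D.commTerms r s = [])
      (t u : k), xc hp (vec D l s) u * xc hp (vec D l r) t = xc hp (vec D l r) t * xc hp (vec D l s) u := by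
    intro r s hr hs hc t u
    apply Subtype.ext
    rw [Subgroup.coe_mul, Subgroup.coe_mul, coe_xc hp hr, coe_xc hp hs,
      Cfsg.Agent.H46.Gen.comm_word hp hr hs hc.1 hc.2.1 t u, Cfsg.Agent.H46.Gen.word_nil' hp hc.2.2 t u, mul_one]
  have q01 := comm h0 h1 c01 a a1
  have q02 := comm h0 h2 c02 a a2
  have q12 := comm h1 h2 c12 a1 a2
  have hpow : ∀ (r : ℕ) (b : k), xc hp (vec D l r) b ^ p = 1 := by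
    intro r b
    have : ∀ n : ℕ, xc hp (vec D l r) b ^ n = xc hp (vec D l r) (n * b) := by
      intro n
      induction n with
      | zero => rw [pow_zero, Nat.cast_zero, zero_mul, Cfsg.Agent.H46.Gen.xc_zero]
      | succ n ih => rw [pow_succ, ih, Nat.cast_succ, add_mul, one_mul, Cfsg.Agent.H46.Gen.xc_add]
    rw [this, CharP.cast_eq_zero, zero_mul, Cfsg.Agent.H46.Gen.xc_zero]
  refine ⟨xc hp (vec D l r₀) a * xc hp (vec D l r₁) a1 * xc hp (vec D l r₂) a2, ?_, ?_, fun t ht t0 t1 t2 => ?_⟩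
  · rw [map_mul, map_mul, e1, e2, e3, q12.symm, mul_assoc, q01, ← mul_assoc, q02, mul_assoc, q12, ← mul_assoc]
  · refine orderOf_eq_prime ?_ ?_
    · have w1 : Commute (xc hp (vec D l r₀) a * xc hp (vec D l r₁) a1) (xc hp (vec D l r₂) a2) :=
        Commute.mul_left q02.symm q12.symm
      have w2 : Commute (xc hp (vec D l r₀) a) (xc hp (vec D l r₁) a1) := q01.symm
      rw [w1.mul_pow, w2.mul_pow, hpow, hpow, hpow, mul_one, mul_one]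
    · intro hx
      have hinf : ∃ b : k, b ≠ 0 ∧ b ≠ 1 := by
        have : Infinite k := IsAlgClosed.instInfinite
        classical
        obtain ⟨b, hb⟩ := Infinite.exists_notMem_finset ({0, 1} : Finset k)
        exact ⟨b, fun h => hb (by simp [h]), fun h => hb (by simp [h])⟩
      obtain ⟨b, hb0, hb1⟩ := hinf
      have hMC : IsMC (fun x : Fin l → ℤ => b ^ (∑ m, x m * L m)) :=
        ⟨by simp, fun x y => by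
          rw [← zpow_add₀ hb0, ← Finset.sum_add_distrib]
          congr 1
          exact Finset.sum_congr rfl fun m _ => by rw [Pi.add_apply, add_mul]⟩
      obtain ⟨t, ht, hcX⟩ := exists_cX hp hB hd hMC fun i =>
        IsAlgClosed.exists_pow_nat_eq _ (Nat.pos_of_ne_zero hd)
      have act' : ∀ {r : ℕ} (hr : r < D.nroots) (s : k), t * xc hp (vec D l r) s * t⁻¹ =
          xc hp (vec D l r) (cX hp t (vec D l r) * s) := by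
        intro r hr s
        rw [cX_root hp cs ht (hroot hr)]
        exact (act hp hr ht).2 s
      have k0 := act' h0 a
      have k1 := act' h1 a1
      have k2 := act' h2 a2
      rw [hcX, L0, zpow_one] at k0
      rw [hcX, L1, zpow_zero, one_mul] at k1
      rw [hcX, L2, zpow_zero, one_mul] at k2
      have k3 : xc hp (vec D l r₀) (b * a) * xc hp (vec D l r₁) a1 * xc hp (vec D l r₂) a2 = 1 := by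
        rw [← k0, ← k1, ← k2]
        calc _ = t * (xc hp (vec D l r₀) a * xc hp (vec D l r₁) a1 * xc hp (vec D l r₂) a2) * t⁻¹ := by group
          _ = 1 := by rw [hx]; group
      have k4 := mul_right_cancel (mul_right_cancel (k3.trans hx.symm))
      have k5 := xc_inj hp h0 k4
      have ha : a ≠ 0 := by
        rintro rfl
        exact hy1 (Cfsg.Agent.H46.Gen.xc_zero hp _)
      exact hb1 (mul_right_cancel₀ ha (by rw [k5, one_mul]))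
  · have act' : ∀ {r : ℕ} (hr : r < D.nroots) (s : k), cX hp t (vec D l r) = 1 →
        Commute t (xc hp (vec D l r) s) := by
      intro r hr s h1
      have h3 := (act hp hr ht).2 s
      rw [← cX_root hp cs ht (hroot hr), h1, one_mul] at h3
      show _ = _
      calc t * xc hp (vec D l r) s = t * xc hp (vec D l r) s * t⁻¹ * t := by group
        _ = _ := by rw [h3]
    exact ((act' h0 a t0).mul_right (act' h1 a1 t1)).mul_right (act' h2 a2 t2)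

/-- **Adjacency with the characteristic, three roots.** -/
theorem rel_p_of_orb {d : ℕ} {B : Fin l → Fin l → ℤ} (hB : InvC D l d B) (hd : d ≠ 0) {F : Type u} [Field F] [Finite F]
    {w : W} {Th : Fin l → Fin l → ℤ} (hw : ∀ j, rep cs hp.isCartan w (sr j) = Th j)
    {f : ℕ} {c : Fin (f + 1) → ℤ} {V : Fin (f + 1) → Fin l → ℤ} {U : Fin l → ℤ}
    (h : EigOK (fun i j => Th j i) c V U) (hc : c 0 = 1 ∨ c 0 = -1)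
    {r₀ r₁ r₂ : ℕ} (h0 : r₀ < D.nroots) (h1 : r₁ < D.nroots) (h2 : r₂ < D.nroots)
    (g0 : ∀ m, ∑ j, vec D l r₀ j * Th j m = vec D l r₁ m) (g1 : ∀ m, ∑ j, vec D l r₁ j * Th j m = vec D l r₂ m)
    (g2 : ∀ m, ∑ j, vec D l r₂ j * Th j m = vec D l r₀ m)
    (c01 : r₁ ≠ r₀ ∧ r₁ ≠ D.neg r₀ ∧ D.commTerms r₀ r₁ = []) (c02 : r₂ ≠ r₀ ∧ r₂ ≠ D.neg r₀ ∧ D.commTerms r₀ r₂ = [])
    (c12 : r₂ ≠ r₁ ∧ r₂ ≠ D.neg r₁ ∧ D.commTerms r₁ r₂ = []) {L : Fin l → ℤ} (L0 : ∑ m, vec D l r₀ m * L m = 1)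
    (L1 : ∑ m, vec D l r₁ m * L m = 0) (L2 : ∑ m, vec D l r₂ m * L m = 0)
    (v0 : ∀ i, ∑ m, vec D l r₀ m * V i m = 0) (v1 : ∀ i, ∑ m, vec D l r₁ m * V i m = 0)
    (v2 : ∀ i, ∑ m, vec D l r₂ m * V i m = 0)
    {r s : ℕ} (hr : r.Prime) (hs : s.Prime) (hrd : ¬ r ∣ d) (hF : s ∣ d → ∀ a : F, ∃ b : F, b ^ d = a)
    (hr1 : (r : ℤ) ∣ pv c (Nat.card F)) (hs2 : s ∣ Nat.card F) : PG.Rel ↥(D.group F) r s := by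
  have : Fintype F := Fintype.ofFinite F
  rw [Nat.card_eq_fintype_card] at hr1 hs2
  obtain ⟨p, e, hpF, hpc, hpk, he, hq, hk⟩ := exists_closure (F := F) rfl
  have hsp : s = p := (Nat.prime_dvd_prime_iff_eq hs hpF.out).1 (hs.dvd_of_dvd_pow (hq ▸ hs2))
  subst hsp
  rw [hq] at hr1
  have hrs := ne_char hc hs he hr1
  obtain ⟨n, hn, hrange⟩ := exists_exp hp cs (algebraMap F (AlgebraicClosure F)) hq hB hd hF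
  obtain ⟨m, z, hz, hσ', F'⟩ := exists_z hp cs hk he (isFrob_phi (p := s) (e := e))
    (fr_phi hp cs (k := AlgebraicClosure F)) w
  obtain ⟨t, ht, h3, h4, h5⟩ := exists_t hp cs hσ' F' hB hd hr hrs (hL_of_eig hp cs hw h hr1)
    (x₀ := U) (by
      rw [lam_unit h]
      intro h7
      have h8 := Int.natCast_dvd_natCast.mp (by simpa using h7 : (r : ℤ) ∣ ((1 : ℕ) : ℤ))
      exact hr.one_lt.ne' (Nat.dvd_one.mp h8))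
  have hwa : ∀ {a b : Fin l → ℤ}, (∀ m, ∑ j, a j * Th j m = b m) →
      (AddEquiv.refl (Fin l → ℤ)).trans (repAut cs hp.isCartan w) a = b := by
    intro a b hab
    funext i
    rw [← hab i]
    exact rep_apply_eq hp cs hw _ _
  obtain ⟨x, hx1, hx2, hx3⟩ := exists_x3 hp cs he hσ' F' hB hd h0 h1 h2 (hwa g0) (hwa g1) (hwa g2) c01 c02 c12 L0 L1 L2
  have one : ∀ {a : Fin l → ℤ}, (∀ i, ∑ m, a m * V i m = 0) → cX hp t a = 1 := fun hV =>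
    h5 _ (by rw [lam_zero hV]; exact dvd_zero _)
  have hcomm : t * x = x * t := hx3 t ht (one v0) (one v1) (one v2)
  have ho : ∀ y : ↥(D.group (AlgebraicClosure F)), orderOf (z * y * z⁻¹) = orderOf y := fun y =>
    orderOf_injective (MulAut.conj z).toMonoidHom (MulAut.conj z).injective y
  refine rel_desc (emb_injective hp.inList (algebraMap F (AlgebraicClosure F))) (y := z * t * z⁻¹)
    (y' := z * x * z⁻¹) (pow_range hp cs _ hq hB hd (fix_conj hz h3)) (hrange _ (fix_conj hz hx1)) ?_ hr hs hrs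
    ((ho t).trans h4) ((ho x).trans hx2) hrd hn
  calc z * t * z⁻¹ * (z * x * z⁻¹) = z * (t * x) * z⁻¹ := by group
    _ = z * (x * t) * z⁻¹ := by rw [hcomm]
    _ = _ := by group

end Main

end Cfsg.Agent.R2.Spec.EE.CertBase
end

-- part: R2/Spec/EE/CertSm
section
set_option linter.all false

/-!
# Adjacency with the characteristic, types G2 and F4 (helper1)
-/

set_option autoImplicit false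

namespace Cfsg.Agent.R2.Spec.EE.CertSm

open Cfsg.Agent.H129.WData Cfsg.Agent.ChevalleyStructure.CoxeterGeomTypes Cfsg.Agent.Nodes.RGDChev
open Cfsg.Lie Cfsg.Lie.ChevalleyDatum
open Cfsg.Agent Cfsg.Agent.H493 Cfsg.Agent.H493.PGTorus Cfsg.Agent.H493.PGCyc
open Cfsg.Agent.R2.Spec.EE.CertBase

universe u

/-- the highest root of G2 -/
def rG : ℕ := 11

/-- the highest root of F4 -/
def rF : ℕ := 47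

/-- partial products -/
def G_q1 : List (Fin 2 × Mat 2) := []

theorem G_q1_ok : ChainOK PGG2.Am G_q1 := by decide +kernel

/-- coefficients of the functional, order 1 -/
def G_v1 : Fin 1 → Fin 2 → ℤ := ![![2, -3]]

theorem G_e1 : EigOK (fun i j => hd G_q1 j i) c1 G_v1 ![-1, -1] := by decide +kernel

theorem G_f1 : ∀ m, ∑ j, vec chevG2 2 rG j * hd G_q1 j m = vec chevG2 2 rG m := by decide +kernel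

theorem G_z1 : ∀ i, ∑ m, vec chevG2 2 rG m * G_v1 i m = 0 := by decide +kernel

theorem rel_G_1_p {F : Type u} [Field F] [Finite F] {r s : ℕ} (hr : r.Prime) (hs : s.Prime)
    (h1 : (r : ℤ) ∣ pv c1 (Nat.card F)) (h2 : s ∣ Nat.card F) : PG.Rel ↥(chevG2.group F) r s := by
  have := PGG2.finW
  exact rel_p_of_eig PGG2.hp CoxeterMatrix.G₂.toCoxeterSystem H129.TorusChar.invC_G2 one_ne_zero
    (chain_rep PGG2.hp CoxeterMatrix.G₂.toCoxeterSystem PGG2.hA G_q1_ok) G_e1 (by decide) (r₀ := rG) (by decide +kernel) G_f1 G_z1 hr hs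
    (fun h => hr.one_lt.ne' (Nat.dvd_one.1 h)) (fun h => absurd (Nat.dvd_one.1 h) hs.one_lt.ne') h1 h2

/-- partial products -/
def G_q2 : List (Fin 2 × Mat 2) := [
    (0, ![![-1, 0], ![3, 1]])]

theorem G_q2_ok : ChainOK PGG2.Am G_q2 := by decide +kernel

/-- coefficients of the functional, order 2 -/
def G_v2 : Fin 1 → Fin 2 → ℤ := ![![2, -3]]

theorem G_e2 : EigOK (fun i j => hd G_q2 j i) c2 G_v2 ![-1, -1] := by decide +kernel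

theorem G_f2 : ∀ m, ∑ j, vec chevG2 2 rG j * hd G_q2 j m = vec chevG2 2 rG m := by decide +kernel

theorem G_z2 : ∀ i, ∑ m, vec chevG2 2 rG m * G_v2 i m = 0 := by decide +kernel

theorem rel_G_2_p {F : Type u} [Field F] [Finite F] {r s : ℕ} (hr : r.Prime) (hs : s.Prime)
    (h1 : (r : ℤ) ∣ pv c2 (Nat.card F)) (h2 : s ∣ Nat.card F) : PG.Rel ↥(chevG2.group F) r s := by
  have := PGG2.finW
  exact rel_p_of_eig PGG2.hp CoxeterMatrix.G₂.toCoxeterSystem H129.TorusChar.invC_G2 one_ne_zero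
    (chain_rep PGG2.hp CoxeterMatrix.G₂.toCoxeterSystem PGG2.hA G_q2_ok) G_e2 (by decide) (r₀ := rG) (by decide +kernel) G_f2 G_z2 hr hs
    (fun h => hr.one_lt.ne' (Nat.dvd_one.1 h)) (fun h => absurd (Nat.dvd_one.1 h) hs.one_lt.ne') h1 h2

/-- partial products -/
def F_q1 : List (Fin 4 × Mat 4) := []

theorem F_q1_ok : ChainOK PGF4.Am F_q1 := by decide +kernel

/-- coefficients of the functional, order 1 -/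
def F_v1 : Fin 1 → Fin 4 → ℤ := ![![0, -1, 0, 2]]

theorem F_e1 : EigOK (fun i j => hd F_q1 j i) c1 F_v1 ![-2, -1, -2, 0] := by decide +kernel

theorem F_f1 : ∀ m, ∑ j, vec chevF4 4 rF j * hd F_q1 j m = vec chevF4 4 rF m := by decide +kernel

theorem F_z1 : ∀ i, ∑ m, vec chevF4 4 rF m * F_v1 i m = 0 := by decide +kernel

theorem rel_F_1_p {F : Type u} [Field F] [Finite F] {r s : ℕ} (hr : r.Prime) (hs : s.Prime)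
    (h1 : (r : ℤ) ∣ pv c1 (Nat.card F)) (h2 : s ∣ Nat.card F) : PG.Rel ↥(chevF4.group F) r s := by
  have := PGF4.finW
  exact rel_p_of_eig PGF4.hp CoxeterMatrix.F₄.toCoxeterSystem H129.TorusChar.invC_F4 one_ne_zero
    (chain_rep PGF4.hp CoxeterMatrix.F₄.toCoxeterSystem PGF4.hA F_q1_ok) F_e1 (by decide) (r₀ := rF) (by decide +kernel) F_f1 F_z1 hr hs
    (fun h => hr.one_lt.ne' (Nat.dvd_one.1 h)) (fun h => absurd (Nat.dvd_one.1 h) hs.one_lt.ne') h1 h2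

/-- partial products -/
def F_q2 : List (Fin 4 × Mat 4) := [
    (0, ![![-1, 0, 0, 0], ![1, 1, 0, 0], ![0, 0, 1, 0], ![0, 0, 0, 1]])]

theorem F_q2_ok : ChainOK PGF4.Am F_q2 := by decide +kernel

/-- coefficients of the functional, order 2 -/
def F_v2 : Fin 1 → Fin 4 → ℤ := ![![2, -1, 0, 0]]

theorem F_e2 : EigOK (fun i j => hd F_q2 j i) c2 F_v2 ![0, -1, -2, -2] := by decide +kernel

theorem F_f2 : ∀ m, ∑ j, vec chevF4 4 rF j * hd F_q2 j m = vec chevF4 4 rF m := by decide +kernel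

theorem F_z2 : ∀ i, ∑ m, vec chevF4 4 rF m * F_v2 i m = 0 := by decide +kernel

theorem rel_F_2_p {F : Type u} [Field F] [Finite F] {r s : ℕ} (hr : r.Prime) (hs : s.Prime)
    (h1 : (r : ℤ) ∣ pv c2 (Nat.card F)) (h2 : s ∣ Nat.card F) : PG.Rel ↥(chevF4.group F) r s := by
  have := PGF4.finW
  exact rel_p_of_eig PGF4.hp CoxeterMatrix.F₄.toCoxeterSystem H129.TorusChar.invC_F4 one_ne_zero
    (chain_rep PGF4.hp CoxeterMatrix.F₄.toCoxeterSystem PGF4.hA F_q2_ok) F_e2 (by decide) (r₀ := rF) (by decide +kernel) F_f2 F_z2 hr hs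
    (fun h => hr.one_lt.ne' (Nat.dvd_one.1 h)) (fun h => absurd (Nat.dvd_one.1 h) hs.one_lt.ne') h1 h2

/-- partial products -/
def F_q3 : List (Fin 4 × Mat 4) := [
    (1, ![![-1, -1, 0, 0], ![1, 0, 0, 0], ![0, 2, 1, 0], ![0, 0, 0, 1]]),
    (0, ![![-1, 0, 0, 0], ![1, 1, 0, 0], ![0, 0, 1, 0], ![0, 0, 0, 1]])]

theorem F_q3_ok : ChainOK PGF4.Am F_q3 := by decide +kernel

/-- coefficients of the functional, order 3 -/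
def F_v3 : Fin 2 → Fin 4 → ℤ := ![![-2, 1, 0, 0], ![-1, 2, -2, 0]]

theorem F_e3 : EigOK (fun i j => hd F_q3 j i) c3 F_v3 ![0, 1, 1, -2] := by decide +kernel

theorem F_f3 : ∀ m, ∑ j, vec chevF4 4 rF j * hd F_q3 j m = vec chevF4 4 rF m := by decide +kernel

theorem F_z3 : ∀ i, ∑ m, vec chevF4 4 rF m * F_v3 i m = 0 := by decide +kernel

theorem rel_F_3_p {F : Type u} [Field F] [Finite F] {r s : ℕ} (hr : r.Prime) (hs : s.Prime)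
    (h1 : (r : ℤ) ∣ pv c3 (Nat.card F)) (h2 : s ∣ Nat.card F) : PG.Rel ↥(chevF4.group F) r s := by
  have := PGF4.finW
  exact rel_p_of_eig PGF4.hp CoxeterMatrix.F₄.toCoxeterSystem H129.TorusChar.invC_F4 one_ne_zero
    (chain_rep PGF4.hp CoxeterMatrix.F₄.toCoxeterSystem PGF4.hA F_q3_ok) F_e3 (by decide) (r₀ := rF) (by decide +kernel) F_f3 F_z3 hr hs
    (fun h => hr.one_lt.ne' (Nat.dvd_one.1 h)) (fun h => absurd (Nat.dvd_one.1 h) hs.one_lt.ne') h1 h2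

/-- partial products -/
def F_q4 : List (Fin 4 × Mat 4) := [
    (2, ![![1, 1, 1, 0], ![0, -1, -1, 0], ![0, 2, 1, 0], ![0, 0, 1, 1]]),
    (1, ![![1, 1, 0, 0], ![0, -1, 0, 0], ![0, 2, 1, 0], ![0, 0, 0, 1]])]

theorem F_q4_ok : ChainOK PGF4.Am F_q4 := by decide +kernel

/-- coefficients of the functional, order 4 -/
def F_v4 : Fin 2 → Fin 4 → ℤ := ![![1, -1, 0, 1], ![0, -1, 2, -1]]

theorem F_e4 : EigOK (fun i j => hd F_q4 j i) c4 F_v4 ![-1, -2, -1, 0] := by decide +kernel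

theorem F_f4 : ∀ m, ∑ j, vec chevF4 4 rF j * hd F_q4 j m = vec chevF4 4 rF m := by decide +kernel

theorem F_z4 : ∀ i, ∑ m, vec chevF4 4 rF m * F_v4 i m = 0 := by decide +kernel

theorem rel_F_4_p {F : Type u} [Field F] [Finite F] {r s : ℕ} (hr : r.Prime) (hs : s.Prime)
    (h1 : (r : ℤ) ∣ pv c4 (Nat.card F)) (h2 : s ∣ Nat.card F) : PG.Rel ↥(chevF4.group F) r s := by
  have := PGF4.finW
  exact rel_p_of_eig PGF4.hp CoxeterMatrix.F₄.toCoxeterSystem H129.TorusChar.invC_F4 one_ne_zero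
    (chain_rep PGF4.hp CoxeterMatrix.F₄.toCoxeterSystem PGF4.hA F_q4_ok) F_e4 (by decide) (r₀ := rF) (by decide +kernel) F_f4 F_z4 hr hs
    (fun h => hr.one_lt.ne' (Nat.dvd_one.1 h)) (fun h => absurd (Nat.dvd_one.1 h) hs.one_lt.ne') h1 h2

/-- partial products -/
def F_q6 : List (Fin 4 × Mat 4) := [
    (2, ![![-1, -1, -1, 0], ![1, 0, 0, 0], ![0, 2, 1, 0], ![0, 0, 1, 1]]),
    (1, ![![-1, -1, 0, 0], ![1, 0, 0, 0], ![0, 2, 1, 0], ![0, 0, 0, 1]]),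
    (0, ![![-1, 0, 0, 0], ![1, 1, 0, 0], ![0, 0, 1, 0], ![0, 0, 0, 1]])]

theorem F_q6_ok : ChainOK PGF4.Am F_q6 := by decide +kernel

/-- coefficients of the functional, order 6 -/
def F_v6 : Fin 2 → Fin 4 → ℤ := ![![1, 0, -2, 2], ![-1, -1, 2, 0]]

theorem F_e6 : EigOK (fun i j => hd F_q6 j i) c6 F_v6 ![-1, -1, -1, 0] := by decide +kernel

theorem F_f6 : ∀ m, ∑ j, vec chevF4 4 rF j * hd F_q6 j m = vec chevF4 4 rF m := by decide +kernel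

theorem F_z6 : ∀ i, ∑ m, vec chevF4 4 rF m * F_v6 i m = 0 := by decide +kernel

theorem rel_F_6_p {F : Type u} [Field F] [Finite F] {r s : ℕ} (hr : r.Prime) (hs : s.Prime)
    (h1 : (r : ℤ) ∣ pv c6 (Nat.card F)) (h2 : s ∣ Nat.card F) : PG.Rel ↥(chevF4.group F) r s := by
  have := PGF4.finW
  exact rel_p_of_eig PGF4.hp CoxeterMatrix.F₄.toCoxeterSystem H129.TorusChar.invC_F4 one_ne_zero
    (chain_rep PGF4.hp CoxeterMatrix.F₄.toCoxeterSystem PGF4.hA F_q6_ok) F_e6 (by decide) (r₀ := rF) (by decide +kernel) F_f6 F_z6 hr hs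
    (fun h => hr.one_lt.ne' (Nat.dvd_one.1 h)) (fun h => absurd (Nat.dvd_one.1 h) hs.one_lt.ne') h1 h2

end Cfsg.Agent.R2.Spec.EE.CertSm
end

-- part: R2/Spec/EE/CertE8A_mg
section
set_option linter.all false
private noncomputable def lq26f9d2ce62 {T : Sort _} (f :
    type_of% (@_root_.Matrix.vecCons.{0}) →
    type_of% (@_root_.Matrix.vecEmpty.{0}) →
    type_of% (@_root_.List.cons.{0}) →
    type_of% (@_root_.Prod.mk.{0, 0}) →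
    type_of% (@_root_.List.nil.{0}) → T) : T :=
  f (@_root_.Matrix.vecCons.{0}) (@_root_.Matrix.vecEmpty.{0}) (@_root_.List.cons.{0}) (@_root_.Prod.mk.{0, 0}) (@_root_.List.nil.{0})

-- part: R2/Spec/EE/CertE8A
section
/-!
# Adjacency of the prime divisors of two cyclotomic values through one torus, type E8, part 1 (helper2)

Chains, eigenvectors and functionals as in `H168/ExcPairE8.lean`.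
-/

set_option autoImplicit false

namespace Cfsg.Agent.R2.Spec.EE.CertE8

open Cfsg.Agent.H129.WData Cfsg.Agent.ChevalleyStructure.CoxeterGeomTypes Cfsg.Agent.Nodes.RGDChev
open Cfsg.Lie Cfsg.Lie.ChevalleyDatum
open Cfsg.Agent Cfsg.Agent.H493 Cfsg.Agent.H493.PGTorus Cfsg.Agent.H493.PGCyc Cfsg.Agent.H493.PGE8
open Cfsg.Agent.H168.ExcAdj

universe u

/-- partial products of an element with characteristic polynomial Φ1^2 Φ3 Φ12 -/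
def ch1_3_12 : List (Fin 8 × Mat 8) := (beta% delta% lq26f9d2ce62 fun a b c d e =>
 (c (d 0 (a (a 0<|a 0<|a 1<|a 0<|a 0<|a 0<|a 0<|a 0<|b)<|a (a 1<|a 0<|a 1<|a 1<|a 1<|a 1<|a 0<|a 0<|b)<|a (a 0<|a 1<|a 0<|a 1<|a 1<|a 1<|a 0<|a 0<|b)<|
 a (a (-1)<|a (-1)<|a (-1)<|a (-1)<|a (-1)<|a (-1)<|a 0<|a 0<|b)<|a (a 1<|a 1<|a 1<|a 1<|a 0<|a 0<|a 0<|a 0<|b)<|a (a 0<|a 0<|a 0<|a 0<|a 1<|a 0<|a 0<|a 0<|b)<|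
 a (a 0<|a 0<|a 0<|a 0<|a 0<|a 1<|a 1<|a 0<|b)<|a (a 0<|a 0<|a 0<|a 0<|a 0<|a 0<|a 0<|a 1<|b)<|b))<|
 c (d 1 (a (a 1<|a 0<|a 1<|a 0<|a 0<|a 0<|a 0<|a 0<|b)<|a (a 0<|a 0<|a 1<|a 1<|a 1<|a 1<|a 0<|a 0<|b)<|a (a 0<|a 1<|a 0<|a 1<|a 1<|a 1<|a 0<|a 0<|b)<|
 a (a 0<|a (-1)<|a (-1)<|a (-1)<|a (-1)<|a (-1)<|a 0<|a 0<|b)<|a (a 0<|a 1<|a 1<|a 1<|a 0<|a 0<|a 0<|a 0<|b)<|a (a 0<|a 0<|a 0<|a 0<|a 1<|a 0<|a 0<|a 0<|b)<|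
 a (a 0<|a 0<|a 0<|a 0<|a 0<|a 1<|a 1<|a 0<|b)<|a (a 0<|a 0<|a 0<|a 0<|a 0<|a 0<|a 0<|a 1<|b)<|b))<|
 c (d 2 (a (a 1<|a 0<|a 1<|a 0<|a 0<|a 0<|a 0<|a 0<|b)<|a (a 0<|a 1<|a 1<|a 1<|a 1<|a 1<|a 0<|a 0<|b)<|a (a 0<|a 0<|a 0<|a 1<|a 1<|a 1<|a 0<|a 0<|b)<|
 a (a 0<|a 0<|a (-1)<|a (-1)<|a (-1)<|a (-1)<|a 0<|a 0<|b)<|a (a 0<|a 0<|a 1<|a 1<|a 0<|a 0<|a 0<|a 0<|b)<|a (a 0<|a 0<|a 0<|a 0<|a 1<|a 0<|a 0<|a 0<|b)<|a (a 0<|a 0<|a 0<|a 0<|a 0<|a 1<|a 1<|a 0<|b)<|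
 a (a 0<|a 0<|a 0<|a 0<|a 0<|a 0<|a 0<|a 1<|b)<|b))<|
 c (d 5 (a (a 1<|a 0<|a 0<|a 0<|a 0<|a 0<|a 0<|a 0<|b)<|a (a 0<|a 1<|a 0<|a 1<|a 1<|a 1<|a 0<|a 0<|b)<|a (a 0<|a 0<|a 1<|a 1<|a 1<|a 1<|a 0<|a 0<|b)<|
 a (a 0<|a 0<|a 0<|a (-1)<|a (-1)<|a (-1)<|a 0<|a 0<|b)<|a (a 0<|a 0<|a 0<|a 1<|a 0<|a 0<|a 0<|a 0<|b)<|a (a 0<|a 0<|a 0<|a 0<|a 1<|a 0<|a 0<|a 0<|b)<|a (a 0<|a 0<|a 0<|a 0<|a 0<|a 1<|a 1<|a 0<|b)<|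
 a (a 0<|a 0<|a 0<|a 0<|a 0<|a 0<|a 0<|a 1<|b)<|b))<|
 c (d 4 (a (a 1<|a 0<|a 0<|a 0<|a 0<|a 0<|a 0<|a 0<|b)<|a (a 0<|a 1<|a 0<|a 1<|a 1<|a 0<|a 0<|a 0<|b)<|a (a 0<|a 0<|a 1<|a 1<|a 1<|a 0<|a 0<|a 0<|b)<|
 a (a 0<|a 0<|a 0<|a (-1)<|a (-1)<|a 0<|a 0<|a 0<|b)<|a (a 0<|a 0<|a 0<|a 1<|a 0<|a 0<|a 0<|a 0<|b)<|a (a 0<|a 0<|a 0<|a 0<|a 1<|a 1<|a 0<|a 0<|b)<|a (a 0<|a 0<|a 0<|a 0<|a 0<|a 0<|a 1<|a 0<|b)<|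
 a (a 0<|a 0<|a 0<|a 0<|a 0<|a 0<|a 0<|a 1<|b)<|b))<|
 c (d 3 (a (a 1<|a 0<|a 0<|a 0<|a 0<|a 0<|a 0<|a 0<|b)<|a (a 0<|a 1<|a 0<|a 1<|a 0<|a 0<|a 0<|a 0<|b)<|a (a 0<|a 0<|a 1<|a 1<|a 0<|a 0<|a 0<|a 0<|b)<|
 a (a 0<|a 0<|a 0<|a (-1)<|a 0<|a 0<|a 0<|a 0<|b)<|a (a 0<|a 0<|a 0<|a 1<|a 1<|a 0<|a 0<|a 0<|b)<|a (a 0<|a 0<|a 0<|a 0<|a 0<|a 1<|a 0<|a 0<|b)<|a (a 0<|a 0<|a 0<|a 0<|a 0<|a 0<|a 1<|a 0<|b)<|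
 a (a 0<|a 0<|a 0<|a 0<|a 0<|a 0<|a 0<|a 1<|b)<|b))<|e))

theorem ch1_3_12_ok : ChainOK Am ch1_3_12 :=
  H129.ChainF.ok H129.ChainF.i8 H129.ChainF.m8 (H129.ChainF.c8 <| H129.ChainF.c8 <| H129.ChainF.c8 <| H129.ChainF.c8 <| H129.ChainF.c8 <| H129.ChainF.c8 <| H129.ChainF.nil) (by decide +kernel)

/-- coefficients of the eigenvector, order 3 -/
def v1_3_12_at3 : Fin 2 → Fin 8 → ℤ := (beta% delta% lq26f9d2ce62 fun a b _ _ _ =>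
 (a (a 1<|a 0<|a 0<|a 0<|a 0<|a (-1)<|a 0<|a 0<|b)<|a (a 0<|a 0<|a (-1)<|a 0<|a 1<|a 0<|a 0<|a 0<|b)<|b))

theorem e1_3_12_at3 : EigOK (hd ch1_3_12) c3 v1_3_12_at3 ![1, 0, 0, 0, 0, 0, 0, 0] :=
  H493.EigF.ok (H493.EigF.hT H493.EigF.t8) H493.EigF.r2 (H493.EigF.mc H493.EigF.r8 <| H493.EigF.mc H493.EigF.r8 <| H493.EigF.m0) H493.EigF.r8 (by decide +kernel)

/-- coefficients of the eigenvector, order 12 -/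
def v1_3_12_at12 : Fin 4 → Fin 8 → ℤ := (beta% delta% lq26f9d2ce62 fun a b _ _ _ =>
 (a (a 0<|a 1<|a 0<|a 1<|a 0<|a 0<|a 0<|a 0<|b)<|a (a 0<|a 0<|a 1<|a 1<|a 1<|a 0<|a 0<|a 0<|b)<|
 a (a 1<|a 0<|a 1<|a 1<|a 1<|a 1<|a 0<|a 0<|b)<|a (a 0<|a 1<|a 0<|a 0<|a 0<|a 0<|a 0<|a 0<|b)<|b))

theorem e1_3_12_at12 : EigOK (hd ch1_3_12) c12 v1_3_12_at12 ![0, 0, -1, 1, 0, 0, 0, 0] :=
  H493.EigF.ok (H493.EigF.hT H493.EigF.t8) H493.EigF.r4 (H493.EigF.mc H493.EigF.r8 <| H493.EigF.mc H493.EigF.r8 <| H493.EigF.mc H493.EigF.r8 <| H493.EigF.mc H493.EigF.r8 <| H493.EigF.m0) H493.EigF.r8 (by decide +kernel)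

theorem rel_12_3 {F : Type u} [Field F] [Finite F] {r s : ℕ} (hr : r.Prime) (hs : s.Prime) (hrs : r ≠ s)
    (h1 : phiC c12 (Nat.card F) 1 r) (h2 : phiC c3 (Nat.card F) 1 s) :
    PG.Rel ↥(chevE8.group F) r s := by
  have := finW
  exact rel_of_eig hp CoxeterMatrix.E₈.toCoxeterSystem H129.TorusChar.invC_E8 one_ne_zero
    (chain_rep hp CoxeterMatrix.E₈.toCoxeterSystem hA ch1_3_12_ok) e1_3_12_at12 e1_3_12_at3 hr hs hrs h1.1 h2.1 h1.2 h2.2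

/-- partial products of an element with characteristic polynomial Φ1 Φ2 Φ4 Φ12 -/
def ch1_2_4_12 : List (Fin 8 × Mat 8) := (beta% delta% lq26f9d2ce62 fun a b c d e =>
 (c (d 2 (a (a 1<|a 0<|a 1<|a 0<|a 0<|a 0<|a 0<|a 0<|b)<|a (a 0<|a (-1)<|a (-1)<|a (-1)<|a (-1)<|a (-1)<|a 0<|a 0<|b)<|a (a 0<|a 0<|a 0<|a 1<|a 1<|a 1<|a 0<|a 0<|b)<|
 a (a 0<|a 1<|a 0<|a 0<|a 0<|a 0<|a 0<|a 0<|b)<|a (a 0<|a 0<|a 1<|a 1<|a 0<|a 0<|a 0<|a 0<|b)<|a (a 0<|a 0<|a 0<|a 0<|a 1<|a 1<|a 1<|a 1<|b)<|a (a 0<|a 0<|a 0<|a 0<|a 0<|a (-1)<|a (-1)<|a (-1)<|b)<|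
 a (a 0<|a 0<|a 0<|a 0<|a 0<|a 1<|a 1<|a 0<|b)<|b))<|
 c (d 5 (a (a 1<|a 0<|a 0<|a 0<|a 0<|a 0<|a 0<|a 0<|b)<|a (a 0<|a (-1)<|a 0<|a (-1)<|a (-1)<|a (-1)<|a 0<|a 0<|b)<|a (a 0<|a 0<|a 1<|a 1<|a 1<|a 1<|a 0<|a 0<|b)<|
 a (a 0<|a 1<|a 0<|a 0<|a 0<|a 0<|a 0<|a 0<|b)<|a (a 0<|a 0<|a 0<|a 1<|a 0<|a 0<|a 0<|a 0<|b)<|a (a 0<|a 0<|a 0<|a 0<|a 1<|a 1<|a 1<|a 1<|b)<|a (a 0<|a 0<|a 0<|a 0<|a 0<|a (-1)<|a (-1)<|a (-1)<|b)<|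
 a (a 0<|a 0<|a 0<|a 0<|a 0<|a 1<|a 1<|a 0<|b)<|b))<|
 c (d 4 (a (a 1<|a 0<|a 0<|a 0<|a 0<|a 0<|a 0<|a 0<|b)<|a (a 0<|a (-1)<|a 0<|a (-1)<|a (-1)<|a 0<|a 0<|a 0<|b)<|a (a 0<|a 0<|a 1<|a 1<|a 1<|a 0<|a 0<|a 0<|b)<|
 a (a 0<|a 1<|a 0<|a 0<|a 0<|a 0<|a 0<|a 0<|b)<|a (a 0<|a 0<|a 0<|a 1<|a 0<|a 0<|a 0<|a 0<|b)<|a (a 0<|a 0<|a 0<|a 0<|a 1<|a 1<|a 1<|a 1<|b)<|a (a 0<|a 0<|a 0<|a 0<|a 0<|a 0<|a (-1)<|a (-1)<|b)<|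
 a (a 0<|a 0<|a 0<|a 0<|a 0<|a 0<|a 1<|a 0<|b)<|b))<|
 c (d 3 (a (a 1<|a 0<|a 0<|a 0<|a 0<|a 0<|a 0<|a 0<|b)<|a (a 0<|a (-1)<|a 0<|a (-1)<|a 0<|a 0<|a 0<|a 0<|b)<|a (a 0<|a 0<|a 1<|a 1<|a 0<|a 0<|a 0<|a 0<|b)<|
 a (a 0<|a 1<|a 0<|a 0<|a 0<|a 0<|a 0<|a 0<|b)<|a (a 0<|a 0<|a 0<|a 1<|a 1<|a 0<|a 0<|a 0<|b)<|a (a 0<|a 0<|a 0<|a 0<|a 0<|a 1<|a 1<|a 1<|b)<|a (a 0<|a 0<|a 0<|a 0<|a 0<|a 0<|a (-1)<|a (-1)<|b)<|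
 a (a 0<|a 0<|a 0<|a 0<|a 0<|a 0<|a 1<|a 0<|b)<|b))<|
 c (d 1 (a (a 1<|a 0<|a 0<|a 0<|a 0<|a 0<|a 0<|a 0<|b)<|a (a 0<|a (-1)<|a 0<|a 0<|a 0<|a 0<|a 0<|a 0<|b)<|a (a 0<|a 0<|a 1<|a 0<|a 0<|a 0<|a 0<|a 0<|b)<|
 a (a 0<|a 1<|a 0<|a 1<|a 0<|a 0<|a 0<|a 0<|b)<|a (a 0<|a 0<|a 0<|a 0<|a 1<|a 0<|a 0<|a 0<|b)<|a (a 0<|a 0<|a 0<|a 0<|a 0<|a 1<|a 1<|a 1<|b)<|a (a 0<|a 0<|a 0<|a 0<|a 0<|a 0<|a (-1)<|a (-1)<|b)<|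
 a (a 0<|a 0<|a 0<|a 0<|a 0<|a 0<|a 1<|a 0<|b)<|b))<|
 c (d 7 (a (a 1<|a 0<|a 0<|a 0<|a 0<|a 0<|a 0<|a 0<|b)<|a (a 0<|a 1<|a 0<|a 0<|a 0<|a 0<|a 0<|a 0<|b)<|a (a 0<|a 0<|a 1<|a 0<|a 0<|a 0<|a 0<|a 0<|b)<|
 a (a 0<|a 0<|a 0<|a 1<|a 0<|a 0<|a 0<|a 0<|b)<|a (a 0<|a 0<|a 0<|a 0<|a 1<|a 0<|a 0<|a 0<|b)<|a (a 0<|a 0<|a 0<|a 0<|a 0<|a 1<|a 1<|a 1<|b)<|a (a 0<|a 0<|a 0<|a 0<|a 0<|a 0<|a (-1)<|a (-1)<|b)<|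
 a (a 0<|a 0<|a 0<|a 0<|a 0<|a 0<|a 1<|a 0<|b)<|b))<|
 c (d 6 (a (a 1<|a 0<|a 0<|a 0<|a 0<|a 0<|a 0<|a 0<|b)<|a (a 0<|a 1<|a 0<|a 0<|a 0<|a 0<|a 0<|a 0<|b)<|a (a 0<|a 0<|a 1<|a 0<|a 0<|a 0<|a 0<|a 0<|b)<|
 a (a 0<|a 0<|a 0<|a 1<|a 0<|a 0<|a 0<|a 0<|b)<|a (a 0<|a 0<|a 0<|a 0<|a 1<|a 0<|a 0<|a 0<|b)<|a (a 0<|a 0<|a 0<|a 0<|a 0<|a 1<|a 1<|a 0<|b)<|a (a 0<|a 0<|a 0<|a 0<|a 0<|a 0<|a (-1)<|a 0<|b)<|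
 a (a 0<|a 0<|a 0<|a 0<|a 0<|a 0<|a 1<|a 1<|b)<|b))<|e))

theorem ch1_2_4_12_ok : ChainOK Am ch1_2_4_12 :=
  H129.ChainF.ok H129.ChainF.i8 H129.ChainF.m8 (H129.ChainF.c8 <| H129.ChainF.c8 <| H129.ChainF.c8 <| H129.ChainF.c8 <| H129.ChainF.c8 <| H129.ChainF.c8 <| H129.ChainF.c8 <| H129.ChainF.nil) (by decide +kernel)

/-- coefficients of the eigenvector, order 1 -/
def v1_2_4_12_at1 : Fin 1 → Fin 8 → ℤ := ![![-4, -5, -7, -10, -8, -6, -4, -2]]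

theorem e1_2_4_12_at1 : EigOK (hd ch1_2_4_12) c1 v1_2_4_12_at1 ![1, -1, 0, 0, 0, 0, 0, 0] :=
  H493.EigF.ok (H493.EigF.hT H493.EigF.t8) H493.EigF.r1 (H493.EigF.mc H493.EigF.r8 <| H493.EigF.m0) H493.EigF.r8 (by decide +kernel)

/-- coefficients of the eigenvector, order 2 -/
def v1_2_4_12_at2 : Fin 1 → Fin 8 → ℤ := ![![0, 1, 1, 0, 0, 0, 0, 0]]

theorem e1_2_4_12_at2 : EigOK (hd ch1_2_4_12) c2 v1_2_4_12_at2 ![0, 1, 0, 0, 0, 0, 0, 0] :=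
  H493.EigF.ok (H493.EigF.hT H493.EigF.t8) H493.EigF.r1 (H493.EigF.mc H493.EigF.r8 <| H493.EigF.m0) H493.EigF.r8 (by decide +kernel)

/-- coefficients of the eigenvector, order 4 -/
def v1_2_4_12_at4 : Fin 2 → Fin 8 → ℤ := (beta% delta% lq26f9d2ce62 fun a b _ _ _ =>
 (a (a 0<|a 0<|a (-1)<|a (-1)<|a 0<|a 1<|a 2<|a 1<|b)<|a (a 0<|a 1<|a 0<|a 1<|a 0<|a 1<|a 0<|a 1<|b)<|b))

theorem e1_2_4_12_at4 : EigOK (hd ch1_2_4_12) c4 v1_2_4_12_at4 ![0, 0, -1, 0, 0, 0, 0, 0] :=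
  H493.EigF.ok (H493.EigF.hT H493.EigF.t8) H493.EigF.r2 (H493.EigF.mc H493.EigF.r8 <| H493.EigF.mc H493.EigF.r8 <| H493.EigF.m0) H493.EigF.r8 (by decide +kernel)

/-- coefficients of the eigenvector, order 12 -/
def v1_2_4_12_at12 : Fin 4 → Fin 8 → ℤ := (beta% delta% lq26f9d2ce62 fun a b _ _ _ =>
 (a (a 0<|a 1<|a 0<|a 1<|a 1<|a 1<|a 0<|a (-1)<|b)<|a (a 0<|a 0<|a 1<|a 1<|a 0<|a 0<|a 1<|a 1<|b)<|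
 a (a 0<|a 0<|a 0<|a 0<|a 1<|a 0<|a 0<|a 1<|b)<|a (a 0<|a 0<|a 0<|a 0<|a 0<|a 1<|a 0<|a (-1)<|b)<|b))

theorem e1_2_4_12_at12 : EigOK (hd ch1_2_4_12) c12 v1_2_4_12_at12 ![0, 1, 0, 0, 0, 0, 0, 0] :=
  H493.EigF.ok (H493.EigF.hT H493.EigF.t8) H493.EigF.r4 (H493.EigF.mc H493.EigF.r8 <| H493.EigF.mc H493.EigF.r8 <| H493.EigF.mc H493.EigF.r8 <| H493.EigF.mc H493.EigF.r8 <| H493.EigF.m0) H493.EigF.r8 (by decide +kernel)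

theorem rel_12_1 {F : Type u} [Field F] [Finite F] {r s : ℕ} (hr : r.Prime) (hs : s.Prime) (hrs : r ≠ s)
    (h1 : phiC c12 (Nat.card F) 1 r) (h2 : phiC c1 (Nat.card F) 1 s) :
    PG.Rel ↥(chevE8.group F) r s := by
  have := finW
  exact rel_of_eig hp CoxeterMatrix.E₈.toCoxeterSystem H129.TorusChar.invC_E8 one_ne_zero
    (chain_rep hp CoxeterMatrix.E₈.toCoxeterSystem hA ch1_2_4_12_ok) e1_2_4_12_at12 e1_2_4_12_at1 hr hs hrs h1.1 h2.1 h1.2 h2.2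

theorem rel_12_2 {F : Type u} [Field F] [Finite F] {r s : ℕ} (hr : r.Prime) (hs : s.Prime) (hrs : r ≠ s)
    (h1 : phiC c12 (Nat.card F) 1 r) (h2 : phiC c2 (Nat.card F) 1 s) :
    PG.Rel ↥(chevE8.group F) r s := by
  have := finW
  exact rel_of_eig hp CoxeterMatrix.E₈.toCoxeterSystem H129.TorusChar.invC_E8 one_ne_zero
    (chain_rep hp CoxeterMatrix.E₈.toCoxeterSystem hA ch1_2_4_12_ok) e1_2_4_12_at12 e1_2_4_12_at2 hr hs hrs h1.1 h2.1 h1.2 h2.2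

theorem rel_12_4 {F : Type u} [Field F] [Finite F] {r s : ℕ} (hr : r.Prime) (hs : s.Prime) (hrs : r ≠ s)
    (h1 : phiC c12 (Nat.card F) 1 r) (h2 : phiC c4 (Nat.card F) 1 s) :
    PG.Rel ↥(chevE8.group F) r s := by
  have := finW
  exact rel_of_eig hp CoxeterMatrix.E₈.toCoxeterSystem H129.TorusChar.invC_E8 one_ne_zero
    (chain_rep hp CoxeterMatrix.E₈.toCoxeterSystem hA ch1_2_4_12_ok) e1_2_4_12_at12 e1_2_4_12_at4 hr hs hrs h1.1 h2.1 h1.2 h2.2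

/-- partial products of an element with characteristic polynomial Φ1 Φ2 Φ4 Φ8 -/
def ch1_2_4_8 : List (Fin 8 × Mat 8) := (beta% delta% lq26f9d2ce62 fun a b c d e =>
 (c (d 3 (a (a (-1)<|a 0<|a (-1)<|a (-1)<|a 0<|a 0<|a 0<|a 0<|b)<|a (a 0<|a 1<|a 0<|a 1<|a 0<|a 0<|a 0<|a 0<|b)<|a (a 1<|a 0<|a 0<|a 0<|a 0<|a 0<|a 0<|a 0<|b)<|
 a (a 0<|a 0<|a 1<|a 1<|a 1<|a 0<|a 0<|a 0<|b)<|a (a 0<|a 0<|a 0<|a 0<|a 0<|a 1<|a 1<|a 0<|b)<|a (a 0<|a 0<|a 0<|a (-1)<|a (-1)<|a (-1)<|a (-1)<|a 0<|b)<|a (a 0<|a 0<|a 0<|a 1<|a 1<|a 1<|a 1<|a 1<|b)<|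
 a (a 0<|a 0<|a 0<|a 0<|a 0<|a 0<|a (-1)<|a (-1)<|b)<|b))<|
 c (d 2 (a (a (-1)<|a 0<|a (-1)<|a 0<|a 0<|a 0<|a 0<|a 0<|b)<|a (a 0<|a 1<|a 0<|a 0<|a 0<|a 0<|a 0<|a 0<|b)<|a (a 1<|a 0<|a 0<|a 0<|a 0<|a 0<|a 0<|a 0<|b)<|
 a (a 0<|a 0<|a 1<|a 1<|a 1<|a 0<|a 0<|a 0<|b)<|a (a 0<|a 0<|a 0<|a 0<|a 0<|a 1<|a 1<|a 0<|b)<|a (a 0<|a 0<|a 0<|a 0<|a (-1)<|a (-1)<|a (-1)<|a 0<|b)<|a (a 0<|a 0<|a 0<|a 0<|a 1<|a 1<|a 1<|a 1<|b)<|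
 a (a 0<|a 0<|a 0<|a 0<|a 0<|a 0<|a (-1)<|a (-1)<|b)<|b))<|
 c (d 0 (a (a (-1)<|a 0<|a 0<|a 0<|a 0<|a 0<|a 0<|a 0<|b)<|a (a 0<|a 1<|a 0<|a 0<|a 0<|a 0<|a 0<|a 0<|b)<|a (a 1<|a 0<|a 1<|a 0<|a 0<|a 0<|a 0<|a 0<|b)<|
 a (a 0<|a 0<|a 0<|a 1<|a 1<|a 0<|a 0<|a 0<|b)<|a (a 0<|a 0<|a 0<|a 0<|a 0<|a 1<|a 1<|a 0<|b)<|a (a 0<|a 0<|a 0<|a 0<|a (-1)<|a (-1)<|a (-1)<|a 0<|b)<|a (a 0<|a 0<|a 0<|a 0<|a 1<|a 1<|a 1<|a 1<|b)<|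
 a (a 0<|a 0<|a 0<|a 0<|a 0<|a 0<|a (-1)<|a (-1)<|b)<|b))<|
 c (d 4 (a (a 1<|a 0<|a 0<|a 0<|a 0<|a 0<|a 0<|a 0<|b)<|a (a 0<|a 1<|a 0<|a 0<|a 0<|a 0<|a 0<|a 0<|b)<|a (a 0<|a 0<|a 1<|a 0<|a 0<|a 0<|a 0<|a 0<|b)<|
 a (a 0<|a 0<|a 0<|a 1<|a 1<|a 0<|a 0<|a 0<|b)<|a (a 0<|a 0<|a 0<|a 0<|a 0<|a 1<|a 1<|a 0<|b)<|a (a 0<|a 0<|a 0<|a 0<|a (-1)<|a (-1)<|a (-1)<|a 0<|b)<|a (a 0<|a 0<|a 0<|a 0<|a 1<|a 1<|a 1<|a 1<|b)<|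
 a (a 0<|a 0<|a 0<|a 0<|a 0<|a 0<|a (-1)<|a (-1)<|b)<|b))<|
 c (d 6 (a (a 1<|a 0<|a 0<|a 0<|a 0<|a 0<|a 0<|a 0<|b)<|a (a 0<|a 1<|a 0<|a 0<|a 0<|a 0<|a 0<|a 0<|b)<|a (a 0<|a 0<|a 1<|a 0<|a 0<|a 0<|a 0<|a 0<|b)<|
 a (a 0<|a 0<|a 0<|a 1<|a 0<|a 0<|a 0<|a 0<|b)<|a (a 0<|a 0<|a 0<|a 0<|a 1<|a 1<|a 1<|a 0<|b)<|a (a 0<|a 0<|a 0<|a 0<|a 0<|a (-1)<|a (-1)<|a 0<|b)<|a (a 0<|a 0<|a 0<|a 0<|a 0<|a 1<|a 1<|a 1<|b)<|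
 a (a 0<|a 0<|a 0<|a 0<|a 0<|a 0<|a (-1)<|a (-1)<|b)<|b))<|
 c (d 5 (a (a 1<|a 0<|a 0<|a 0<|a 0<|a 0<|a 0<|a 0<|b)<|a (a 0<|a 1<|a 0<|a 0<|a 0<|a 0<|a 0<|a 0<|b)<|a (a 0<|a 0<|a 1<|a 0<|a 0<|a 0<|a 0<|a 0<|b)<|
 a (a 0<|a 0<|a 0<|a 1<|a 0<|a 0<|a 0<|a 0<|b)<|a (a 0<|a 0<|a 0<|a 0<|a 1<|a 1<|a 0<|a 0<|b)<|a (a 0<|a 0<|a 0<|a 0<|a 0<|a (-1)<|a 0<|a 0<|b)<|a (a 0<|a 0<|a 0<|a 0<|a 0<|a 1<|a 1<|a 1<|b)<|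
 a (a 0<|a 0<|a 0<|a 0<|a 0<|a 0<|a 0<|a (-1)<|b)<|b))<|
 c (d 7 (a (a 1<|a 0<|a 0<|a 0<|a 0<|a 0<|a 0<|a 0<|b)<|a (a 0<|a 1<|a 0<|a 0<|a 0<|a 0<|a 0<|a 0<|b)<|a (a 0<|a 0<|a 1<|a 0<|a 0<|a 0<|a 0<|a 0<|b)<|
 a (a 0<|a 0<|a 0<|a 1<|a 0<|a 0<|a 0<|a 0<|b)<|a (a 0<|a 0<|a 0<|a 0<|a 1<|a 0<|a 0<|a 0<|b)<|a (a 0<|a 0<|a 0<|a 0<|a 0<|a 1<|a 0<|a 0<|b)<|a (a 0<|a 0<|a 0<|a 0<|a 0<|a 0<|a 1<|a 1<|b)<|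
 a (a 0<|a 0<|a 0<|a 0<|a 0<|a 0<|a 0<|a (-1)<|b)<|b))<|e))

theorem ch1_2_4_8_ok : ChainOK Am ch1_2_4_8 :=
  H129.ChainF.ok H129.ChainF.i8 H129.ChainF.m8 (H129.ChainF.c8 <| H129.ChainF.c8 <| H129.ChainF.c8 <| H129.ChainF.c8 <| H129.ChainF.c8 <| H129.ChainF.c8 <| H129.ChainF.c8 <| H129.ChainF.nil) (by decide +kernel)

/-- coefficients of the eigenvector, order 1 -/
def v1_2_4_8_at1 : Fin 1 → Fin 8 → ℤ := ![![-5, -8, -10, -15, -12, -9, -6, -3]]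

theorem e1_2_4_8_at1 : EigOK (hd ch1_2_4_8) c1 v1_2_4_8_at1 ![0, -1, 1, 0, 0, 0, 0, -1] :=
  H493.EigF.ok (H493.EigF.hT H493.EigF.t8) H493.EigF.r1 (H493.EigF.mc H493.EigF.r8 <| H493.EigF.m0) H493.EigF.r8 (by decide +kernel)

/-- coefficients of the eigenvector, order 2 -/
def v1_2_4_8_at2 : Fin 1 → Fin 8 → ℤ := ![![-1, 0, 0, -1, 0, -1, 0, 1]]

theorem e1_2_4_8_at2 : EigOK (hd ch1_2_4_8) c2 v1_2_4_8_at2 ![-1, 0, 0, 0, 0, 0, 0, 0] :=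
  H493.EigF.ok (H493.EigF.hT H493.EigF.t8) H493.EigF.r1 (H493.EigF.mc H493.EigF.r8 <| H493.EigF.m0) H493.EigF.r8 (by decide +kernel)

/-- coefficients of the eigenvector, order 4 -/
def v1_2_4_8_at4 : Fin 2 → Fin 8 → ℤ := (beta% delta% lq26f9d2ce62 fun a b _ _ _ =>
 (a (a (-1)<|a 0<|a (-1)<|a 0<|a 0<|a 1<|a 1<|a 1<|b)<|
 a (a 0<|a 0<|a (-1)<|a (-1)<|a 0<|a 0<|a 1<|a 0<|b)<|b))

theorem e1_2_4_8_at4 : EigOK (hd ch1_2_4_8) c4 v1_2_4_8_at4 ![-1, 0, 0, 0, 0, 0, 0, 0] :=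
  H493.EigF.ok (H493.EigF.hT H493.EigF.t8) H493.EigF.r2 (H493.EigF.mc H493.EigF.r8 <| H493.EigF.mc H493.EigF.r8 <| H493.EigF.m0) H493.EigF.r8 (by decide +kernel)

/-- coefficients of the eigenvector, order 8 -/
def v1_2_4_8_at8 : Fin 4 → Fin 8 → ℤ := (beta% delta% lq26f9d2ce62 fun a b _ _ _ =>
 (a (a 0<|a 0<|a 0<|a 0<|a 1<|a 1<|a 0<|a 0<|b)<|a (a 1<|a 0<|a 1<|a 1<|a 1<|a 1<|a 1<|a 1<|b)<|
 a (a 0<|a 0<|a 1<|a 1<|a 1<|a 1<|a 1<|a 0<|b)<|a (a 0<|a 0<|a 0<|a 1<|a 1<|a 0<|a 0<|a 0<|b)<|b))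

theorem e1_2_4_8_at8 : EigOK (hd ch1_2_4_8) c8 v1_2_4_8_at8 ![0, 0, 0, -1, 1, 0, 0, 0] :=
  H493.EigF.ok (H493.EigF.hT H493.EigF.t8) H493.EigF.r4 (H493.EigF.mc H493.EigF.r8 <| H493.EigF.mc H493.EigF.r8 <| H493.EigF.mc H493.EigF.r8 <| H493.EigF.mc H493.EigF.r8 <| H493.EigF.m0) H493.EigF.r8 (by decide +kernel)

theorem rel_8_1 {F : Type u} [Field F] [Finite F] {r s : ℕ} (hr : r.Prime) (hs : s.Prime) (hrs : r ≠ s)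
    (h1 : phiC c8 (Nat.card F) 1 r) (h2 : phiC c1 (Nat.card F) 1 s) :
    PG.Rel ↥(chevE8.group F) r s := by
  have := finW
  exact rel_of_eig hp CoxeterMatrix.E₈.toCoxeterSystem H129.TorusChar.invC_E8 one_ne_zero
    (chain_rep hp CoxeterMatrix.E₈.toCoxeterSystem hA ch1_2_4_8_ok) e1_2_4_8_at8 e1_2_4_8_at1 hr hs hrs h1.1 h2.1 h1.2 h2.2

theorem rel_8_2 {F : Type u} [Field F] [Finite F] {r s : ℕ} (hr : r.Prime) (hs : s.Prime) (hrs : r ≠ s)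
    (h1 : phiC c8 (Nat.card F) 1 r) (h2 : phiC c2 (Nat.card F) 1 s) :
    PG.Rel ↥(chevE8.group F) r s := by
  have := finW
  exact rel_of_eig hp CoxeterMatrix.E₈.toCoxeterSystem H129.TorusChar.invC_E8 one_ne_zero
    (chain_rep hp CoxeterMatrix.E₈.toCoxeterSystem hA ch1_2_4_8_ok) e1_2_4_8_at8 e1_2_4_8_at2 hr hs hrs h1.1 h2.1 h1.2 h2.2

theorem rel_8_4 {F : Type u} [Field F] [Finite F] {r s : ℕ} (hr : r.Prime) (hs : s.Prime) (hrs : r ≠ s)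
    (h1 : phiC c8 (Nat.card F) 1 r) (h2 : phiC c4 (Nat.card F) 1 s) :
    PG.Rel ↥(chevE8.group F) r s := by
  have := finW
  exact rel_of_eig hp CoxeterMatrix.E₈.toCoxeterSystem H129.TorusChar.invC_E8 one_ne_zero
    (chain_rep hp CoxeterMatrix.E₈.toCoxeterSystem hA ch1_2_4_8_ok) e1_2_4_8_at8 e1_2_4_8_at4 hr hs hrs h1.1 h2.1 h1.2 h2.2

/-- partial products of an element with characteristic polynomial Φ1 Φ2 Φ3 Φ5 -/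
def ch1_2_3_5 : List (Fin 8 × Mat 8) := (beta% delta% lq26f9d2ce62 fun a b c d e =>
 (c (d 0 (a (a 0<|a 0<|a 1<|a 0<|a 0<|a 0<|a 0<|a 0<|b)<|a (a 0<|a (-1)<|a 0<|a 0<|a 0<|a 0<|a 0<|a 0<|b)<|a (a (-1)<|a 0<|a (-1)<|a 0<|a 0<|a 0<|a 0<|a 0<|b)<|
 a (a 1<|a 1<|a 1<|a 1<|a 1<|a 1<|a 0<|a 0<|b)<|a (a 0<|a 0<|a 0<|a 0<|a (-1)<|a (-1)<|a 0<|a 0<|b)<|a (a 0<|a 0<|a 0<|a 0<|a 1<|a 1<|a 1<|a 1<|b)<|
 a (a 0<|a 0<|a 0<|a 0<|a 0<|a (-1)<|a (-1)<|a (-1)<|b)<|a (a 0<|a 0<|a 0<|a 0<|a 0<|a 1<|a 1<|a 0<|b)<|b))<|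
 c (d 1 (a (a 1<|a 0<|a 1<|a 0<|a 0<|a 0<|a 0<|a 0<|b)<|a (a 0<|a (-1)<|a 0<|a 0<|a 0<|a 0<|a 0<|a 0<|b)<|a (a 0<|a 0<|a (-1)<|a 0<|a 0<|a 0<|a 0<|a 0<|b)<|
 a (a 0<|a 1<|a 1<|a 1<|a 1<|a 1<|a 0<|a 0<|b)<|a (a 0<|a 0<|a 0<|a 0<|a (-1)<|a (-1)<|a 0<|a 0<|b)<|a (a 0<|a 0<|a 0<|a 0<|a 1<|a 1<|a 1<|a 1<|b)<|
 a (a 0<|a 0<|a 0<|a 0<|a 0<|a (-1)<|a (-1)<|a (-1)<|b)<|a (a 0<|a 0<|a 0<|a 0<|a 0<|a 1<|a 1<|a 0<|b)<|b))<|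
 c (d 2 (a (a 1<|a 0<|a 1<|a 0<|a 0<|a 0<|a 0<|a 0<|b)<|a (a 0<|a 1<|a 0<|a 0<|a 0<|a 0<|a 0<|a 0<|b)<|a (a 0<|a 0<|a (-1)<|a 0<|a 0<|a 0<|a 0<|a 0<|b)<|
 a (a 0<|a 0<|a 1<|a 1<|a 1<|a 1<|a 0<|a 0<|b)<|a (a 0<|a 0<|a 0<|a 0<|a (-1)<|a (-1)<|a 0<|a 0<|b)<|a (a 0<|a 0<|a 0<|a 0<|a 1<|a 1<|a 1<|a 1<|b)<|
 a (a 0<|a 0<|a 0<|a 0<|a 0<|a (-1)<|a (-1)<|a (-1)<|b)<|a (a 0<|a 0<|a 0<|a 0<|a 0<|a 1<|a 1<|a 0<|b)<|b))<|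
 c (d 5 (a (a 1<|a 0<|a 0<|a 0<|a 0<|a 0<|a 0<|a 0<|b)<|a (a 0<|a 1<|a 0<|a 0<|a 0<|a 0<|a 0<|a 0<|b)<|a (a 0<|a 0<|a 1<|a 0<|a 0<|a 0<|a 0<|a 0<|b)<|
 a (a 0<|a 0<|a 0<|a 1<|a 1<|a 1<|a 0<|a 0<|b)<|a (a 0<|a 0<|a 0<|a 0<|a (-1)<|a (-1)<|a 0<|a 0<|b)<|a (a 0<|a 0<|a 0<|a 0<|a 1<|a 1<|a 1<|a 1<|b)<|
 a (a 0<|a 0<|a 0<|a 0<|a 0<|a (-1)<|a (-1)<|a (-1)<|b)<|a (a 0<|a 0<|a 0<|a 0<|a 0<|a 1<|a 1<|a 0<|b)<|b))<|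
 c (d 4 (a (a 1<|a 0<|a 0<|a 0<|a 0<|a 0<|a 0<|a 0<|b)<|a (a 0<|a 1<|a 0<|a 0<|a 0<|a 0<|a 0<|a 0<|b)<|a (a 0<|a 0<|a 1<|a 0<|a 0<|a 0<|a 0<|a 0<|b)<|
 a (a 0<|a 0<|a 0<|a 1<|a 1<|a 0<|a 0<|a 0<|b)<|a (a 0<|a 0<|a 0<|a 0<|a (-1)<|a 0<|a 0<|a 0<|b)<|a (a 0<|a 0<|a 0<|a 0<|a 1<|a 1<|a 1<|a 1<|b)<|a (a 0<|a 0<|a 0<|a 0<|a 0<|a 0<|a (-1)<|a (-1)<|b)<|
 a (a 0<|a 0<|a 0<|a 0<|a 0<|a 0<|a 1<|a 0<|b)<|b))<|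
 c (d 7 (a (a 1<|a 0<|a 0<|a 0<|a 0<|a 0<|a 0<|a 0<|b)<|a (a 0<|a 1<|a 0<|a 0<|a 0<|a 0<|a 0<|a 0<|b)<|a (a 0<|a 0<|a 1<|a 0<|a 0<|a 0<|a 0<|a 0<|b)<|
 a (a 0<|a 0<|a 0<|a 1<|a 0<|a 0<|a 0<|a 0<|b)<|a (a 0<|a 0<|a 0<|a 0<|a 1<|a 0<|a 0<|a 0<|b)<|a (a 0<|a 0<|a 0<|a 0<|a 0<|a 1<|a 1<|a 1<|b)<|a (a 0<|a 0<|a 0<|a 0<|a 0<|a 0<|a (-1)<|a (-1)<|b)<|
 a (a 0<|a 0<|a 0<|a 0<|a 0<|a 0<|a 1<|a 0<|b)<|b))<|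
 c (d 6 (a (a 1<|a 0<|a 0<|a 0<|a 0<|a 0<|a 0<|a 0<|b)<|a (a 0<|a 1<|a 0<|a 0<|a 0<|a 0<|a 0<|a 0<|b)<|a (a 0<|a 0<|a 1<|a 0<|a 0<|a 0<|a 0<|a 0<|b)<|
 a (a 0<|a 0<|a 0<|a 1<|a 0<|a 0<|a 0<|a 0<|b)<|a (a 0<|a 0<|a 0<|a 0<|a 1<|a 0<|a 0<|a 0<|b)<|a (a 0<|a 0<|a 0<|a 0<|a 0<|a 1<|a 1<|a 0<|b)<|a (a 0<|a 0<|a 0<|a 0<|a 0<|a 0<|a (-1)<|a 0<|b)<|
 a (a 0<|a 0<|a 0<|a 0<|a 0<|a 0<|a 1<|a 1<|b)<|b))<|e))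

theorem ch1_2_3_5_ok : ChainOK Am ch1_2_3_5 :=
  H129.ChainF.ok H129.ChainF.i8 H129.ChainF.m8 (H129.ChainF.c8 <| H129.ChainF.c8 <| H129.ChainF.c8 <| H129.ChainF.c8 <| H129.ChainF.c8 <| H129.ChainF.c8 <| H129.ChainF.c8 <| H129.ChainF.nil) (by decide +kernel)

/-- coefficients of the eigenvector, order 1 -/
def v1_2_3_5_at1 : Fin 1 → Fin 8 → ℤ := ![![10, 15, 20, 30, 24, 18, 12, 6]]

theorem e1_2_3_5_at1 : EigOK (hd ch1_2_3_5) c1 v1_2_3_5_at1 ![0, 1, -1, 0, 0, 0, 0, 1] :=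
  H493.EigF.ok (H493.EigF.hT H493.EigF.t8) H493.EigF.r1 (H493.EigF.mc H493.EigF.r8 <| H493.EigF.m0) H493.EigF.r8 (by decide +kernel)

/-- coefficients of the eigenvector, order 2 -/
def v1_2_3_5_at2 : Fin 1 → Fin 8 → ℤ := ![![0, 1, 0, 0, 0, 0, 0, 0]]

theorem e1_2_3_5_at2 : EigOK (hd ch1_2_3_5) c2 v1_2_3_5_at2 ![0, 1, 0, 0, 0, 0, 0, 0] :=
  H493.EigF.ok (H493.EigF.hT H493.EigF.t8) H493.EigF.r1 (H493.EigF.mc H493.EigF.r8 <| H493.EigF.m0) H493.EigF.r8 (by decide +kernel)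

/-- coefficients of the eigenvector, order 3 -/
def v1_2_3_5_at3 : Fin 2 → Fin 8 → ℤ := (beta% delta% lq26f9d2ce62 fun a b _ _ _ =>
 (a (a (-1)<|a 0<|a 0<|a 0<|a 0<|a 0<|a 0<|a 0<|b)<|a (a 0<|a 0<|a 1<|a 0<|a 0<|a 0<|a 0<|a 0<|b)<|b))

theorem e1_2_3_5_at3 : EigOK (hd ch1_2_3_5) c3 v1_2_3_5_at3 ![-1, 0, 0, 0, 0, 0, 0, 0] :=
  H493.EigF.ok (H493.EigF.hT H493.EigF.t8) H493.EigF.r2 (H493.EigF.mc H493.EigF.r8 <| H493.EigF.mc H493.EigF.r8 <| H493.EigF.m0) H493.EigF.r8 (by decide +kernel)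

/-- coefficients of the eigenvector, order 5 -/
def v1_2_3_5_at5 : Fin 4 → Fin 8 → ℤ := (beta% delta% lq26f9d2ce62 fun a b _ _ _ =>
 (a (a 0<|a 0<|a 0<|a 0<|a 1<|a 1<|a 0<|a 0<|b)<|a (a 0<|a 0<|a 0<|a 0<|a 0<|a 1<|a 0<|a 0<|b)<|
 a (a 0<|a 0<|a 0<|a 0<|a 0<|a 0<|a (-1)<|a 0<|b)<|a (a 0<|a 0<|a 0<|a 0<|a 0<|a 0<|a (-1)<|a (-1)<|b)<|b))

theorem e1_2_3_5_at5 : EigOK (hd ch1_2_3_5) c5 v1_2_3_5_at5 ![0, 0, 0, 0, 1, 0, 0, 0] :=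
  H493.EigF.ok (H493.EigF.hT H493.EigF.t8) H493.EigF.r4 (H493.EigF.mc H493.EigF.r8 <| H493.EigF.mc H493.EigF.r8 <| H493.EigF.mc H493.EigF.r8 <| H493.EigF.mc H493.EigF.r8 <| H493.EigF.m0) H493.EigF.r8 (by decide +kernel)

theorem rel_5_1 {F : Type u} [Field F] [Finite F] {r s : ℕ} (hr : r.Prime) (hs : s.Prime) (hrs : r ≠ s)
    (h1 : phiC c5 (Nat.card F) 1 r) (h2 : phiC c1 (Nat.card F) 1 s) :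
    PG.Rel ↥(chevE8.group F) r s := by
  have := finW
  exact rel_of_eig hp CoxeterMatrix.E₈.toCoxeterSystem H129.TorusChar.invC_E8 one_ne_zero
    (chain_rep hp CoxeterMatrix.E₈.toCoxeterSystem hA ch1_2_3_5_ok) e1_2_3_5_at5 e1_2_3_5_at1 hr hs hrs h1.1 h2.1 h1.2 h2.2

theorem rel_5_2 {F : Type u} [Field F] [Finite F] {r s : ℕ} (hr : r.Prime) (hs : s.Prime) (hrs : r ≠ s)
    (h1 : phiC c5 (Nat.card F) 1 r) (h2 : phiC c2 (Nat.card F) 1 s) :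
    PG.Rel ↥(chevE8.group F) r s := by
  have := finW
  exact rel_of_eig hp CoxeterMatrix.E₈.toCoxeterSystem H129.TorusChar.invC_E8 one_ne_zero
    (chain_rep hp CoxeterMatrix.E₈.toCoxeterSystem hA ch1_2_3_5_ok) e1_2_3_5_at5 e1_2_3_5_at2 hr hs hrs h1.1 h2.1 h1.2 h2.2

theorem rel_5_3 {F : Type u} [Field F] [Finite F] {r s : ℕ} (hr : r.Prime) (hs : s.Prime) (hrs : r ≠ s)
    (h1 : phiC c5 (Nat.card F) 1 r) (h2 : phiC c3 (Nat.card F) 1 s) :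
    PG.Rel ↥(chevE8.group F) r s := by
  have := finW
  exact rel_of_eig hp CoxeterMatrix.E₈.toCoxeterSystem H129.TorusChar.invC_E8 one_ne_zero
    (chain_rep hp CoxeterMatrix.E₈.toCoxeterSystem hA ch1_2_3_5_ok) e1_2_3_5_at5 e1_2_3_5_at3 hr hs hrs h1.1 h2.1 h1.2 h2.2

/-- partial products of an element with characteristic polynomial Φ1 Φ2 Φ18 -/
def ch1_2_18 : List (Fin 8 × Mat 8) := (beta% delta% lq26f9d2ce62 fun a b c d e =>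
 (c (d 2 (a (a (-1)<|a 0<|a (-1)<|a 0<|a 0<|a 0<|a 0<|a 0<|b)<|a (a 0<|a (-1)<|a (-1)<|a (-1)<|a (-1)<|a 0<|a 0<|a 0<|b)<|a (a 1<|a 0<|a 1<|a 1<|a 1<|a 0<|a 0<|a 0<|b)<|
 a (a 0<|a 1<|a 0<|a 0<|a 0<|a 0<|a 0<|a 0<|b)<|a (a 0<|a 0<|a 1<|a 1<|a 1<|a 1<|a 0<|a 0<|b)<|a (a 0<|a 0<|a 0<|a 0<|a 0<|a 0<|a 1<|a 0<|b)<|a (a 0<|a 0<|a 0<|a 0<|a (-1)<|a (-1)<|a (-1)<|a 0<|b)<|
 a (a 0<|a 0<|a 0<|a 0<|a 1<|a 1<|a 1<|a 1<|b)<|b))<|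
 c (d 0 (a (a (-1)<|a 0<|a 0<|a 0<|a 0<|a 0<|a 0<|a 0<|b)<|a (a 0<|a (-1)<|a 0<|a (-1)<|a (-1)<|a 0<|a 0<|a 0<|b)<|a (a 1<|a 0<|a 1<|a 1<|a 1<|a 0<|a 0<|a 0<|b)<|
 a (a 0<|a 1<|a 0<|a 0<|a 0<|a 0<|a 0<|a 0<|b)<|a (a 0<|a 0<|a 0<|a 1<|a 1<|a 1<|a 0<|a 0<|b)<|a (a 0<|a 0<|a 0<|a 0<|a 0<|a 0<|a 1<|a 0<|b)<|a (a 0<|a 0<|a 0<|a 0<|a (-1)<|a (-1)<|a (-1)<|a 0<|b)<|
 a (a 0<|a 0<|a 0<|a 0<|a 1<|a 1<|a 1<|a 1<|b)<|b))<|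
 c (d 4 (a (a 1<|a 0<|a 0<|a 0<|a 0<|a 0<|a 0<|a 0<|b)<|a (a 0<|a (-1)<|a 0<|a (-1)<|a (-1)<|a 0<|a 0<|a 0<|b)<|a (a 0<|a 0<|a 1<|a 1<|a 1<|a 0<|a 0<|a 0<|b)<|
 a (a 0<|a 1<|a 0<|a 0<|a 0<|a 0<|a 0<|a 0<|b)<|a (a 0<|a 0<|a 0<|a 1<|a 1<|a 1<|a 0<|a 0<|b)<|a (a 0<|a 0<|a 0<|a 0<|a 0<|a 0<|a 1<|a 0<|b)<|a (a 0<|a 0<|a 0<|a 0<|a (-1)<|a (-1)<|a (-1)<|a 0<|b)<|
 a (a 0<|a 0<|a 0<|a 0<|a 1<|a 1<|a 1<|a 1<|b)<|b))<|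
 c (d 3 (a (a 1<|a 0<|a 0<|a 0<|a 0<|a 0<|a 0<|a 0<|b)<|a (a 0<|a (-1)<|a 0<|a (-1)<|a 0<|a 0<|a 0<|a 0<|b)<|a (a 0<|a 0<|a 1<|a 1<|a 0<|a 0<|a 0<|a 0<|b)<|
 a (a 0<|a 1<|a 0<|a 0<|a 0<|a 0<|a 0<|a 0<|b)<|a (a 0<|a 0<|a 0<|a 1<|a 1<|a 1<|a 0<|a 0<|b)<|a (a 0<|a 0<|a 0<|a 0<|a 0<|a 0<|a 1<|a 0<|b)<|a (a 0<|a 0<|a 0<|a 0<|a 0<|a (-1)<|a (-1)<|a 0<|b)<|
 a (a 0<|a 0<|a 0<|a 0<|a 0<|a 1<|a 1<|a 1<|b)<|b))<|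
 c (d 1 (a (a 1<|a 0<|a 0<|a 0<|a 0<|a 0<|a 0<|a 0<|b)<|a (a 0<|a (-1)<|a 0<|a 0<|a 0<|a 0<|a 0<|a 0<|b)<|a (a 0<|a 0<|a 1<|a 0<|a 0<|a 0<|a 0<|a 0<|b)<|
 a (a 0<|a 1<|a 0<|a 1<|a 0<|a 0<|a 0<|a 0<|b)<|a (a 0<|a 0<|a 0<|a 0<|a 1<|a 1<|a 0<|a 0<|b)<|a (a 0<|a 0<|a 0<|a 0<|a 0<|a 0<|a 1<|a 0<|b)<|a (a 0<|a 0<|a 0<|a 0<|a 0<|a (-1)<|a (-1)<|a 0<|b)<|
 a (a 0<|a 0<|a 0<|a 0<|a 0<|a 1<|a 1<|a 1<|b)<|b))<|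
 c (d 5 (a (a 1<|a 0<|a 0<|a 0<|a 0<|a 0<|a 0<|a 0<|b)<|a (a 0<|a 1<|a 0<|a 0<|a 0<|a 0<|a 0<|a 0<|b)<|a (a 0<|a 0<|a 1<|a 0<|a 0<|a 0<|a 0<|a 0<|b)<|
 a (a 0<|a 0<|a 0<|a 1<|a 0<|a 0<|a 0<|a 0<|b)<|a (a 0<|a 0<|a 0<|a 0<|a 1<|a 1<|a 0<|a 0<|b)<|a (a 0<|a 0<|a 0<|a 0<|a 0<|a 0<|a 1<|a 0<|b)<|a (a 0<|a 0<|a 0<|a 0<|a 0<|a (-1)<|a (-1)<|a 0<|b)<|
 a (a 0<|a 0<|a 0<|a 0<|a 0<|a 1<|a 1<|a 1<|b)<|b))<|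
 c (d 6 (a (a 1<|a 0<|a 0<|a 0<|a 0<|a 0<|a 0<|a 0<|b)<|a (a 0<|a 1<|a 0<|a 0<|a 0<|a 0<|a 0<|a 0<|b)<|a (a 0<|a 0<|a 1<|a 0<|a 0<|a 0<|a 0<|a 0<|b)<|
 a (a 0<|a 0<|a 0<|a 1<|a 0<|a 0<|a 0<|a 0<|b)<|a (a 0<|a 0<|a 0<|a 0<|a 1<|a 0<|a 0<|a 0<|b)<|a (a 0<|a 0<|a 0<|a 0<|a 0<|a 1<|a 1<|a 0<|b)<|a (a 0<|a 0<|a 0<|a 0<|a 0<|a 0<|a (-1)<|a 0<|b)<|
 a (a 0<|a 0<|a 0<|a 0<|a 0<|a 0<|a 1<|a 1<|b)<|b))<|e))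

theorem ch1_2_18_ok : ChainOK Am ch1_2_18 :=
  H129.ChainF.ok H129.ChainF.i8 H129.ChainF.m8 (H129.ChainF.c8 <| H129.ChainF.c8 <| H129.ChainF.c8 <| H129.ChainF.c8 <| H129.ChainF.c8 <| H129.ChainF.c8 <| H129.ChainF.c8 <| H129.ChainF.nil) (by decide +kernel)

/-- coefficients of the eigenvector, order 1 -/
def v1_2_18_at1 : Fin 1 → Fin 8 → ℤ := ![![-2, -3, -4, -6, -5, -4, -3, -2]]

theorem e1_2_18_at1 : EigOK (hd ch1_2_18) c1 v1_2_18_at1 ![1, -1, 0, 0, 0, 0, 0, 0] :=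
  H493.EigF.ok (H493.EigF.hT H493.EigF.t8) H493.EigF.r1 (H493.EigF.mc H493.EigF.r8 <| H493.EigF.m0) H493.EigF.r8 (by decide +kernel)

/-- coefficients of the eigenvector, order 2 -/
def v1_2_18_at2 : Fin 1 → Fin 8 → ℤ := ![![0, 1, 0, 0, 1, 0, 1, 0]]

theorem e1_2_18_at2 : EigOK (hd ch1_2_18) c2 v1_2_18_at2 ![0, 1, 0, 0, 0, 0, 0, 0] :=
  H493.EigF.ok (H493.EigF.hT H493.EigF.t8) H493.EigF.r1 (H493.EigF.mc H493.EigF.r8 <| H493.EigF.m0) H493.EigF.r8 (by decide +kernel)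

/-- coefficients of the eigenvector, order 18 -/
def v1_2_18_at18 : Fin 6 → Fin 8 → ℤ := (beta% delta% lq26f9d2ce62 fun a b _ _ _ =>
 (a (a (-1)<|a 0<|a 0<|a 0<|a 0<|a 0<|a 0<|a 0<|b)<|
 a (a 0<|a (-1)<|a (-1)<|a (-1)<|a 0<|a 0<|a 0<|a 0<|b)<|a (a 0<|a 0<|a 0<|a (-1)<|a (-1)<|a (-1)<|a (-1)<|a 0<|b)<|a (a 0<|a (-1)<|a (-1)<|a (-1)<|a (-1)<|a (-1)<|a 0<|a 0<|b)<|
 a (a 0<|a 0<|a 0<|a (-1)<|a (-1)<|a 0<|a 0<|a 0<|b)<|a (a (-1)<|a 0<|a (-1)<|a 0<|a 0<|a 0<|a 0<|a 0<|b)<|b))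

theorem e1_2_18_at18 : EigOK (hd ch1_2_18) c18 v1_2_18_at18 ![-1, -1, 1, 0, 0, 0, 0, 0] :=
  H493.EigF.ok (H493.EigF.hT H493.EigF.t8) H493.EigF.r6 (H493.EigF.mc H493.EigF.r8 <| H493.EigF.mc H493.EigF.r8 <| H493.EigF.mc H493.EigF.r8 <| H493.EigF.mc H493.EigF.r8 <| H493.EigF.mc H493.EigF.r8 <| H493.EigF.mc H493.EigF.r8 <| H493.EigF.m0) H493.EigF.r8 (by decide +kernel)

theorem rel_18_1 {F : Type u} [Field F] [Finite F] {r s : ℕ} (hr : r.Prime) (hs : s.Prime) (hrs : r ≠ s)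
    (h1 : phiC c18 (Nat.card F) 1 r) (h2 : phiC c1 (Nat.card F) 1 s) :
    PG.Rel ↥(chevE8.group F) r s := by
  have := finW
  exact rel_of_eig hp CoxeterMatrix.E₈.toCoxeterSystem H129.TorusChar.invC_E8 one_ne_zero
    (chain_rep hp CoxeterMatrix.E₈.toCoxeterSystem hA ch1_2_18_ok) e1_2_18_at18 e1_2_18_at1 hr hs hrs h1.1 h2.1 h1.2 h2.2

theorem rel_18_2 {F : Type u} [Field F] [Finite F] {r s : ℕ} (hr : r.Prime) (hs : s.Prime) (hrs : r ≠ s)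
    (h1 : phiC c18 (Nat.card F) 1 r) (h2 : phiC c2 (Nat.card F) 1 s) :
    PG.Rel ↥(chevE8.group F) r s := by
  have := finW
  exact rel_of_eig hp CoxeterMatrix.E₈.toCoxeterSystem H129.TorusChar.invC_E8 one_ne_zero
    (chain_rep hp CoxeterMatrix.E₈.toCoxeterSystem hA ch1_2_18_ok) e1_2_18_at18 e1_2_18_at2 hr hs hrs h1.1 h2.1 h1.2 h2.2

end Cfsg.Agent.R2.Spec.EE.CertE8
end

-- part: R2/Spec/EE/CertE8C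
section
/-!
# Adjacency of the prime divisors of two cyclotomic values through one torus, type E8, part 3 (helper2)

Chains, eigenvectors and functionals as in `H168/ExcPairE8.lean`.
-/

set_option autoImplicit false

namespace Cfsg.Agent.R2.Spec.EE.CertE8

open Cfsg.Agent.H129.WData Cfsg.Agent.ChevalleyStructure.CoxeterGeomTypes Cfsg.Agent.Nodes.RGDChev
open Cfsg.Lie Cfsg.Lie.ChevalleyDatum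
open Cfsg.Agent Cfsg.Agent.H493 Cfsg.Agent.H493.PGTorus Cfsg.Agent.H493.PGCyc Cfsg.Agent.H493.PGE8
open Cfsg.Agent.H168.ExcAdj

universe u

/-- partial products of an element with characteristic polynomial Φ1 Φ2 Φ14 -/
def ch1_2_14 : List (Fin 8 × Mat 8) := (beta% delta% lq26f9d2ce62 fun a b c d e =>
 (c (d 1 (a (a (-1)<|a (-1)<|a (-1)<|a (-1)<|a (-1)<|a 0<|a 0<|a 0<|b)<|a (a 0<|a 1<|a 1<|a 2<|a 1<|a 0<|a 0<|a 0<|b)<|a (a 1<|a 1<|a 1<|a 1<|a 0<|a 0<|a 0<|a 0<|b)<|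
 a (a 0<|a (-1)<|a (-1)<|a (-1)<|a 0<|a 0<|a 0<|a 0<|b)<|a (a 0<|a 1<|a 1<|a 1<|a 1<|a 1<|a 0<|a 0<|b)<|a (a 0<|a 0<|a 0<|a 0<|a 0<|a 0<|a 1<|a 0<|b)<|
 a (a 0<|a (-1)<|a 0<|a (-1)<|a (-1)<|a (-1)<|a (-1)<|a 0<|b)<|a (a 0<|a 1<|a 0<|a 1<|a 1<|a 1<|a 1<|a 1<|b)<|b))<|
 c (d 3 (a (a (-1)<|a 0<|a (-1)<|a (-1)<|a (-1)<|a 0<|a 0<|a 0<|b)<|a (a 0<|a 1<|a 1<|a 2<|a 1<|a 0<|a 0<|a 0<|b)<|a (a 1<|a 0<|a 1<|a 1<|a 0<|a 0<|a 0<|a 0<|b)<|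
 a (a 0<|a 0<|a (-1)<|a (-1)<|a 0<|a 0<|a 0<|a 0<|b)<|a (a 0<|a 0<|a 1<|a 1<|a 1<|a 1<|a 0<|a 0<|b)<|a (a 0<|a 0<|a 0<|a 0<|a 0<|a 0<|a 1<|a 0<|b)<|
 a (a 0<|a 0<|a 0<|a (-1)<|a (-1)<|a (-1)<|a (-1)<|a 0<|b)<|a (a 0<|a 0<|a 0<|a 1<|a 1<|a 1<|a 1<|a 1<|b)<|b))<|
 c (d 2 (a (a (-1)<|a 0<|a (-1)<|a (-1)<|a (-1)<|a 0<|a 0<|a 0<|b)<|a (a 0<|a 1<|a 1<|a 1<|a 1<|a 0<|a 0<|a 0<|b)<|a (a 1<|a 0<|a 1<|a 0<|a 0<|a 0<|a 0<|a 0<|b)<|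
 a (a 0<|a 0<|a (-1)<|a 0<|a 0<|a 0<|a 0<|a 0<|b)<|a (a 0<|a 0<|a 1<|a 1<|a 1<|a 1<|a 0<|a 0<|b)<|a (a 0<|a 0<|a 0<|a 0<|a 0<|a 0<|a 1<|a 0<|b)<|a (a 0<|a 0<|a 0<|a 0<|a (-1)<|a (-1)<|a (-1)<|a 0<|b)<|
 a (a 0<|a 0<|a 0<|a 0<|a 1<|a 1<|a 1<|a 1<|b)<|b))<|
 c (d 4 (a (a (-1)<|a 0<|a (-1)<|a (-1)<|a (-1)<|a 0<|a 0<|a 0<|b)<|a (a 0<|a 1<|a 0<|a 1<|a 1<|a 0<|a 0<|a 0<|b)<|a (a 1<|a 0<|a 0<|a 0<|a 0<|a 0<|a 0<|a 0<|b)<|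
 a (a 0<|a 0<|a 1<|a 0<|a 0<|a 0<|a 0<|a 0<|b)<|a (a 0<|a 0<|a 0<|a 1<|a 1<|a 1<|a 0<|a 0<|b)<|a (a 0<|a 0<|a 0<|a 0<|a 0<|a 0<|a 1<|a 0<|b)<|a (a 0<|a 0<|a 0<|a 0<|a (-1)<|a (-1)<|a (-1)<|a 0<|b)<|
 a (a 0<|a 0<|a 0<|a 0<|a 1<|a 1<|a 1<|a 1<|b)<|b))<|
 c (d 3 (a (a (-1)<|a 0<|a (-1)<|a (-1)<|a 0<|a 0<|a 0<|a 0<|b)<|a (a 0<|a 1<|a 0<|a 1<|a 0<|a 0<|a 0<|a 0<|b)<|a (a 1<|a 0<|a 0<|a 0<|a 0<|a 0<|a 0<|a 0<|b)<|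
 a (a 0<|a 0<|a 1<|a 0<|a 0<|a 0<|a 0<|a 0<|b)<|a (a 0<|a 0<|a 0<|a 1<|a 1<|a 1<|a 0<|a 0<|b)<|a (a 0<|a 0<|a 0<|a 0<|a 0<|a 0<|a 1<|a 0<|b)<|a (a 0<|a 0<|a 0<|a 0<|a 0<|a (-1)<|a (-1)<|a 0<|b)<|
 a (a 0<|a 0<|a 0<|a 0<|a 0<|a 1<|a 1<|a 1<|b)<|b))<|
 c (d 2 (a (a (-1)<|a 0<|a (-1)<|a 0<|a 0<|a 0<|a 0<|a 0<|b)<|a (a 0<|a 1<|a 0<|a 0<|a 0<|a 0<|a 0<|a 0<|b)<|a (a 1<|a 0<|a 0<|a 0<|a 0<|a 0<|a 0<|a 0<|b)<|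
 a (a 0<|a 0<|a 1<|a 1<|a 0<|a 0<|a 0<|a 0<|b)<|a (a 0<|a 0<|a 0<|a 0<|a 1<|a 1<|a 0<|a 0<|b)<|a (a 0<|a 0<|a 0<|a 0<|a 0<|a 0<|a 1<|a 0<|b)<|a (a 0<|a 0<|a 0<|a 0<|a 0<|a (-1)<|a (-1)<|a 0<|b)<|
 a (a 0<|a 0<|a 0<|a 0<|a 0<|a 1<|a 1<|a 1<|b)<|b))<|
 c (d 0 (a (a (-1)<|a 0<|a 0<|a 0<|a 0<|a 0<|a 0<|a 0<|b)<|a (a 0<|a 1<|a 0<|a 0<|a 0<|a 0<|a 0<|a 0<|b)<|a (a 1<|a 0<|a 1<|a 0<|a 0<|a 0<|a 0<|a 0<|b)<|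
 a (a 0<|a 0<|a 0<|a 1<|a 0<|a 0<|a 0<|a 0<|b)<|a (a 0<|a 0<|a 0<|a 0<|a 1<|a 1<|a 0<|a 0<|b)<|a (a 0<|a 0<|a 0<|a 0<|a 0<|a 0<|a 1<|a 0<|b)<|a (a 0<|a 0<|a 0<|a 0<|a 0<|a (-1)<|a (-1)<|a 0<|b)<|
 a (a 0<|a 0<|a 0<|a 0<|a 0<|a 1<|a 1<|a 1<|b)<|b))<|
 c (d 5 (a (a 1<|a 0<|a 0<|a 0<|a 0<|a 0<|a 0<|a 0<|b)<|a (a 0<|a 1<|a 0<|a 0<|a 0<|a 0<|a 0<|a 0<|b)<|a (a 0<|a 0<|a 1<|a 0<|a 0<|a 0<|a 0<|a 0<|b)<|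
 a (a 0<|a 0<|a 0<|a 1<|a 0<|a 0<|a 0<|a 0<|b)<|a (a 0<|a 0<|a 0<|a 0<|a 1<|a 1<|a 0<|a 0<|b)<|a (a 0<|a 0<|a 0<|a 0<|a 0<|a 0<|a 1<|a 0<|b)<|a (a 0<|a 0<|a 0<|a 0<|a 0<|a (-1)<|a (-1)<|a 0<|b)<|
 a (a 0<|a 0<|a 0<|a 0<|a 0<|a 1<|a 1<|a 1<|b)<|b))<|
 c (d 6 (a (a 1<|a 0<|a 0<|a 0<|a 0<|a 0<|a 0<|a 0<|b)<|a (a 0<|a 1<|a 0<|a 0<|a 0<|a 0<|a 0<|a 0<|b)<|a (a 0<|a 0<|a 1<|a 0<|a 0<|a 0<|a 0<|a 0<|b)<|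
 a (a 0<|a 0<|a 0<|a 1<|a 0<|a 0<|a 0<|a 0<|b)<|a (a 0<|a 0<|a 0<|a 0<|a 1<|a 0<|a 0<|a 0<|b)<|a (a 0<|a 0<|a 0<|a 0<|a 0<|a 1<|a 1<|a 0<|b)<|a (a 0<|a 0<|a 0<|a 0<|a 0<|a 0<|a (-1)<|a 0<|b)<|
 a (a 0<|a 0<|a 0<|a 0<|a 0<|a 0<|a 1<|a 1<|b)<|b))<|e))

theorem ch1_2_14_ok : ChainOK Am ch1_2_14 :=
  H129.ChainF.ok H129.ChainF.i8 H129.ChainF.m8 (H129.ChainF.c8 <| H129.ChainF.c8 <| H129.ChainF.c8 <| H129.ChainF.c8 <| H129.ChainF.c8 <| H129.ChainF.c8 <| H129.ChainF.c8 <| H129.ChainF.c8 <| H129.ChainF.c8 <| H129.ChainF.nil) (by decide +kernel)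

/-- coefficients of the eigenvector, order 1 -/
def v1_2_14_at1 : Fin 1 → Fin 8 → ℤ := ![![-2, -3, -4, -6, -5, -4, -3, -2]]

theorem e1_2_14_at1 : EigOK (hd ch1_2_14) c1 v1_2_14_at1 ![1, -1, 0, 0, 0, 0, 0, 0] :=
  H493.EigF.ok (H493.EigF.hT H493.EigF.t8) H493.EigF.r1 (H493.EigF.mc H493.EigF.r8 <| H493.EigF.m0) H493.EigF.r8 (by decide +kernel)

/-- coefficients of the eigenvector, order 2 -/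
def v1_2_14_at2 : Fin 1 → Fin 8 → ℤ := ![![2, 1, 0, 0, 1, 0, 1, 0]]

theorem e1_2_14_at2 : EigOK (hd ch1_2_14) c2 v1_2_14_at2 ![0, 1, 0, 0, 0, 0, 0, 0] :=
  H493.EigF.ok (H493.EigF.hT H493.EigF.t8) H493.EigF.r1 (H493.EigF.mc H493.EigF.r8 <| H493.EigF.m0) H493.EigF.r8 (by decide +kernel)

/-- coefficients of the eigenvector, order 14 -/
def v1_2_14_at14 : Fin 6 → Fin 8 → ℤ := (beta% delta% lq26f9d2ce62 fun a b _ _ _ =>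
 (a (a 0<|a 0<|a 0<|a 1<|a 1<|a 1<|a 1<|a 0<|b)<|a (a 1<|a 1<|a 1<|a 1<|a 0<|a 0<|a (-1)<|a 0<|b)<|
 a (a 0<|a 0<|a 1<|a 1<|a 1<|a 0<|a 1<|a 0<|b)<|a (a 0<|a 1<|a 0<|a 0<|a 0<|a 1<|a 0<|a 0<|b)<|a (a 0<|a (-1)<|a 0<|a 0<|a 1<|a 0<|a 0<|a 0<|b)<|a (a 0<|a 1<|a 0<|a 1<|a 0<|a 0<|a 0<|a 0<|b)<|b))

theorem e1_2_14_at14 : EigOK (hd ch1_2_14) c14 v1_2_14_at14 ![0, -1, 0, 1, -1, 1, 0, 0] :=
  H493.EigF.ok (H493.EigF.hT H493.EigF.t8) H493.EigF.r6 (H493.EigF.mc H493.EigF.r8 <| H493.EigF.mc H493.EigF.r8 <| H493.EigF.mc H493.EigF.r8 <| H493.EigF.mc H493.EigF.r8 <| H493.EigF.mc H493.EigF.r8 <| H493.EigF.mc H493.EigF.r8 <| H493.EigF.m0) H493.EigF.r8 (by decide +kernel)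

theorem rel_14_1 {F : Type u} [Field F] [Finite F] {r s : ℕ} (hr : r.Prime) (hs : s.Prime) (hrs : r ≠ s)
    (h1 : phiC c14 (Nat.card F) 1 r) (h2 : phiC c1 (Nat.card F) 1 s) :
    PG.Rel ↥(chevE8.group F) r s := by
  have := finW
  exact rel_of_eig hp CoxeterMatrix.E₈.toCoxeterSystem H129.TorusChar.invC_E8 one_ne_zero
    (chain_rep hp CoxeterMatrix.E₈.toCoxeterSystem hA ch1_2_14_ok) e1_2_14_at14 e1_2_14_at1 hr hs hrs h1.1 h2.1 h1.2 h2.2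

theorem rel_14_2 {F : Type u} [Field F] [Finite F] {r s : ℕ} (hr : r.Prime) (hs : s.Prime) (hrs : r ≠ s)
    (h1 : phiC c14 (Nat.card F) 1 r) (h2 : phiC c2 (Nat.card F) 1 s) :
    PG.Rel ↥(chevE8.group F) r s := by
  have := finW
  exact rel_of_eig hp CoxeterMatrix.E₈.toCoxeterSystem H129.TorusChar.invC_E8 one_ne_zero
    (chain_rep hp CoxeterMatrix.E₈.toCoxeterSystem hA ch1_2_14_ok) e1_2_14_at14 e1_2_14_at2 hr hs hrs h1.1 h2.1 h1.2 h2.2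

/-- partial products of an element with characteristic polynomial Φ1 Φ2 Φ9 -/
def ch1_2_9 : List (Fin 8 × Mat 8) := (beta% delta% lq26f9d2ce62 fun a b c d e =>
 (c (d 3 (a (a (-1)<|a 0<|a (-1)<|a (-1)<|a (-1)<|a (-1)<|a 0<|a 0<|b)<|a (a 0<|a (-1)<|a (-1)<|a (-2)<|a (-1)<|a (-1)<|a 0<|a 0<|b)<|a (a 1<|a 0<|a 1<|a 1<|a 0<|a 0<|a 0<|a 0<|b)<|
 a (a 0<|a 1<|a 0<|a 1<|a 1<|a 1<|a 0<|a 0<|b)<|a (a 0<|a 0<|a 1<|a 0<|a 0<|a 0<|a 0<|a 0<|b)<|a (a 0<|a 0<|a 0<|a 1<|a 1<|a 0<|a 0<|a 0<|b)<|a (a 0<|a 0<|a 0<|a 0<|a 0<|a 1<|a 1<|a 1<|b)<|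
 a (a 0<|a 0<|a 0<|a 0<|a 0<|a 0<|a 0<|a (-1)<|b)<|b))<|
 c (d 2 (a (a (-1)<|a 0<|a (-1)<|a (-1)<|a (-1)<|a (-1)<|a 0<|a 0<|b)<|a (a 0<|a (-1)<|a (-1)<|a (-1)<|a (-1)<|a (-1)<|a 0<|a 0<|b)<|a (a 1<|a 0<|a 1<|a 0<|a 0<|a 0<|a 0<|a 0<|b)<|
 a (a 0<|a 1<|a 0<|a 1<|a 1<|a 1<|a 0<|a 0<|b)<|a (a 0<|a 0<|a 1<|a 1<|a 0<|a 0<|a 0<|a 0<|b)<|a (a 0<|a 0<|a 0<|a 0<|a 1<|a 0<|a 0<|a 0<|b)<|a (a 0<|a 0<|a 0<|a 0<|a 0<|a 1<|a 1<|a 1<|b)<|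
 a (a 0<|a 0<|a 0<|a 0<|a 0<|a 0<|a 0<|a (-1)<|b)<|b))<|
 c (d 5 (a (a (-1)<|a 0<|a (-1)<|a (-1)<|a (-1)<|a (-1)<|a 0<|a 0<|b)<|a (a 0<|a (-1)<|a 0<|a (-1)<|a (-1)<|a (-1)<|a 0<|a 0<|b)<|a (a 1<|a 0<|a 0<|a 0<|a 0<|a 0<|a 0<|a 0<|b)<|
 a (a 0<|a 1<|a 1<|a 1<|a 1<|a 1<|a 0<|a 0<|b)<|a (a 0<|a 0<|a 0<|a 1<|a 0<|a 0<|a 0<|a 0<|b)<|a (a 0<|a 0<|a 0<|a 0<|a 1<|a 0<|a 0<|a 0<|b)<|a (a 0<|a 0<|a 0<|a 0<|a 0<|a 1<|a 1<|a 1<|b)<|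
 a (a 0<|a 0<|a 0<|a 0<|a 0<|a 0<|a 0<|a (-1)<|b)<|b))<|
 c (d 4 (a (a (-1)<|a 0<|a (-1)<|a (-1)<|a (-1)<|a 0<|a 0<|a 0<|b)<|a (a 0<|a (-1)<|a 0<|a (-1)<|a (-1)<|a 0<|a 0<|a 0<|b)<|a (a 1<|a 0<|a 0<|a 0<|a 0<|a 0<|a 0<|a 0<|b)<|
 a (a 0<|a 1<|a 1<|a 1<|a 1<|a 0<|a 0<|a 0<|b)<|a (a 0<|a 0<|a 0<|a 1<|a 0<|a 0<|a 0<|a 0<|b)<|a (a 0<|a 0<|a 0<|a 0<|a 1<|a 1<|a 0<|a 0<|b)<|a (a 0<|a 0<|a 0<|a 0<|a 0<|a 0<|a 1<|a 1<|b)<|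
 a (a 0<|a 0<|a 0<|a 0<|a 0<|a 0<|a 0<|a (-1)<|b)<|b))<|
 c (d 3 (a (a (-1)<|a 0<|a (-1)<|a (-1)<|a 0<|a 0<|a 0<|a 0<|b)<|a (a 0<|a (-1)<|a 0<|a (-1)<|a 0<|a 0<|a 0<|a 0<|b)<|a (a 1<|a 0<|a 0<|a 0<|a 0<|a 0<|a 0<|a 0<|b)<|
 a (a 0<|a 1<|a 1<|a 1<|a 0<|a 0<|a 0<|a 0<|b)<|a (a 0<|a 0<|a 0<|a 1<|a 1<|a 0<|a 0<|a 0<|b)<|a (a 0<|a 0<|a 0<|a 0<|a 0<|a 1<|a 0<|a 0<|b)<|a (a 0<|a 0<|a 0<|a 0<|a 0<|a 0<|a 1<|a 1<|b)<|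
 a (a 0<|a 0<|a 0<|a 0<|a 0<|a 0<|a 0<|a (-1)<|b)<|b))<|
 c (d 1 (a (a (-1)<|a 0<|a (-1)<|a 0<|a 0<|a 0<|a 0<|a 0<|b)<|a (a 0<|a (-1)<|a 0<|a 0<|a 0<|a 0<|a 0<|a 0<|b)<|a (a 1<|a 0<|a 0<|a 0<|a 0<|a 0<|a 0<|a 0<|b)<|
 a (a 0<|a 1<|a 1<|a 1<|a 0<|a 0<|a 0<|a 0<|b)<|a (a 0<|a 0<|a 0<|a 0<|a 1<|a 0<|a 0<|a 0<|b)<|a (a 0<|a 0<|a 0<|a 0<|a 0<|a 1<|a 0<|a 0<|b)<|a (a 0<|a 0<|a 0<|a 0<|a 0<|a 0<|a 1<|a 1<|b)<|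
 a (a 0<|a 0<|a 0<|a 0<|a 0<|a 0<|a 0<|a (-1)<|b)<|b))<|
 c (d 2 (a (a (-1)<|a 0<|a (-1)<|a 0<|a 0<|a 0<|a 0<|a 0<|b)<|a (a 0<|a 1<|a 0<|a 0<|a 0<|a 0<|a 0<|a 0<|b)<|a (a 1<|a 0<|a 0<|a 0<|a 0<|a 0<|a 0<|a 0<|b)<|
 a (a 0<|a 0<|a 1<|a 1<|a 0<|a 0<|a 0<|a 0<|b)<|a (a 0<|a 0<|a 0<|a 0<|a 1<|a 0<|a 0<|a 0<|b)<|a (a 0<|a 0<|a 0<|a 0<|a 0<|a 1<|a 0<|a 0<|b)<|a (a 0<|a 0<|a 0<|a 0<|a 0<|a 0<|a 1<|a 1<|b)<|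
 a (a 0<|a 0<|a 0<|a 0<|a 0<|a 0<|a 0<|a (-1)<|b)<|b))<|
 c (d 0 (a (a (-1)<|a 0<|a 0<|a 0<|a 0<|a 0<|a 0<|a 0<|b)<|a (a 0<|a 1<|a 0<|a 0<|a 0<|a 0<|a 0<|a 0<|b)<|a (a 1<|a 0<|a 1<|a 0<|a 0<|a 0<|a 0<|a 0<|b)<|
 a (a 0<|a 0<|a 0<|a 1<|a 0<|a 0<|a 0<|a 0<|b)<|a (a 0<|a 0<|a 0<|a 0<|a 1<|a 0<|a 0<|a 0<|b)<|a (a 0<|a 0<|a 0<|a 0<|a 0<|a 1<|a 0<|a 0<|b)<|a (a 0<|a 0<|a 0<|a 0<|a 0<|a 0<|a 1<|a 1<|b)<|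
 a (a 0<|a 0<|a 0<|a 0<|a 0<|a 0<|a 0<|a (-1)<|b)<|b))<|
 c (d 7 (a (a 1<|a 0<|a 0<|a 0<|a 0<|a 0<|a 0<|a 0<|b)<|a (a 0<|a 1<|a 0<|a 0<|a 0<|a 0<|a 0<|a 0<|b)<|a (a 0<|a 0<|a 1<|a 0<|a 0<|a 0<|a 0<|a 0<|b)<|
 a (a 0<|a 0<|a 0<|a 1<|a 0<|a 0<|a 0<|a 0<|b)<|a (a 0<|a 0<|a 0<|a 0<|a 1<|a 0<|a 0<|a 0<|b)<|a (a 0<|a 0<|a 0<|a 0<|a 0<|a 1<|a 0<|a 0<|b)<|a (a 0<|a 0<|a 0<|a 0<|a 0<|a 0<|a 1<|a 1<|b)<|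
 a (a 0<|a 0<|a 0<|a 0<|a 0<|a 0<|a 0<|a (-1)<|b)<|b))<|e))

theorem ch1_2_9_ok : ChainOK Am ch1_2_9 :=
  H129.ChainF.ok H129.ChainF.i8 H129.ChainF.m8 (H129.ChainF.c8 <| H129.ChainF.c8 <| H129.ChainF.c8 <| H129.ChainF.c8 <| H129.ChainF.c8 <| H129.ChainF.c8 <| H129.ChainF.c8 <| H129.ChainF.c8 <| H129.ChainF.c8 <| H129.ChainF.nil) (by decide +kernel)

/-- coefficients of the eigenvector, order 1 -/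
def v1_2_9_at1 : Fin 1 → Fin 8 → ℤ := ![![-4, -6, -8, -12, -10, -8, -6, -3]]

theorem e1_2_9_at1 : EigOK (hd ch1_2_9) c1 v1_2_9_at1 ![-1, 0, 0, 0, 0, 0, 0, 1] :=
  H493.EigF.ok (H493.EigF.hT H493.EigF.t8) H493.EigF.r1 (H493.EigF.mc H493.EigF.r8 <| H493.EigF.m0) H493.EigF.r8 (by decide +kernel)

/-- coefficients of the eigenvector, order 2 -/
def v1_2_9_at2 : Fin 1 → Fin 8 → ℤ := ![![0, 0, 0, 0, 0, 0, 0, 1]]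

theorem e1_2_9_at2 : EigOK (hd ch1_2_9) c2 v1_2_9_at2 ![0, 0, 0, 0, 0, 0, 0, 1] :=
  H493.EigF.ok (H493.EigF.hT H493.EigF.t8) H493.EigF.r1 (H493.EigF.mc H493.EigF.r8 <| H493.EigF.m0) H493.EigF.r8 (by decide +kernel)

/-- coefficients of the eigenvector, order 9 -/
def v1_2_9_at9 : Fin 6 → Fin 8 → ℤ := (beta% delta% lq26f9d2ce62 fun a b _ _ _ =>
 (a (a 0<|a 0<|a 0<|a 0<|a (-1)<|a 0<|a 0<|a 0<|b)<|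
 a (a 0<|a (-1)<|a 0<|a (-1)<|a (-1)<|a (-1)<|a 0<|a 0<|b)<|a (a 0<|a 0<|a 0<|a (-1)<|a 0<|a 0<|a 0<|a 0<|b)<|a (a 0<|a 1<|a 0<|a 1<|a 0<|a 0<|a 0<|a 0<|b)<|a (a 1<|a 0<|a 1<|a 1<|a 0<|a 0<|a 0<|a 0<|b)<|
 a (a 0<|a 0<|a 1<|a 0<|a 0<|a 0<|a 0<|a 0<|b)<|b))

theorem e1_2_9_at9 : EigOK (hd ch1_2_9) c9 v1_2_9_at9 ![0, 0, 0, 0, -1, 1, 0, 0] :=
  H493.EigF.ok (H493.EigF.hT H493.EigF.t8) H493.EigF.r6 (H493.EigF.mc H493.EigF.r8 <| H493.EigF.mc H493.EigF.r8 <| H493.EigF.mc H493.EigF.r8 <| H493.EigF.mc H493.EigF.r8 <| H493.EigF.mc H493.EigF.r8 <| H493.EigF.mc H493.EigF.r8 <| H493.EigF.m0) H493.EigF.r8 (by decide +kernel)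

theorem rel_9_1 {F : Type u} [Field F] [Finite F] {r s : ℕ} (hr : r.Prime) (hs : s.Prime) (hrs : r ≠ s)
    (h1 : phiC c9 (Nat.card F) 1 r) (h2 : phiC c1 (Nat.card F) 1 s) :
    PG.Rel ↥(chevE8.group F) r s := by
  have := finW
  exact rel_of_eig hp CoxeterMatrix.E₈.toCoxeterSystem H129.TorusChar.invC_E8 one_ne_zero
    (chain_rep hp CoxeterMatrix.E₈.toCoxeterSystem hA ch1_2_9_ok) e1_2_9_at9 e1_2_9_at1 hr hs hrs h1.1 h2.1 h1.2 h2.2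

theorem rel_9_2 {F : Type u} [Field F] [Finite F] {r s : ℕ} (hr : r.Prime) (hs : s.Prime) (hrs : r ≠ s)
    (h1 : phiC c9 (Nat.card F) 1 r) (h2 : phiC c2 (Nat.card F) 1 s) :
    PG.Rel ↥(chevE8.group F) r s := by
  have := finW
  exact rel_of_eig hp CoxeterMatrix.E₈.toCoxeterSystem H129.TorusChar.invC_E8 one_ne_zero
    (chain_rep hp CoxeterMatrix.E₈.toCoxeterSystem hA ch1_2_9_ok) e1_2_9_at9 e1_2_9_at2 hr hs hrs h1.1 h2.1 h1.2 h2.2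

/-- partial products of an element with characteristic polynomial Φ1 Φ2 Φ6 Φ12 -/
def ch1_2_6_12 : List (Fin 8 × Mat 8) := (beta% delta% lq26f9d2ce62 fun a b c d e =>
 (c (d 1 (a (a (-1)<|a (-1)<|a (-1)<|a (-1)<|a (-1)<|a (-1)<|a (-1)<|a 0<|b)<|a (a 0<|a 1<|a 1<|a 1<|a 1<|a 0<|a 0<|a 0<|b)<|a (a 1<|a 1<|a 1<|a 2<|a 2<|a 1<|a 1<|a 0<|b)<|
 a (a 0<|a (-1)<|a (-1)<|a (-2)<|a (-2)<|a (-1)<|a (-1)<|a 0<|b)<|a (a 0<|a 0<|a 1<|a 1<|a 1<|a 1<|a 1<|a 0<|b)<|a (a 0<|a 1<|a 0<|a 1<|a 0<|a 0<|a 0<|a 0<|b)<|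
 a (a 0<|a 0<|a 0<|a 0<|a 1<|a 1<|a 0<|a 0<|b)<|a (a 0<|a 0<|a 0<|a 0<|a 0<|a 0<|a 1<|a 1<|b)<|b))<|
 c (d 4 (a (a (-1)<|a 0<|a (-1)<|a (-1)<|a (-1)<|a (-1)<|a (-1)<|a 0<|b)<|a (a 0<|a 0<|a 1<|a 1<|a 1<|a 0<|a 0<|a 0<|b)<|a (a 1<|a 1<|a 1<|a 2<|a 2<|a 1<|a 1<|a 0<|b)<|
 a (a 0<|a (-1)<|a (-1)<|a (-2)<|a (-2)<|a (-1)<|a (-1)<|a 0<|b)<|a (a 0<|a 1<|a 1<|a 1<|a 1<|a 1<|a 1<|a 0<|b)<|a (a 0<|a 0<|a 0<|a 1<|a 0<|a 0<|a 0<|a 0<|b)<|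
 a (a 0<|a 0<|a 0<|a 0<|a 1<|a 1<|a 0<|a 0<|b)<|a (a 0<|a 0<|a 0<|a 0<|a 0<|a 0<|a 1<|a 1<|b)<|b))<|
 c (d 3 (a (a (-1)<|a 0<|a (-1)<|a (-1)<|a (-1)<|a (-1)<|a (-1)<|a 0<|b)<|a (a 0<|a 0<|a 1<|a 1<|a 0<|a 0<|a 0<|a 0<|b)<|a (a 1<|a 1<|a 1<|a 2<|a 1<|a 1<|a 1<|a 0<|b)<|
 a (a 0<|a (-1)<|a (-1)<|a (-2)<|a (-1)<|a (-1)<|a (-1)<|a 0<|b)<|a (a 0<|a 1<|a 1<|a 1<|a 1<|a 1<|a 1<|a 0<|b)<|a (a 0<|a 0<|a 0<|a 1<|a 1<|a 0<|a 0<|a 0<|b)<|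
 a (a 0<|a 0<|a 0<|a 0<|a 0<|a 1<|a 0<|a 0<|b)<|a (a 0<|a 0<|a 0<|a 0<|a 0<|a 0<|a 1<|a 1<|b)<|b))<|
 c (d 6 (a (a (-1)<|a 0<|a (-1)<|a (-1)<|a (-1)<|a (-1)<|a (-1)<|a 0<|b)<|a (a 0<|a 0<|a 1<|a 0<|a 0<|a 0<|a 0<|a 0<|b)<|a (a 1<|a 1<|a 1<|a 1<|a 1<|a 1<|a 1<|a 0<|b)<|
 a (a 0<|a (-1)<|a (-1)<|a (-1)<|a (-1)<|a (-1)<|a (-1)<|a 0<|b)<|a (a 0<|a 1<|a 1<|a 2<|a 1<|a 1<|a 1<|a 0<|b)<|a (a 0<|a 0<|a 0<|a 0<|a 1<|a 0<|a 0<|a 0<|b)<|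
 a (a 0<|a 0<|a 0<|a 0<|a 0<|a 1<|a 0<|a 0<|b)<|a (a 0<|a 0<|a 0<|a 0<|a 0<|a 0<|a 1<|a 1<|b)<|b))<|
 c (d 5 (a (a (-1)<|a 0<|a (-1)<|a (-1)<|a (-1)<|a (-1)<|a 0<|a 0<|b)<|a (a 0<|a 0<|a 1<|a 0<|a 0<|a 0<|a 0<|a 0<|b)<|a (a 1<|a 1<|a 1<|a 1<|a 1<|a 1<|a 0<|a 0<|b)<|
 a (a 0<|a (-1)<|a (-1)<|a (-1)<|a (-1)<|a (-1)<|a 0<|a 0<|b)<|a (a 0<|a 1<|a 1<|a 2<|a 1<|a 1<|a 0<|a 0<|b)<|a (a 0<|a 0<|a 0<|a 0<|a 1<|a 0<|a 0<|a 0<|b)<|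
 a (a 0<|a 0<|a 0<|a 0<|a 0<|a 1<|a 1<|a 0<|b)<|a (a 0<|a 0<|a 0<|a 0<|a 0<|a 0<|a 0<|a 1<|b)<|b))<|
 c (d 4 (a (a (-1)<|a 0<|a (-1)<|a (-1)<|a (-1)<|a 0<|a 0<|a 0<|b)<|a (a 0<|a 0<|a 1<|a 0<|a 0<|a 0<|a 0<|a 0<|b)<|a (a 1<|a 1<|a 1<|a 1<|a 1<|a 0<|a 0<|a 0<|b)<|
 a (a 0<|a (-1)<|a (-1)<|a (-1)<|a (-1)<|a 0<|a 0<|a 0<|b)<|a (a 0<|a 1<|a 1<|a 2<|a 1<|a 0<|a 0<|a 0<|b)<|a (a 0<|a 0<|a 0<|a 0<|a 1<|a 1<|a 0<|a 0<|b)<|a (a 0<|a 0<|a 0<|a 0<|a 0<|a 0<|a 1<|a 0<|b)<|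
 a (a 0<|a 0<|a 0<|a 0<|a 0<|a 0<|a 0<|a 1<|b)<|b))<|
 c (d 3 (a (a (-1)<|a 0<|a (-1)<|a (-1)<|a 0<|a 0<|a 0<|a 0<|b)<|a (a 0<|a 0<|a 1<|a 0<|a 0<|a 0<|a 0<|a 0<|b)<|a (a 1<|a 1<|a 1<|a 1<|a 0<|a 0<|a 0<|a 0<|b)<|
 a (a 0<|a (-1)<|a (-1)<|a (-1)<|a 0<|a 0<|a 0<|a 0<|b)<|a (a 0<|a 1<|a 1<|a 2<|a 1<|a 0<|a 0<|a 0<|b)<|a (a 0<|a 0<|a 0<|a 0<|a 0<|a 1<|a 0<|a 0<|b)<|a (a 0<|a 0<|a 0<|a 0<|a 0<|a 0<|a 1<|a 0<|b)<|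
 a (a 0<|a 0<|a 0<|a 0<|a 0<|a 0<|a 0<|a 1<|b)<|b))<|
 c (d 1 (a (a (-1)<|a 0<|a (-1)<|a 0<|a 0<|a 0<|a 0<|a 0<|b)<|a (a 0<|a 0<|a 1<|a 1<|a 0<|a 0<|a 0<|a 0<|b)<|a (a 1<|a 1<|a 1<|a 1<|a 0<|a 0<|a 0<|a 0<|b)<|
 a (a 0<|a (-1)<|a (-1)<|a (-1)<|a 0<|a 0<|a 0<|a 0<|b)<|a (a 0<|a 1<|a 1<|a 1<|a 1<|a 0<|a 0<|a 0<|b)<|a (a 0<|a 0<|a 0<|a 0<|a 0<|a 1<|a 0<|a 0<|b)<|a (a 0<|a 0<|a 0<|a 0<|a 0<|a 0<|a 1<|a 0<|b)<|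
 a (a 0<|a 0<|a 0<|a 0<|a 0<|a 0<|a 0<|a 1<|b)<|b))<|
 c (d 2 (a (a (-1)<|a 0<|a (-1)<|a 0<|a 0<|a 0<|a 0<|a 0<|b)<|a (a 0<|a 1<|a 1<|a 1<|a 0<|a 0<|a 0<|a 0<|b)<|a (a 1<|a 0<|a 1<|a 1<|a 0<|a 0<|a 0<|a 0<|b)<|
 a (a 0<|a 0<|a (-1)<|a (-1)<|a 0<|a 0<|a 0<|a 0<|b)<|a (a 0<|a 0<|a 1<|a 1<|a 1<|a 0<|a 0<|a 0<|b)<|a (a 0<|a 0<|a 0<|a 0<|a 0<|a 1<|a 0<|a 0<|b)<|a (a 0<|a 0<|a 0<|a 0<|a 0<|a 0<|a 1<|a 0<|b)<|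
 a (a 0<|a 0<|a 0<|a 0<|a 0<|a 0<|a 0<|a 1<|b)<|b))<|
 c (d 0 (a (a (-1)<|a 0<|a 0<|a 0<|a 0<|a 0<|a 0<|a 0<|b)<|a (a 0<|a 1<|a 0<|a 1<|a 0<|a 0<|a 0<|a 0<|b)<|a (a 1<|a 0<|a 1<|a 1<|a 0<|a 0<|a 0<|a 0<|b)<|
 a (a 0<|a 0<|a 0<|a (-1)<|a 0<|a 0<|a 0<|a 0<|b)<|a (a 0<|a 0<|a 0<|a 1<|a 1<|a 0<|a 0<|a 0<|b)<|a (a 0<|a 0<|a 0<|a 0<|a 0<|a 1<|a 0<|a 0<|b)<|a (a 0<|a 0<|a 0<|a 0<|a 0<|a 0<|a 1<|a 0<|b)<|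
 a (a 0<|a 0<|a 0<|a 0<|a 0<|a 0<|a 0<|a 1<|b)<|b))<|
 c (d 3 (a (a 1<|a 0<|a 0<|a 0<|a 0<|a 0<|a 0<|a 0<|b)<|a (a 0<|a 1<|a 0<|a 1<|a 0<|a 0<|a 0<|a 0<|b)<|a (a 0<|a 0<|a 1<|a 1<|a 0<|a 0<|a 0<|a 0<|b)<|
 a (a 0<|a 0<|a 0<|a (-1)<|a 0<|a 0<|a 0<|a 0<|b)<|a (a 0<|a 0<|a 0<|a 1<|a 1<|a 0<|a 0<|a 0<|b)<|a (a 0<|a 0<|a 0<|a 0<|a 0<|a 1<|a 0<|a 0<|b)<|a (a 0<|a 0<|a 0<|a 0<|a 0<|a 0<|a 1<|a 0<|b)<|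
 a (a 0<|a 0<|a 0<|a 0<|a 0<|a 0<|a 0<|a 1<|b)<|b))<|e))

theorem ch1_2_6_12_ok : ChainOK Am ch1_2_6_12 :=
  H129.ChainF.ok H129.ChainF.i8 H129.ChainF.m8 (H129.ChainF.c8 <| H129.ChainF.c8 <| H129.ChainF.c8 <| H129.ChainF.c8 <| H129.ChainF.c8 <| H129.ChainF.c8 <| H129.ChainF.c8 <| H129.ChainF.c8 <| H129.ChainF.c8 <| H129.ChainF.c8 <| H129.ChainF.c8 <| H129.ChainF.nil) (by decide +kernel)

/-- coefficients of the eigenvector, order 6 -/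
def v1_2_6_12_at6 : Fin 2 → Fin 8 → ℤ := (beta% delta% lq26f9d2ce62 fun a b _ _ _ =>
 (a (a 0<|a (-1)<|a 0<|a (-1)<|a 0<|a (-1)<|a 0<|a 0<|b)<|
 a (a 0<|a 1<|a 0<|a 0<|a (-1)<|a (-1)<|a (-1)<|a 0<|b)<|b))

theorem e1_2_6_12_at6 : EigOK (hd ch1_2_6_12) c6 v1_2_6_12_at6 ![0, 0, 0, -1, 0, 0, 0, 0] :=
  H493.EigF.ok (H493.EigF.hT H493.EigF.t8) H493.EigF.r2 (H493.EigF.mc H493.EigF.r8 <| H493.EigF.mc H493.EigF.r8 <| H493.EigF.m0) H493.EigF.r8 (by decide +kernel)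

/-- coefficients of the eigenvector, order 12 -/
def v1_2_6_12_at12 : Fin 4 → Fin 8 → ℤ := (beta% delta% lq26f9d2ce62 fun a b _ _ _ =>
 (a (a 0<|a 0<|a 1<|a 0<|a (-1)<|a 0<|a 1<|a 0<|b)<|
 a (a (-1)<|a 0<|a (-1)<|a 0<|a 1<|a 0<|a (-1)<|a 0<|b)<|a (a 1<|a 0<|a (-1)<|a (-1)<|a 0<|a 0<|a 0<|a 0<|b)<|a (a (-1)<|a (-1)<|a 0<|a (-1)<|a (-2)<|a (-1)<|a 0<|a 0<|b)<|b))

theorem e1_2_6_12_at12 : EigOK (hd ch1_2_6_12) c12 v1_2_6_12_at12 ![-1, 1, 0, -1, 0, 1, 1, 0] :=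
  H493.EigF.ok (H493.EigF.hT H493.EigF.t8) H493.EigF.r4 (H493.EigF.mc H493.EigF.r8 <| H493.EigF.mc H493.EigF.r8 <| H493.EigF.mc H493.EigF.r8 <| H493.EigF.mc H493.EigF.r8 <| H493.EigF.m0) H493.EigF.r8 (by decide +kernel)

theorem rel_12_6 {F : Type u} [Field F] [Finite F] {r s : ℕ} (hr : r.Prime) (hs : s.Prime) (hrs : r ≠ s)
    (h1 : phiC c12 (Nat.card F) 1 r) (h2 : phiC c6 (Nat.card F) 1 s) :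
    PG.Rel ↥(chevE8.group F) r s := by
  have := finW
  exact rel_of_eig hp CoxeterMatrix.E₈.toCoxeterSystem H129.TorusChar.invC_E8 one_ne_zero
    (chain_rep hp CoxeterMatrix.E₈.toCoxeterSystem hA ch1_2_6_12_ok) e1_2_6_12_at12 e1_2_6_12_at6 hr hs hrs h1.1 h2.1 h1.2 h2.2

/-- partial products of an element with characteristic polynomial Φ1 Φ2 Φ6 Φ8 -/
def ch1_2_6_8 : List (Fin 8 × Mat 8) := (beta% delta% lq26f9d2ce62 fun a b c d e =>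
 (c (d 4 (a (a 1<|a 0<|a 1<|a 1<|a 1<|a 1<|a 0<|a 0<|b)<|a (a 0<|a (-1)<|a (-1)<|a (-2)<|a (-2)<|a (-2)<|a (-1)<|a 0<|b)<|a (a 0<|a 0<|a 0<|a 0<|a 0<|a 0<|a 1<|a 0<|b)<|
 a (a 0<|a 1<|a 0<|a 1<|a 1<|a 1<|a 0<|a 0<|b)<|a (a 0<|a 0<|a 1<|a 0<|a 0<|a 0<|a 0<|a 0<|b)<|a (a 0<|a 0<|a 0<|a 1<|a 1<|a 0<|a 0<|a 0<|b)<|a (a 0<|a 0<|a 0<|a 0<|a 0<|a 1<|a 1<|a 1<|b)<|
 a (a 0<|a 0<|a 0<|a 0<|a (-1)<|a (-1)<|a (-1)<|a (-1)<|b)<|b))<|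
 c (d 5 (a (a 1<|a 0<|a 1<|a 1<|a 1<|a 1<|a 0<|a 0<|b)<|a (a 0<|a (-1)<|a (-1)<|a (-2)<|a (-2)<|a (-2)<|a (-1)<|a 0<|b)<|a (a 0<|a 0<|a 0<|a 0<|a 0<|a 0<|a 1<|a 0<|b)<|
 a (a 0<|a 1<|a 0<|a 1<|a 1<|a 1<|a 0<|a 0<|b)<|a (a 0<|a 0<|a 1<|a 0<|a 0<|a 0<|a 0<|a 0<|b)<|a (a 0<|a 0<|a 0<|a 1<|a 0<|a 0<|a 0<|a 0<|b)<|a (a 0<|a 0<|a 0<|a 0<|a 1<|a 1<|a 1<|a 1<|b)<|
 a (a 0<|a 0<|a 0<|a 0<|a 0<|a (-1)<|a (-1)<|a (-1)<|b)<|b))<|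
 c (d 4 (a (a 1<|a 0<|a 1<|a 1<|a 1<|a 0<|a 0<|a 0<|b)<|a (a 0<|a (-1)<|a (-1)<|a (-2)<|a (-2)<|a (-1)<|a (-1)<|a 0<|b)<|a (a 0<|a 0<|a 0<|a 0<|a 0<|a 1<|a 1<|a 0<|b)<|
 a (a 0<|a 1<|a 0<|a 1<|a 1<|a 0<|a 0<|a 0<|b)<|a (a 0<|a 0<|a 1<|a 0<|a 0<|a 0<|a 0<|a 0<|b)<|a (a 0<|a 0<|a 0<|a 1<|a 0<|a 0<|a 0<|a 0<|b)<|a (a 0<|a 0<|a 0<|a 0<|a 1<|a 1<|a 1<|a 1<|b)<|
 a (a 0<|a 0<|a 0<|a 0<|a 0<|a 0<|a (-1)<|a (-1)<|b)<|b))<|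
 c (d 3 (a (a 1<|a 0<|a 1<|a 1<|a 0<|a 0<|a 0<|a 0<|b)<|a (a 0<|a (-1)<|a (-1)<|a (-2)<|a (-1)<|a (-1)<|a (-1)<|a 0<|b)<|a (a 0<|a 0<|a 0<|a 0<|a 1<|a 1<|a 1<|a 0<|b)<|
 a (a 0<|a 1<|a 0<|a 1<|a 0<|a 0<|a 0<|a 0<|b)<|a (a 0<|a 0<|a 1<|a 0<|a 0<|a 0<|a 0<|a 0<|b)<|a (a 0<|a 0<|a 0<|a 1<|a 1<|a 0<|a 0<|a 0<|b)<|a (a 0<|a 0<|a 0<|a 0<|a 0<|a 1<|a 1<|a 1<|b)<|
 a (a 0<|a 0<|a 0<|a 0<|a 0<|a 0<|a (-1)<|a (-1)<|b)<|b))<|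
 c (d 2 (a (a 1<|a 0<|a 1<|a 0<|a 0<|a 0<|a 0<|a 0<|b)<|a (a 0<|a (-1)<|a (-1)<|a (-1)<|a (-1)<|a (-1)<|a (-1)<|a 0<|b)<|a (a 0<|a 0<|a 0<|a 1<|a 1<|a 1<|a 1<|a 0<|b)<|
 a (a 0<|a 1<|a 0<|a 0<|a 0<|a 0<|a 0<|a 0<|b)<|a (a 0<|a 0<|a 1<|a 1<|a 0<|a 0<|a 0<|a 0<|b)<|a (a 0<|a 0<|a 0<|a 0<|a 1<|a 0<|a 0<|a 0<|b)<|a (a 0<|a 0<|a 0<|a 0<|a 0<|a 1<|a 1<|a 1<|b)<|
 a (a 0<|a 0<|a 0<|a 0<|a 0<|a 0<|a (-1)<|a (-1)<|b)<|b))<|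
 c (d 6 (a (a 1<|a 0<|a 0<|a 0<|a 0<|a 0<|a 0<|a 0<|b)<|a (a 0<|a (-1)<|a 0<|a (-1)<|a (-1)<|a (-1)<|a (-1)<|a 0<|b)<|a (a 0<|a 0<|a 1<|a 1<|a 1<|a 1<|a 1<|a 0<|b)<|
 a (a 0<|a 1<|a 0<|a 0<|a 0<|a 0<|a 0<|a 0<|b)<|a (a 0<|a 0<|a 0<|a 1<|a 0<|a 0<|a 0<|a 0<|b)<|a (a 0<|a 0<|a 0<|a 0<|a 1<|a 0<|a 0<|a 0<|b)<|a (a 0<|a 0<|a 0<|a 0<|a 0<|a 1<|a 1<|a 1<|b)<|
 a (a 0<|a 0<|a 0<|a 0<|a 0<|a 0<|a (-1)<|a (-1)<|b)<|b))<|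
 c (d 5 (a (a 1<|a 0<|a 0<|a 0<|a 0<|a 0<|a 0<|a 0<|b)<|a (a 0<|a (-1)<|a 0<|a (-1)<|a (-1)<|a (-1)<|a 0<|a 0<|b)<|a (a 0<|a 0<|a 1<|a 1<|a 1<|a 1<|a 0<|a 0<|b)<|
 a (a 0<|a 1<|a 0<|a 0<|a 0<|a 0<|a 0<|a 0<|b)<|a (a 0<|a 0<|a 0<|a 1<|a 0<|a 0<|a 0<|a 0<|b)<|a (a 0<|a 0<|a 0<|a 0<|a 1<|a 0<|a 0<|a 0<|b)<|a (a 0<|a 0<|a 0<|a 0<|a 0<|a 1<|a 1<|a 1<|b)<|
 a (a 0<|a 0<|a 0<|a 0<|a 0<|a 0<|a 0<|a (-1)<|b)<|b))<|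
 c (d 4 (a (a 1<|a 0<|a 0<|a 0<|a 0<|a 0<|a 0<|a 0<|b)<|a (a 0<|a (-1)<|a 0<|a (-1)<|a (-1)<|a 0<|a 0<|a 0<|b)<|a (a 0<|a 0<|a 1<|a 1<|a 1<|a 0<|a 0<|a 0<|b)<|
 a (a 0<|a 1<|a 0<|a 0<|a 0<|a 0<|a 0<|a 0<|b)<|a (a 0<|a 0<|a 0<|a 1<|a 0<|a 0<|a 0<|a 0<|b)<|a (a 0<|a 0<|a 0<|a 0<|a 1<|a 1<|a 0<|a 0<|b)<|a (a 0<|a 0<|a 0<|a 0<|a 0<|a 0<|a 1<|a 1<|b)<|
 a (a 0<|a 0<|a 0<|a 0<|a 0<|a 0<|a 0<|a (-1)<|b)<|b))<|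
 c (d 3 (a (a 1<|a 0<|a 0<|a 0<|a 0<|a 0<|a 0<|a 0<|b)<|a (a 0<|a (-1)<|a 0<|a (-1)<|a 0<|a 0<|a 0<|a 0<|b)<|a (a 0<|a 0<|a 1<|a 1<|a 0<|a 0<|a 0<|a 0<|b)<|
 a (a 0<|a 1<|a 0<|a 0<|a 0<|a 0<|a 0<|a 0<|b)<|a (a 0<|a 0<|a 0<|a 1<|a 1<|a 0<|a 0<|a 0<|b)<|a (a 0<|a 0<|a 0<|a 0<|a 0<|a 1<|a 0<|a 0<|b)<|a (a 0<|a 0<|a 0<|a 0<|a 0<|a 0<|a 1<|a 1<|b)<|
 a (a 0<|a 0<|a 0<|a 0<|a 0<|a 0<|a 0<|a (-1)<|b)<|b))<|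
 c (d 1 (a (a 1<|a 0<|a 0<|a 0<|a 0<|a 0<|a 0<|a 0<|b)<|a (a 0<|a (-1)<|a 0<|a 0<|a 0<|a 0<|a 0<|a 0<|b)<|a (a 0<|a 0<|a 1<|a 0<|a 0<|a 0<|a 0<|a 0<|b)<|
 a (a 0<|a 1<|a 0<|a 1<|a 0<|a 0<|a 0<|a 0<|b)<|a (a 0<|a 0<|a 0<|a 0<|a 1<|a 0<|a 0<|a 0<|b)<|a (a 0<|a 0<|a 0<|a 0<|a 0<|a 1<|a 0<|a 0<|b)<|a (a 0<|a 0<|a 0<|a 0<|a 0<|a 0<|a 1<|a 1<|b)<|
 a (a 0<|a 0<|a 0<|a 0<|a 0<|a 0<|a 0<|a (-1)<|b)<|b))<|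
 c (d 7 (a (a 1<|a 0<|a 0<|a 0<|a 0<|a 0<|a 0<|a 0<|b)<|a (a 0<|a 1<|a 0<|a 0<|a 0<|a 0<|a 0<|a 0<|b)<|a (a 0<|a 0<|a 1<|a 0<|a 0<|a 0<|a 0<|a 0<|b)<|
 a (a 0<|a 0<|a 0<|a 1<|a 0<|a 0<|a 0<|a 0<|b)<|a (a 0<|a 0<|a 0<|a 0<|a 1<|a 0<|a 0<|a 0<|b)<|a (a 0<|a 0<|a 0<|a 0<|a 0<|a 1<|a 0<|a 0<|b)<|a (a 0<|a 0<|a 0<|a 0<|a 0<|a 0<|a 1<|a 1<|b)<|
 a (a 0<|a 0<|a 0<|a 0<|a 0<|a 0<|a 0<|a (-1)<|b)<|b))<|e))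

theorem ch1_2_6_8_ok : ChainOK Am ch1_2_6_8 :=
  H129.ChainF.ok H129.ChainF.i8 H129.ChainF.m8 (H129.ChainF.c8 <| H129.ChainF.c8 <| H129.ChainF.c8 <| H129.ChainF.c8 <| H129.ChainF.c8 <| H129.ChainF.c8 <| H129.ChainF.c8 <| H129.ChainF.c8 <| H129.ChainF.c8 <| H129.ChainF.c8 <| H129.ChainF.c8 <| H129.ChainF.nil) (by decide +kernel)

/-- coefficients of the eigenvector, order 6 -/
def v1_2_6_8_at6 : Fin 2 → Fin 8 → ℤ := (beta% delta% lq26f9d2ce62 fun a b _ _ _ =>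
 (a (a 0<|a (-1)<|a (-1)<|a (-1)<|a (-1)<|a 0<|a 0<|a 0<|b)<|
 a (a 0<|a 0<|a 0<|a (-1)<|a (-1)<|a (-1)<|a 0<|a 0<|b)<|b))

theorem e1_2_6_8_at6 : EigOK (hd ch1_2_6_8) c6 v1_2_6_8_at6 ![0, -1, 0, 0, 0, 0, 0, 0] :=
  H493.EigF.ok (H493.EigF.hT H493.EigF.t8) H493.EigF.r2 (H493.EigF.mc H493.EigF.r8 <| H493.EigF.mc H493.EigF.r8 <| H493.EigF.m0) H493.EigF.r8 (by decide +kernel)

/-- coefficients of the eigenvector, order 8 -/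
def v1_2_6_8_at8 : Fin 4 → Fin 8 → ℤ := (beta% delta% lq26f9d2ce62 fun a b _ _ _ =>
 (a (a 0<|a (-1)<|a 0<|a (-1)<|a (-1)<|a (-1)<|a (-1)<|a 0<|b)<|
 a (a 0<|a 0<|a (-1)<|a (-1)<|a 0<|a 0<|a 0<|a 0<|b)<|a (a 0<|a 0<|a 0<|a 0<|a (-1)<|a (-1)<|a (-1)<|a (-1)<|b)<|a (a 0<|a 0<|a 0<|a 0<|a 0<|a 0<|a 0<|a 1<|b)<|b))

theorem e1_2_6_8_at8 : EigOK (hd ch1_2_6_8) c8 v1_2_6_8_at8 ![0, -1, 0, 0, 0, 0, 0, 0] :=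
  H493.EigF.ok (H493.EigF.hT H493.EigF.t8) H493.EigF.r4 (H493.EigF.mc H493.EigF.r8 <| H493.EigF.mc H493.EigF.r8 <| H493.EigF.mc H493.EigF.r8 <| H493.EigF.mc H493.EigF.r8 <| H493.EigF.m0) H493.EigF.r8 (by decide +kernel)

theorem rel_8_6 {F : Type u} [Field F] [Finite F] {r s : ℕ} (hr : r.Prime) (hs : s.Prime) (hrs : r ≠ s)
    (h1 : phiC c8 (Nat.card F) 1 r) (h2 : phiC c6 (Nat.card F) 1 s) :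
    PG.Rel ↥(chevE8.group F) r s := by
  have := finW
  exact rel_of_eig hp CoxeterMatrix.E₈.toCoxeterSystem H129.TorusChar.invC_E8 one_ne_zero
    (chain_rep hp CoxeterMatrix.E₈.toCoxeterSystem hA ch1_2_6_8_ok) e1_2_6_8_at8 e1_2_6_8_at6 hr hs hrs h1.1 h2.1 h1.2 h2.2

/-- partial products of an element with characteristic polynomial Φ1 Φ2 Φ6 Φ10 -/
def ch1_2_6_10 : List (Fin 8 × Mat 8) := (beta% delta% lq26f9d2ce62 fun a b c d e =>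
 (c (d 1 (a (a 0<|a 0<|a 0<|a 1<|a 1<|a 1<|a 1<|a 0<|b)<|a (a 1<|a 0<|a 0<|a 0<|a 0<|a 0<|a 0<|a 0<|b)<|a (a 0<|a 0<|a 0<|a (-1)<|a 0<|a 0<|a 0<|a 0<|b)<|
 a (a 0<|a 0<|a 1<|a 1<|a 0<|a 0<|a 0<|a 0<|b)<|a (a (-1)<|a (-1)<|a (-2)<|a (-2)<|a (-1)<|a (-1)<|a (-1)<|a 0<|b)<|a (a 1<|a 2<|a 2<|a 3<|a 2<|a 1<|a 1<|a 0<|b)<|
 a (a 0<|a 0<|a 0<|a 0<|a 0<|a 1<|a 0<|a 0<|b)<|a (a 0<|a 0<|a 0<|a 0<|a 0<|a 0<|a 1<|a 1<|b)<|b))<|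
 c (d 3 (a (a 0<|a 1<|a 0<|a 1<|a 1<|a 1<|a 1<|a 0<|b)<|a (a 1<|a 0<|a 0<|a 0<|a 0<|a 0<|a 0<|a 0<|b)<|a (a 0<|a (-1)<|a 0<|a (-1)<|a 0<|a 0<|a 0<|a 0<|b)<|
 a (a 0<|a 1<|a 1<|a 1<|a 0<|a 0<|a 0<|a 0<|b)<|a (a (-1)<|a (-1)<|a (-2)<|a (-2)<|a (-1)<|a (-1)<|a (-1)<|a 0<|b)<|a (a 1<|a 1<|a 2<|a 3<|a 2<|a 1<|a 1<|a 0<|b)<|
 a (a 0<|a 0<|a 0<|a 0<|a 0<|a 1<|a 0<|a 0<|b)<|a (a 0<|a 0<|a 0<|a 0<|a 0<|a 0<|a 1<|a 1<|b)<|b))<|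
 c (d 1 (a (a 0<|a 1<|a 0<|a 1<|a 1<|a 1<|a 1<|a 0<|b)<|a (a 1<|a 0<|a 0<|a 0<|a 0<|a 0<|a 0<|a 0<|b)<|a (a 0<|a (-1)<|a 0<|a 0<|a 0<|a 0<|a 0<|a 0<|b)<|
 a (a 0<|a 1<|a 1<|a 1<|a 0<|a 0<|a 0<|a 0<|b)<|a (a (-1)<|a (-1)<|a (-2)<|a (-2)<|a (-1)<|a (-1)<|a (-1)<|a 0<|b)<|a (a 1<|a 1<|a 2<|a 2<|a 2<|a 1<|a 1<|a 0<|b)<|
 a (a 0<|a 0<|a 0<|a 0<|a 0<|a 1<|a 0<|a 0<|b)<|a (a 0<|a 0<|a 0<|a 0<|a 0<|a 0<|a 1<|a 1<|b)<|b))<|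
 c (d 2 (a (a 0<|a 0<|a 0<|a 1<|a 1<|a 1<|a 1<|a 0<|b)<|a (a 1<|a 0<|a 0<|a 0<|a 0<|a 0<|a 0<|a 0<|b)<|a (a 0<|a 1<|a 0<|a 0<|a 0<|a 0<|a 0<|a 0<|b)<|
 a (a 0<|a 0<|a 1<|a 1<|a 0<|a 0<|a 0<|a 0<|b)<|a (a (-1)<|a (-1)<|a (-2)<|a (-2)<|a (-1)<|a (-1)<|a (-1)<|a 0<|b)<|a (a 1<|a 1<|a 2<|a 2<|a 2<|a 1<|a 1<|a 0<|b)<|
 a (a 0<|a 0<|a 0<|a 0<|a 0<|a 1<|a 0<|a 0<|b)<|a (a 0<|a 0<|a 0<|a 0<|a 0<|a 0<|a 1<|a 1<|b)<|b))<|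
 c (d 0 (a (a 0<|a 0<|a 1<|a 1<|a 1<|a 1<|a 1<|a 0<|b)<|a (a 1<|a 0<|a 1<|a 0<|a 0<|a 0<|a 0<|a 0<|b)<|a (a 0<|a 1<|a 0<|a 0<|a 0<|a 0<|a 0<|a 0<|b)<|
 a (a 0<|a 0<|a 0<|a 1<|a 0<|a 0<|a 0<|a 0<|b)<|a (a (-1)<|a (-1)<|a (-1)<|a (-2)<|a (-1)<|a (-1)<|a (-1)<|a 0<|b)<|a (a 1<|a 1<|a 1<|a 2<|a 2<|a 1<|a 1<|a 0<|b)<|
 a (a 0<|a 0<|a 0<|a 0<|a 0<|a 1<|a 0<|a 0<|b)<|a (a 0<|a 0<|a 0<|a 0<|a 0<|a 0<|a 1<|a 1<|b)<|b))<|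
 c (d 6 (a (a 1<|a 0<|a 1<|a 1<|a 1<|a 1<|a 1<|a 0<|b)<|a (a 0<|a 0<|a 1<|a 0<|a 0<|a 0<|a 0<|a 0<|b)<|a (a 0<|a 1<|a 0<|a 0<|a 0<|a 0<|a 0<|a 0<|b)<|
 a (a 0<|a 0<|a 0<|a 1<|a 0<|a 0<|a 0<|a 0<|b)<|a (a 0<|a (-1)<|a (-1)<|a (-2)<|a (-1)<|a (-1)<|a (-1)<|a 0<|b)<|a (a 0<|a 1<|a 1<|a 2<|a 2<|a 1<|a 1<|a 0<|b)<|
 a (a 0<|a 0<|a 0<|a 0<|a 0<|a 1<|a 0<|a 0<|b)<|a (a 0<|a 0<|a 0<|a 0<|a 0<|a 0<|a 1<|a 1<|b)<|b))<|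
 c (d 5 (a (a 1<|a 0<|a 1<|a 1<|a 1<|a 1<|a 0<|a 0<|b)<|a (a 0<|a 0<|a 1<|a 0<|a 0<|a 0<|a 0<|a 0<|b)<|a (a 0<|a 1<|a 0<|a 0<|a 0<|a 0<|a 0<|a 0<|b)<|
 a (a 0<|a 0<|a 0<|a 1<|a 0<|a 0<|a 0<|a 0<|b)<|a (a 0<|a (-1)<|a (-1)<|a (-2)<|a (-1)<|a (-1)<|a 0<|a 0<|b)<|a (a 0<|a 1<|a 1<|a 2<|a 2<|a 1<|a 0<|a 0<|b)<|
 a (a 0<|a 0<|a 0<|a 0<|a 0<|a 1<|a 1<|a 0<|b)<|a (a 0<|a 0<|a 0<|a 0<|a 0<|a 0<|a 0<|a 1<|b)<|b))<|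
 c (d 4 (a (a 1<|a 0<|a 1<|a 1<|a 1<|a 0<|a 0<|a 0<|b)<|a (a 0<|a 0<|a 1<|a 0<|a 0<|a 0<|a 0<|a 0<|b)<|a (a 0<|a 1<|a 0<|a 0<|a 0<|a 0<|a 0<|a 0<|b)<|
 a (a 0<|a 0<|a 0<|a 1<|a 0<|a 0<|a 0<|a 0<|b)<|a (a 0<|a (-1)<|a (-1)<|a (-2)<|a (-1)<|a 0<|a 0<|a 0<|b)<|a (a 0<|a 1<|a 1<|a 2<|a 2<|a 1<|a 0<|a 0<|b)<|a (a 0<|a 0<|a 0<|a 0<|a 0<|a 0<|a 1<|a 0<|b)<|
 a (a 0<|a 0<|a 0<|a 0<|a 0<|a 0<|a 0<|a 1<|b)<|b))<|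
 c (d 3 (a (a 1<|a 0<|a 1<|a 1<|a 0<|a 0<|a 0<|a 0<|b)<|a (a 0<|a 0<|a 1<|a 0<|a 0<|a 0<|a 0<|a 0<|b)<|a (a 0<|a 1<|a 0<|a 0<|a 0<|a 0<|a 0<|a 0<|b)<|
 a (a 0<|a 0<|a 0<|a 1<|a 1<|a 0<|a 0<|a 0<|b)<|a (a 0<|a (-1)<|a (-1)<|a (-2)<|a (-1)<|a 0<|a 0<|a 0<|b)<|a (a 0<|a 1<|a 1<|a 2<|a 1<|a 1<|a 0<|a 0<|b)<|a (a 0<|a 0<|a 0<|a 0<|a 0<|a 0<|a 1<|a 0<|b)<|
 a (a 0<|a 0<|a 0<|a 0<|a 0<|a 0<|a 0<|a 1<|b)<|b))<|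
 c (d 1 (a (a 1<|a 0<|a 1<|a 0<|a 0<|a 0<|a 0<|a 0<|b)<|a (a 0<|a 0<|a 1<|a 1<|a 0<|a 0<|a 0<|a 0<|b)<|a (a 0<|a 1<|a 0<|a 1<|a 0<|a 0<|a 0<|a 0<|b)<|
 a (a 0<|a 0<|a 0<|a 0<|a 1<|a 0<|a 0<|a 0<|b)<|a (a 0<|a (-1)<|a (-1)<|a (-1)<|a (-1)<|a 0<|a 0<|a 0<|b)<|a (a 0<|a 1<|a 1<|a 1<|a 1<|a 1<|a 0<|a 0<|b)<|a (a 0<|a 0<|a 0<|a 0<|a 0<|a 0<|a 1<|a 0<|b)<|
 a (a 0<|a 0<|a 0<|a 0<|a 0<|a 0<|a 0<|a 1<|b)<|b))<|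
 c (d 2 (a (a 1<|a 0<|a 1<|a 0<|a 0<|a 0<|a 0<|a 0<|b)<|a (a 0<|a 1<|a 1<|a 1<|a 0<|a 0<|a 0<|a 0<|b)<|a (a 0<|a 0<|a 0<|a 1<|a 0<|a 0<|a 0<|a 0<|b)<|
 a (a 0<|a 0<|a 0<|a 0<|a 1<|a 0<|a 0<|a 0<|b)<|a (a 0<|a 0<|a (-1)<|a (-1)<|a (-1)<|a 0<|a 0<|a 0<|b)<|a (a 0<|a 0<|a 1<|a 1<|a 1<|a 1<|a 0<|a 0<|b)<|a (a 0<|a 0<|a 0<|a 0<|a 0<|a 0<|a 1<|a 0<|b)<|
 a (a 0<|a 0<|a 0<|a 0<|a 0<|a 0<|a 0<|a 1<|b)<|b))<|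
 c (d 3 (a (a 1<|a 0<|a 0<|a 0<|a 0<|a 0<|a 0<|a 0<|b)<|a (a 0<|a 1<|a 0<|a 1<|a 0<|a 0<|a 0<|a 0<|b)<|a (a 0<|a 0<|a 1<|a 1<|a 0<|a 0<|a 0<|a 0<|b)<|
 a (a 0<|a 0<|a 0<|a 0<|a 1<|a 0<|a 0<|a 0<|b)<|a (a 0<|a 0<|a 0<|a (-1)<|a (-1)<|a 0<|a 0<|a 0<|b)<|a (a 0<|a 0<|a 0<|a 1<|a 1<|a 1<|a 0<|a 0<|b)<|a (a 0<|a 0<|a 0<|a 0<|a 0<|a 0<|a 1<|a 0<|b)<|
 a (a 0<|a 0<|a 0<|a 0<|a 0<|a 0<|a 0<|a 1<|b)<|b))<|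
 c (d 4 (a (a 1<|a 0<|a 0<|a 0<|a 0<|a 0<|a 0<|a 0<|b)<|a (a 0<|a 1<|a 0<|a 0<|a 0<|a 0<|a 0<|a 0<|b)<|a (a 0<|a 0<|a 1<|a 0<|a 0<|a 0<|a 0<|a 0<|b)<|
 a (a 0<|a 0<|a 0<|a 1<|a 1<|a 0<|a 0<|a 0<|b)<|a (a 0<|a 0<|a 0<|a 0<|a (-1)<|a 0<|a 0<|a 0<|b)<|a (a 0<|a 0<|a 0<|a 0<|a 1<|a 1<|a 0<|a 0<|b)<|a (a 0<|a 0<|a 0<|a 0<|a 0<|a 0<|a 1<|a 0<|b)<|
 a (a 0<|a 0<|a 0<|a 0<|a 0<|a 0<|a 0<|a 1<|b)<|b))<|e))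

theorem ch1_2_6_10_ok : ChainOK Am ch1_2_6_10 :=
  H129.ChainF.ok H129.ChainF.i8 H129.ChainF.m8 (H129.ChainF.c8 <| H129.ChainF.c8 <| H129.ChainF.c8 <| H129.ChainF.c8 <| H129.ChainF.c8 <| H129.ChainF.c8 <| H129.ChainF.c8 <| H129.ChainF.c8 <| H129.ChainF.c8 <| H129.ChainF.c8 <| H129.ChainF.c8 <| H129.ChainF.c8 <| H129.ChainF.c8 <| H129.ChainF.nil) (by decide +kernel)

/-- coefficients of the eigenvector, order 6 -/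
def v1_2_6_10_at6 : Fin 2 → Fin 8 → ℤ := (beta% delta% lq26f9d2ce62 fun a b _ _ _ =>
 (a (a 0<|a 0<|a 1<|a 0<|a 0<|a 0<|a 0<|a 0<|b)<|a (a 0<|a 0<|a 0<|a 1<|a 0<|a 0<|a 0<|a 0<|b)<|b))

theorem e1_2_6_10_at6 : EigOK (hd ch1_2_6_10) c6 v1_2_6_10_at6 ![0, 0, 1, 0, 0, 0, 0, 0] :=
  H493.EigF.ok (H493.EigF.hT H493.EigF.t8) H493.EigF.r2 (H493.EigF.mc H493.EigF.r8 <| H493.EigF.mc H493.EigF.r8 <| H493.EigF.m0) H493.EigF.r8 (by decide +kernel)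

/-- coefficients of the eigenvector, order 10 -/
def v1_2_6_10_at10 : Fin 4 → Fin 8 → ℤ := (beta% delta% lq26f9d2ce62 fun a b _ _ _ =>
 (a (a 1<|a 0<|a 1<|a 1<|a 1<|a 0<|a 0<|a 0<|b)<|a (a 0<|a 2<|a 1<|a 2<|a 1<|a 1<|a 0<|a 0<|b)<|
 a (a 0<|a (-1)<|a 0<|a 0<|a 1<|a 1<|a 1<|a 0<|b)<|a (a 1<|a 1<|a 1<|a 1<|a 0<|a 0<|a 0<|a 0<|b)<|b))

theorem e1_2_6_10_at10 : EigOK (hd ch1_2_6_10) c10 v1_2_6_10_at10 ![0, 0, 0, 0, 1, -1, 0, 0] :=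
  H493.EigF.ok (H493.EigF.hT H493.EigF.t8) H493.EigF.r4 (H493.EigF.mc H493.EigF.r8 <| H493.EigF.mc H493.EigF.r8 <| H493.EigF.mc H493.EigF.r8 <| H493.EigF.mc H493.EigF.r8 <| H493.EigF.m0) H493.EigF.r8 (by decide +kernel)

theorem rel_10_6 {F : Type u} [Field F] [Finite F] {r s : ℕ} (hr : r.Prime) (hs : s.Prime) (hrs : r ≠ s)
    (h1 : phiC c10 (Nat.card F) 1 r) (h2 : phiC c6 (Nat.card F) 1 s) :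
    PG.Rel ↥(chevE8.group F) r s := by
  have := finW
  exact rel_of_eig hp CoxeterMatrix.E₈.toCoxeterSystem H129.TorusChar.invC_E8 one_ne_zero
    (chain_rep hp CoxeterMatrix.E₈.toCoxeterSystem hA ch1_2_6_10_ok) e1_2_6_10_at10 e1_2_6_10_at6 hr hs hrs h1.1 h2.1 h1.2 h2.2

end Cfsg.Agent.R2.Spec.EE.CertE8
end
end

-- part: R2/Spec/EE/CertE8B_mg
section
prune_inst 0x30007104740000000818001262001e62e2000192004b800171c00b460f8fbe43a9412e21faf00b1091f4bef45078c04811000119023000002000ba00411a008004076ae2c7bdbf0c3e0006c0f807500000000000000000000000000000041000000000000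
set_option linter.all false
private noncomputable def lq26d8b6db50 {T : Sort _} (f :
    type_of% (@_root_.Matrix.vecCons.{0}) →
    type_of% (@_root_.Matrix.vecEmpty.{0}) →
    type_of% (@_root_.List.cons.{0}) →
    type_of% (@_root_.Prod.mk.{0, 0}) →
    type_of% (@_root_.List.nil.{0}) → T) : T :=
  f (@_root_.Matrix.vecCons.{0}) (@_root_.Matrix.vecEmpty.{0}) (@_root_.List.cons.{0}) (@_root_.Prod.mk.{0, 0}) (@_root_.List.nil.{0})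

-- part: R2/Spec/EE/CertE8B
section
/-!
# Adjacency of the prime divisors of two cyclotomic values through one torus, type E8, part 2 (helper2)

Chains, eigenvectors and functionals as in `H168/ExcPairE8.lean`.
-/

set_option autoImplicit false

namespace Cfsg.Agent.R2.Spec.EE.CertE8

open Cfsg.Agent.H129.WData Cfsg.Agent.ChevalleyStructure.CoxeterGeomTypes Cfsg.Agent.Nodes.RGDChev
open Cfsg.Lie Cfsg.Lie.ChevalleyDatum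
open Cfsg.Agent Cfsg.Agent.H493 Cfsg.Agent.H493.PGTorus Cfsg.Agent.H493.PGCyc Cfsg.Agent.H493.PGE8
open Cfsg.Agent.H168.ExcAdj

universe u

/-- partial products of an element with characteristic polynomial Φ1 Φ2 Φ7 -/
def ch1_2_7 : List (Fin 8 × Mat 8) := (beta% delta% lq26d8b6db50 fun a b c d e =>
 (c (d 0 (a (a (-1)<|a 0<|a 0<|a 0<|a 0<|a 0<|a 0<|a 0<|b)<|a (a 0<|a (-1)<|a 0<|a (-1)<|a 0<|a 0<|a 0<|a 0<|b)<|a (a 1<|a 0<|a 1<|a 1<|a 0<|a 0<|a 0<|a 0<|b)<|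
 a (a 0<|a 1<|a 0<|a 1<|a 1<|a 0<|a 0<|a 0<|b)<|a (a 0<|a 0<|a 0<|a 0<|a 0<|a 1<|a 1<|a 1<|b)<|a (a 0<|a 0<|a 0<|a (-1)<|a (-1)<|a (-1)<|a (-1)<|a (-1)<|b)<|
 a (a 0<|a 0<|a 0<|a 1<|a 1<|a 1<|a 0<|a 0<|b)<|a (a 0<|a 0<|a 0<|a 0<|a 0<|a 0<|a 1<|a 0<|b)<|b))<|
 c (d 3 (a (a 1<|a 0<|a 0<|a 0<|a 0<|a 0<|a 0<|a 0<|b)<|a (a 0<|a (-1)<|a 0<|a (-1)<|a 0<|a 0<|a 0<|a 0<|b)<|a (a 0<|a 0<|a 1<|a 1<|a 0<|a 0<|a 0<|a 0<|b)<|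
 a (a 0<|a 1<|a 0<|a 1<|a 1<|a 0<|a 0<|a 0<|b)<|a (a 0<|a 0<|a 0<|a 0<|a 0<|a 1<|a 1<|a 1<|b)<|a (a 0<|a 0<|a 0<|a (-1)<|a (-1)<|a (-1)<|a (-1)<|a (-1)<|b)<|
 a (a 0<|a 0<|a 0<|a 1<|a 1<|a 1<|a 0<|a 0<|b)<|a (a 0<|a 0<|a 0<|a 0<|a 0<|a 0<|a 1<|a 0<|b)<|b))<|
 c (d 1 (a (a 1<|a 0<|a 0<|a 0<|a 0<|a 0<|a 0<|a 0<|b)<|a (a 0<|a (-1)<|a 0<|a 0<|a 0<|a 0<|a 0<|a 0<|b)<|a (a 0<|a 0<|a 1<|a 0<|a 0<|a 0<|a 0<|a 0<|b)<|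
 a (a 0<|a 1<|a 0<|a 1<|a 1<|a 0<|a 0<|a 0<|b)<|a (a 0<|a 0<|a 0<|a 0<|a 0<|a 1<|a 1<|a 1<|b)<|a (a 0<|a 0<|a 0<|a 0<|a (-1)<|a (-1)<|a (-1)<|a (-1)<|b)<|a (a 0<|a 0<|a 0<|a 0<|a 1<|a 1<|a 0<|a 0<|b)<|
 a (a 0<|a 0<|a 0<|a 0<|a 0<|a 0<|a 1<|a 0<|b)<|b))<|
 c (d 4 (a (a 1<|a 0<|a 0<|a 0<|a 0<|a 0<|a 0<|a 0<|b)<|a (a 0<|a 1<|a 0<|a 0<|a 0<|a 0<|a 0<|a 0<|b)<|a (a 0<|a 0<|a 1<|a 0<|a 0<|a 0<|a 0<|a 0<|b)<|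
 a (a 0<|a 0<|a 0<|a 1<|a 1<|a 0<|a 0<|a 0<|b)<|a (a 0<|a 0<|a 0<|a 0<|a 0<|a 1<|a 1<|a 1<|b)<|a (a 0<|a 0<|a 0<|a 0<|a (-1)<|a (-1)<|a (-1)<|a (-1)<|b)<|a (a 0<|a 0<|a 0<|a 0<|a 1<|a 1<|a 0<|a 0<|b)<|
 a (a 0<|a 0<|a 0<|a 0<|a 0<|a 0<|a 1<|a 0<|b)<|b))<|
 c (d 7 (a (a 1<|a 0<|a 0<|a 0<|a 0<|a 0<|a 0<|a 0<|b)<|a (a 0<|a 1<|a 0<|a 0<|a 0<|a 0<|a 0<|a 0<|b)<|a (a 0<|a 0<|a 1<|a 0<|a 0<|a 0<|a 0<|a 0<|b)<|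
 a (a 0<|a 0<|a 0<|a 1<|a 0<|a 0<|a 0<|a 0<|b)<|a (a 0<|a 0<|a 0<|a 0<|a 1<|a 1<|a 1<|a 1<|b)<|a (a 0<|a 0<|a 0<|a 0<|a 0<|a (-1)<|a (-1)<|a (-1)<|b)<|a (a 0<|a 0<|a 0<|a 0<|a 0<|a 1<|a 0<|a 0<|b)<|
 a (a 0<|a 0<|a 0<|a 0<|a 0<|a 0<|a 1<|a 0<|b)<|b))<|
 c (d 6 (a (a 1<|a 0<|a 0<|a 0<|a 0<|a 0<|a 0<|a 0<|b)<|a (a 0<|a 1<|a 0<|a 0<|a 0<|a 0<|a 0<|a 0<|b)<|a (a 0<|a 0<|a 1<|a 0<|a 0<|a 0<|a 0<|a 0<|b)<|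
 a (a 0<|a 0<|a 0<|a 1<|a 0<|a 0<|a 0<|a 0<|b)<|a (a 0<|a 0<|a 0<|a 0<|a 1<|a 1<|a 1<|a 0<|b)<|a (a 0<|a 0<|a 0<|a 0<|a 0<|a (-1)<|a (-1)<|a 0<|b)<|a (a 0<|a 0<|a 0<|a 0<|a 0<|a 1<|a 0<|a 0<|b)<|
 a (a 0<|a 0<|a 0<|a 0<|a 0<|a 0<|a 1<|a 1<|b)<|b))<|
 c (d 5 (a (a 1<|a 0<|a 0<|a 0<|a 0<|a 0<|a 0<|a 0<|b)<|a (a 0<|a 1<|a 0<|a 0<|a 0<|a 0<|a 0<|a 0<|b)<|a (a 0<|a 0<|a 1<|a 0<|a 0<|a 0<|a 0<|a 0<|b)<|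
 a (a 0<|a 0<|a 0<|a 1<|a 0<|a 0<|a 0<|a 0<|b)<|a (a 0<|a 0<|a 0<|a 0<|a 1<|a 1<|a 0<|a 0<|b)<|a (a 0<|a 0<|a 0<|a 0<|a 0<|a (-1)<|a 0<|a 0<|b)<|a (a 0<|a 0<|a 0<|a 0<|a 0<|a 1<|a 1<|a 0<|b)<|
 a (a 0<|a 0<|a 0<|a 0<|a 0<|a 0<|a 0<|a 1<|b)<|b))<|e))

theorem ch1_2_7_ok : ChainOK Am ch1_2_7 :=
  H129.ChainF.ok H129.ChainF.i8 H129.ChainF.m8 (H129.ChainF.c8 <| H129.ChainF.c8 <| H129.ChainF.c8 <| H129.ChainF.c8 <| H129.ChainF.c8 <| H129.ChainF.c8 <| H129.ChainF.c8 <| H129.ChainF.nil) (by decide +kernel)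

/-- coefficients of the eigenvector, order 1 -/
def v1_2_7_at1 : Fin 1 → Fin 8 → ℤ := ![![-7, -10, -14, -20, -16, -12, -8, -4]]

theorem e1_2_7_at1 : EigOK (hd ch1_2_7) c1 v1_2_7_at1 ![-1, 1, 0, 0, 0, 0, 0, -1] :=
  H493.EigF.ok (H493.EigF.hT H493.EigF.t8) H493.EigF.r1 (H493.EigF.mc H493.EigF.r8 <| H493.EigF.m0) H493.EigF.r8 (by decide +kernel)

/-- coefficients of the eigenvector, order 2 -/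
def v1_2_7_at2 : Fin 1 → Fin 8 → ℤ := ![![1, 0, 0, 0, 0, 0, 0, 0]]

theorem e1_2_7_at2 : EigOK (hd ch1_2_7) c2 v1_2_7_at2 ![1, 0, 0, 0, 0, 0, 0, 0] :=
  H493.EigF.ok (H493.EigF.hT H493.EigF.t8) H493.EigF.r1 (H493.EigF.mc H493.EigF.r8 <| H493.EigF.m0) H493.EigF.r8 (by decide +kernel)

/-- coefficients of the eigenvector, order 7 -/
def v1_2_7_at7 : Fin 6 → Fin 8 → ℤ := (beta% delta% lq26d8b6db50 fun a b _ _ _ =>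
 (a (a 0<|a 0<|a 0<|a (-1)<|a 0<|a (-1)<|a 0<|a (-1)<|b)<|
 a (a 0<|a 1<|a 0<|a 0<|a 0<|a 0<|a 0<|a 0<|b)<|a (a 0<|a 0<|a 0<|a 0<|a 1<|a 0<|a 0<|a (-1)<|b)<|a (a 0<|a 1<|a 0<|a 0<|a 0<|a 0<|a 1<|a 0<|b)<|a (a 0<|a 0<|a 0<|a 0<|a 1<|a 0<|a 0<|a 0<|b)<|
 a (a 0<|a 1<|a 0<|a 0<|a 0<|a (-1)<|a 0<|a (-1)<|b)<|b))

theorem e1_2_7_at7 : EigOK (hd ch1_2_7) c7 v1_2_7_at7 ![0, 0, 0, -1, 0, 0, 0, 0] :=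
  H493.EigF.ok (H493.EigF.hT H493.EigF.t8) H493.EigF.r6 (H493.EigF.mc H493.EigF.r8 <| H493.EigF.mc H493.EigF.r8 <| H493.EigF.mc H493.EigF.r8 <| H493.EigF.mc H493.EigF.r8 <| H493.EigF.mc H493.EigF.r8 <| H493.EigF.mc H493.EigF.r8 <| H493.EigF.m0) H493.EigF.r8 (by decide +kernel)

theorem rel_7_1 {F : Type u} [Field F] [Finite F] {r s : ℕ} (hr : r.Prime) (hs : s.Prime) (hrs : r ≠ s)
    (h1 : phiC c7 (Nat.card F) 1 r) (h2 : phiC c1 (Nat.card F) 1 s) :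
    PG.Rel ↥(chevE8.group F) r s := by
  have := finW
  exact rel_of_eig hp CoxeterMatrix.E₈.toCoxeterSystem H129.TorusChar.invC_E8 one_ne_zero
    (chain_rep hp CoxeterMatrix.E₈.toCoxeterSystem hA ch1_2_7_ok) e1_2_7_at7 e1_2_7_at1 hr hs hrs h1.1 h2.1 h1.2 h2.2

theorem rel_7_2 {F : Type u} [Field F] [Finite F] {r s : ℕ} (hr : r.Prime) (hs : s.Prime) (hrs : r ≠ s)
    (h1 : phiC c7 (Nat.card F) 1 r) (h2 : phiC c2 (Nat.card F) 1 s) :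
    PG.Rel ↥(chevE8.group F) r s := by
  have := finW
  exact rel_of_eig hp CoxeterMatrix.E₈.toCoxeterSystem H129.TorusChar.invC_E8 one_ne_zero
    (chain_rep hp CoxeterMatrix.E₈.toCoxeterSystem hA ch1_2_7_ok) e1_2_7_at7 e1_2_7_at2 hr hs hrs h1.1 h2.1 h1.2 h2.2

/-- partial products of an element with characteristic polynomial Φ1 Φ2 Φ4 Φ5 -/
def ch1_2_4_5 : List (Fin 8 × Mat 8) := (beta% delta% lq26d8b6db50 fun a b c d e =>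
 (c (d 0 (a (a 0<|a 1<|a 1<|a 1<|a 0<|a 0<|a 0<|a 0<|b)<|a (a 0<|a 0<|a 0<|a 1<|a 0<|a 0<|a 0<|a 0<|b)<|a (a (-1)<|a (-1)<|a (-1)<|a (-1)<|a 0<|a 0<|a 0<|a 0<|b)<|
 a (a 1<|a 0<|a 1<|a 0<|a 0<|a 0<|a 0<|a 0<|b)<|a (a 0<|a 1<|a 0<|a 1<|a 1<|a 1<|a 0<|a 0<|b)<|a (a 0<|a 0<|a 0<|a 0<|a 0<|a 0<|a 1<|a 0<|b)<|a (a 0<|a 0<|a 0<|a 0<|a 0<|a 0<|a 0<|a 1<|b)<|
 a (a 0<|a 0<|a 0<|a 0<|a 0<|a (-1)<|a (-1)<|a (-1)<|b)<|b))<|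
 c (d 1 (a (a 1<|a 1<|a 1<|a 1<|a 0<|a 0<|a 0<|a 0<|b)<|a (a 0<|a 0<|a 0<|a 1<|a 0<|a 0<|a 0<|a 0<|b)<|a (a 0<|a (-1)<|a (-1)<|a (-1)<|a 0<|a 0<|a 0<|a 0<|b)<|
 a (a 0<|a 0<|a 1<|a 0<|a 0<|a 0<|a 0<|a 0<|b)<|a (a 0<|a 1<|a 0<|a 1<|a 1<|a 1<|a 0<|a 0<|b)<|a (a 0<|a 0<|a 0<|a 0<|a 0<|a 0<|a 1<|a 0<|b)<|a (a 0<|a 0<|a 0<|a 0<|a 0<|a 0<|a 0<|a 1<|b)<|
 a (a 0<|a 0<|a 0<|a 0<|a 0<|a (-1)<|a (-1)<|a (-1)<|b)<|b))<|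
 c (d 3 (a (a 1<|a 0<|a 1<|a 1<|a 0<|a 0<|a 0<|a 0<|b)<|a (a 0<|a 1<|a 0<|a 1<|a 0<|a 0<|a 0<|a 0<|b)<|a (a 0<|a 0<|a (-1)<|a (-1)<|a 0<|a 0<|a 0<|a 0<|b)<|
 a (a 0<|a 0<|a 1<|a 0<|a 0<|a 0<|a 0<|a 0<|b)<|a (a 0<|a 0<|a 0<|a 1<|a 1<|a 1<|a 0<|a 0<|b)<|a (a 0<|a 0<|a 0<|a 0<|a 0<|a 0<|a 1<|a 0<|b)<|a (a 0<|a 0<|a 0<|a 0<|a 0<|a 0<|a 0<|a 1<|b)<|
 a (a 0<|a 0<|a 0<|a 0<|a 0<|a (-1)<|a (-1)<|a (-1)<|b)<|b))<|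
 c (d 2 (a (a 1<|a 0<|a 1<|a 0<|a 0<|a 0<|a 0<|a 0<|b)<|a (a 0<|a 1<|a 0<|a 0<|a 0<|a 0<|a 0<|a 0<|b)<|a (a 0<|a 0<|a (-1)<|a 0<|a 0<|a 0<|a 0<|a 0<|b)<|
 a (a 0<|a 0<|a 1<|a 1<|a 0<|a 0<|a 0<|a 0<|b)<|a (a 0<|a 0<|a 0<|a 0<|a 1<|a 1<|a 0<|a 0<|b)<|a (a 0<|a 0<|a 0<|a 0<|a 0<|a 0<|a 1<|a 0<|b)<|a (a 0<|a 0<|a 0<|a 0<|a 0<|a 0<|a 0<|a 1<|b)<|
 a (a 0<|a 0<|a 0<|a 0<|a 0<|a (-1)<|a (-1)<|a (-1)<|b)<|b))<|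
 c (d 5 (a (a 1<|a 0<|a 0<|a 0<|a 0<|a 0<|a 0<|a 0<|b)<|a (a 0<|a 1<|a 0<|a 0<|a 0<|a 0<|a 0<|a 0<|b)<|a (a 0<|a 0<|a 1<|a 0<|a 0<|a 0<|a 0<|a 0<|b)<|
 a (a 0<|a 0<|a 0<|a 1<|a 0<|a 0<|a 0<|a 0<|b)<|a (a 0<|a 0<|a 0<|a 0<|a 1<|a 1<|a 0<|a 0<|b)<|a (a 0<|a 0<|a 0<|a 0<|a 0<|a 0<|a 1<|a 0<|b)<|a (a 0<|a 0<|a 0<|a 0<|a 0<|a 0<|a 0<|a 1<|b)<|
 a (a 0<|a 0<|a 0<|a 0<|a 0<|a (-1)<|a (-1)<|a (-1)<|b)<|b))<|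
 c (d 6 (a (a 1<|a 0<|a 0<|a 0<|a 0<|a 0<|a 0<|a 0<|b)<|a (a 0<|a 1<|a 0<|a 0<|a 0<|a 0<|a 0<|a 0<|b)<|a (a 0<|a 0<|a 1<|a 0<|a 0<|a 0<|a 0<|a 0<|b)<|
 a (a 0<|a 0<|a 0<|a 1<|a 0<|a 0<|a 0<|a 0<|b)<|a (a 0<|a 0<|a 0<|a 0<|a 1<|a 0<|a 0<|a 0<|b)<|a (a 0<|a 0<|a 0<|a 0<|a 0<|a 1<|a 1<|a 0<|b)<|a (a 0<|a 0<|a 0<|a 0<|a 0<|a 0<|a 0<|a 1<|b)<|
 a (a 0<|a 0<|a 0<|a 0<|a 0<|a 0<|a (-1)<|a (-1)<|b)<|b))<|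
 c (d 7 (a (a 1<|a 0<|a 0<|a 0<|a 0<|a 0<|a 0<|a 0<|b)<|a (a 0<|a 1<|a 0<|a 0<|a 0<|a 0<|a 0<|a 0<|b)<|a (a 0<|a 0<|a 1<|a 0<|a 0<|a 0<|a 0<|a 0<|b)<|
 a (a 0<|a 0<|a 0<|a 1<|a 0<|a 0<|a 0<|a 0<|b)<|a (a 0<|a 0<|a 0<|a 0<|a 1<|a 0<|a 0<|a 0<|b)<|a (a 0<|a 0<|a 0<|a 0<|a 0<|a 1<|a 0<|a 0<|b)<|a (a 0<|a 0<|a 0<|a 0<|a 0<|a 0<|a 1<|a 1<|b)<|
 a (a 0<|a 0<|a 0<|a 0<|a 0<|a 0<|a 0<|a (-1)<|b)<|b))<|e))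

theorem ch1_2_4_5_ok : ChainOK Am ch1_2_4_5 :=
  H129.ChainF.ok H129.ChainF.i8 H129.ChainF.m8 (H129.ChainF.c8 <| H129.ChainF.c8 <| H129.ChainF.c8 <| H129.ChainF.c8 <| H129.ChainF.c8 <| H129.ChainF.c8 <| H129.ChainF.c8 <| H129.ChainF.nil) (by decide +kernel)

/-- coefficients of the eigenvector, order 4 -/
def v1_2_4_5_at4 : Fin 2 → Fin 8 → ℤ := (beta% delta% lq26d8b6db50 fun a b _ _ _ =>
 (a (a 0<|a 0<|a 0<|a 0<|a 0<|a 0<|a 1<|a 1<|b)<|a (a 0<|a 0<|a 0<|a 0<|a 0<|a 1<|a 1<|a 0<|b)<|b))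

theorem e1_2_4_5_at4 : EigOK (hd ch1_2_4_5) c4 v1_2_4_5_at4 ![0, 0, 0, 0, 0, 0, 0, 1] :=
  H493.EigF.ok (H493.EigF.hT H493.EigF.t8) H493.EigF.r2 (H493.EigF.mc H493.EigF.r8 <| H493.EigF.mc H493.EigF.r8 <| H493.EigF.m0) H493.EigF.r8 (by decide +kernel)

/-- coefficients of the eigenvector, order 5 -/
def v1_2_4_5_at5 : Fin 4 → Fin 8 → ℤ := (beta% delta% lq26d8b6db50 fun a b _ _ _ =>
 (a (a 0<|a 0<|a 0<|a 1<|a 0<|a 0<|a 0<|a 0<|b)<|a (a 0<|a 1<|a 0<|a 1<|a 0<|a 0<|a 0<|a 0<|b)<|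
 a (a 0<|a 0<|a (-1)<|a 0<|a 0<|a 0<|a 0<|a 0<|b)<|a (a (-1)<|a 0<|a (-1)<|a 0<|a 0<|a 0<|a 0<|a 0<|b)<|b))

theorem e1_2_4_5_at5 : EigOK (hd ch1_2_4_5) c5 v1_2_4_5_at5 ![0, -1, 0, 1, 0, 0, 0, 0] :=
  H493.EigF.ok (H493.EigF.hT H493.EigF.t8) H493.EigF.r4 (H493.EigF.mc H493.EigF.r8 <| H493.EigF.mc H493.EigF.r8 <| H493.EigF.mc H493.EigF.r8 <| H493.EigF.mc H493.EigF.r8 <| H493.EigF.m0) H493.EigF.r8 (by decide +kernel)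

theorem rel_5_4 {F : Type u} [Field F] [Finite F] {r s : ℕ} (hr : r.Prime) (hs : s.Prime) (hrs : r ≠ s)
    (h1 : phiC c5 (Nat.card F) 1 r) (h2 : phiC c4 (Nat.card F) 1 s) :
    PG.Rel ↥(chevE8.group F) r s := by
  have := finW
  exact rel_of_eig hp CoxeterMatrix.E₈.toCoxeterSystem H129.TorusChar.invC_E8 one_ne_zero
    (chain_rep hp CoxeterMatrix.E₈.toCoxeterSystem hA ch1_2_4_5_ok) e1_2_4_5_at5 e1_2_4_5_at4 hr hs hrs h1.1 h2.1 h1.2 h2.2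

/-- partial products of an element with characteristic polynomial Φ1 Φ2 Φ3 Φ8 -/
def ch1_2_3_8 : List (Fin 8 × Mat 8) := (beta% delta% lq26d8b6db50 fun a b c d e =>
 (c (d 0 (a (a 0<|a 0<|a 1<|a 0<|a 0<|a 0<|a 0<|a 0<|b)<|a (a 1<|a 0<|a 1<|a 1<|a 0<|a 0<|a 0<|a 0<|b)<|a (a 0<|a 1<|a 0<|a 1<|a 0<|a 0<|a 0<|a 0<|b)<|
 a (a 0<|a 0<|a 0<|a 0<|a 1<|a 0<|a 0<|a 0<|b)<|a (a (-1)<|a (-1)<|a (-1)<|a (-1)<|a (-1)<|a 0<|a 0<|a 0<|b)<|a (a 1<|a 1<|a 1<|a 1<|a 1<|a 1<|a 1<|a 1<|b)<|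
 a (a 0<|a 0<|a 0<|a 0<|a 0<|a 0<|a (-1)<|a (-1)<|b)<|a (a 0<|a 0<|a 0<|a 0<|a 0<|a 0<|a 1<|a 0<|b)<|b))<|
 c (d 1 (a (a 1<|a 0<|a 1<|a 0<|a 0<|a 0<|a 0<|a 0<|b)<|a (a 0<|a 0<|a 1<|a 1<|a 0<|a 0<|a 0<|a 0<|b)<|a (a 0<|a 1<|a 0<|a 1<|a 0<|a 0<|a 0<|a 0<|b)<|
 a (a 0<|a 0<|a 0<|a 0<|a 1<|a 0<|a 0<|a 0<|b)<|a (a 0<|a (-1)<|a (-1)<|a (-1)<|a (-1)<|a 0<|a 0<|a 0<|b)<|a (a 0<|a 1<|a 1<|a 1<|a 1<|a 1<|a 1<|a 1<|b)<|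
 a (a 0<|a 0<|a 0<|a 0<|a 0<|a 0<|a (-1)<|a (-1)<|b)<|a (a 0<|a 0<|a 0<|a 0<|a 0<|a 0<|a 1<|a 0<|b)<|b))<|
 c (d 2 (a (a 1<|a 0<|a 1<|a 0<|a 0<|a 0<|a 0<|a 0<|b)<|a (a 0<|a 1<|a 1<|a 1<|a 0<|a 0<|a 0<|a 0<|b)<|a (a 0<|a 0<|a 0<|a 1<|a 0<|a 0<|a 0<|a 0<|b)<|
 a (a 0<|a 0<|a 0<|a 0<|a 1<|a 0<|a 0<|a 0<|b)<|a (a 0<|a 0<|a (-1)<|a (-1)<|a (-1)<|a 0<|a 0<|a 0<|b)<|a (a 0<|a 0<|a 1<|a 1<|a 1<|a 1<|a 1<|a 1<|b)<|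
 a (a 0<|a 0<|a 0<|a 0<|a 0<|a 0<|a (-1)<|a (-1)<|b)<|a (a 0<|a 0<|a 0<|a 0<|a 0<|a 0<|a 1<|a 0<|b)<|b))<|
 c (d 3 (a (a 1<|a 0<|a 0<|a 0<|a 0<|a 0<|a 0<|a 0<|b)<|a (a 0<|a 1<|a 0<|a 1<|a 0<|a 0<|a 0<|a 0<|b)<|a (a 0<|a 0<|a 1<|a 1<|a 0<|a 0<|a 0<|a 0<|b)<|
 a (a 0<|a 0<|a 0<|a 0<|a 1<|a 0<|a 0<|a 0<|b)<|a (a 0<|a 0<|a 0<|a (-1)<|a (-1)<|a 0<|a 0<|a 0<|b)<|a (a 0<|a 0<|a 0<|a 1<|a 1<|a 1<|a 1<|a 1<|b)<|a (a 0<|a 0<|a 0<|a 0<|a 0<|a 0<|a (-1)<|a (-1)<|b)<|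
 a (a 0<|a 0<|a 0<|a 0<|a 0<|a 0<|a 1<|a 0<|b)<|b))<|
 c (d 4 (a (a 1<|a 0<|a 0<|a 0<|a 0<|a 0<|a 0<|a 0<|b)<|a (a 0<|a 1<|a 0<|a 0<|a 0<|a 0<|a 0<|a 0<|b)<|a (a 0<|a 0<|a 1<|a 0<|a 0<|a 0<|a 0<|a 0<|b)<|
 a (a 0<|a 0<|a 0<|a 1<|a 1<|a 0<|a 0<|a 0<|b)<|a (a 0<|a 0<|a 0<|a 0<|a (-1)<|a 0<|a 0<|a 0<|b)<|a (a 0<|a 0<|a 0<|a 0<|a 1<|a 1<|a 1<|a 1<|b)<|a (a 0<|a 0<|a 0<|a 0<|a 0<|a 0<|a (-1)<|a (-1)<|b)<|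
 a (a 0<|a 0<|a 0<|a 0<|a 0<|a 0<|a 1<|a 0<|b)<|b))<|
 c (d 7 (a (a 1<|a 0<|a 0<|a 0<|a 0<|a 0<|a 0<|a 0<|b)<|a (a 0<|a 1<|a 0<|a 0<|a 0<|a 0<|a 0<|a 0<|b)<|a (a 0<|a 0<|a 1<|a 0<|a 0<|a 0<|a 0<|a 0<|b)<|
 a (a 0<|a 0<|a 0<|a 1<|a 0<|a 0<|a 0<|a 0<|b)<|a (a 0<|a 0<|a 0<|a 0<|a 1<|a 0<|a 0<|a 0<|b)<|a (a 0<|a 0<|a 0<|a 0<|a 0<|a 1<|a 1<|a 1<|b)<|a (a 0<|a 0<|a 0<|a 0<|a 0<|a 0<|a (-1)<|a (-1)<|b)<|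
 a (a 0<|a 0<|a 0<|a 0<|a 0<|a 0<|a 1<|a 0<|b)<|b))<|
 c (d 6 (a (a 1<|a 0<|a 0<|a 0<|a 0<|a 0<|a 0<|a 0<|b)<|a (a 0<|a 1<|a 0<|a 0<|a 0<|a 0<|a 0<|a 0<|b)<|a (a 0<|a 0<|a 1<|a 0<|a 0<|a 0<|a 0<|a 0<|b)<|
 a (a 0<|a 0<|a 0<|a 1<|a 0<|a 0<|a 0<|a 0<|b)<|a (a 0<|a 0<|a 0<|a 0<|a 1<|a 0<|a 0<|a 0<|b)<|a (a 0<|a 0<|a 0<|a 0<|a 0<|a 1<|a 1<|a 0<|b)<|a (a 0<|a 0<|a 0<|a 0<|a 0<|a 0<|a (-1)<|a 0<|b)<|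
 a (a 0<|a 0<|a 0<|a 0<|a 0<|a 0<|a 1<|a 1<|b)<|b))<|e))

theorem ch1_2_3_8_ok : ChainOK Am ch1_2_3_8 :=
  H129.ChainF.ok H129.ChainF.i8 H129.ChainF.m8 (H129.ChainF.c8 <| H129.ChainF.c8 <| H129.ChainF.c8 <| H129.ChainF.c8 <| H129.ChainF.c8 <| H129.ChainF.c8 <| H129.ChainF.c8 <| H129.ChainF.nil) (by decide +kernel)

/-- coefficients of the eigenvector, order 3 -/
def v1_2_3_8_at3 : Fin 2 → Fin 8 → ℤ := (beta% delta% lq26d8b6db50 fun a b _ _ _ =>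
 (a (a 0<|a 0<|a 0<|a 0<|a 0<|a 0<|a 0<|a (-1)<|b)<|a (a 0<|a 0<|a 0<|a 0<|a 0<|a 0<|a 1<|a 0<|b)<|b))

theorem e1_2_3_8_at3 : EigOK (hd ch1_2_3_8) c3 v1_2_3_8_at3 ![0, 0, 0, 0, 0, 0, 0, -1] :=
  H493.EigF.ok (H493.EigF.hT H493.EigF.t8) H493.EigF.r2 (H493.EigF.mc H493.EigF.r8 <| H493.EigF.mc H493.EigF.r8 <| H493.EigF.m0) H493.EigF.r8 (by decide +kernel)

/-- coefficients of the eigenvector, order 8 -/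
def v1_2_3_8_at8 : Fin 4 → Fin 8 → ℤ := (beta% delta% lq26d8b6db50 fun a b _ _ _ =>
 (a (a 1<|a 0<|a 1<|a 1<|a 1<|a 0<|a 0<|a 0<|b)<|a (a 0<|a 1<|a 0<|a 1<|a 0<|a 0<|a 0<|a 0<|b)<|
 a (a 0<|a 0<|a 1<|a 0<|a 0<|a 0<|a 0<|a 0<|b)<|a (a 1<|a 0<|a 0<|a 0<|a 0<|a 0<|a 0<|a 0<|b)<|b))

theorem e1_2_3_8_at8 : EigOK (hd ch1_2_3_8) c8 v1_2_3_8_at8 ![0, 0, 0, 0, 1, 0, 0, 0] :=
  H493.EigF.ok (H493.EigF.hT H493.EigF.t8) H493.EigF.r4 (H493.EigF.mc H493.EigF.r8 <| H493.EigF.mc H493.EigF.r8 <| H493.EigF.mc H493.EigF.r8 <| H493.EigF.mc H493.EigF.r8 <| H493.EigF.m0) H493.EigF.r8 (by decide +kernel)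

theorem rel_8_3 {F : Type u} [Field F] [Finite F] {r s : ℕ} (hr : r.Prime) (hs : s.Prime) (hrs : r ≠ s)
    (h1 : phiC c8 (Nat.card F) 1 r) (h2 : phiC c3 (Nat.card F) 1 s) :
    PG.Rel ↥(chevE8.group F) r s := by
  have := finW
  exact rel_of_eig hp CoxeterMatrix.E₈.toCoxeterSystem H129.TorusChar.invC_E8 one_ne_zero
    (chain_rep hp CoxeterMatrix.E₈.toCoxeterSystem hA ch1_2_3_8_ok) e1_2_3_8_at8 e1_2_3_8_at3 hr hs hrs h1.1 h2.1 h1.2 h2.2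

/-- partial products of an element with characteristic polynomial Φ1 Φ2 Φ3 Φ4 Φ6 -/
def ch1_2_3_4_6 : List (Fin 8 × Mat 8) := (beta% delta% lq26d8b6db50 fun a b c d e =>
 (c (d 4 (a (a 0<|a 1<|a 0<|a 0<|a 0<|a 0<|a 0<|a 0<|b)<|a (a 0<|a 0<|a 1<|a 0<|a 0<|a 0<|a 0<|a 0<|b)<|a (a (-1)<|a (-1)<|a (-1)<|a (-1)<|a (-1)<|a 0<|a 0<|a 0<|b)<|
 a (a 1<|a 0<|a 0<|a 0<|a 0<|a 0<|a 0<|a 0<|b)<|a (a 0<|a 1<|a 1<|a 2<|a 1<|a 0<|a 0<|a 0<|b)<|a (a 0<|a 0<|a 0<|a 0<|a 1<|a 1<|a 1<|a 1<|b)<|a (a 0<|a 0<|a 0<|a 0<|a 0<|a 0<|a (-1)<|a (-1)<|b)<|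
 a (a 0<|a 0<|a 0<|a 0<|a 0<|a 0<|a 1<|a 0<|b)<|b))<|
 c (d 3 (a (a 0<|a 1<|a 0<|a 0<|a 0<|a 0<|a 0<|a 0<|b)<|a (a 0<|a 0<|a 1<|a 0<|a 0<|a 0<|a 0<|a 0<|b)<|a (a (-1)<|a (-1)<|a (-1)<|a (-1)<|a 0<|a 0<|a 0<|a 0<|b)<|
 a (a 1<|a 0<|a 0<|a 0<|a 0<|a 0<|a 0<|a 0<|b)<|a (a 0<|a 1<|a 1<|a 2<|a 1<|a 0<|a 0<|a 0<|b)<|a (a 0<|a 0<|a 0<|a 0<|a 0<|a 1<|a 1<|a 1<|b)<|a (a 0<|a 0<|a 0<|a 0<|a 0<|a 0<|a (-1)<|a (-1)<|b)<|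
 a (a 0<|a 0<|a 0<|a 0<|a 0<|a 0<|a 1<|a 0<|b)<|b))<|
 c (d 1 (a (a 0<|a 1<|a 0<|a 1<|a 0<|a 0<|a 0<|a 0<|b)<|a (a 0<|a 0<|a 1<|a 1<|a 0<|a 0<|a 0<|a 0<|b)<|a (a (-1)<|a (-1)<|a (-1)<|a (-1)<|a 0<|a 0<|a 0<|a 0<|b)<|
 a (a 1<|a 0<|a 0<|a 0<|a 0<|a 0<|a 0<|a 0<|b)<|a (a 0<|a 1<|a 1<|a 1<|a 1<|a 0<|a 0<|a 0<|b)<|a (a 0<|a 0<|a 0<|a 0<|a 0<|a 1<|a 1<|a 1<|b)<|a (a 0<|a 0<|a 0<|a 0<|a 0<|a 0<|a (-1)<|a (-1)<|b)<|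
 a (a 0<|a 0<|a 0<|a 0<|a 0<|a 0<|a 1<|a 0<|b)<|b))<|
 c (d 2 (a (a 0<|a 0<|a 0<|a 1<|a 0<|a 0<|a 0<|a 0<|b)<|a (a 0<|a 1<|a 1<|a 1<|a 0<|a 0<|a 0<|a 0<|b)<|a (a (-1)<|a 0<|a (-1)<|a (-1)<|a 0<|a 0<|a 0<|a 0<|b)<|
 a (a 1<|a 0<|a 0<|a 0<|a 0<|a 0<|a 0<|a 0<|b)<|a (a 0<|a 0<|a 1<|a 1<|a 1<|a 0<|a 0<|a 0<|b)<|a (a 0<|a 0<|a 0<|a 0<|a 0<|a 1<|a 1<|a 1<|b)<|a (a 0<|a 0<|a 0<|a 0<|a 0<|a 0<|a (-1)<|a (-1)<|b)<|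
 a (a 0<|a 0<|a 0<|a 0<|a 0<|a 0<|a 1<|a 0<|b)<|b))<|
 c (d 0 (a (a 0<|a 0<|a 1<|a 1<|a 0<|a 0<|a 0<|a 0<|b)<|a (a 0<|a 1<|a 0<|a 1<|a 0<|a 0<|a 0<|a 0<|b)<|a (a (-1)<|a 0<|a (-1)<|a (-1)<|a 0<|a 0<|a 0<|a 0<|b)<|
 a (a 1<|a 0<|a 1<|a 0<|a 0<|a 0<|a 0<|a 0<|b)<|a (a 0<|a 0<|a 0<|a 1<|a 1<|a 0<|a 0<|a 0<|b)<|a (a 0<|a 0<|a 0<|a 0<|a 0<|a 1<|a 1<|a 1<|b)<|a (a 0<|a 0<|a 0<|a 0<|a 0<|a 0<|a (-1)<|a (-1)<|b)<|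
 a (a 0<|a 0<|a 0<|a 0<|a 0<|a 0<|a 1<|a 0<|b)<|b))<|
 c (d 3 (a (a 1<|a 0<|a 1<|a 1<|a 0<|a 0<|a 0<|a 0<|b)<|a (a 0<|a 1<|a 0<|a 1<|a 0<|a 0<|a 0<|a 0<|b)<|a (a 0<|a 0<|a (-1)<|a (-1)<|a 0<|a 0<|a 0<|a 0<|b)<|
 a (a 0<|a 0<|a 1<|a 0<|a 0<|a 0<|a 0<|a 0<|b)<|a (a 0<|a 0<|a 0<|a 1<|a 1<|a 0<|a 0<|a 0<|b)<|a (a 0<|a 0<|a 0<|a 0<|a 0<|a 1<|a 1<|a 1<|b)<|a (a 0<|a 0<|a 0<|a 0<|a 0<|a 0<|a (-1)<|a (-1)<|b)<|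
 a (a 0<|a 0<|a 0<|a 0<|a 0<|a 0<|a 1<|a 0<|b)<|b))<|
 c (d 2 (a (a 1<|a 0<|a 1<|a 0<|a 0<|a 0<|a 0<|a 0<|b)<|a (a 0<|a 1<|a 0<|a 0<|a 0<|a 0<|a 0<|a 0<|b)<|a (a 0<|a 0<|a (-1)<|a 0<|a 0<|a 0<|a 0<|a 0<|b)<|
 a (a 0<|a 0<|a 1<|a 1<|a 0<|a 0<|a 0<|a 0<|b)<|a (a 0<|a 0<|a 0<|a 0<|a 1<|a 0<|a 0<|a 0<|b)<|a (a 0<|a 0<|a 0<|a 0<|a 0<|a 1<|a 1<|a 1<|b)<|a (a 0<|a 0<|a 0<|a 0<|a 0<|a 0<|a (-1)<|a (-1)<|b)<|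
 a (a 0<|a 0<|a 0<|a 0<|a 0<|a 0<|a 1<|a 0<|b)<|b))<|
 c (d 7 (a (a 1<|a 0<|a 0<|a 0<|a 0<|a 0<|a 0<|a 0<|b)<|a (a 0<|a 1<|a 0<|a 0<|a 0<|a 0<|a 0<|a 0<|b)<|a (a 0<|a 0<|a 1<|a 0<|a 0<|a 0<|a 0<|a 0<|b)<|
 a (a 0<|a 0<|a 0<|a 1<|a 0<|a 0<|a 0<|a 0<|b)<|a (a 0<|a 0<|a 0<|a 0<|a 1<|a 0<|a 0<|a 0<|b)<|a (a 0<|a 0<|a 0<|a 0<|a 0<|a 1<|a 1<|a 1<|b)<|a (a 0<|a 0<|a 0<|a 0<|a 0<|a 0<|a (-1)<|a (-1)<|b)<|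
 a (a 0<|a 0<|a 0<|a 0<|a 0<|a 0<|a 1<|a 0<|b)<|b))<|
 c (d 6 (a (a 1<|a 0<|a 0<|a 0<|a 0<|a 0<|a 0<|a 0<|b)<|a (a 0<|a 1<|a 0<|a 0<|a 0<|a 0<|a 0<|a 0<|b)<|a (a 0<|a 0<|a 1<|a 0<|a 0<|a 0<|a 0<|a 0<|b)<|
 a (a 0<|a 0<|a 0<|a 1<|a 0<|a 0<|a 0<|a 0<|b)<|a (a 0<|a 0<|a 0<|a 0<|a 1<|a 0<|a 0<|a 0<|b)<|a (a 0<|a 0<|a 0<|a 0<|a 0<|a 1<|a 1<|a 0<|b)<|a (a 0<|a 0<|a 0<|a 0<|a 0<|a 0<|a (-1)<|a 0<|b)<|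
 a (a 0<|a 0<|a 0<|a 0<|a 0<|a 0<|a 1<|a 1<|b)<|b))<|e))

theorem ch1_2_3_4_6_ok : ChainOK Am ch1_2_3_4_6 :=
  H129.ChainF.ok H129.ChainF.i8 H129.ChainF.m8 (H129.ChainF.c8 <| H129.ChainF.c8 <| H129.ChainF.c8 <| H129.ChainF.c8 <| H129.ChainF.c8 <| H129.ChainF.c8 <| H129.ChainF.c8 <| H129.ChainF.c8 <| H129.ChainF.c8 <| H129.ChainF.nil) (by decide +kernel)

/-- coefficients of the eigenvector, order 1 -/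
def v1_2_3_4_6_at1 : Fin 1 → Fin 8 → ℤ := ![![-6, -9, -12, -18, -15, -12, -8, -4]]

theorem e1_2_3_4_6_at1 : EigOK (hd ch1_2_3_4_6) c1 v1_2_3_4_6_at1 ![-1, 1, 0, 0, 0, 0, 0, -1] :=
  H493.EigF.ok (H493.EigF.hT H493.EigF.t8) H493.EigF.r1 (H493.EigF.mc H493.EigF.r8 <| H493.EigF.m0) H493.EigF.r8 (by decide +kernel)

/-- coefficients of the eigenvector, order 2 -/
def v1_2_3_4_6_at2 : Fin 1 → Fin 8 → ℤ := ![![2, -1, 2, 0, 1, 0, 0, 0]]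

theorem e1_2_3_4_6_at2 : EigOK (hd ch1_2_3_4_6) c2 v1_2_3_4_6_at2 ![0, -1, 0, 0, 0, 0, 0, 0] :=
  H493.EigF.ok (H493.EigF.hT H493.EigF.t8) H493.EigF.r1 (H493.EigF.mc H493.EigF.r8 <| H493.EigF.m0) H493.EigF.r8 (by decide +kernel)

/-- coefficients of the eigenvector, order 3 -/
def v1_2_3_4_6_at3 : Fin 2 → Fin 8 → ℤ := (beta% delta% lq26d8b6db50 fun a b _ _ _ =>
 (a (a 0<|a 0<|a 0<|a 0<|a 0<|a 0<|a 0<|a (-1)<|b)<|a (a 0<|a 0<|a 0<|a 0<|a 0<|a 0<|a 1<|a 0<|b)<|b))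

theorem e1_2_3_4_6_at3 : EigOK (hd ch1_2_3_4_6) c3 v1_2_3_4_6_at3 ![0, 0, 0, 0, 0, 0, 0, -1] :=
  H493.EigF.ok (H493.EigF.hT H493.EigF.t8) H493.EigF.r2 (H493.EigF.mc H493.EigF.r8 <| H493.EigF.mc H493.EigF.r8 <| H493.EigF.m0) H493.EigF.r8 (by decide +kernel)

/-- coefficients of the eigenvector, order 4 -/
def v1_2_3_4_6_at4 : Fin 2 → Fin 8 → ℤ := (beta% delta% lq26d8b6db50 fun a b _ _ _ =>
 (a (a 0<|a (-1)<|a (-1)<|a (-1)<|a (-1)<|a 0<|a 0<|a 0<|b)<|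
 a (a 0<|a 0<|a 1<|a 1<|a 0<|a 0<|a 0<|a 0<|b)<|b))

theorem e1_2_3_4_6_at4 : EigOK (hd ch1_2_3_4_6) c4 v1_2_3_4_6_at4 ![0, -1, 0, 0, 0, 0, 0, 0] :=
  H493.EigF.ok (H493.EigF.hT H493.EigF.t8) H493.EigF.r2 (H493.EigF.mc H493.EigF.r8 <| H493.EigF.mc H493.EigF.r8 <| H493.EigF.m0) H493.EigF.r8 (by decide +kernel)

/-- coefficients of the eigenvector, order 6 -/
def v1_2_3_4_6_at6 : Fin 2 → Fin 8 → ℤ := (beta% delta% lq26d8b6db50 fun a b _ _ _ =>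
 (a (a (-1)<|a (-1)<|a (-1)<|a (-1)<|a 0<|a 0<|a 0<|a 0<|b)<|
 a (a 0<|a 0<|a 0<|a (-1)<|a (-1)<|a 0<|a 0<|a 0<|b)<|b))

theorem e1_2_3_4_6_at6 : EigOK (hd ch1_2_3_4_6) c6 v1_2_3_4_6_at6 ![-1, 0, 0, 0, 0, 0, 0, 0] :=
  H493.EigF.ok (H493.EigF.hT H493.EigF.t8) H493.EigF.r2 (H493.EigF.mc H493.EigF.r8 <| H493.EigF.mc H493.EigF.r8 <| H493.EigF.m0) H493.EigF.r8 (by decide +kernel)

theorem rel_2_1 {F : Type u} [Field F] [Finite F] {r s : ℕ} (hr : r.Prime) (hs : s.Prime) (hrs : r ≠ s)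
    (h1 : phiC c2 (Nat.card F) 1 r) (h2 : phiC c1 (Nat.card F) 1 s) :
    PG.Rel ↥(chevE8.group F) r s := by
  have := finW
  exact rel_of_eig hp CoxeterMatrix.E₈.toCoxeterSystem H129.TorusChar.invC_E8 one_ne_zero
    (chain_rep hp CoxeterMatrix.E₈.toCoxeterSystem hA ch1_2_3_4_6_ok) e1_2_3_4_6_at2 e1_2_3_4_6_at1 hr hs hrs h1.1 h2.1 h1.2 h2.2

theorem rel_3_1 {F : Type u} [Field F] [Finite F] {r s : ℕ} (hr : r.Prime) (hs : s.Prime) (hrs : r ≠ s)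
    (h1 : phiC c3 (Nat.card F) 1 r) (h2 : phiC c1 (Nat.card F) 1 s) :
    PG.Rel ↥(chevE8.group F) r s := by
  have := finW
  exact rel_of_eig hp CoxeterMatrix.E₈.toCoxeterSystem H129.TorusChar.invC_E8 one_ne_zero
    (chain_rep hp CoxeterMatrix.E₈.toCoxeterSystem hA ch1_2_3_4_6_ok) e1_2_3_4_6_at3 e1_2_3_4_6_at1 hr hs hrs h1.1 h2.1 h1.2 h2.2

theorem rel_4_1 {F : Type u} [Field F] [Finite F] {r s : ℕ} (hr : r.Prime) (hs : s.Prime) (hrs : r ≠ s)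
    (h1 : phiC c4 (Nat.card F) 1 r) (h2 : phiC c1 (Nat.card F) 1 s) :
    PG.Rel ↥(chevE8.group F) r s := by
  have := finW
  exact rel_of_eig hp CoxeterMatrix.E₈.toCoxeterSystem H129.TorusChar.invC_E8 one_ne_zero
    (chain_rep hp CoxeterMatrix.E₈.toCoxeterSystem hA ch1_2_3_4_6_ok) e1_2_3_4_6_at4 e1_2_3_4_6_at1 hr hs hrs h1.1 h2.1 h1.2 h2.2

theorem rel_6_1 {F : Type u} [Field F] [Finite F] {r s : ℕ} (hr : r.Prime) (hs : s.Prime) (hrs : r ≠ s)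
    (h1 : phiC c6 (Nat.card F) 1 r) (h2 : phiC c1 (Nat.card F) 1 s) :
    PG.Rel ↥(chevE8.group F) r s := by
  have := finW
  exact rel_of_eig hp CoxeterMatrix.E₈.toCoxeterSystem H129.TorusChar.invC_E8 one_ne_zero
    (chain_rep hp CoxeterMatrix.E₈.toCoxeterSystem hA ch1_2_3_4_6_ok) e1_2_3_4_6_at6 e1_2_3_4_6_at1 hr hs hrs h1.1 h2.1 h1.2 h2.2

theorem rel_3_2 {F : Type u} [Field F] [Finite F] {r s : ℕ} (hr : r.Prime) (hs : s.Prime) (hrs : r ≠ s)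
    (h1 : phiC c3 (Nat.card F) 1 r) (h2 : phiC c2 (Nat.card F) 1 s) :
    PG.Rel ↥(chevE8.group F) r s := by
  have := finW
  exact rel_of_eig hp CoxeterMatrix.E₈.toCoxeterSystem H129.TorusChar.invC_E8 one_ne_zero
    (chain_rep hp CoxeterMatrix.E₈.toCoxeterSystem hA ch1_2_3_4_6_ok) e1_2_3_4_6_at3 e1_2_3_4_6_at2 hr hs hrs h1.1 h2.1 h1.2 h2.2

theorem rel_4_2 {F : Type u} [Field F] [Finite F] {r s : ℕ} (hr : r.Prime) (hs : s.Prime) (hrs : r ≠ s)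
    (h1 : phiC c4 (Nat.card F) 1 r) (h2 : phiC c2 (Nat.card F) 1 s) :
    PG.Rel ↥(chevE8.group F) r s := by
  have := finW
  exact rel_of_eig hp CoxeterMatrix.E₈.toCoxeterSystem H129.TorusChar.invC_E8 one_ne_zero
    (chain_rep hp CoxeterMatrix.E₈.toCoxeterSystem hA ch1_2_3_4_6_ok) e1_2_3_4_6_at4 e1_2_3_4_6_at2 hr hs hrs h1.1 h2.1 h1.2 h2.2

theorem rel_6_2 {F : Type u} [Field F] [Finite F] {r s : ℕ} (hr : r.Prime) (hs : s.Prime) (hrs : r ≠ s)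
    (h1 : phiC c6 (Nat.card F) 1 r) (h2 : phiC c2 (Nat.card F) 1 s) :
    PG.Rel ↥(chevE8.group F) r s := by
  have := finW
  exact rel_of_eig hp CoxeterMatrix.E₈.toCoxeterSystem H129.TorusChar.invC_E8 one_ne_zero
    (chain_rep hp CoxeterMatrix.E₈.toCoxeterSystem hA ch1_2_3_4_6_ok) e1_2_3_4_6_at6 e1_2_3_4_6_at2 hr hs hrs h1.1 h2.1 h1.2 h2.2

theorem rel_4_3 {F : Type u} [Field F] [Finite F] {r s : ℕ} (hr : r.Prime) (hs : s.Prime) (hrs : r ≠ s)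
    (h1 : phiC c4 (Nat.card F) 1 r) (h2 : phiC c3 (Nat.card F) 1 s) :
    PG.Rel ↥(chevE8.group F) r s := by
  have := finW
  exact rel_of_eig hp CoxeterMatrix.E₈.toCoxeterSystem H129.TorusChar.invC_E8 one_ne_zero
    (chain_rep hp CoxeterMatrix.E₈.toCoxeterSystem hA ch1_2_3_4_6_ok) e1_2_3_4_6_at4 e1_2_3_4_6_at3 hr hs hrs h1.1 h2.1 h1.2 h2.2

theorem rel_6_3 {F : Type u} [Field F] [Finite F] {r s : ℕ} (hr : r.Prime) (hs : s.Prime) (hrs : r ≠ s)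
    (h1 : phiC c6 (Nat.card F) 1 r) (h2 : phiC c3 (Nat.card F) 1 s) :
    PG.Rel ↥(chevE8.group F) r s := by
  have := finW
  exact rel_of_eig hp CoxeterMatrix.E₈.toCoxeterSystem H129.TorusChar.invC_E8 one_ne_zero
    (chain_rep hp CoxeterMatrix.E₈.toCoxeterSystem hA ch1_2_3_4_6_ok) e1_2_3_4_6_at6 e1_2_3_4_6_at3 hr hs hrs h1.1 h2.1 h1.2 h2.2

theorem rel_6_4 {F : Type u} [Field F] [Finite F] {r s : ℕ} (hr : r.Prime) (hs : s.Prime) (hrs : r ≠ s)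
    (h1 : phiC c6 (Nat.card F) 1 r) (h2 : phiC c4 (Nat.card F) 1 s) :
    PG.Rel ↥(chevE8.group F) r s := by
  have := finW
  exact rel_of_eig hp CoxeterMatrix.E₈.toCoxeterSystem H129.TorusChar.invC_E8 one_ne_zero
    (chain_rep hp CoxeterMatrix.E₈.toCoxeterSystem hA ch1_2_3_4_6_ok) e1_2_3_4_6_at6 e1_2_3_4_6_at4 hr hs hrs h1.1 h2.1 h1.2 h2.2

/-- partial products of an element with characteristic polynomial Φ1 Φ2 Φ4 Φ10 -/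
def ch1_2_4_10 : List (Fin 8 × Mat 8) := (beta% delta% lq26d8b6db50 fun a b c d e =>
 (c (d 2 (a (a 1<|a 0<|a 1<|a 1<|a 0<|a 0<|a 0<|a 0<|b)<|a (a 0<|a (-1)<|a (-1)<|a (-2)<|a (-1)<|a 0<|a 0<|a 0<|b)<|a (a 0<|a 0<|a 0<|a 0<|a 1<|a 0<|a 0<|a 0<|b)<|
 a (a 0<|a 1<|a 1<|a 1<|a 0<|a 0<|a 0<|a 0<|b)<|a (a 0<|a 0<|a 0<|a 1<|a 1<|a 1<|a 0<|a 0<|b)<|a (a 0<|a 0<|a 0<|a 0<|a 0<|a 0<|a 1<|a 0<|b)<|a (a 0<|a 0<|a 0<|a 0<|a 0<|a 0<|a 0<|a 1<|b)<|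
 a (a 0<|a 0<|a (-1)<|a (-1)<|a (-1)<|a (-1)<|a (-1)<|a (-1)<|b)<|b))<|
 c (d 3 (a (a 1<|a 0<|a 1<|a 1<|a 0<|a 0<|a 0<|a 0<|b)<|a (a 0<|a (-1)<|a (-1)<|a (-2)<|a (-1)<|a 0<|a 0<|a 0<|b)<|a (a 0<|a 0<|a 0<|a 0<|a 1<|a 0<|a 0<|a 0<|b)<|
 a (a 0<|a 1<|a 0<|a 1<|a 0<|a 0<|a 0<|a 0<|b)<|a (a 0<|a 0<|a 1<|a 1<|a 1<|a 1<|a 0<|a 0<|b)<|a (a 0<|a 0<|a 0<|a 0<|a 0<|a 0<|a 1<|a 0<|b)<|a (a 0<|a 0<|a 0<|a 0<|a 0<|a 0<|a 0<|a 1<|b)<|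
 a (a 0<|a 0<|a 0<|a (-1)<|a (-1)<|a (-1)<|a (-1)<|a (-1)<|b)<|b))<|
 c (d 2 (a (a 1<|a 0<|a 1<|a 0<|a 0<|a 0<|a 0<|a 0<|b)<|a (a 0<|a (-1)<|a (-1)<|a (-1)<|a (-1)<|a 0<|a 0<|a 0<|b)<|a (a 0<|a 0<|a 0<|a 1<|a 1<|a 0<|a 0<|a 0<|b)<|
 a (a 0<|a 1<|a 0<|a 0<|a 0<|a 0<|a 0<|a 0<|b)<|a (a 0<|a 0<|a 1<|a 1<|a 1<|a 1<|a 0<|a 0<|b)<|a (a 0<|a 0<|a 0<|a 0<|a 0<|a 0<|a 1<|a 0<|b)<|a (a 0<|a 0<|a 0<|a 0<|a 0<|a 0<|a 0<|a 1<|b)<|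
 a (a 0<|a 0<|a 0<|a 0<|a (-1)<|a (-1)<|a (-1)<|a (-1)<|b)<|b))<|
 c (d 4 (a (a 1<|a 0<|a 0<|a 0<|a 0<|a 0<|a 0<|a 0<|b)<|a (a 0<|a (-1)<|a 0<|a (-1)<|a (-1)<|a 0<|a 0<|a 0<|b)<|a (a 0<|a 0<|a 1<|a 1<|a 1<|a 0<|a 0<|a 0<|b)<|
 a (a 0<|a 1<|a 0<|a 0<|a 0<|a 0<|a 0<|a 0<|b)<|a (a 0<|a 0<|a 0<|a 1<|a 1<|a 1<|a 0<|a 0<|b)<|a (a 0<|a 0<|a 0<|a 0<|a 0<|a 0<|a 1<|a 0<|b)<|a (a 0<|a 0<|a 0<|a 0<|a 0<|a 0<|a 0<|a 1<|b)<|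
 a (a 0<|a 0<|a 0<|a 0<|a (-1)<|a (-1)<|a (-1)<|a (-1)<|b)<|b))<|
 c (d 3 (a (a 1<|a 0<|a 0<|a 0<|a 0<|a 0<|a 0<|a 0<|b)<|a (a 0<|a (-1)<|a 0<|a (-1)<|a 0<|a 0<|a 0<|a 0<|b)<|a (a 0<|a 0<|a 1<|a 1<|a 0<|a 0<|a 0<|a 0<|b)<|
 a (a 0<|a 1<|a 0<|a 0<|a 0<|a 0<|a 0<|a 0<|b)<|a (a 0<|a 0<|a 0<|a 1<|a 1<|a 1<|a 0<|a 0<|b)<|a (a 0<|a 0<|a 0<|a 0<|a 0<|a 0<|a 1<|a 0<|b)<|a (a 0<|a 0<|a 0<|a 0<|a 0<|a 0<|a 0<|a 1<|b)<|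
 a (a 0<|a 0<|a 0<|a 0<|a 0<|a (-1)<|a (-1)<|a (-1)<|b)<|b))<|
 c (d 1 (a (a 1<|a 0<|a 0<|a 0<|a 0<|a 0<|a 0<|a 0<|b)<|a (a 0<|a (-1)<|a 0<|a 0<|a 0<|a 0<|a 0<|a 0<|b)<|a (a 0<|a 0<|a 1<|a 0<|a 0<|a 0<|a 0<|a 0<|b)<|
 a (a 0<|a 1<|a 0<|a 1<|a 0<|a 0<|a 0<|a 0<|b)<|a (a 0<|a 0<|a 0<|a 0<|a 1<|a 1<|a 0<|a 0<|b)<|a (a 0<|a 0<|a 0<|a 0<|a 0<|a 0<|a 1<|a 0<|b)<|a (a 0<|a 0<|a 0<|a 0<|a 0<|a 0<|a 0<|a 1<|b)<|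
 a (a 0<|a 0<|a 0<|a 0<|a 0<|a (-1)<|a (-1)<|a (-1)<|b)<|b))<|
 c (d 5 (a (a 1<|a 0<|a 0<|a 0<|a 0<|a 0<|a 0<|a 0<|b)<|a (a 0<|a 1<|a 0<|a 0<|a 0<|a 0<|a 0<|a 0<|b)<|a (a 0<|a 0<|a 1<|a 0<|a 0<|a 0<|a 0<|a 0<|b)<|
 a (a 0<|a 0<|a 0<|a 1<|a 0<|a 0<|a 0<|a 0<|b)<|a (a 0<|a 0<|a 0<|a 0<|a 1<|a 1<|a 0<|a 0<|b)<|a (a 0<|a 0<|a 0<|a 0<|a 0<|a 0<|a 1<|a 0<|b)<|a (a 0<|a 0<|a 0<|a 0<|a 0<|a 0<|a 0<|a 1<|b)<|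
 a (a 0<|a 0<|a 0<|a 0<|a 0<|a (-1)<|a (-1)<|a (-1)<|b)<|b))<|
 c (d 6 (a (a 1<|a 0<|a 0<|a 0<|a 0<|a 0<|a 0<|a 0<|b)<|a (a 0<|a 1<|a 0<|a 0<|a 0<|a 0<|a 0<|a 0<|b)<|a (a 0<|a 0<|a 1<|a 0<|a 0<|a 0<|a 0<|a 0<|b)<|
 a (a 0<|a 0<|a 0<|a 1<|a 0<|a 0<|a 0<|a 0<|b)<|a (a 0<|a 0<|a 0<|a 0<|a 1<|a 0<|a 0<|a 0<|b)<|a (a 0<|a 0<|a 0<|a 0<|a 0<|a 1<|a 1<|a 0<|b)<|a (a 0<|a 0<|a 0<|a 0<|a 0<|a 0<|a 0<|a 1<|b)<|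
 a (a 0<|a 0<|a 0<|a 0<|a 0<|a 0<|a (-1)<|a (-1)<|b)<|b))<|
 c (d 7 (a (a 1<|a 0<|a 0<|a 0<|a 0<|a 0<|a 0<|a 0<|b)<|a (a 0<|a 1<|a 0<|a 0<|a 0<|a 0<|a 0<|a 0<|b)<|a (a 0<|a 0<|a 1<|a 0<|a 0<|a 0<|a 0<|a 0<|b)<|
 a (a 0<|a 0<|a 0<|a 1<|a 0<|a 0<|a 0<|a 0<|b)<|a (a 0<|a 0<|a 0<|a 0<|a 1<|a 0<|a 0<|a 0<|b)<|a (a 0<|a 0<|a 0<|a 0<|a 0<|a 1<|a 0<|a 0<|b)<|a (a 0<|a 0<|a 0<|a 0<|a 0<|a 0<|a 1<|a 1<|b)<|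
 a (a 0<|a 0<|a 0<|a 0<|a 0<|a 0<|a 0<|a (-1)<|b)<|b))<|e))

theorem ch1_2_4_10_ok : ChainOK Am ch1_2_4_10 :=
  H129.ChainF.ok H129.ChainF.i8 H129.ChainF.m8 (H129.ChainF.c8 <| H129.ChainF.c8 <| H129.ChainF.c8 <| H129.ChainF.c8 <| H129.ChainF.c8 <| H129.ChainF.c8 <| H129.ChainF.c8 <| H129.ChainF.c8 <| H129.ChainF.c8 <| H129.ChainF.nil) (by decide +kernel)

/-- coefficients of the eigenvector, order 1 -/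
def v1_2_4_10_at1 : Fin 1 → Fin 8 → ℤ := ![![-4, -5, -7, -10, -8, -6, -4, -2]]

theorem e1_2_4_10_at1 : EigOK (hd ch1_2_4_10) c1 v1_2_4_10_at1 ![1, -1, 0, 0, 0, 0, 0, 0] :=
  H493.EigF.ok (H493.EigF.hT H493.EigF.t8) H493.EigF.r1 (H493.EigF.mc H493.EigF.r8 <| H493.EigF.m0) H493.EigF.r8 (by decide +kernel)

/-- coefficients of the eigenvector, order 2 -/
def v1_2_4_10_at2 : Fin 1 → Fin 8 → ℤ := ![![0, 1, -1, 0, 0, -2, 0, -2]]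

theorem e1_2_4_10_at2 : EigOK (hd ch1_2_4_10) c2 v1_2_4_10_at2 ![0, 1, 0, 0, 0, 0, 0, 0] :=
  H493.EigF.ok (H493.EigF.hT H493.EigF.t8) H493.EigF.r1 (H493.EigF.mc H493.EigF.r8 <| H493.EigF.m0) H493.EigF.r8 (by decide +kernel)

/-- coefficients of the eigenvector, order 4 -/
def v1_2_4_10_at4 : Fin 2 → Fin 8 → ℤ := (beta% delta% lq26d8b6db50 fun a b _ _ _ =>
 (a (a 0<|a 1<|a 1<|a 1<|a 0<|a 0<|a 0<|a 0<|b)<|a (a 0<|a 0<|a 0<|a 1<|a 0<|a 0<|a 0<|a 0<|b)<|b))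

theorem e1_2_4_10_at4 : EigOK (hd ch1_2_4_10) c4 v1_2_4_10_at4 ![0, 1, 0, 0, 0, 0, 0, 0] :=
  H493.EigF.ok (H493.EigF.hT H493.EigF.t8) H493.EigF.r2 (H493.EigF.mc H493.EigF.r8 <| H493.EigF.mc H493.EigF.r8 <| H493.EigF.m0) H493.EigF.r8 (by decide +kernel)

/-- coefficients of the eigenvector, order 10 -/
def v1_2_4_10_at10 : Fin 4 → Fin 8 → ℤ := (beta% delta% lq26d8b6db50 fun a b _ _ _ =>
 (a (a 0<|a (-1)<|a 0<|a (-1)<|a (-1)<|a (-1)<|a 0<|a 0<|b)<|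
 a (a 0<|a 0<|a (-1)<|a (-1)<|a (-1)<|a 0<|a (-1)<|a (-1)<|b)<|a (a 0<|a 0<|a 0<|a 0<|a 0<|a (-1)<|a 0<|a 1<|b)<|a (a 0<|a 0<|a 0<|a 0<|a 0<|a 1<|a 1<|a 0<|b)<|b))

theorem e1_2_4_10_at10 : EigOK (hd ch1_2_4_10) c10 v1_2_4_10_at10 ![0, -1, 0, 0, 0, 0, 0, 0] :=
  H493.EigF.ok (H493.EigF.hT H493.EigF.t8) H493.EigF.r4 (H493.EigF.mc H493.EigF.r8 <| H493.EigF.mc H493.EigF.r8 <| H493.EigF.mc H493.EigF.r8 <| H493.EigF.mc H493.EigF.r8 <| H493.EigF.m0) H493.EigF.r8 (by decide +kernel)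

theorem rel_10_1 {F : Type u} [Field F] [Finite F] {r s : ℕ} (hr : r.Prime) (hs : s.Prime) (hrs : r ≠ s)
    (h1 : phiC c10 (Nat.card F) 1 r) (h2 : phiC c1 (Nat.card F) 1 s) :
    PG.Rel ↥(chevE8.group F) r s := by
  have := finW
  exact rel_of_eig hp CoxeterMatrix.E₈.toCoxeterSystem H129.TorusChar.invC_E8 one_ne_zero
    (chain_rep hp CoxeterMatrix.E₈.toCoxeterSystem hA ch1_2_4_10_ok) e1_2_4_10_at10 e1_2_4_10_at1 hr hs hrs h1.1 h2.1 h1.2 h2.2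

theorem rel_10_2 {F : Type u} [Field F] [Finite F] {r s : ℕ} (hr : r.Prime) (hs : s.Prime) (hrs : r ≠ s)
    (h1 : phiC c10 (Nat.card F) 1 r) (h2 : phiC c2 (Nat.card F) 1 s) :
    PG.Rel ↥(chevE8.group F) r s := by
  have := finW
  exact rel_of_eig hp CoxeterMatrix.E₈.toCoxeterSystem H129.TorusChar.invC_E8 one_ne_zero
    (chain_rep hp CoxeterMatrix.E₈.toCoxeterSystem hA ch1_2_4_10_ok) e1_2_4_10_at10 e1_2_4_10_at2 hr hs hrs h1.1 h2.1 h1.2 h2.2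

theorem rel_10_4 {F : Type u} [Field F] [Finite F] {r s : ℕ} (hr : r.Prime) (hs : s.Prime) (hrs : r ≠ s)
    (h1 : phiC c10 (Nat.card F) 1 r) (h2 : phiC c4 (Nat.card F) 1 s) :
    PG.Rel ↥(chevE8.group F) r s := by
  have := finW
  exact rel_of_eig hp CoxeterMatrix.E₈.toCoxeterSystem H129.TorusChar.invC_E8 one_ne_zero
    (chain_rep hp CoxeterMatrix.E₈.toCoxeterSystem hA ch1_2_4_10_ok) e1_2_4_10_at10 e1_2_4_10_at4 hr hs hrs h1.1 h2.1 h1.2 h2.2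

end Cfsg.Agent.R2.Spec.EE.CertE8
end

-- part: R2/Spec/EE/CertE8P
section
/-!
# Adjacency with the characteristic, type E8 (helper2)
-/

set_option autoImplicit false

namespace Cfsg.Agent.R2.Spec.EE.CertE8

open Cfsg.Agent.H129.WData Cfsg.Agent.ChevalleyStructure.CoxeterGeomTypes Cfsg.Agent.Nodes.RGDChev
open Cfsg.Lie Cfsg.Lie.ChevalleyDatum
open Cfsg.Agent Cfsg.Agent.H493 Cfsg.Agent.H493.PGTorus Cfsg.Agent.H493.PGCyc Cfsg.Agent.H493.PGE8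
open Cfsg.Agent.H168.ExcAdj Cfsg.Agent.R2.Spec.EE.CertBase

universe u

/-- the highest root -/
def r0 : ℕ := 239

theorem r0_lt : r0 < chevE8.nroots := by decide +kernel

/-- partial products of an element with characteristic polynomial Φ1^8 -/
def q1 : List (Fin 8 × Mat 8) := []

theorem q1_ok : ChainOK Am q1 := by decide +kernel

/-- coefficients of the functional, order 1 -/
def v1 : Fin 1 → Fin 8 → ℤ := ![![0, -1, 0, 0, 0, 0, 1, 0]]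

theorem e1 : EigOK (fun i j => hd q1 j i) c1 v1 ![0, -1, 0, 0, 0, 0, 0, 0] := by decide +kernel

theorem f1 : ∀ m, ∑ j, vec chevE8 8 r0 j * hd q1 j m = vec chevE8 8 r0 m := by decide +kernel

theorem z1 : ∀ i, ∑ m, vec chevE8 8 r0 m * v1 i m = 0 := by decide +kernel

theorem rel_1_p {F : Type u} [Field F] [Finite F] {r s : ℕ} (hr : r.Prime) (hs : s.Prime)
    (h1 : phiC c1 (Nat.card F) 1 r) (h2 : s ∣ Nat.card F) : PG.Rel ↥(chevE8.group F) r s := by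
  have := finW
  exact rel_p_of_eig hp CoxeterMatrix.E₈.toCoxeterSystem H129.TorusChar.invC_E8 one_ne_zero
    (chain_rep hp CoxeterMatrix.E₈.toCoxeterSystem hA q1_ok) e1 (Or.inr (by decide +kernel)) r0_lt f1 z1 hr hs h1.1
    (fun h => absurd (Nat.dvd_one.1 h) hs.one_lt.ne') h1.2 h2

/-- partial products of an element with characteristic polynomial Φ1^7 Φ2 -/
def q2 : List (Fin 8 × Mat 8) := (beta% delta% lq26d8b6db50 fun a b c d e =>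
 (c (d 1 (a (a 1<|a 0<|a 0<|a 0<|a 0<|a 0<|a 0<|a 0<|b)<|a (a 0<|a (-1)<|a 0<|a 0<|a 0<|a 0<|a 0<|a 0<|b)<|a (a 0<|a 0<|a 1<|a 0<|a 0<|a 0<|a 0<|a 0<|b)<|
 a (a 0<|a 1<|a 0<|a 1<|a 0<|a 0<|a 0<|a 0<|b)<|a (a 0<|a 0<|a 0<|a 0<|a 1<|a 0<|a 0<|a 0<|b)<|a (a 0<|a 0<|a 0<|a 0<|a 0<|a 1<|a 0<|a 0<|b)<|a (a 0<|a 0<|a 0<|a 0<|a 0<|a 0<|a 1<|a 0<|b)<|
 a (a 0<|a 0<|a 0<|a 0<|a 0<|a 0<|a 0<|a 1<|b)<|b))<|e))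

theorem q2_ok : ChainOK Am q2 :=
  H129.ChainF.ok H129.ChainF.i8 H129.ChainF.m8 (H129.ChainF.c8 <| H129.ChainF.nil) (by decide +kernel)

/-- coefficients of the functional, order 2 -/
def v2 : Fin 1 → Fin 8 → ℤ := ![![0, -2, 0, 1, 0, 0, 0, 0]]

theorem e2 : EigOK (fun i j => hd q2 j i) c2 v2 ![0, 0, 0, 1, 0, 0, 0, 0] :=
  H493.EigF.ok (H493.EigF.tt (hd q2) (H493.EigF.hM H129.ChainF.m8)) H493.EigF.r1 (H493.EigF.mc H493.EigF.r8 <| H493.EigF.m0) H493.EigF.r8 (by decide +kernel)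

theorem f2 : ∀ m, ∑ j, vec chevE8 8 r0 j * hd q2 j m = vec chevE8 8 r0 m := by decide +kernel

theorem z2 : ∀ i, ∑ m, vec chevE8 8 r0 m * v2 i m = 0 := by decide +kernel

theorem rel_2_p {F : Type u} [Field F] [Finite F] {r s : ℕ} (hr : r.Prime) (hs : s.Prime)
    (h1 : phiC c2 (Nat.card F) 1 r) (h2 : s ∣ Nat.card F) : PG.Rel ↥(chevE8.group F) r s := by
  have := finW
  exact rel_p_of_eig hp CoxeterMatrix.E₈.toCoxeterSystem H129.TorusChar.invC_E8 one_ne_zero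
    (chain_rep hp CoxeterMatrix.E₈.toCoxeterSystem hA q2_ok) e2 (Or.inl (by decide +kernel)) r0_lt f2 z2 hr hs h1.1
    (fun h => absurd (Nat.dvd_one.1 h) hs.one_lt.ne') h1.2 h2

/-- partial products of an element with characteristic polynomial Φ1^6 Φ3 -/
def q3 : List (Fin 8 × Mat 8) := (beta% delta% lq26d8b6db50 fun a b c d e =>
 (c (d 4 (a (a 1<|a 0<|a 0<|a 0<|a 0<|a 0<|a 0<|a 0<|b)<|a (a 0<|a 1<|a 0<|a 1<|a 1<|a 0<|a 0<|a 0<|b)<|a (a 0<|a 0<|a 1<|a 1<|a 1<|a 0<|a 0<|a 0<|b)<|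
 a (a 0<|a 0<|a 0<|a (-1)<|a (-1)<|a 0<|a 0<|a 0<|b)<|a (a 0<|a 0<|a 0<|a 1<|a 0<|a 0<|a 0<|a 0<|b)<|a (a 0<|a 0<|a 0<|a 0<|a 1<|a 1<|a 0<|a 0<|b)<|a (a 0<|a 0<|a 0<|a 0<|a 0<|a 0<|a 1<|a 0<|b)<|
 a (a 0<|a 0<|a 0<|a 0<|a 0<|a 0<|a 0<|a 1<|b)<|b))<|
 c (d 3 (a (a 1<|a 0<|a 0<|a 0<|a 0<|a 0<|a 0<|a 0<|b)<|a (a 0<|a 1<|a 0<|a 1<|a 0<|a 0<|a 0<|a 0<|b)<|a (a 0<|a 0<|a 1<|a 1<|a 0<|a 0<|a 0<|a 0<|b)<|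
 a (a 0<|a 0<|a 0<|a (-1)<|a 0<|a 0<|a 0<|a 0<|b)<|a (a 0<|a 0<|a 0<|a 1<|a 1<|a 0<|a 0<|a 0<|b)<|a (a 0<|a 0<|a 0<|a 0<|a 0<|a 1<|a 0<|a 0<|b)<|a (a 0<|a 0<|a 0<|a 0<|a 0<|a 0<|a 1<|a 0<|b)<|
 a (a 0<|a 0<|a 0<|a 0<|a 0<|a 0<|a 0<|a 1<|b)<|b))<|e))

theorem q3_ok : ChainOK Am q3 :=
  H129.ChainF.ok H129.ChainF.i8 H129.ChainF.m8 (H129.ChainF.c8 <| H129.ChainF.c8 <| H129.ChainF.nil) (by decide +kernel)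

/-- coefficients of the functional, order 3 -/
def v3 : Fin 2 → Fin 8 → ℤ := (beta% delta% lq26d8b6db50 fun a b _ _ _ =>
 (a (a 0<|a (-1)<|a (-1)<|a 2<|a (-1)<|a 0<|a 0<|a 0<|b)<|
 a (a 0<|a 0<|a 0<|a 1<|a (-2)<|a 1<|a 0<|a 0<|b)<|b))

theorem e3 : EigOK (fun i j => hd q3 j i) c3 v3 ![0, -1, 0, 0, 0, 0, 0, 0] :=
  H493.EigF.ok (H493.EigF.tt (hd q3) (H493.EigF.hM H129.ChainF.m8)) H493.EigF.r2 (H493.EigF.mc H493.EigF.r8 <| H493.EigF.mc H493.EigF.r8 <| H493.EigF.m0) H493.EigF.r8 (by decide +kernel)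

theorem f3 : ∀ m, ∑ j, vec chevE8 8 r0 j * hd q3 j m = vec chevE8 8 r0 m := by decide +kernel

theorem z3 : ∀ i, ∑ m, vec chevE8 8 r0 m * v3 i m = 0 := by decide +kernel

theorem rel_3_p {F : Type u} [Field F] [Finite F] {r s : ℕ} (hr : r.Prime) (hs : s.Prime)
    (h1 : phiC c3 (Nat.card F) 1 r) (h2 : s ∣ Nat.card F) : PG.Rel ↥(chevE8.group F) r s := by
  have := finW
  exact rel_p_of_eig hp CoxeterMatrix.E₈.toCoxeterSystem H129.TorusChar.invC_E8 one_ne_zero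
    (chain_rep hp CoxeterMatrix.E₈.toCoxeterSystem hA q3_ok) e3 (Or.inl (by decide +kernel)) r0_lt f3 z3 hr hs h1.1
    (fun h => absurd (Nat.dvd_one.1 h) hs.one_lt.ne') h1.2 h2

/-- partial products of an element with characteristic polynomial Φ1^5 Φ2 Φ4 -/
def q4 : List (Fin 8 × Mat 8) := (beta% delta% lq26d8b6db50 fun a b c d e =>
 (c (d 3 (a (a 1<|a 0<|a 0<|a 0<|a 0<|a 0<|a 0<|a 0<|b)<|a (a 0<|a 1<|a 0<|a 1<|a 0<|a 0<|a 0<|a 0<|b)<|a (a 0<|a 0<|a 1<|a 1<|a 0<|a 0<|a 0<|a 0<|b)<|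
 a (a 0<|a 0<|a 0<|a 0<|a 1<|a 1<|a 0<|a 0<|b)<|a (a 0<|a 0<|a 0<|a (-1)<|a (-1)<|a (-1)<|a 0<|a 0<|b)<|a (a 0<|a 0<|a 0<|a 1<|a 1<|a 0<|a 0<|a 0<|b)<|a (a 0<|a 0<|a 0<|a 0<|a 0<|a 1<|a 1<|a 0<|b)<|
 a (a 0<|a 0<|a 0<|a 0<|a 0<|a 0<|a 0<|a 1<|b)<|b))<|
 c (d 5 (a (a 1<|a 0<|a 0<|a 0<|a 0<|a 0<|a 0<|a 0<|b)<|a (a 0<|a 1<|a 0<|a 0<|a 0<|a 0<|a 0<|a 0<|b)<|a (a 0<|a 0<|a 1<|a 0<|a 0<|a 0<|a 0<|a 0<|b)<|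
 a (a 0<|a 0<|a 0<|a 1<|a 1<|a 1<|a 0<|a 0<|b)<|a (a 0<|a 0<|a 0<|a 0<|a (-1)<|a (-1)<|a 0<|a 0<|b)<|a (a 0<|a 0<|a 0<|a 0<|a 1<|a 0<|a 0<|a 0<|b)<|a (a 0<|a 0<|a 0<|a 0<|a 0<|a 1<|a 1<|a 0<|b)<|
 a (a 0<|a 0<|a 0<|a 0<|a 0<|a 0<|a 0<|a 1<|b)<|b))<|
 c (d 4 (a (a 1<|a 0<|a 0<|a 0<|a 0<|a 0<|a 0<|a 0<|b)<|a (a 0<|a 1<|a 0<|a 0<|a 0<|a 0<|a 0<|a 0<|b)<|a (a 0<|a 0<|a 1<|a 0<|a 0<|a 0<|a 0<|a 0<|b)<|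
 a (a 0<|a 0<|a 0<|a 1<|a 1<|a 0<|a 0<|a 0<|b)<|a (a 0<|a 0<|a 0<|a 0<|a (-1)<|a 0<|a 0<|a 0<|b)<|a (a 0<|a 0<|a 0<|a 0<|a 1<|a 1<|a 0<|a 0<|b)<|a (a 0<|a 0<|a 0<|a 0<|a 0<|a 0<|a 1<|a 0<|b)<|
 a (a 0<|a 0<|a 0<|a 0<|a 0<|a 0<|a 0<|a 1<|b)<|b))<|e))

theorem q4_ok : ChainOK Am q4 :=
  H129.ChainF.ok H129.ChainF.i8 H129.ChainF.m8 (H129.ChainF.c8 <| H129.ChainF.c8 <| H129.ChainF.c8 <| H129.ChainF.nil) (by decide +kernel)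

/-- coefficients of the functional, order 4 -/
def v4 : Fin 2 → Fin 8 → ℤ := (beta% delta% lq26d8b6db50 fun a b _ _ _ =>
 (a (a 0<|a 1<|a 1<|a (-1)<|a 0<|a (-1)<|a 1<|a 0<|b)<|
 a (a 0<|a 0<|a 0<|a 1<|a (-2)<|a 1<|a 0<|a 0<|b)<|b))

theorem e4 : EigOK (fun i j => hd q4 j i) c4 v4 ![0, 1, 0, 0, 0, 0, 0, 0] :=
  H493.EigF.ok (H493.EigF.tt (hd q4) (H493.EigF.hM H129.ChainF.m8)) H493.EigF.r2 (H493.EigF.mc H493.EigF.r8 <| H493.EigF.mc H493.EigF.r8 <| H493.EigF.m0) H493.EigF.r8 (by decide +kernel)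

theorem f4 : ∀ m, ∑ j, vec chevE8 8 r0 j * hd q4 j m = vec chevE8 8 r0 m := by decide +kernel

theorem z4 : ∀ i, ∑ m, vec chevE8 8 r0 m * v4 i m = 0 := by decide +kernel

theorem rel_4_p {F : Type u} [Field F] [Finite F] {r s : ℕ} (hr : r.Prime) (hs : s.Prime)
    (h1 : phiC c4 (Nat.card F) 1 r) (h2 : s ∣ Nat.card F) : PG.Rel ↥(chevE8.group F) r s := by
  have := finW
  exact rel_p_of_eig hp CoxeterMatrix.E₈.toCoxeterSystem H129.TorusChar.invC_E8 one_ne_zero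
    (chain_rep hp CoxeterMatrix.E₈.toCoxeterSystem hA q4_ok) e4 (Or.inl (by decide +kernel)) r0_lt f4 z4 hr hs h1.1
    (fun h => absurd (Nat.dvd_one.1 h) hs.one_lt.ne') h1.2 h2

/-- partial products of an element with characteristic polynomial Φ1^4 Φ5 -/
def q5 : List (Fin 8 × Mat 8) := (beta% delta% lq26d8b6db50 fun a b c d e =>
 (c (d 2 (a (a 1<|a 0<|a 1<|a 0<|a 0<|a 0<|a 0<|a 0<|b)<|a (a 0<|a 1<|a 1<|a 1<|a 1<|a 1<|a 0<|a 0<|b)<|a (a 0<|a 0<|a 0<|a 1<|a 1<|a 1<|a 0<|a 0<|b)<|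
 a (a 0<|a 0<|a (-1)<|a (-1)<|a (-1)<|a (-1)<|a 0<|a 0<|b)<|a (a 0<|a 0<|a 1<|a 1<|a 0<|a 0<|a 0<|a 0<|b)<|a (a 0<|a 0<|a 0<|a 0<|a 1<|a 0<|a 0<|a 0<|b)<|a (a 0<|a 0<|a 0<|a 0<|a 0<|a 1<|a 1<|a 0<|b)<|
 a (a 0<|a 0<|a 0<|a 0<|a 0<|a 0<|a 0<|a 1<|b)<|b))<|
 c (d 5 (a (a 1<|a 0<|a 0<|a 0<|a 0<|a 0<|a 0<|a 0<|b)<|a (a 0<|a 1<|a 0<|a 1<|a 1<|a 1<|a 0<|a 0<|b)<|a (a 0<|a 0<|a 1<|a 1<|a 1<|a 1<|a 0<|a 0<|b)<|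
 a (a 0<|a 0<|a 0<|a (-1)<|a (-1)<|a (-1)<|a 0<|a 0<|b)<|a (a 0<|a 0<|a 0<|a 1<|a 0<|a 0<|a 0<|a 0<|b)<|a (a 0<|a 0<|a 0<|a 0<|a 1<|a 0<|a 0<|a 0<|b)<|a (a 0<|a 0<|a 0<|a 0<|a 0<|a 1<|a 1<|a 0<|b)<|
 a (a 0<|a 0<|a 0<|a 0<|a 0<|a 0<|a 0<|a 1<|b)<|b))<|
 c (d 4 (a (a 1<|a 0<|a 0<|a 0<|a 0<|a 0<|a 0<|a 0<|b)<|a (a 0<|a 1<|a 0<|a 1<|a 1<|a 0<|a 0<|a 0<|b)<|a (a 0<|a 0<|a 1<|a 1<|a 1<|a 0<|a 0<|a 0<|b)<|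
 a (a 0<|a 0<|a 0<|a (-1)<|a (-1)<|a 0<|a 0<|a 0<|b)<|a (a 0<|a 0<|a 0<|a 1<|a 0<|a 0<|a 0<|a 0<|b)<|a (a 0<|a 0<|a 0<|a 0<|a 1<|a 1<|a 0<|a 0<|b)<|a (a 0<|a 0<|a 0<|a 0<|a 0<|a 0<|a 1<|a 0<|b)<|
 a (a 0<|a 0<|a 0<|a 0<|a 0<|a 0<|a 0<|a 1<|b)<|b))<|
 c (d 3 (a (a 1<|a 0<|a 0<|a 0<|a 0<|a 0<|a 0<|a 0<|b)<|a (a 0<|a 1<|a 0<|a 1<|a 0<|a 0<|a 0<|a 0<|b)<|a (a 0<|a 0<|a 1<|a 1<|a 0<|a 0<|a 0<|a 0<|b)<|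
 a (a 0<|a 0<|a 0<|a (-1)<|a 0<|a 0<|a 0<|a 0<|b)<|a (a 0<|a 0<|a 0<|a 1<|a 1<|a 0<|a 0<|a 0<|b)<|a (a 0<|a 0<|a 0<|a 0<|a 0<|a 1<|a 0<|a 0<|b)<|a (a 0<|a 0<|a 0<|a 0<|a 0<|a 0<|a 1<|a 0<|b)<|
 a (a 0<|a 0<|a 0<|a 0<|a 0<|a 0<|a 0<|a 1<|b)<|b))<|e))

theorem q5_ok : ChainOK Am q5 :=
  H129.ChainF.ok H129.ChainF.i8 H129.ChainF.m8 (H129.ChainF.c8 <| H129.ChainF.c8 <| H129.ChainF.c8 <| H129.ChainF.c8 <| H129.ChainF.nil) (by decide +kernel)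

/-- coefficients of the functional, order 5 -/
def v5 : Fin 4 → Fin 8 → ℤ := (beta% delta% lq26d8b6db50 fun a b _ _ _ =>
 (a (a 0<|a 0<|a 0<|a (-1)<|a 2<|a (-1)<|a 0<|a 0<|b)<|
 a (a (-1)<|a (-1)<|a 1<|a 0<|a 1<|a (-1)<|a 0<|a 0<|b)<|a (a 0<|a (-1)<|a (-1)<|a 1<|a 1<|a (-1)<|a 0<|a 0<|b)<|a (a 0<|a 0<|a 0<|a 0<|a 1<|a (-2)<|a 1<|a 0<|b)<|b))

theorem e5 : EigOK (fun i j => hd q5 j i) c5 v5 ![1, -1, 0, -1, 0, 0, 0, 0] :=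
  H493.EigF.ok (H493.EigF.tt (hd q5) (H493.EigF.hM H129.ChainF.m8)) H493.EigF.r4 (H493.EigF.mc H493.EigF.r8 <| H493.EigF.mc H493.EigF.r8 <| H493.EigF.mc H493.EigF.r8 <| H493.EigF.mc H493.EigF.r8 <| H493.EigF.m0) H493.EigF.r8 (by decide +kernel)

theorem f5 : ∀ m, ∑ j, vec chevE8 8 r0 j * hd q5 j m = vec chevE8 8 r0 m := by decide +kernel

theorem z5 : ∀ i, ∑ m, vec chevE8 8 r0 m * v5 i m = 0 := by decide +kernel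

theorem rel_5_p {F : Type u} [Field F] [Finite F] {r s : ℕ} (hr : r.Prime) (hs : s.Prime)
    (h1 : phiC c5 (Nat.card F) 1 r) (h2 : s ∣ Nat.card F) : PG.Rel ↥(chevE8.group F) r s := by
  have := finW
  exact rel_p_of_eig hp CoxeterMatrix.E₈.toCoxeterSystem H129.TorusChar.invC_E8 one_ne_zero
    (chain_rep hp CoxeterMatrix.E₈.toCoxeterSystem hA q5_ok) e5 (Or.inl (by decide +kernel)) r0_lt f5 z5 hr hs h1.1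
    (fun h => absurd (Nat.dvd_one.1 h) hs.one_lt.ne') h1.2 h2

/-- partial products of an element with characteristic polynomial Φ1^4 Φ2^2 Φ6 -/
def q6 : List (Fin 8 × Mat 8) := (beta% delta% lq26d8b6db50 fun a b c d e =>
 (c (d 2 (a (a 1<|a 0<|a 1<|a 0<|a 0<|a 0<|a 0<|a 0<|b)<|a (a 0<|a (-1)<|a (-1)<|a (-1)<|a 0<|a 0<|a 0<|a 0<|b)<|a (a 0<|a 0<|a 0<|a 1<|a 0<|a 0<|a 0<|a 0<|b)<|
 a (a 0<|a 1<|a 1<|a 1<|a 1<|a 0<|a 0<|a 0<|b)<|a (a 0<|a 0<|a (-1)<|a (-1)<|a (-1)<|a 0<|a 0<|a 0<|b)<|a (a 0<|a 0<|a 1<|a 1<|a 1<|a 1<|a 0<|a 0<|b)<|a (a 0<|a 0<|a 0<|a 0<|a 0<|a 0<|a 1<|a 0<|b)<|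
 a (a 0<|a 0<|a 0<|a 0<|a 0<|a 0<|a 0<|a 1<|b)<|b))<|
 c (d 3 (a (a 1<|a 0<|a 0<|a 0<|a 0<|a 0<|a 0<|a 0<|b)<|a (a 0<|a (-1)<|a 0<|a (-1)<|a 0<|a 0<|a 0<|a 0<|b)<|a (a 0<|a 0<|a 1<|a 1<|a 0<|a 0<|a 0<|a 0<|b)<|
 a (a 0<|a 1<|a 0<|a 1<|a 1<|a 0<|a 0<|a 0<|b)<|a (a 0<|a 0<|a 0<|a (-1)<|a (-1)<|a 0<|a 0<|a 0<|b)<|a (a 0<|a 0<|a 0<|a 1<|a 1<|a 1<|a 0<|a 0<|b)<|a (a 0<|a 0<|a 0<|a 0<|a 0<|a 0<|a 1<|a 0<|b)<|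
 a (a 0<|a 0<|a 0<|a 0<|a 0<|a 0<|a 0<|a 1<|b)<|b))<|
 c (d 1 (a (a 1<|a 0<|a 0<|a 0<|a 0<|a 0<|a 0<|a 0<|b)<|a (a 0<|a (-1)<|a 0<|a 0<|a 0<|a 0<|a 0<|a 0<|b)<|a (a 0<|a 0<|a 1<|a 0<|a 0<|a 0<|a 0<|a 0<|b)<|
 a (a 0<|a 1<|a 0<|a 1<|a 1<|a 0<|a 0<|a 0<|b)<|a (a 0<|a 0<|a 0<|a 0<|a (-1)<|a 0<|a 0<|a 0<|b)<|a (a 0<|a 0<|a 0<|a 0<|a 1<|a 1<|a 0<|a 0<|b)<|a (a 0<|a 0<|a 0<|a 0<|a 0<|a 0<|a 1<|a 0<|b)<|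
 a (a 0<|a 0<|a 0<|a 0<|a 0<|a 0<|a 0<|a 1<|b)<|b))<|
 c (d 4 (a (a 1<|a 0<|a 0<|a 0<|a 0<|a 0<|a 0<|a 0<|b)<|a (a 0<|a 1<|a 0<|a 0<|a 0<|a 0<|a 0<|a 0<|b)<|a (a 0<|a 0<|a 1<|a 0<|a 0<|a 0<|a 0<|a 0<|b)<|
 a (a 0<|a 0<|a 0<|a 1<|a 1<|a 0<|a 0<|a 0<|b)<|a (a 0<|a 0<|a 0<|a 0<|a (-1)<|a 0<|a 0<|a 0<|b)<|a (a 0<|a 0<|a 0<|a 0<|a 1<|a 1<|a 0<|a 0<|b)<|a (a 0<|a 0<|a 0<|a 0<|a 0<|a 0<|a 1<|a 0<|b)<|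
 a (a 0<|a 0<|a 0<|a 0<|a 0<|a 0<|a 0<|a 1<|b)<|b))<|e))

theorem q6_ok : ChainOK Am q6 :=
  H129.ChainF.ok H129.ChainF.i8 H129.ChainF.m8 (H129.ChainF.c8 <| H129.ChainF.c8 <| H129.ChainF.c8 <| H129.ChainF.c8 <| H129.ChainF.nil) (by decide +kernel)

/-- coefficients of the functional, order 6 -/
def v6 : Fin 2 → Fin 8 → ℤ := (beta% delta% lq26d8b6db50 fun a b _ _ _ =>
 (a (a 0<|a 1<|a (-1)<|a 0<|a 1<|a (-1)<|a 0<|a 0<|b)<|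
 a (a 1<|a 0<|a 0<|a (-1)<|a 0<|a 1<|a 0<|a 0<|b)<|b))

theorem e6 : EigOK (fun i j => hd q6 j i) c6 v6 ![0, 1, 0, 0, 0, 0, 0, 0] :=
  H493.EigF.ok (H493.EigF.tt (hd q6) (H493.EigF.hM H129.ChainF.m8)) H493.EigF.r2 (H493.EigF.mc H493.EigF.r8 <| H493.EigF.mc H493.EigF.r8 <| H493.EigF.m0) H493.EigF.r8 (by decide +kernel)

theorem f6 : ∀ m, ∑ j, vec chevE8 8 r0 j * hd q6 j m = vec chevE8 8 r0 m := by decide +kernel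

theorem z6 : ∀ i, ∑ m, vec chevE8 8 r0 m * v6 i m = 0 := by decide +kernel

theorem rel_6_p {F : Type u} [Field F] [Finite F] {r s : ℕ} (hr : r.Prime) (hs : s.Prime)
    (h1 : phiC c6 (Nat.card F) 1 r) (h2 : s ∣ Nat.card F) : PG.Rel ↥(chevE8.group F) r s := by
  have := finW
  exact rel_p_of_eig hp CoxeterMatrix.E₈.toCoxeterSystem H129.TorusChar.invC_E8 one_ne_zero
    (chain_rep hp CoxeterMatrix.E₈.toCoxeterSystem hA q6_ok) e6 (Or.inl (by decide +kernel)) r0_lt f6 z6 hr hs h1.1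
    (fun h => absurd (Nat.dvd_one.1 h) hs.one_lt.ne') h1.2 h2

/-- partial products of an element with characteristic polynomial Φ1^2 Φ7 -/
def q7 : List (Fin 8 × Mat 8) := (beta% delta% lq26d8b6db50 fun a b c d e =>
 (c (d 0 (a (a 0<|a 0<|a 1<|a 1<|a 1<|a 1<|a 1<|a 0<|b)<|a (a 0<|a 1<|a 0<|a 1<|a 1<|a 1<|a 1<|a 0<|b)<|a (a (-1)<|a 0<|a (-1)<|a (-1)<|a (-1)<|a (-1)<|a (-1)<|a 0<|b)<|
 a (a 1<|a 0<|a 1<|a 0<|a 0<|a 0<|a 0<|a 0<|b)<|a (a 0<|a 0<|a 0<|a 1<|a 0<|a 0<|a 0<|a 0<|b)<|a (a 0<|a 0<|a 0<|a 0<|a 1<|a 0<|a 0<|a 0<|b)<|a (a 0<|a 0<|a 0<|a 0<|a 0<|a 1<|a 0<|a 0<|b)<|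
 a (a 0<|a 0<|a 0<|a 0<|a 0<|a 0<|a 1<|a 1<|b)<|b))<|
 c (d 6 (a (a 1<|a 0<|a 1<|a 1<|a 1<|a 1<|a 1<|a 0<|b)<|a (a 0<|a 1<|a 0<|a 1<|a 1<|a 1<|a 1<|a 0<|b)<|a (a 0<|a 0<|a (-1)<|a (-1)<|a (-1)<|a (-1)<|a (-1)<|a 0<|b)<|
 a (a 0<|a 0<|a 1<|a 0<|a 0<|a 0<|a 0<|a 0<|b)<|a (a 0<|a 0<|a 0<|a 1<|a 0<|a 0<|a 0<|a 0<|b)<|a (a 0<|a 0<|a 0<|a 0<|a 1<|a 0<|a 0<|a 0<|b)<|a (a 0<|a 0<|a 0<|a 0<|a 0<|a 1<|a 0<|a 0<|b)<|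
 a (a 0<|a 0<|a 0<|a 0<|a 0<|a 0<|a 1<|a 1<|b)<|b))<|
 c (d 5 (a (a 1<|a 0<|a 1<|a 1<|a 1<|a 1<|a 0<|a 0<|b)<|a (a 0<|a 1<|a 0<|a 1<|a 1<|a 1<|a 0<|a 0<|b)<|a (a 0<|a 0<|a (-1)<|a (-1)<|a (-1)<|a (-1)<|a 0<|a 0<|b)<|
 a (a 0<|a 0<|a 1<|a 0<|a 0<|a 0<|a 0<|a 0<|b)<|a (a 0<|a 0<|a 0<|a 1<|a 0<|a 0<|a 0<|a 0<|b)<|a (a 0<|a 0<|a 0<|a 0<|a 1<|a 0<|a 0<|a 0<|b)<|a (a 0<|a 0<|a 0<|a 0<|a 0<|a 1<|a 1<|a 0<|b)<|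
 a (a 0<|a 0<|a 0<|a 0<|a 0<|a 0<|a 0<|a 1<|b)<|b))<|
 c (d 4 (a (a 1<|a 0<|a 1<|a 1<|a 1<|a 0<|a 0<|a 0<|b)<|a (a 0<|a 1<|a 0<|a 1<|a 1<|a 0<|a 0<|a 0<|b)<|a (a 0<|a 0<|a (-1)<|a (-1)<|a (-1)<|a 0<|a 0<|a 0<|b)<|
 a (a 0<|a 0<|a 1<|a 0<|a 0<|a 0<|a 0<|a 0<|b)<|a (a 0<|a 0<|a 0<|a 1<|a 0<|a 0<|a 0<|a 0<|b)<|a (a 0<|a 0<|a 0<|a 0<|a 1<|a 1<|a 0<|a 0<|b)<|a (a 0<|a 0<|a 0<|a 0<|a 0<|a 0<|a 1<|a 0<|b)<|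
 a (a 0<|a 0<|a 0<|a 0<|a 0<|a 0<|a 0<|a 1<|b)<|b))<|
 c (d 3 (a (a 1<|a 0<|a 1<|a 1<|a 0<|a 0<|a 0<|a 0<|b)<|a (a 0<|a 1<|a 0<|a 1<|a 0<|a 0<|a 0<|a 0<|b)<|a (a 0<|a 0<|a (-1)<|a (-1)<|a 0<|a 0<|a 0<|a 0<|b)<|
 a (a 0<|a 0<|a 1<|a 0<|a 0<|a 0<|a 0<|a 0<|b)<|a (a 0<|a 0<|a 0<|a 1<|a 1<|a 0<|a 0<|a 0<|b)<|a (a 0<|a 0<|a 0<|a 0<|a 0<|a 1<|a 0<|a 0<|b)<|a (a 0<|a 0<|a 0<|a 0<|a 0<|a 0<|a 1<|a 0<|b)<|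
 a (a 0<|a 0<|a 0<|a 0<|a 0<|a 0<|a 0<|a 1<|b)<|b))<|
 c (d 2 (a (a 1<|a 0<|a 1<|a 0<|a 0<|a 0<|a 0<|a 0<|b)<|a (a 0<|a 1<|a 0<|a 0<|a 0<|a 0<|a 0<|a 0<|b)<|a (a 0<|a 0<|a (-1)<|a 0<|a 0<|a 0<|a 0<|a 0<|b)<|
 a (a 0<|a 0<|a 1<|a 1<|a 0<|a 0<|a 0<|a 0<|b)<|a (a 0<|a 0<|a 0<|a 0<|a 1<|a 0<|a 0<|a 0<|b)<|a (a 0<|a 0<|a 0<|a 0<|a 0<|a 1<|a 0<|a 0<|b)<|a (a 0<|a 0<|a 0<|a 0<|a 0<|a 0<|a 1<|a 0<|b)<|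
 a (a 0<|a 0<|a 0<|a 0<|a 0<|a 0<|a 0<|a 1<|b)<|b))<|e))

theorem q7_ok : ChainOK Am q7 :=
  H129.ChainF.ok H129.ChainF.i8 H129.ChainF.m8 (H129.ChainF.c8 <| H129.ChainF.c8 <| H129.ChainF.c8 <| H129.ChainF.c8 <| H129.ChainF.c8 <| H129.ChainF.c8 <| H129.ChainF.nil) (by decide +kernel)

/-- coefficients of the functional, order 7 -/
def v7 : Fin 6 → Fin 8 → ℤ := (beta% delta% lq26d8b6db50 fun a b _ _ _ =>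
 (a (a 2<|a 0<|a (-1)<|a 0<|a 0<|a 0<|a 0<|a 0<|b)<|
 a (a 1<|a (-1)<|a 0<|a 0<|a 0<|a 0<|a 1<|a (-1)<|b)<|a (a 1<|a (-1)<|a 0<|a 0<|a 0<|a 1<|a (-1)<|a 0<|b)<|a (a 1<|a (-1)<|a 0<|a 0<|a 1<|a (-1)<|a 0<|a 0<|b)<|
 a (a 1<|a (-1)<|a 0<|a 1<|a (-1)<|a 0<|a 0<|a 0<|b)<|a (a 1<|a 0<|a 1<|a (-1)<|a 0<|a 0<|a 0<|a 0<|b)<|b))

theorem e7 : EigOK (fun i j => hd q7 j i) c7 v7 ![0, 0, -1, -1, -1, -1, -1, -1] :=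
  H493.EigF.ok (H493.EigF.tt (hd q7) (H493.EigF.hM H129.ChainF.m8)) H493.EigF.r6 (H493.EigF.mc H493.EigF.r8 <| H493.EigF.mc H493.EigF.r8 <| H493.EigF.mc H493.EigF.r8 <| H493.EigF.mc H493.EigF.r8 <| H493.EigF.mc H493.EigF.r8 <| H493.EigF.mc H493.EigF.r8 <| H493.EigF.m0) H493.EigF.r8 (by decide +kernel)

theorem f7 : ∀ m, ∑ j, vec chevE8 8 r0 j * hd q7 j m = vec chevE8 8 r0 m := by decide +kernel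

theorem z7 : ∀ i, ∑ m, vec chevE8 8 r0 m * v7 i m = 0 := by decide +kernel

theorem rel_7_p {F : Type u} [Field F] [Finite F] {r s : ℕ} (hr : r.Prime) (hs : s.Prime)
    (h1 : phiC c7 (Nat.card F) 1 r) (h2 : s ∣ Nat.card F) : PG.Rel ↥(chevE8.group F) r s := by
  have := finW
  exact rel_p_of_eig hp CoxeterMatrix.E₈.toCoxeterSystem H129.TorusChar.invC_E8 one_ne_zero
    (chain_rep hp CoxeterMatrix.E₈.toCoxeterSystem hA q7_ok) e7 (Or.inl (by decide +kernel)) r0_lt f7 z7 hr hs h1.1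
    (fun h => absurd (Nat.dvd_one.1 h) hs.one_lt.ne') h1.2 h2

/-- partial products of an element with characteristic polynomial Φ1^3 Φ2 Φ8 -/
def q8 : List (Fin 8 × Mat 8) := (beta% delta% lq26d8b6db50 fun a b c d e =>
 (c (d 2 (a (a (-1)<|a 0<|a (-1)<|a 0<|a 0<|a 0<|a 0<|a 0<|b)<|a (a 0<|a (-1)<|a (-1)<|a (-1)<|a 0<|a 0<|a 0<|a 0<|b)<|a (a 1<|a 0<|a 1<|a 1<|a 0<|a 0<|a 0<|a 0<|b)<|
 a (a 0<|a 1<|a 1<|a 1<|a 1<|a 0<|a 0<|a 0<|b)<|a (a 0<|a 0<|a (-1)<|a (-1)<|a (-1)<|a 0<|a 0<|a 0<|b)<|a (a 0<|a 0<|a 1<|a 1<|a 1<|a 1<|a 0<|a 0<|b)<|a (a 0<|a 0<|a 0<|a 0<|a 0<|a 0<|a 1<|a 0<|b)<|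
 a (a 0<|a 0<|a 0<|a 0<|a 0<|a 0<|a 0<|a 1<|b)<|b))<|
 c (d 0 (a (a (-1)<|a 0<|a 0<|a 0<|a 0<|a 0<|a 0<|a 0<|b)<|a (a 0<|a (-1)<|a 0<|a (-1)<|a 0<|a 0<|a 0<|a 0<|b)<|a (a 1<|a 0<|a 1<|a 1<|a 0<|a 0<|a 0<|a 0<|b)<|
 a (a 0<|a 1<|a 0<|a 1<|a 1<|a 0<|a 0<|a 0<|b)<|a (a 0<|a 0<|a 0<|a (-1)<|a (-1)<|a 0<|a 0<|a 0<|b)<|a (a 0<|a 0<|a 0<|a 1<|a 1<|a 1<|a 0<|a 0<|b)<|a (a 0<|a 0<|a 0<|a 0<|a 0<|a 0<|a 1<|a 0<|b)<|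
 a (a 0<|a 0<|a 0<|a 0<|a 0<|a 0<|a 0<|a 1<|b)<|b))<|
 c (d 3 (a (a 1<|a 0<|a 0<|a 0<|a 0<|a 0<|a 0<|a 0<|b)<|a (a 0<|a (-1)<|a 0<|a (-1)<|a 0<|a 0<|a 0<|a 0<|b)<|a (a 0<|a 0<|a 1<|a 1<|a 0<|a 0<|a 0<|a 0<|b)<|
 a (a 0<|a 1<|a 0<|a 1<|a 1<|a 0<|a 0<|a 0<|b)<|a (a 0<|a 0<|a 0<|a (-1)<|a (-1)<|a 0<|a 0<|a 0<|b)<|a (a 0<|a 0<|a 0<|a 1<|a 1<|a 1<|a 0<|a 0<|b)<|a (a 0<|a 0<|a 0<|a 0<|a 0<|a 0<|a 1<|a 0<|b)<|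
 a (a 0<|a 0<|a 0<|a 0<|a 0<|a 0<|a 0<|a 1<|b)<|b))<|
 c (d 1 (a (a 1<|a 0<|a 0<|a 0<|a 0<|a 0<|a 0<|a 0<|b)<|a (a 0<|a (-1)<|a 0<|a 0<|a 0<|a 0<|a 0<|a 0<|b)<|a (a 0<|a 0<|a 1<|a 0<|a 0<|a 0<|a 0<|a 0<|b)<|
 a (a 0<|a 1<|a 0<|a 1<|a 1<|a 0<|a 0<|a 0<|b)<|a (a 0<|a 0<|a 0<|a 0<|a (-1)<|a 0<|a 0<|a 0<|b)<|a (a 0<|a 0<|a 0<|a 0<|a 1<|a 1<|a 0<|a 0<|b)<|a (a 0<|a 0<|a 0<|a 0<|a 0<|a 0<|a 1<|a 0<|b)<|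
 a (a 0<|a 0<|a 0<|a 0<|a 0<|a 0<|a 0<|a 1<|b)<|b))<|
 c (d 4 (a (a 1<|a 0<|a 0<|a 0<|a 0<|a 0<|a 0<|a 0<|b)<|a (a 0<|a 1<|a 0<|a 0<|a 0<|a 0<|a 0<|a 0<|b)<|a (a 0<|a 0<|a 1<|a 0<|a 0<|a 0<|a 0<|a 0<|b)<|
 a (a 0<|a 0<|a 0<|a 1<|a 1<|a 0<|a 0<|a 0<|b)<|a (a 0<|a 0<|a 0<|a 0<|a (-1)<|a 0<|a 0<|a 0<|b)<|a (a 0<|a 0<|a 0<|a 0<|a 1<|a 1<|a 0<|a 0<|b)<|a (a 0<|a 0<|a 0<|a 0<|a 0<|a 0<|a 1<|a 0<|b)<|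
 a (a 0<|a 0<|a 0<|a 0<|a 0<|a 0<|a 0<|a 1<|b)<|b))<|e))

theorem q8_ok : ChainOK Am q8 :=
  H129.ChainF.ok H129.ChainF.i8 H129.ChainF.m8 (H129.ChainF.c8 <| H129.ChainF.c8 <| H129.ChainF.c8 <| H129.ChainF.c8 <| H129.ChainF.c8 <| H129.ChainF.nil) (by decide +kernel)

/-- coefficients of the functional, order 8 -/
def v8 : Fin 4 → Fin 8 → ℤ := (beta% delta% lq26d8b6db50 fun a b _ _ _ =>
 (a (a 0<|a (-1)<|a 1<|a 0<|a (-1)<|a 1<|a 0<|a 0<|b)<|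
 a (a (-1)<|a (-1)<|a 1<|a 1<|a (-1)<|a 0<|a 0<|a 0<|b)<|a (a 0<|a 0<|a 1<|a 0<|a 0<|a (-1)<|a 0<|a 0<|b)<|a (a 1<|a 0<|a (-1)<|a 1<|a 0<|a (-1)<|a 0<|a 0<|b)<|b))

theorem e8 : EigOK (fun i j => hd q8 j i) c8 v8 ![1, 1, 1, 1, 0, 1, 0, 0] :=
  H493.EigF.ok (H493.EigF.tt (hd q8) (H493.EigF.hM H129.ChainF.m8)) H493.EigF.r4 (H493.EigF.mc H493.EigF.r8 <| H493.EigF.mc H493.EigF.r8 <| H493.EigF.mc H493.EigF.r8 <| H493.EigF.mc H493.EigF.r8 <| H493.EigF.m0) H493.EigF.r8 (by decide +kernel)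

theorem f8 : ∀ m, ∑ j, vec chevE8 8 r0 j * hd q8 j m = vec chevE8 8 r0 m := by decide +kernel

theorem z8 : ∀ i, ∑ m, vec chevE8 8 r0 m * v8 i m = 0 := by decide +kernel

theorem rel_8_p {F : Type u} [Field F] [Finite F] {r s : ℕ} (hr : r.Prime) (hs : s.Prime)
    (h1 : phiC c8 (Nat.card F) 1 r) (h2 : s ∣ Nat.card F) : PG.Rel ↥(chevE8.group F) r s := by
  have := finW
  exact rel_p_of_eig hp CoxeterMatrix.E₈.toCoxeterSystem H129.TorusChar.invC_E8 one_ne_zero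
    (chain_rep hp CoxeterMatrix.E₈.toCoxeterSystem hA q8_ok) e8 (Or.inl (by decide +kernel)) r0_lt f8 z8 hr hs h1.1
    (fun h => absurd (Nat.dvd_one.1 h) hs.one_lt.ne') h1.2 h2

/-- partial products of an element with characteristic polynomial Φ1^2 Φ9 -/
def q9 : List (Fin 8 × Mat 8) := (beta% delta% lq26d8b6db50 fun a b c d e =>
 (c (d 1 (a (a (-1)<|a 0<|a (-1)<|a 0<|a 0<|a 0<|a 0<|a 0<|b)<|a (a 0<|a 0<|a 0<|a 0<|a 1<|a 0<|a 0<|a 0<|b)<|a (a 1<|a 1<|a 2<|a 2<|a 1<|a 0<|a 0<|a 0<|b)<|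
 a (a 0<|a 0<|a (-1)<|a (-1)<|a (-1)<|a 0<|a 0<|a 0<|b)<|a (a 0<|a 0<|a 1<|a 1<|a 1<|a 1<|a 0<|a 0<|b)<|a (a 0<|a (-1)<|a (-1)<|a (-1)<|a (-1)<|a (-1)<|a 0<|a 0<|b)<|
 a (a 0<|a 1<|a 1<|a 1<|a 1<|a 1<|a 1<|a 0<|b)<|a (a 0<|a 0<|a 0<|a 0<|a 0<|a 0<|a 0<|a 1<|b)<|b))<|
 c (d 2 (a (a (-1)<|a 0<|a (-1)<|a 0<|a 0<|a 0<|a 0<|a 0<|b)<|a (a 0<|a 0<|a 0<|a 0<|a 1<|a 0<|a 0<|a 0<|b)<|a (a 1<|a 1<|a 2<|a 2<|a 1<|a 0<|a 0<|a 0<|b)<|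
 a (a 0<|a (-1)<|a (-1)<|a (-1)<|a (-1)<|a 0<|a 0<|a 0<|b)<|a (a 0<|a 1<|a 1<|a 1<|a 1<|a 1<|a 0<|a 0<|b)<|a (a 0<|a 0<|a (-1)<|a (-1)<|a (-1)<|a (-1)<|a 0<|a 0<|b)<|
 a (a 0<|a 0<|a 1<|a 1<|a 1<|a 1<|a 1<|a 0<|b)<|a (a 0<|a 0<|a 0<|a 0<|a 0<|a 0<|a 0<|a 1<|b)<|b))<|
 c (d 0 (a (a (-1)<|a 0<|a 0<|a 0<|a 0<|a 0<|a 0<|a 0<|b)<|a (a 0<|a 0<|a 0<|a 0<|a 1<|a 0<|a 0<|a 0<|b)<|a (a 1<|a 1<|a 1<|a 2<|a 1<|a 0<|a 0<|a 0<|b)<|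
 a (a 0<|a (-1)<|a 0<|a (-1)<|a (-1)<|a 0<|a 0<|a 0<|b)<|a (a 0<|a 1<|a 0<|a 1<|a 1<|a 1<|a 0<|a 0<|b)<|a (a 0<|a 0<|a 0<|a (-1)<|a (-1)<|a (-1)<|a 0<|a 0<|b)<|
 a (a 0<|a 0<|a 0<|a 1<|a 1<|a 1<|a 1<|a 0<|b)<|a (a 0<|a 0<|a 0<|a 0<|a 0<|a 0<|a 0<|a 1<|b)<|b))<|
 c (d 3 (a (a 1<|a 0<|a 0<|a 0<|a 0<|a 0<|a 0<|a 0<|b)<|a (a 0<|a 0<|a 0<|a 0<|a 1<|a 0<|a 0<|a 0<|b)<|a (a 0<|a 1<|a 1<|a 2<|a 1<|a 0<|a 0<|a 0<|b)<|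
 a (a 0<|a (-1)<|a 0<|a (-1)<|a (-1)<|a 0<|a 0<|a 0<|b)<|a (a 0<|a 1<|a 0<|a 1<|a 1<|a 1<|a 0<|a 0<|b)<|a (a 0<|a 0<|a 0<|a (-1)<|a (-1)<|a (-1)<|a 0<|a 0<|b)<|
 a (a 0<|a 0<|a 0<|a 1<|a 1<|a 1<|a 1<|a 0<|b)<|a (a 0<|a 0<|a 0<|a 0<|a 0<|a 0<|a 0<|a 1<|b)<|b))<|
 c (d 1 (a (a 1<|a 0<|a 0<|a 0<|a 0<|a 0<|a 0<|a 0<|b)<|a (a 0<|a 0<|a 0<|a 1<|a 1<|a 0<|a 0<|a 0<|b)<|a (a 0<|a 1<|a 1<|a 1<|a 1<|a 0<|a 0<|a 0<|b)<|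
 a (a 0<|a (-1)<|a 0<|a (-1)<|a (-1)<|a 0<|a 0<|a 0<|b)<|a (a 0<|a 1<|a 0<|a 1<|a 1<|a 1<|a 0<|a 0<|b)<|a (a 0<|a 0<|a 0<|a 0<|a (-1)<|a (-1)<|a 0<|a 0<|b)<|
 a (a 0<|a 0<|a 0<|a 0<|a 1<|a 1<|a 1<|a 0<|b)<|a (a 0<|a 0<|a 0<|a 0<|a 0<|a 0<|a 0<|a 1<|b)<|b))<|
 c (d 4 (a (a 1<|a 0<|a 0<|a 0<|a 0<|a 0<|a 0<|a 0<|b)<|a (a 0<|a 1<|a 0<|a 1<|a 1<|a 0<|a 0<|a 0<|b)<|a (a 0<|a 0<|a 1<|a 1<|a 1<|a 0<|a 0<|a 0<|b)<|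
 a (a 0<|a 0<|a 0<|a (-1)<|a (-1)<|a 0<|a 0<|a 0<|b)<|a (a 0<|a 0<|a 0<|a 1<|a 1<|a 1<|a 0<|a 0<|b)<|a (a 0<|a 0<|a 0<|a 0<|a (-1)<|a (-1)<|a 0<|a 0<|b)<|a (a 0<|a 0<|a 0<|a 0<|a 1<|a 1<|a 1<|a 0<|b)<|
 a (a 0<|a 0<|a 0<|a 0<|a 0<|a 0<|a 0<|a 1<|b)<|b))<|
 c (d 3 (a (a 1<|a 0<|a 0<|a 0<|a 0<|a 0<|a 0<|a 0<|b)<|a (a 0<|a 1<|a 0<|a 1<|a 0<|a 0<|a 0<|a 0<|b)<|a (a 0<|a 0<|a 1<|a 1<|a 0<|a 0<|a 0<|a 0<|b)<|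
 a (a 0<|a 0<|a 0<|a (-1)<|a 0<|a 0<|a 0<|a 0<|b)<|a (a 0<|a 0<|a 0<|a 1<|a 1<|a 1<|a 0<|a 0<|b)<|a (a 0<|a 0<|a 0<|a 0<|a 0<|a (-1)<|a 0<|a 0<|b)<|a (a 0<|a 0<|a 0<|a 0<|a 0<|a 1<|a 1<|a 0<|b)<|
 a (a 0<|a 0<|a 0<|a 0<|a 0<|a 0<|a 0<|a 1<|b)<|b))<|
 c (d 5 (a (a 1<|a 0<|a 0<|a 0<|a 0<|a 0<|a 0<|a 0<|b)<|a (a 0<|a 1<|a 0<|a 0<|a 0<|a 0<|a 0<|a 0<|b)<|a (a 0<|a 0<|a 1<|a 0<|a 0<|a 0<|a 0<|a 0<|b)<|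
 a (a 0<|a 0<|a 0<|a 1<|a 0<|a 0<|a 0<|a 0<|b)<|a (a 0<|a 0<|a 0<|a 0<|a 1<|a 1<|a 0<|a 0<|b)<|a (a 0<|a 0<|a 0<|a 0<|a 0<|a (-1)<|a 0<|a 0<|b)<|a (a 0<|a 0<|a 0<|a 0<|a 0<|a 1<|a 1<|a 0<|b)<|
 a (a 0<|a 0<|a 0<|a 0<|a 0<|a 0<|a 0<|a 1<|b)<|b))<|e))

theorem q9_ok : ChainOK Am q9 :=
  H129.ChainF.ok H129.ChainF.i8 H129.ChainF.m8 (H129.ChainF.c8 <| H129.ChainF.c8 <| H129.ChainF.c8 <| H129.ChainF.c8 <| H129.ChainF.c8 <| H129.ChainF.c8 <| H129.ChainF.c8 <| H129.ChainF.c8 <| H129.ChainF.nil) (by decide +kernel)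

/-- coefficients of the functional, order 9 -/
def v9 : Fin 6 → Fin 8 → ℤ := (beta% delta% lq26d8b6db50 fun a b _ _ _ =>
 (a (a (-1)<|a 0<|a (-1)<|a 1<|a 0<|a 0<|a 0<|a 0<|b)<|
 a (a 1<|a 0<|a 0<|a (-1)<|a 0<|a 1<|a 0<|a 0<|b)<|a (a (-1)<|a (-1)<|a 0<|a 1<|a 0<|a (-1)<|a 1<|a 0<|b)<|a (a (-1)<|a 1<|a 0<|a 0<|a (-1)<|a 1<|a 0<|a 0<|b)<|
 a (a 1<|a 0<|a 0<|a (-1)<|a 1<|a (-1)<|a 1<|a 0<|b)<|a (a (-2)<|a 0<|a 1<|a 0<|a 0<|a 0<|a 0<|a 0<|b)<|b))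

theorem e9 : EigOK (fun i j => hd q9 j i) c9 v9 ![-1, -1, -2, -2, -1, -1, -1, 0] :=
  H493.EigF.ok (H493.EigF.tt (hd q9) (H493.EigF.hM H129.ChainF.m8)) H493.EigF.r6 (H493.EigF.mc H493.EigF.r8 <| H493.EigF.mc H493.EigF.r8 <| H493.EigF.mc H493.EigF.r8 <| H493.EigF.mc H493.EigF.r8 <| H493.EigF.mc H493.EigF.r8 <| H493.EigF.mc H493.EigF.r8 <| H493.EigF.m0) H493.EigF.r8 (by decide +kernel)

theorem f9 : ∀ m, ∑ j, vec chevE8 8 r0 j * hd q9 j m = vec chevE8 8 r0 m := by decide +kernel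

theorem z9 : ∀ i, ∑ m, vec chevE8 8 r0 m * v9 i m = 0 := by decide +kernel

theorem rel_9_p {F : Type u} [Field F] [Finite F] {r s : ℕ} (hr : r.Prime) (hs : s.Prime)
    (h1 : phiC c9 (Nat.card F) 1 r) (h2 : s ∣ Nat.card F) : PG.Rel ↥(chevE8.group F) r s := by
  have := finW
  exact rel_p_of_eig hp CoxeterMatrix.E₈.toCoxeterSystem H129.TorusChar.invC_E8 one_ne_zero
    (chain_rep hp CoxeterMatrix.E₈.toCoxeterSystem hA q9_ok) e9 (Or.inl (by decide +kernel)) r0_lt f9 z9 hr hs h1.1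
    (fun h => absurd (Nat.dvd_one.1 h) hs.one_lt.ne') h1.2 h2

/-- partial products of an element with characteristic polynomial Φ1^2 Φ2^2 Φ10 -/
def q10 : List (Fin 8 × Mat 8) := (beta% delta% lq26d8b6db50 fun a b c d e =>
 (c (d 6 (a (a 1<|a 0<|a 1<|a 1<|a 1<|a 1<|a 1<|a 0<|b)<|a (a 0<|a (-1)<|a 0<|a (-1)<|a (-1)<|a (-1)<|a (-1)<|a 0<|b)<|a (a 0<|a 0<|a (-1)<|a (-1)<|a (-1)<|a (-1)<|a (-1)<|a 0<|b)<|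
 a (a 0<|a 1<|a 1<|a 1<|a 1<|a 1<|a 1<|a 0<|b)<|a (a 0<|a 0<|a 0<|a 1<|a 0<|a 0<|a 0<|a 0<|b)<|a (a 0<|a 0<|a 0<|a 0<|a 1<|a 0<|a 0<|a 0<|b)<|a (a 0<|a 0<|a 0<|a 0<|a 0<|a 1<|a 0<|a 0<|b)<|
 a (a 0<|a 0<|a 0<|a 0<|a 0<|a 0<|a 1<|a 1<|b)<|b))<|
 c (d 5 (a (a 1<|a 0<|a 1<|a 1<|a 1<|a 1<|a 0<|a 0<|b)<|a (a 0<|a (-1)<|a 0<|a (-1)<|a (-1)<|a (-1)<|a 0<|a 0<|b)<|a (a 0<|a 0<|a (-1)<|a (-1)<|a (-1)<|a (-1)<|a 0<|a 0<|b)<|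
 a (a 0<|a 1<|a 1<|a 1<|a 1<|a 1<|a 0<|a 0<|b)<|a (a 0<|a 0<|a 0<|a 1<|a 0<|a 0<|a 0<|a 0<|b)<|a (a 0<|a 0<|a 0<|a 0<|a 1<|a 0<|a 0<|a 0<|b)<|a (a 0<|a 0<|a 0<|a 0<|a 0<|a 1<|a 1<|a 0<|b)<|
 a (a 0<|a 0<|a 0<|a 0<|a 0<|a 0<|a 0<|a 1<|b)<|b))<|
 c (d 4 (a (a 1<|a 0<|a 1<|a 1<|a 1<|a 0<|a 0<|a 0<|b)<|a (a 0<|a (-1)<|a 0<|a (-1)<|a (-1)<|a 0<|a 0<|a 0<|b)<|a (a 0<|a 0<|a (-1)<|a (-1)<|a (-1)<|a 0<|a 0<|a 0<|b)<|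
 a (a 0<|a 1<|a 1<|a 1<|a 1<|a 0<|a 0<|a 0<|b)<|a (a 0<|a 0<|a 0<|a 1<|a 0<|a 0<|a 0<|a 0<|b)<|a (a 0<|a 0<|a 0<|a 0<|a 1<|a 1<|a 0<|a 0<|b)<|a (a 0<|a 0<|a 0<|a 0<|a 0<|a 0<|a 1<|a 0<|b)<|
 a (a 0<|a 0<|a 0<|a 0<|a 0<|a 0<|a 0<|a 1<|b)<|b))<|
 c (d 3 (a (a 1<|a 0<|a 1<|a 1<|a 0<|a 0<|a 0<|a 0<|b)<|a (a 0<|a (-1)<|a 0<|a (-1)<|a 0<|a 0<|a 0<|a 0<|b)<|a (a 0<|a 0<|a (-1)<|a (-1)<|a 0<|a 0<|a 0<|a 0<|b)<|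
 a (a 0<|a 1<|a 1<|a 1<|a 0<|a 0<|a 0<|a 0<|b)<|a (a 0<|a 0<|a 0<|a 1<|a 1<|a 0<|a 0<|a 0<|b)<|a (a 0<|a 0<|a 0<|a 0<|a 0<|a 1<|a 0<|a 0<|b)<|a (a 0<|a 0<|a 0<|a 0<|a 0<|a 0<|a 1<|a 0<|b)<|
 a (a 0<|a 0<|a 0<|a 0<|a 0<|a 0<|a 0<|a 1<|b)<|b))<|
 c (d 1 (a (a 1<|a 0<|a 1<|a 0<|a 0<|a 0<|a 0<|a 0<|b)<|a (a 0<|a (-1)<|a 0<|a 0<|a 0<|a 0<|a 0<|a 0<|b)<|a (a 0<|a 0<|a (-1)<|a 0<|a 0<|a 0<|a 0<|a 0<|b)<|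
 a (a 0<|a 1<|a 1<|a 1<|a 0<|a 0<|a 0<|a 0<|b)<|a (a 0<|a 0<|a 0<|a 0<|a 1<|a 0<|a 0<|a 0<|b)<|a (a 0<|a 0<|a 0<|a 0<|a 0<|a 1<|a 0<|a 0<|b)<|a (a 0<|a 0<|a 0<|a 0<|a 0<|a 0<|a 1<|a 0<|b)<|
 a (a 0<|a 0<|a 0<|a 0<|a 0<|a 0<|a 0<|a 1<|b)<|b))<|
 c (d 2 (a (a 1<|a 0<|a 1<|a 0<|a 0<|a 0<|a 0<|a 0<|b)<|a (a 0<|a 1<|a 0<|a 0<|a 0<|a 0<|a 0<|a 0<|b)<|a (a 0<|a 0<|a (-1)<|a 0<|a 0<|a 0<|a 0<|a 0<|b)<|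
 a (a 0<|a 0<|a 1<|a 1<|a 0<|a 0<|a 0<|a 0<|b)<|a (a 0<|a 0<|a 0<|a 0<|a 1<|a 0<|a 0<|a 0<|b)<|a (a 0<|a 0<|a 0<|a 0<|a 0<|a 1<|a 0<|a 0<|b)<|a (a 0<|a 0<|a 0<|a 0<|a 0<|a 0<|a 1<|a 0<|b)<|
 a (a 0<|a 0<|a 0<|a 0<|a 0<|a 0<|a 0<|a 1<|b)<|b))<|e))

theorem q10_ok : ChainOK Am q10 :=
  H129.ChainF.ok H129.ChainF.i8 H129.ChainF.m8 (H129.ChainF.c8 <| H129.ChainF.c8 <| H129.ChainF.c8 <| H129.ChainF.c8 <| H129.ChainF.c8 <| H129.ChainF.c8 <| H129.ChainF.nil) (by decide +kernel)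

/-- coefficients of the functional, order 10 -/
def v10 : Fin 4 → Fin 8 → ℤ := (beta% delta% lq26d8b6db50 fun a b _ _ _ =>
 (a (a (-1)<|a 0<|a 0<|a 1<|a 0<|a (-1)<|a 0<|a 0<|b)<|
 a (a 0<|a 1<|a 1<|a (-1)<|a (-1)<|a 1<|a 0<|a 0<|b)<|a (a 0<|a 0<|a 0<|a 0<|a 1<|a (-1)<|a (-1)<|a 1<|b)<|a (a 1<|a 0<|a 0<|a 0<|a (-1)<|a 0<|a 1<|a 0<|b)<|b))

theorem e10 : EigOK (fun i j => hd q10 j i) c10 v10 ![0, 1, 0, 1, 0, 0, 0, 0] :=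
  H493.EigF.ok (H493.EigF.tt (hd q10) (H493.EigF.hM H129.ChainF.m8)) H493.EigF.r4 (H493.EigF.mc H493.EigF.r8 <| H493.EigF.mc H493.EigF.r8 <| H493.EigF.mc H493.EigF.r8 <| H493.EigF.mc H493.EigF.r8 <| H493.EigF.m0) H493.EigF.r8 (by decide +kernel)

theorem f10 : ∀ m, ∑ j, vec chevE8 8 r0 j * hd q10 j m = vec chevE8 8 r0 m := by decide +kernel

theorem z10 : ∀ i, ∑ m, vec chevE8 8 r0 m * v10 i m = 0 := by decide +kernel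

theorem rel_10_p {F : Type u} [Field F] [Finite F] {r s : ℕ} (hr : r.Prime) (hs : s.Prime)
    (h1 : phiC c10 (Nat.card F) 1 r) (h2 : s ∣ Nat.card F) : PG.Rel ↥(chevE8.group F) r s := by
  have := finW
  exact rel_p_of_eig hp CoxeterMatrix.E₈.toCoxeterSystem H129.TorusChar.invC_E8 one_ne_zero
    (chain_rep hp CoxeterMatrix.E₈.toCoxeterSystem hA q10_ok) e10 (Or.inl (by decide +kernel)) r0_lt f10 z10 hr hs h1.1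
    (fun h => absurd (Nat.dvd_one.1 h) hs.one_lt.ne') h1.2 h2

/-- partial products of an element with characteristic polynomial Φ1^2 Φ3 Φ12 -/
def q12 : List (Fin 8 × Mat 8) := (beta% delta% lq26d8b6db50 fun a b c d e =>
 (c (d 0 (a (a 0<|a 0<|a 1<|a 1<|a 1<|a 0<|a 0<|a 0<|b)<|a (a 0<|a (-1)<|a 0<|a (-1)<|a (-1)<|a 0<|a 0<|a 0<|b)<|a (a (-1)<|a 0<|a (-1)<|a (-1)<|a (-1)<|a 0<|a 0<|a 0<|b)<|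
 a (a 1<|a 1<|a 1<|a 1<|a 1<|a 0<|a 0<|a 0<|b)<|a (a 0<|a 0<|a 0<|a 1<|a 1<|a 1<|a 0<|a 0<|b)<|a (a 0<|a 0<|a 0<|a 0<|a (-1)<|a (-1)<|a 0<|a 0<|b)<|a (a 0<|a 0<|a 0<|a 0<|a 1<|a 1<|a 1<|a 0<|b)<|
 a (a 0<|a 0<|a 0<|a 0<|a 0<|a 0<|a 0<|a 1<|b)<|b))<|
 c (d 4 (a (a 1<|a 0<|a 1<|a 1<|a 1<|a 0<|a 0<|a 0<|b)<|a (a 0<|a (-1)<|a 0<|a (-1)<|a (-1)<|a 0<|a 0<|a 0<|b)<|a (a 0<|a 0<|a (-1)<|a (-1)<|a (-1)<|a 0<|a 0<|a 0<|b)<|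
 a (a 0<|a 1<|a 1<|a 1<|a 1<|a 0<|a 0<|a 0<|b)<|a (a 0<|a 0<|a 0<|a 1<|a 1<|a 1<|a 0<|a 0<|b)<|a (a 0<|a 0<|a 0<|a 0<|a (-1)<|a (-1)<|a 0<|a 0<|b)<|a (a 0<|a 0<|a 0<|a 0<|a 1<|a 1<|a 1<|a 0<|b)<|
 a (a 0<|a 0<|a 0<|a 0<|a 0<|a 0<|a 0<|a 1<|b)<|b))<|
 c (d 3 (a (a 1<|a 0<|a 1<|a 1<|a 0<|a 0<|a 0<|a 0<|b)<|a (a 0<|a (-1)<|a 0<|a (-1)<|a 0<|a 0<|a 0<|a 0<|b)<|a (a 0<|a 0<|a (-1)<|a (-1)<|a 0<|a 0<|a 0<|a 0<|b)<|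
 a (a 0<|a 1<|a 1<|a 1<|a 0<|a 0<|a 0<|a 0<|b)<|a (a 0<|a 0<|a 0<|a 1<|a 1<|a 1<|a 0<|a 0<|b)<|a (a 0<|a 0<|a 0<|a 0<|a 0<|a (-1)<|a 0<|a 0<|b)<|a (a 0<|a 0<|a 0<|a 0<|a 0<|a 1<|a 1<|a 0<|b)<|
 a (a 0<|a 0<|a 0<|a 0<|a 0<|a 0<|a 0<|a 1<|b)<|b))<|
 c (d 1 (a (a 1<|a 0<|a 1<|a 0<|a 0<|a 0<|a 0<|a 0<|b)<|a (a 0<|a (-1)<|a 0<|a 0<|a 0<|a 0<|a 0<|a 0<|b)<|a (a 0<|a 0<|a (-1)<|a 0<|a 0<|a 0<|a 0<|a 0<|b)<|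
 a (a 0<|a 1<|a 1<|a 1<|a 0<|a 0<|a 0<|a 0<|b)<|a (a 0<|a 0<|a 0<|a 0<|a 1<|a 1<|a 0<|a 0<|b)<|a (a 0<|a 0<|a 0<|a 0<|a 0<|a (-1)<|a 0<|a 0<|b)<|a (a 0<|a 0<|a 0<|a 0<|a 0<|a 1<|a 1<|a 0<|b)<|
 a (a 0<|a 0<|a 0<|a 0<|a 0<|a 0<|a 0<|a 1<|b)<|b))<|
 c (d 2 (a (a 1<|a 0<|a 1<|a 0<|a 0<|a 0<|a 0<|a 0<|b)<|a (a 0<|a 1<|a 0<|a 0<|a 0<|a 0<|a 0<|a 0<|b)<|a (a 0<|a 0<|a (-1)<|a 0<|a 0<|a 0<|a 0<|a 0<|b)<|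
 a (a 0<|a 0<|a 1<|a 1<|a 0<|a 0<|a 0<|a 0<|b)<|a (a 0<|a 0<|a 0<|a 0<|a 1<|a 1<|a 0<|a 0<|b)<|a (a 0<|a 0<|a 0<|a 0<|a 0<|a (-1)<|a 0<|a 0<|b)<|a (a 0<|a 0<|a 0<|a 0<|a 0<|a 1<|a 1<|a 0<|b)<|
 a (a 0<|a 0<|a 0<|a 0<|a 0<|a 0<|a 0<|a 1<|b)<|b))<|
 c (d 5 (a (a 1<|a 0<|a 0<|a 0<|a 0<|a 0<|a 0<|a 0<|b)<|a (a 0<|a 1<|a 0<|a 0<|a 0<|a 0<|a 0<|a 0<|b)<|a (a 0<|a 0<|a 1<|a 0<|a 0<|a 0<|a 0<|a 0<|b)<|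
 a (a 0<|a 0<|a 0<|a 1<|a 0<|a 0<|a 0<|a 0<|b)<|a (a 0<|a 0<|a 0<|a 0<|a 1<|a 1<|a 0<|a 0<|b)<|a (a 0<|a 0<|a 0<|a 0<|a 0<|a (-1)<|a 0<|a 0<|b)<|a (a 0<|a 0<|a 0<|a 0<|a 0<|a 1<|a 1<|a 0<|b)<|
 a (a 0<|a 0<|a 0<|a 0<|a 0<|a 0<|a 0<|a 1<|b)<|b))<|e))

theorem q12_ok : ChainOK Am q12 :=
  H129.ChainF.ok H129.ChainF.i8 H129.ChainF.m8 (H129.ChainF.c8 <| H129.ChainF.c8 <| H129.ChainF.c8 <| H129.ChainF.c8 <| H129.ChainF.c8 <| H129.ChainF.c8 <| H129.ChainF.nil) (by decide +kernel)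

/-- coefficients of the functional, order 12 -/
def v12 : Fin 4 → Fin 8 → ℤ := (beta% delta% lq26d8b6db50 fun a b _ _ _ =>
 (a (a 0<|a 0<|a 1<|a 0<|a (-1)<|a 1<|a (-1)<|a 0<|b)<|
 a (a (-1)<|a 1<|a 1<|a 0<|a (-1)<|a 0<|a 0<|a 0<|b)<|a (a 0<|a 1<|a 0<|a (-1)<|a 0<|a 0<|a 1<|a 0<|b)<|a (a 0<|a (-1)<|a 0<|a 0<|a 0<|a 0<|a 1<|a 0<|b)<|b))

theorem e12 : EigOK (fun i j => hd q12 j i) c12 v12 ![0, 0, 0, 0, 0, 1, 0, 0] :=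
  H493.EigF.ok (H493.EigF.tt (hd q12) (H493.EigF.hM H129.ChainF.m8)) H493.EigF.r4 (H493.EigF.mc H493.EigF.r8 <| H493.EigF.mc H493.EigF.r8 <| H493.EigF.mc H493.EigF.r8 <| H493.EigF.mc H493.EigF.r8 <| H493.EigF.m0) H493.EigF.r8 (by decide +kernel)

theorem f12 : ∀ m, ∑ j, vec chevE8 8 r0 j * hd q12 j m = vec chevE8 8 r0 m := by decide +kernel

theorem z12 : ∀ i, ∑ m, vec chevE8 8 r0 m * v12 i m = 0 := by decide +kernel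

theorem rel_12_p {F : Type u} [Field F] [Finite F] {r s : ℕ} (hr : r.Prime) (hs : s.Prime)
    (h1 : phiC c12 (Nat.card F) 1 r) (h2 : s ∣ Nat.card F) : PG.Rel ↥(chevE8.group F) r s := by
  have := finW
  exact rel_p_of_eig hp CoxeterMatrix.E₈.toCoxeterSystem H129.TorusChar.invC_E8 one_ne_zero
    (chain_rep hp CoxeterMatrix.E₈.toCoxeterSystem hA q12_ok) e12 (Or.inl (by decide +kernel)) r0_lt f12 z12 hr hs h1.1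
    (fun h => absurd (Nat.dvd_one.1 h) hs.one_lt.ne') h1.2 h2

/-- partial products of an element with characteristic polynomial Φ1 Φ2 Φ14 -/
def q14 : List (Fin 8 × Mat 8) := (beta% delta% lq26d8b6db50 fun a b c d e =>
 (c (d 0 (a (a 0<|a 0<|a 1<|a 1<|a 1<|a 0<|a 0<|a 0<|b)<|a (a (-1)<|a (-1)<|a (-1)<|a (-2)<|a (-2)<|a (-1)<|a 0<|a 0<|b)<|a (a 0<|a 0<|a 0<|a 0<|a 0<|a 1<|a 0<|a 0<|b)<|
 a (a 0<|a 1<|a 0<|a 1<|a 1<|a 0<|a 0<|a 0<|b)<|a (a 1<|a 0<|a 1<|a 0<|a 0<|a 0<|a 0<|a 0<|b)<|a (a 0<|a 0<|a 0<|a 1<|a 1<|a 1<|a 1<|a 0<|b)<|a (a 0<|a 0<|a 0<|a 0<|a (-1)<|a (-1)<|a (-1)<|a 0<|b)<|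
 a (a 0<|a 0<|a 0<|a 0<|a 1<|a 1<|a 1<|a 1<|b)<|b))<|
 c (d 4 (a (a 1<|a 0<|a 1<|a 1<|a 1<|a 0<|a 0<|a 0<|b)<|a (a 0<|a (-1)<|a (-1)<|a (-2)<|a (-2)<|a (-1)<|a 0<|a 0<|b)<|a (a 0<|a 0<|a 0<|a 0<|a 0<|a 1<|a 0<|a 0<|b)<|
 a (a 0<|a 1<|a 0<|a 1<|a 1<|a 0<|a 0<|a 0<|b)<|a (a 0<|a 0<|a 1<|a 0<|a 0<|a 0<|a 0<|a 0<|b)<|a (a 0<|a 0<|a 0<|a 1<|a 1<|a 1<|a 1<|a 0<|b)<|a (a 0<|a 0<|a 0<|a 0<|a (-1)<|a (-1)<|a (-1)<|a 0<|b)<|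
 a (a 0<|a 0<|a 0<|a 0<|a 1<|a 1<|a 1<|a 1<|b)<|b))<|
 c (d 3 (a (a 1<|a 0<|a 1<|a 1<|a 0<|a 0<|a 0<|a 0<|b)<|a (a 0<|a (-1)<|a (-1)<|a (-2)<|a (-1)<|a (-1)<|a 0<|a 0<|b)<|a (a 0<|a 0<|a 0<|a 0<|a 1<|a 1<|a 0<|a 0<|b)<|
 a (a 0<|a 1<|a 0<|a 1<|a 0<|a 0<|a 0<|a 0<|b)<|a (a 0<|a 0<|a 1<|a 0<|a 0<|a 0<|a 0<|a 0<|b)<|a (a 0<|a 0<|a 0<|a 1<|a 1<|a 1<|a 1<|a 0<|b)<|a (a 0<|a 0<|a 0<|a 0<|a 0<|a (-1)<|a (-1)<|a 0<|b)<|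
 a (a 0<|a 0<|a 0<|a 0<|a 0<|a 1<|a 1<|a 1<|b)<|b))<|
 c (d 2 (a (a 1<|a 0<|a 1<|a 0<|a 0<|a 0<|a 0<|a 0<|b)<|a (a 0<|a (-1)<|a (-1)<|a (-1)<|a (-1)<|a (-1)<|a 0<|a 0<|b)<|a (a 0<|a 0<|a 0<|a 1<|a 1<|a 1<|a 0<|a 0<|b)<|
 a (a 0<|a 1<|a 0<|a 0<|a 0<|a 0<|a 0<|a 0<|b)<|a (a 0<|a 0<|a 1<|a 1<|a 0<|a 0<|a 0<|a 0<|b)<|a (a 0<|a 0<|a 0<|a 0<|a 1<|a 1<|a 1<|a 0<|b)<|a (a 0<|a 0<|a 0<|a 0<|a 0<|a (-1)<|a (-1)<|a 0<|b)<|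
 a (a 0<|a 0<|a 0<|a 0<|a 0<|a 1<|a 1<|a 1<|b)<|b))<|
 c (d 5 (a (a 1<|a 0<|a 0<|a 0<|a 0<|a 0<|a 0<|a 0<|b)<|a (a 0<|a (-1)<|a 0<|a (-1)<|a (-1)<|a (-1)<|a 0<|a 0<|b)<|a (a 0<|a 0<|a 1<|a 1<|a 1<|a 1<|a 0<|a 0<|b)<|
 a (a 0<|a 1<|a 0<|a 0<|a 0<|a 0<|a 0<|a 0<|b)<|a (a 0<|a 0<|a 0<|a 1<|a 0<|a 0<|a 0<|a 0<|b)<|a (a 0<|a 0<|a 0<|a 0<|a 1<|a 1<|a 1<|a 0<|b)<|a (a 0<|a 0<|a 0<|a 0<|a 0<|a (-1)<|a (-1)<|a 0<|b)<|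
 a (a 0<|a 0<|a 0<|a 0<|a 0<|a 1<|a 1<|a 1<|b)<|b))<|
 c (d 4 (a (a 1<|a 0<|a 0<|a 0<|a 0<|a 0<|a 0<|a 0<|b)<|a (a 0<|a (-1)<|a 0<|a (-1)<|a (-1)<|a 0<|a 0<|a 0<|b)<|a (a 0<|a 0<|a 1<|a 1<|a 1<|a 0<|a 0<|a 0<|b)<|
 a (a 0<|a 1<|a 0<|a 0<|a 0<|a 0<|a 0<|a 0<|b)<|a (a 0<|a 0<|a 0<|a 1<|a 0<|a 0<|a 0<|a 0<|b)<|a (a 0<|a 0<|a 0<|a 0<|a 1<|a 1<|a 1<|a 0<|b)<|a (a 0<|a 0<|a 0<|a 0<|a 0<|a 0<|a (-1)<|a 0<|b)<|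
 a (a 0<|a 0<|a 0<|a 0<|a 0<|a 0<|a 1<|a 1<|b)<|b))<|
 c (d 3 (a (a 1<|a 0<|a 0<|a 0<|a 0<|a 0<|a 0<|a 0<|b)<|a (a 0<|a (-1)<|a 0<|a (-1)<|a 0<|a 0<|a 0<|a 0<|b)<|a (a 0<|a 0<|a 1<|a 1<|a 0<|a 0<|a 0<|a 0<|b)<|
 a (a 0<|a 1<|a 0<|a 0<|a 0<|a 0<|a 0<|a 0<|b)<|a (a 0<|a 0<|a 0<|a 1<|a 1<|a 0<|a 0<|a 0<|b)<|a (a 0<|a 0<|a 0<|a 0<|a 0<|a 1<|a 1<|a 0<|b)<|a (a 0<|a 0<|a 0<|a 0<|a 0<|a 0<|a (-1)<|a 0<|b)<|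
 a (a 0<|a 0<|a 0<|a 0<|a 0<|a 0<|a 1<|a 1<|b)<|b))<|
 c (d 1 (a (a 1<|a 0<|a 0<|a 0<|a 0<|a 0<|a 0<|a 0<|b)<|a (a 0<|a (-1)<|a 0<|a 0<|a 0<|a 0<|a 0<|a 0<|b)<|a (a 0<|a 0<|a 1<|a 0<|a 0<|a 0<|a 0<|a 0<|b)<|
 a (a 0<|a 1<|a 0<|a 1<|a 0<|a 0<|a 0<|a 0<|b)<|a (a 0<|a 0<|a 0<|a 0<|a 1<|a 0<|a 0<|a 0<|b)<|a (a 0<|a 0<|a 0<|a 0<|a 0<|a 1<|a 1<|a 0<|b)<|a (a 0<|a 0<|a 0<|a 0<|a 0<|a 0<|a (-1)<|a 0<|b)<|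
 a (a 0<|a 0<|a 0<|a 0<|a 0<|a 0<|a 1<|a 1<|b)<|b))<|
 c (d 6 (a (a 1<|a 0<|a 0<|a 0<|a 0<|a 0<|a 0<|a 0<|b)<|a (a 0<|a 1<|a 0<|a 0<|a 0<|a 0<|a 0<|a 0<|b)<|a (a 0<|a 0<|a 1<|a 0<|a 0<|a 0<|a 0<|a 0<|b)<|
 a (a 0<|a 0<|a 0<|a 1<|a 0<|a 0<|a 0<|a 0<|b)<|a (a 0<|a 0<|a 0<|a 0<|a 1<|a 0<|a 0<|a 0<|b)<|a (a 0<|a 0<|a 0<|a 0<|a 0<|a 1<|a 1<|a 0<|b)<|a (a 0<|a 0<|a 0<|a 0<|a 0<|a 0<|a (-1)<|a 0<|b)<|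
 a (a 0<|a 0<|a 0<|a 0<|a 0<|a 0<|a 1<|a 1<|b)<|b))<|e))

theorem q14_ok : ChainOK Am q14 :=
  H129.ChainF.ok H129.ChainF.i8 H129.ChainF.m8 (H129.ChainF.c8 <| H129.ChainF.c8 <| H129.ChainF.c8 <| H129.ChainF.c8 <| H129.ChainF.c8 <| H129.ChainF.c8 <| H129.ChainF.c8 <| H129.ChainF.c8 <| H129.ChainF.c8 <| H129.ChainF.nil) (by decide +kernel)

/-- coefficients of the functional, order 14 -/
def v14 : Fin 6 → Fin 8 → ℤ := (beta% delta% lq26d8b6db50 fun a b _ _ _ =>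
 (a (a 0<|a 0<|a 1<|a (-1)<|a 1<|a 0<|a (-1)<|a 0<|b)<|
 a (a 0<|a 0<|a 0<|a 0<|a (-1)<|a 1<|a 1<|a (-1)<|b)<|a (a 0<|a (-1)<|a 0<|a 1<|a 0<|a 0<|a (-1)<|a 0<|b)<|a (a 0<|a 1<|a (-1)<|a 0<|a 0<|a 0<|a 1<|a (-1)<|b)<|
 a (a 0<|a 0<|a 1<|a 0<|a 0<|a (-1)<|a 0<|a 0<|b)<|a (a (-1)<|a 1<|a 0<|a 0<|a (-1)<|a 1<|a 0<|a 0<|b)<|b))

theorem e14 : EigOK (fun i j => hd q14 j i) c14 v14 ![1, 1, 1, 1, 1, 1, 0, 0] :=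
  H493.EigF.ok (H493.EigF.tt (hd q14) (H493.EigF.hM H129.ChainF.m8)) H493.EigF.r6 (H493.EigF.mc H493.EigF.r8 <| H493.EigF.mc H493.EigF.r8 <| H493.EigF.mc H493.EigF.r8 <| H493.EigF.mc H493.EigF.r8 <| H493.EigF.mc H493.EigF.r8 <| H493.EigF.mc H493.EigF.r8 <| H493.EigF.m0) H493.EigF.r8 (by decide +kernel)

theorem f14 : ∀ m, ∑ j, vec chevE8 8 r0 j * hd q14 j m = vec chevE8 8 r0 m := by decide +kernel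

theorem z14 : ∀ i, ∑ m, vec chevE8 8 r0 m * v14 i m = 0 := by decide +kernel

theorem rel_14_p {F : Type u} [Field F] [Finite F] {r s : ℕ} (hr : r.Prime) (hs : s.Prime)
    (h1 : phiC c14 (Nat.card F) 1 r) (h2 : s ∣ Nat.card F) : PG.Rel ↥(chevE8.group F) r s := by
  have := finW
  exact rel_p_of_eig hp CoxeterMatrix.E₈.toCoxeterSystem H129.TorusChar.invC_E8 one_ne_zero
    (chain_rep hp CoxeterMatrix.E₈.toCoxeterSystem hA q14_ok) e14 (Or.inl (by decide +kernel)) r0_lt f14 z14 hr hs h1.1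
    (fun h => absurd (Nat.dvd_one.1 h) hs.one_lt.ne') h1.2 h2

/-- partial products of an element with characteristic polynomial Φ1 Φ2 Φ18 -/
def q18 : List (Fin 8 × Mat 8) := (beta% delta% lq26d8b6db50 fun a b c d e =>
 (c (d 0 (a (a 0<|a 0<|a 1<|a 1<|a 1<|a 0<|a 0<|a 0<|b)<|a (a 0<|a (-1)<|a 0<|a (-1)<|a (-1)<|a 0<|a 0<|a 0<|b)<|a (a (-1)<|a 0<|a (-1)<|a (-1)<|a (-1)<|a 0<|a 0<|a 0<|b)<|
 a (a 1<|a 1<|a 1<|a 1<|a 1<|a 0<|a 0<|a 0<|b)<|a (a 0<|a 0<|a 0<|a 1<|a 1<|a 1<|a 0<|a 0<|b)<|a (a 0<|a 0<|a 0<|a 0<|a 0<|a 0<|a 1<|a 0<|b)<|a (a 0<|a 0<|a 0<|a 0<|a (-1)<|a (-1)<|a (-1)<|a 0<|b)<|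
 a (a 0<|a 0<|a 0<|a 0<|a 1<|a 1<|a 1<|a 1<|b)<|b))<|
 c (d 4 (a (a 1<|a 0<|a 1<|a 1<|a 1<|a 0<|a 0<|a 0<|b)<|a (a 0<|a (-1)<|a 0<|a (-1)<|a (-1)<|a 0<|a 0<|a 0<|b)<|a (a 0<|a 0<|a (-1)<|a (-1)<|a (-1)<|a 0<|a 0<|a 0<|b)<|
 a (a 0<|a 1<|a 1<|a 1<|a 1<|a 0<|a 0<|a 0<|b)<|a (a 0<|a 0<|a 0<|a 1<|a 1<|a 1<|a 0<|a 0<|b)<|a (a 0<|a 0<|a 0<|a 0<|a 0<|a 0<|a 1<|a 0<|b)<|a (a 0<|a 0<|a 0<|a 0<|a (-1)<|a (-1)<|a (-1)<|a 0<|b)<|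
 a (a 0<|a 0<|a 0<|a 0<|a 1<|a 1<|a 1<|a 1<|b)<|b))<|
 c (d 3 (a (a 1<|a 0<|a 1<|a 1<|a 0<|a 0<|a 0<|a 0<|b)<|a (a 0<|a (-1)<|a 0<|a (-1)<|a 0<|a 0<|a 0<|a 0<|b)<|a (a 0<|a 0<|a (-1)<|a (-1)<|a 0<|a 0<|a 0<|a 0<|b)<|
 a (a 0<|a 1<|a 1<|a 1<|a 0<|a 0<|a 0<|a 0<|b)<|a (a 0<|a 0<|a 0<|a 1<|a 1<|a 1<|a 0<|a 0<|b)<|a (a 0<|a 0<|a 0<|a 0<|a 0<|a 0<|a 1<|a 0<|b)<|a (a 0<|a 0<|a 0<|a 0<|a 0<|a (-1)<|a (-1)<|a 0<|b)<|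
 a (a 0<|a 0<|a 0<|a 0<|a 0<|a 1<|a 1<|a 1<|b)<|b))<|
 c (d 1 (a (a 1<|a 0<|a 1<|a 0<|a 0<|a 0<|a 0<|a 0<|b)<|a (a 0<|a (-1)<|a 0<|a 0<|a 0<|a 0<|a 0<|a 0<|b)<|a (a 0<|a 0<|a (-1)<|a 0<|a 0<|a 0<|a 0<|a 0<|b)<|
 a (a 0<|a 1<|a 1<|a 1<|a 0<|a 0<|a 0<|a 0<|b)<|a (a 0<|a 0<|a 0<|a 0<|a 1<|a 1<|a 0<|a 0<|b)<|a (a 0<|a 0<|a 0<|a 0<|a 0<|a 0<|a 1<|a 0<|b)<|a (a 0<|a 0<|a 0<|a 0<|a 0<|a (-1)<|a (-1)<|a 0<|b)<|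
 a (a 0<|a 0<|a 0<|a 0<|a 0<|a 1<|a 1<|a 1<|b)<|b))<|
 c (d 2 (a (a 1<|a 0<|a 1<|a 0<|a 0<|a 0<|a 0<|a 0<|b)<|a (a 0<|a 1<|a 0<|a 0<|a 0<|a 0<|a 0<|a 0<|b)<|a (a 0<|a 0<|a (-1)<|a 0<|a 0<|a 0<|a 0<|a 0<|b)<|
 a (a 0<|a 0<|a 1<|a 1<|a 0<|a 0<|a 0<|a 0<|b)<|a (a 0<|a 0<|a 0<|a 0<|a 1<|a 1<|a 0<|a 0<|b)<|a (a 0<|a 0<|a 0<|a 0<|a 0<|a 0<|a 1<|a 0<|b)<|a (a 0<|a 0<|a 0<|a 0<|a 0<|a (-1)<|a (-1)<|a 0<|b)<|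
 a (a 0<|a 0<|a 0<|a 0<|a 0<|a 1<|a 1<|a 1<|b)<|b))<|
 c (d 5 (a (a 1<|a 0<|a 0<|a 0<|a 0<|a 0<|a 0<|a 0<|b)<|a (a 0<|a 1<|a 0<|a 0<|a 0<|a 0<|a 0<|a 0<|b)<|a (a 0<|a 0<|a 1<|a 0<|a 0<|a 0<|a 0<|a 0<|b)<|
 a (a 0<|a 0<|a 0<|a 1<|a 0<|a 0<|a 0<|a 0<|b)<|a (a 0<|a 0<|a 0<|a 0<|a 1<|a 1<|a 0<|a 0<|b)<|a (a 0<|a 0<|a 0<|a 0<|a 0<|a 0<|a 1<|a 0<|b)<|a (a 0<|a 0<|a 0<|a 0<|a 0<|a (-1)<|a (-1)<|a 0<|b)<|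
 a (a 0<|a 0<|a 0<|a 0<|a 0<|a 1<|a 1<|a 1<|b)<|b))<|
 c (d 6 (a (a 1<|a 0<|a 0<|a 0<|a 0<|a 0<|a 0<|a 0<|b)<|a (a 0<|a 1<|a 0<|a 0<|a 0<|a 0<|a 0<|a 0<|b)<|a (a 0<|a 0<|a 1<|a 0<|a 0<|a 0<|a 0<|a 0<|b)<|
 a (a 0<|a 0<|a 0<|a 1<|a 0<|a 0<|a 0<|a 0<|b)<|a (a 0<|a 0<|a 0<|a 0<|a 1<|a 0<|a 0<|a 0<|b)<|a (a 0<|a 0<|a 0<|a 0<|a 0<|a 1<|a 1<|a 0<|b)<|a (a 0<|a 0<|a 0<|a 0<|a 0<|a 0<|a (-1)<|a 0<|b)<|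
 a (a 0<|a 0<|a 0<|a 0<|a 0<|a 0<|a 1<|a 1<|b)<|b))<|e))

theorem q18_ok : ChainOK Am q18 :=
  H129.ChainF.ok H129.ChainF.i8 H129.ChainF.m8 (H129.ChainF.c8 <| H129.ChainF.c8 <| H129.ChainF.c8 <| H129.ChainF.c8 <| H129.ChainF.c8 <| H129.ChainF.c8 <| H129.ChainF.c8 <| H129.ChainF.nil) (by decide +kernel)

/-- coefficients of the functional, order 18 -/
def v18 : Fin 6 → Fin 8 → ℤ := (beta% delta% lq26d8b6db50 fun a b _ _ _ =>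
 (a (a (-1)<|a 0<|a 1<|a 0<|a 0<|a 0<|a 0<|a (-1)<|b)<|
 a (a 0<|a 1<|a 0<|a 0<|a (-1)<|a 1<|a 0<|a (-1)<|b)<|a (a 0<|a 0<|a 1<|a 0<|a (-1)<|a 0<|a 1<|a (-1)<|b)<|a (a 0<|a 1<|a 0<|a 0<|a (-1)<|a 0<|a 0<|a 1<|b)<|a (a 0<|a 0<|a 1<|a (-1)<|a 0<|a 0<|a 0<|a 1<|b)<|
 a (a (-1)<|a 0<|a 0<|a 0<|a 0<|a 0<|a 0<|a 1<|b)<|b))

theorem e18 : EigOK (fun i j => hd q18 j i) c18 v18 ![0, 0, 1, 1, 0, 0, -1, 0] :=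
  H493.EigF.ok (H493.EigF.tt (hd q18) (H493.EigF.hM H129.ChainF.m8)) H493.EigF.r6 (H493.EigF.mc H493.EigF.r8 <| H493.EigF.mc H493.EigF.r8 <| H493.EigF.mc H493.EigF.r8 <| H493.EigF.mc H493.EigF.r8 <| H493.EigF.mc H493.EigF.r8 <| H493.EigF.mc H493.EigF.r8 <| H493.EigF.m0) H493.EigF.r8 (by decide +kernel)

theorem f18 : ∀ m, ∑ j, vec chevE8 8 r0 j * hd q18 j m = vec chevE8 8 r0 m := by decide +kernel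

theorem z18 : ∀ i, ∑ m, vec chevE8 8 r0 m * v18 i m = 0 := by decide +kernel

theorem rel_18_p {F : Type u} [Field F] [Finite F] {r s : ℕ} (hr : r.Prime) (hs : s.Prime)
    (h1 : phiC c18 (Nat.card F) 1 r) (h2 : s ∣ Nat.card F) : PG.Rel ↥(chevE8.group F) r s := by
  have := finW
  exact rel_p_of_eig hp CoxeterMatrix.E₈.toCoxeterSystem H129.TorusChar.invC_E8 one_ne_zero
    (chain_rep hp CoxeterMatrix.E₈.toCoxeterSystem hA q18_ok) e18 (Or.inl (by decide +kernel)) r0_lt f18 z18 hr hs h1.1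
    (fun h => absurd (Nat.dvd_one.1 h) hs.one_lt.ne') h1.2 h2

end Cfsg.Agent.R2.Spec.EE.CertE8
end
end

-- part: R2/Spec/EE/CertE7B_mg
section
prune_inst 0x30007104740000000818001262001e62e2000192004b800171c00b460f8fbe43a9452e20faf00b1291e4bef4707ac04811000119023000002000ba00411a008004076ae2c7bdbf0c3e0006c0f807500000000000000000000000000000041000000000000
set_option linter.all false
private noncomputable def lq26b68d209e {T : Sort _} (f :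
    type_of% (@_root_.Matrix.vecCons.{0}) →
    type_of% (@_root_.Matrix.vecEmpty.{0}) →
    type_of% (@_root_.List.cons.{0}) →
    type_of% (@_root_.Prod.mk.{0, 0}) →
    type_of% (@_root_.List.nil.{0}) → T) : T :=
  f (@_root_.Matrix.vecCons.{0}) (@_root_.Matrix.vecEmpty.{0}) (@_root_.List.cons.{0}) (@_root_.Prod.mk.{0, 0}) (@_root_.List.nil.{0})

-- part: R2/Spec/EE/CertE7B
section
/-!
# Adjacency of the prime divisors of two cyclotomic values through one torus, type E7, part 2 (helper2)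

Chains, eigenvectors and functionals as in `H168/ExcPairE7.lean`.
-/

set_option autoImplicit false

namespace Cfsg.Agent.R2.Spec.EE.CertE7

open Cfsg.Agent.H129.WData Cfsg.Agent.ChevalleyStructure.CoxeterGeomTypes Cfsg.Agent.Nodes.RGDChev
open Cfsg.Lie Cfsg.Lie.ChevalleyDatum
open Cfsg.Agent Cfsg.Agent.H493 Cfsg.Agent.H493.PGTorus Cfsg.Agent.H493.PGCyc Cfsg.Agent.H493.PGE7
open Cfsg.Agent.H168.ExcAdj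

universe u

/-- partial products of an element with characteristic polynomial Φ1 Φ3 Φ12 -/
def ch1_3_12 : List (Fin 7 × Mat 7) := (beta% delta% lq26b68d209e fun a b c d e =>
 (c (d 0 (a (a 0<|a 0<|a 1<|a 1<|a 1<|a 0<|a 0<|b)<|a (a 0<|a (-1)<|a 0<|a (-1)<|a (-1)<|a 0<|a 0<|b)<|a (a (-1)<|a 0<|a (-1)<|a (-1)<|a (-1)<|a 0<|a 0<|b)<|a (a 1<|a 1<|a 1<|a 1<|a 1<|a 0<|a 0<|b)<|
 a (a 0<|a 0<|a 0<|a 1<|a 1<|a 1<|a 0<|b)<|a (a 0<|a 0<|a 0<|a 0<|a (-1)<|a (-1)<|a 0<|b)<|a (a 0<|a 0<|a 0<|a 0<|a 1<|a 1<|a 1<|b)<|b))<|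
 c (d 4 (a (a 1<|a 0<|a 1<|a 1<|a 1<|a 0<|a 0<|b)<|a (a 0<|a (-1)<|a 0<|a (-1)<|a (-1)<|a 0<|a 0<|b)<|a (a 0<|a 0<|a (-1)<|a (-1)<|a (-1)<|a 0<|a 0<|b)<|a (a 0<|a 1<|a 1<|a 1<|a 1<|a 0<|a 0<|b)<|
 a (a 0<|a 0<|a 0<|a 1<|a 1<|a 1<|a 0<|b)<|a (a 0<|a 0<|a 0<|a 0<|a (-1)<|a (-1)<|a 0<|b)<|a (a 0<|a 0<|a 0<|a 0<|a 1<|a 1<|a 1<|b)<|b))<|
 c (d 3 (a (a 1<|a 0<|a 1<|a 1<|a 0<|a 0<|a 0<|b)<|a (a 0<|a (-1)<|a 0<|a (-1)<|a 0<|a 0<|a 0<|b)<|a (a 0<|a 0<|a (-1)<|a (-1)<|a 0<|a 0<|a 0<|b)<|a (a 0<|a 1<|a 1<|a 1<|a 0<|a 0<|a 0<|b)<|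
 a (a 0<|a 0<|a 0<|a 1<|a 1<|a 1<|a 0<|b)<|a (a 0<|a 0<|a 0<|a 0<|a 0<|a (-1)<|a 0<|b)<|a (a 0<|a 0<|a 0<|a 0<|a 0<|a 1<|a 1<|b)<|b))<|
 c (d 1 (a (a 1<|a 0<|a 1<|a 0<|a 0<|a 0<|a 0<|b)<|a (a 0<|a (-1)<|a 0<|a 0<|a 0<|a 0<|a 0<|b)<|a (a 0<|a 0<|a (-1)<|a 0<|a 0<|a 0<|a 0<|b)<|a (a 0<|a 1<|a 1<|a 1<|a 0<|a 0<|a 0<|b)<|
 a (a 0<|a 0<|a 0<|a 0<|a 1<|a 1<|a 0<|b)<|a (a 0<|a 0<|a 0<|a 0<|a 0<|a (-1)<|a 0<|b)<|a (a 0<|a 0<|a 0<|a 0<|a 0<|a 1<|a 1<|b)<|b))<|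
 c (d 2 (a (a 1<|a 0<|a 1<|a 0<|a 0<|a 0<|a 0<|b)<|a (a 0<|a 1<|a 0<|a 0<|a 0<|a 0<|a 0<|b)<|a (a 0<|a 0<|a (-1)<|a 0<|a 0<|a 0<|a 0<|b)<|a (a 0<|a 0<|a 1<|a 1<|a 0<|a 0<|a 0<|b)<|
 a (a 0<|a 0<|a 0<|a 0<|a 1<|a 1<|a 0<|b)<|a (a 0<|a 0<|a 0<|a 0<|a 0<|a (-1)<|a 0<|b)<|a (a 0<|a 0<|a 0<|a 0<|a 0<|a 1<|a 1<|b)<|b))<|
 c (d 5 (a (a 1<|a 0<|a 0<|a 0<|a 0<|a 0<|a 0<|b)<|a (a 0<|a 1<|a 0<|a 0<|a 0<|a 0<|a 0<|b)<|a (a 0<|a 0<|a 1<|a 0<|a 0<|a 0<|a 0<|b)<|a (a 0<|a 0<|a 0<|a 1<|a 0<|a 0<|a 0<|b)<|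
 a (a 0<|a 0<|a 0<|a 0<|a 1<|a 1<|a 0<|b)<|a (a 0<|a 0<|a 0<|a 0<|a 0<|a (-1)<|a 0<|b)<|a (a 0<|a 0<|a 0<|a 0<|a 0<|a 1<|a 1<|b)<|b))<|e))

theorem ch1_3_12_ok : ChainOK Am ch1_3_12 :=
  H129.ChainF.ok H129.ChainF.i7 H129.ChainF.m7 (H129.ChainF.c7 <| H129.ChainF.c7 <| H129.ChainF.c7 <| H129.ChainF.c7 <| H129.ChainF.c7 <| H129.ChainF.c7 <| H129.ChainF.nil) (by decide +kernel)

/-- coefficients of the eigenvector, order 1 -/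
def v1_3_12_at1 : Fin 1 → Fin 7 → ℤ := ![![2, 3, 4, 6, 5, 4, 3]]

theorem e1_3_12_at1 : EigOK (hd ch1_3_12) c1 v1_3_12_at1 ![-1, 1, 0, 0, 0, 0, 0] :=
  H493.EigF.ok (H493.EigF.hT H493.EigF.t7) H493.EigF.r1 (H493.EigF.mc H493.EigF.r7 <| H493.EigF.m0) H493.EigF.r7 (by decide +kernel)

/-- coefficients of the eigenvector, order 3 -/
def v1_3_12_at3 : Fin 2 → Fin 7 → ℤ := (beta% delta% lq26b68d209e fun a b _ _ _ =>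
 (a (a 0<|a 0<|a (-1)<|a 0<|a (-1)<|a 0<|a 0<|b)<|a (a (-1)<|a 0<|a (-1)<|a 0<|a 0<|a 1<|a 0<|b)<|b))

theorem e1_3_12_at3 : EigOK (hd ch1_3_12) c3 v1_3_12_at3 ![0, 0, 0, 0, -1, 0, 0] :=
  H493.EigF.ok (H493.EigF.hT H493.EigF.t7) H493.EigF.r2 (H493.EigF.mc H493.EigF.r7 <| H493.EigF.mc H493.EigF.r7 <| H493.EigF.m0) H493.EigF.r7 (by decide +kernel)

/-- coefficients of the eigenvector, order 12 -/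
def v1_3_12_at12 : Fin 4 → Fin 7 → ℤ := (beta% delta% lq26b68d209e fun a b _ _ _ =>
 (a (a 0<|a (-1)<|a 0<|a 0<|a 0<|a 0<|a 0<|b)<|a (a 0<|a 0<|a (-1)<|a (-1)<|a 0<|a 0<|a 0<|b)<|
 a (a (-1)<|a 0<|a (-1)<|a (-1)<|a (-1)<|a (-1)<|a 0<|b)<|a (a 0<|a (-1)<|a 0<|a (-1)<|a (-1)<|a 0<|a 0<|b)<|b))

theorem e1_3_12_at12 : EigOK (hd ch1_3_12) c12 v1_3_12_at12 ![0, -1, -1, 1, 0, 0, 0] :=
  H493.EigF.ok (H493.EigF.hT H493.EigF.t7) H493.EigF.r4 (H493.EigF.mc H493.EigF.r7 <| H493.EigF.mc H493.EigF.r7 <| H493.EigF.mc H493.EigF.r7 <| H493.EigF.mc H493.EigF.r7 <| H493.EigF.m0) H493.EigF.r7 (by decide +kernel)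

theorem rel_12_1 {F : Type u} [Field F] [Finite F] {r s : ℕ} (hr : r.Prime) (hs : s.Prime) (hrs : r ≠ s)
    (h1 : phiC c12 (Nat.card F) 2 r) (h2 : phiC c1 (Nat.card F) 2 s) :
    PG.Rel ↥(chevE7.group F) r s := by
  have := finW
  exact rel_of_eig hp CoxeterMatrix.E₇.toCoxeterSystem H129.TorusChar.invC_E7 (by norm_num)
    (chain_rep hp CoxeterMatrix.E₇.toCoxeterSystem hA ch1_3_12_ok) e1_3_12_at12 e1_3_12_at1 hr hs hrs h1.1 h2.1 h1.2 h2.2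

theorem rel_12_3 {F : Type u} [Field F] [Finite F] {r s : ℕ} (hr : r.Prime) (hs : s.Prime) (hrs : r ≠ s)
    (h1 : phiC c12 (Nat.card F) 2 r) (h2 : phiC c3 (Nat.card F) 2 s) :
    PG.Rel ↥(chevE7.group F) r s := by
  have := finW
  exact rel_of_eig hp CoxeterMatrix.E₇.toCoxeterSystem H129.TorusChar.invC_E7 (by norm_num)
    (chain_rep hp CoxeterMatrix.E₇.toCoxeterSystem hA ch1_3_12_ok) e1_3_12_at12 e1_3_12_at3 hr hs hrs h1.1 h2.1 h1.2 h2.2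

/-- partial products of an element with characteristic polynomial Φ1 Φ7 -/
def ch1_7 : List (Fin 7 × Mat 7) := (beta% delta% lq26b68d209e fun a b c d e =>
 (c (d 0 (a (a 0<|a 0<|a 1<|a 1<|a 1<|a 1<|a 1<|b)<|a (a 0<|a 1<|a 0<|a 1<|a 1<|a 1<|a 1<|b)<|a (a (-1)<|a 0<|a (-1)<|a (-1)<|a (-1)<|a (-1)<|a (-1)<|b)<|a (a 1<|a 0<|a 1<|a 0<|a 0<|a 0<|a 0<|b)<|
 a (a 0<|a 0<|a 0<|a 1<|a 0<|a 0<|a 0<|b)<|a (a 0<|a 0<|a 0<|a 0<|a 1<|a 0<|a 0<|b)<|a (a 0<|a 0<|a 0<|a 0<|a 0<|a 1<|a 0<|b)<|b))<|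
 c (d 6 (a (a 1<|a 0<|a 1<|a 1<|a 1<|a 1<|a 1<|b)<|a (a 0<|a 1<|a 0<|a 1<|a 1<|a 1<|a 1<|b)<|a (a 0<|a 0<|a (-1)<|a (-1)<|a (-1)<|a (-1)<|a (-1)<|b)<|a (a 0<|a 0<|a 1<|a 0<|a 0<|a 0<|a 0<|b)<|
 a (a 0<|a 0<|a 0<|a 1<|a 0<|a 0<|a 0<|b)<|a (a 0<|a 0<|a 0<|a 0<|a 1<|a 0<|a 0<|b)<|a (a 0<|a 0<|a 0<|a 0<|a 0<|a 1<|a 0<|b)<|b))<|
 c (d 5 (a (a 1<|a 0<|a 1<|a 1<|a 1<|a 1<|a 0<|b)<|a (a 0<|a 1<|a 0<|a 1<|a 1<|a 1<|a 0<|b)<|a (a 0<|a 0<|a (-1)<|a (-1)<|a (-1)<|a (-1)<|a 0<|b)<|a (a 0<|a 0<|a 1<|a 0<|a 0<|a 0<|a 0<|b)<|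
 a (a 0<|a 0<|a 0<|a 1<|a 0<|a 0<|a 0<|b)<|a (a 0<|a 0<|a 0<|a 0<|a 1<|a 0<|a 0<|b)<|a (a 0<|a 0<|a 0<|a 0<|a 0<|a 1<|a 1<|b)<|b))<|
 c (d 4 (a (a 1<|a 0<|a 1<|a 1<|a 1<|a 0<|a 0<|b)<|a (a 0<|a 1<|a 0<|a 1<|a 1<|a 0<|a 0<|b)<|a (a 0<|a 0<|a (-1)<|a (-1)<|a (-1)<|a 0<|a 0<|b)<|a (a 0<|a 0<|a 1<|a 0<|a 0<|a 0<|a 0<|b)<|
 a (a 0<|a 0<|a 0<|a 1<|a 0<|a 0<|a 0<|b)<|a (a 0<|a 0<|a 0<|a 0<|a 1<|a 1<|a 0<|b)<|a (a 0<|a 0<|a 0<|a 0<|a 0<|a 0<|a 1<|b)<|b))<|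
 c (d 3 (a (a 1<|a 0<|a 1<|a 1<|a 0<|a 0<|a 0<|b)<|a (a 0<|a 1<|a 0<|a 1<|a 0<|a 0<|a 0<|b)<|a (a 0<|a 0<|a (-1)<|a (-1)<|a 0<|a 0<|a 0<|b)<|a (a 0<|a 0<|a 1<|a 0<|a 0<|a 0<|a 0<|b)<|
 a (a 0<|a 0<|a 0<|a 1<|a 1<|a 0<|a 0<|b)<|a (a 0<|a 0<|a 0<|a 0<|a 0<|a 1<|a 0<|b)<|a (a 0<|a 0<|a 0<|a 0<|a 0<|a 0<|a 1<|b)<|b))<|
 c (d 2 (a (a 1<|a 0<|a 1<|a 0<|a 0<|a 0<|a 0<|b)<|a (a 0<|a 1<|a 0<|a 0<|a 0<|a 0<|a 0<|b)<|a (a 0<|a 0<|a (-1)<|a 0<|a 0<|a 0<|a 0<|b)<|a (a 0<|a 0<|a 1<|a 1<|a 0<|a 0<|a 0<|b)<|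
 a (a 0<|a 0<|a 0<|a 0<|a 1<|a 0<|a 0<|b)<|a (a 0<|a 0<|a 0<|a 0<|a 0<|a 1<|a 0<|b)<|a (a 0<|a 0<|a 0<|a 0<|a 0<|a 0<|a 1<|b)<|b))<|e))

theorem ch1_7_ok : ChainOK Am ch1_7 :=
  H129.ChainF.ok H129.ChainF.i7 H129.ChainF.m7 (H129.ChainF.c7 <| H129.ChainF.c7 <| H129.ChainF.c7 <| H129.ChainF.c7 <| H129.ChainF.c7 <| H129.ChainF.c7 <| H129.ChainF.nil) (by decide +kernel)

/-- coefficients of the eigenvector, order 1 -/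
def v1_7_at1 : Fin 1 → Fin 7 → ℤ := ![![4, 7, 8, 12, 9, 6, 3]]

theorem e1_7_at1 : EigOK (hd ch1_7) c1 v1_7_at1 ![1, 0, 0, 0, 0, 0, -1] :=
  H493.EigF.ok (H493.EigF.hT H493.EigF.t7) H493.EigF.r1 (H493.EigF.mc H493.EigF.r7 <| H493.EigF.m0) H493.EigF.r7 (by decide +kernel)

/-- coefficients of the eigenvector, order 7 -/
def v1_7_at7 : Fin 6 → Fin 7 → ℤ := (beta% delta% lq26b68d209e fun a b _ _ _ =>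
 (a (a 0<|a 0<|a 0<|a 0<|a (-1)<|a 0<|a 0<|b)<|a (a 0<|a 0<|a 0<|a 0<|a (-1)<|a (-1)<|a 0<|b)<|
 a (a 0<|a 0<|a 0<|a 0<|a (-1)<|a (-1)<|a (-1)<|b)<|a (a 0<|a 0<|a 1<|a 1<|a 0<|a 0<|a 0<|b)<|a (a 1<|a 0<|a 1<|a 1<|a 0<|a 0<|a 0<|b)<|a (a 0<|a 0<|a 0<|a 1<|a 0<|a 0<|a 0<|b)<|b))

theorem e1_7_at7 : EigOK (hd ch1_7) c7 v1_7_at7 ![0, 0, 0, 0, -1, 1, 0] :=
  H493.EigF.ok (H493.EigF.hT H493.EigF.t7) H493.EigF.r6 (H493.EigF.mc H493.EigF.r7 <| H493.EigF.mc H493.EigF.r7 <| H493.EigF.mc H493.EigF.r7 <| H493.EigF.mc H493.EigF.r7 <| H493.EigF.mc H493.EigF.r7 <| H493.EigF.mc H493.EigF.r7 <| H493.EigF.m0) H493.EigF.r7 (by decide +kernel)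

theorem rel_7_1 {F : Type u} [Field F] [Finite F] {r s : ℕ} (hr : r.Prime) (hs : s.Prime) (hrs : r ≠ s)
    (h1 : phiC c7 (Nat.card F) 2 r) (h2 : phiC c1 (Nat.card F) 2 s) :
    PG.Rel ↥(chevE7.group F) r s := by
  have := finW
  exact rel_of_eig hp CoxeterMatrix.E₇.toCoxeterSystem H129.TorusChar.invC_E7 (by norm_num)
    (chain_rep hp CoxeterMatrix.E₇.toCoxeterSystem hA ch1_7_ok) e1_7_at7 e1_7_at1 hr hs hrs h1.1 h2.1 h1.2 h2.2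

/-- partial products of an element with characteristic polynomial Φ1 Φ3 Φ5 -/
def ch1_3_5 : List (Fin 7 × Mat 7) := (beta% delta% lq26b68d209e fun a b c d e =>
 (c (d 1 (a (a (-1)<|a 0<|a (-1)<|a 0<|a 0<|a 0<|a 0<|b)<|a (a 0<|a 0<|a 1<|a 1<|a 0<|a 0<|a 0<|b)<|a (a 1<|a 1<|a 1<|a 1<|a 0<|a 0<|a 0<|b)<|a (a 0<|a (-1)<|a (-1)<|a (-1)<|a 0<|a 0<|a 0<|b)<|
 a (a 0<|a 1<|a 1<|a 1<|a 1<|a 1<|a 0<|b)<|a (a 0<|a 0<|a 0<|a 0<|a 0<|a 0<|a 1<|b)<|a (a 0<|a 0<|a 0<|a 0<|a 0<|a (-1)<|a (-1)<|b)<|b))<|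
 c (d 2 (a (a (-1)<|a 0<|a (-1)<|a 0<|a 0<|a 0<|a 0<|b)<|a (a 0<|a 1<|a 1<|a 1<|a 0<|a 0<|a 0<|b)<|a (a 1<|a 0<|a 1<|a 1<|a 0<|a 0<|a 0<|b)<|a (a 0<|a 0<|a (-1)<|a (-1)<|a 0<|a 0<|a 0<|b)<|
 a (a 0<|a 0<|a 1<|a 1<|a 1<|a 1<|a 0<|b)<|a (a 0<|a 0<|a 0<|a 0<|a 0<|a 0<|a 1<|b)<|a (a 0<|a 0<|a 0<|a 0<|a 0<|a (-1)<|a (-1)<|b)<|b))<|
 c (d 0 (a (a (-1)<|a 0<|a 0<|a 0<|a 0<|a 0<|a 0<|b)<|a (a 0<|a 1<|a 0<|a 1<|a 0<|a 0<|a 0<|b)<|a (a 1<|a 0<|a 1<|a 1<|a 0<|a 0<|a 0<|b)<|a (a 0<|a 0<|a 0<|a (-1)<|a 0<|a 0<|a 0<|b)<|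
 a (a 0<|a 0<|a 0<|a 1<|a 1<|a 1<|a 0<|b)<|a (a 0<|a 0<|a 0<|a 0<|a 0<|a 0<|a 1<|b)<|a (a 0<|a 0<|a 0<|a 0<|a 0<|a (-1)<|a (-1)<|b)<|b))<|
 c (d 3 (a (a 1<|a 0<|a 0<|a 0<|a 0<|a 0<|a 0<|b)<|a (a 0<|a 1<|a 0<|a 1<|a 0<|a 0<|a 0<|b)<|a (a 0<|a 0<|a 1<|a 1<|a 0<|a 0<|a 0<|b)<|a (a 0<|a 0<|a 0<|a (-1)<|a 0<|a 0<|a 0<|b)<|
 a (a 0<|a 0<|a 0<|a 1<|a 1<|a 1<|a 0<|b)<|a (a 0<|a 0<|a 0<|a 0<|a 0<|a 0<|a 1<|b)<|a (a 0<|a 0<|a 0<|a 0<|a 0<|a (-1)<|a (-1)<|b)<|b))<|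
 c (d 5 (a (a 1<|a 0<|a 0<|a 0<|a 0<|a 0<|a 0<|b)<|a (a 0<|a 1<|a 0<|a 0<|a 0<|a 0<|a 0<|b)<|a (a 0<|a 0<|a 1<|a 0<|a 0<|a 0<|a 0<|b)<|a (a 0<|a 0<|a 0<|a 1<|a 0<|a 0<|a 0<|b)<|
 a (a 0<|a 0<|a 0<|a 0<|a 1<|a 1<|a 0<|b)<|a (a 0<|a 0<|a 0<|a 0<|a 0<|a 0<|a 1<|b)<|a (a 0<|a 0<|a 0<|a 0<|a 0<|a (-1)<|a (-1)<|b)<|b))<|
 c (d 6 (a (a 1<|a 0<|a 0<|a 0<|a 0<|a 0<|a 0<|b)<|a (a 0<|a 1<|a 0<|a 0<|a 0<|a 0<|a 0<|b)<|a (a 0<|a 0<|a 1<|a 0<|a 0<|a 0<|a 0<|b)<|a (a 0<|a 0<|a 0<|a 1<|a 0<|a 0<|a 0<|b)<|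
 a (a 0<|a 0<|a 0<|a 0<|a 1<|a 0<|a 0<|b)<|a (a 0<|a 0<|a 0<|a 0<|a 0<|a 1<|a 1<|b)<|a (a 0<|a 0<|a 0<|a 0<|a 0<|a 0<|a (-1)<|b)<|b))<|e))

theorem ch1_3_5_ok : ChainOK Am ch1_3_5 :=
  H129.ChainF.ok H129.ChainF.i7 H129.ChainF.m7 (H129.ChainF.c7 <| H129.ChainF.c7 <| H129.ChainF.c7 <| H129.ChainF.c7 <| H129.ChainF.c7 <| H129.ChainF.c7 <| H129.ChainF.nil) (by decide +kernel)

/-- coefficients of the eigenvector, order 3 -/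
def v1_3_5_at3 : Fin 2 → Fin 7 → ℤ := (beta% delta% lq26b68d209e fun a b _ _ _ =>
 (a (a 0<|a 0<|a 0<|a 0<|a 0<|a (-1)<|a 0<|b)<|a (a 0<|a 0<|a 0<|a 0<|a 0<|a 0<|a 1<|b)<|b))

theorem e1_3_5_at3 : EigOK (hd ch1_3_5) c3 v1_3_5_at3 ![0, 0, 0, 0, 0, -1, 0] :=
  H493.EigF.ok (H493.EigF.hT H493.EigF.t7) H493.EigF.r2 (H493.EigF.mc H493.EigF.r7 <| H493.EigF.mc H493.EigF.r7 <| H493.EigF.m0) H493.EigF.r7 (by decide +kernel)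

/-- coefficients of the eigenvector, order 5 -/
def v1_3_5_at5 : Fin 4 → Fin 7 → ℤ := (beta% delta% lq26b68d209e fun a b _ _ _ =>
 (a (a 1<|a 0<|a 1<|a 0<|a 0<|a 0<|a 0<|b)<|a (a 0<|a 0<|a 1<|a 0<|a 0<|a 0<|a 0<|b)<|
 a (a 0<|a 0<|a 0<|a (-1)<|a 0<|a 0<|a 0<|b)<|a (a 0<|a (-1)<|a 0<|a (-1)<|a 0<|a 0<|a 0<|b)<|b))

theorem e1_3_5_at5 : EigOK (hd ch1_3_5) c5 v1_3_5_at5 ![1, 0, 0, 0, 0, 0, 0] :=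
  H493.EigF.ok (H493.EigF.hT H493.EigF.t7) H493.EigF.r4 (H493.EigF.mc H493.EigF.r7 <| H493.EigF.mc H493.EigF.r7 <| H493.EigF.mc H493.EigF.r7 <| H493.EigF.mc H493.EigF.r7 <| H493.EigF.m0) H493.EigF.r7 (by decide +kernel)

theorem rel_5_3 {F : Type u} [Field F] [Finite F] {r s : ℕ} (hr : r.Prime) (hs : s.Prime) (hrs : r ≠ s)
    (h1 : phiC c5 (Nat.card F) 2 r) (h2 : phiC c3 (Nat.card F) 2 s) :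
    PG.Rel ↥(chevE7.group F) r s := by
  have := finW
  exact rel_of_eig hp CoxeterMatrix.E₇.toCoxeterSystem H129.TorusChar.invC_E7 (by norm_num)
    (chain_rep hp CoxeterMatrix.E₇.toCoxeterSystem hA ch1_3_5_ok) e1_3_5_at5 e1_3_5_at3 hr hs hrs h1.1 h2.1 h1.2 h2.2

/-- partial products of an element with characteristic polynomial Φ1^2 Φ2 Φ4 Φ6 -/
def ch1_2_4_6 : List (Fin 7 × Mat 7) := (beta% delta% lq26b68d209e fun a b c d e =>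
 (c (d 2 (a (a 1<|a 0<|a 1<|a 0<|a 0<|a 0<|a 0<|b)<|a (a 0<|a 0<|a 0<|a 0<|a 0<|a 1<|a 0<|b)<|a (a 0<|a 1<|a 1<|a 2<|a 2<|a 1<|a 0<|b)<|a (a 0<|a (-1)<|a (-1)<|a (-1)<|a (-1)<|a (-1)<|a 0<|b)<|
 a (a 0<|a 1<|a 0<|a 0<|a 0<|a 0<|a 0<|b)<|a (a 0<|a 0<|a 1<|a 1<|a 0<|a 0<|a 0<|b)<|a (a 0<|a 0<|a 0<|a 0<|a 1<|a 1<|a 1<|b)<|b))<|
 c (d 4 (a (a 1<|a 0<|a 0<|a 0<|a 0<|a 0<|a 0<|b)<|a (a 0<|a 0<|a 0<|a 0<|a 0<|a 1<|a 0<|b)<|a (a 0<|a 1<|a 1<|a 2<|a 2<|a 1<|a 0<|b)<|a (a 0<|a (-1)<|a 0<|a (-1)<|a (-1)<|a (-1)<|a 0<|b)<|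
 a (a 0<|a 1<|a 0<|a 0<|a 0<|a 0<|a 0<|b)<|a (a 0<|a 0<|a 0<|a 1<|a 0<|a 0<|a 0<|b)<|a (a 0<|a 0<|a 0<|a 0<|a 1<|a 1<|a 1<|b)<|b))<|
 c (d 3 (a (a 1<|a 0<|a 0<|a 0<|a 0<|a 0<|a 0<|b)<|a (a 0<|a 0<|a 0<|a 0<|a 1<|a 1<|a 0<|b)<|a (a 0<|a 1<|a 1<|a 2<|a 1<|a 1<|a 0<|b)<|a (a 0<|a (-1)<|a 0<|a (-1)<|a (-1)<|a (-1)<|a 0<|b)<|
 a (a 0<|a 1<|a 0<|a 0<|a 0<|a 0<|a 0<|b)<|a (a 0<|a 0<|a 0<|a 1<|a 1<|a 0<|a 0<|b)<|a (a 0<|a 0<|a 0<|a 0<|a 0<|a 1<|a 1<|b)<|b))<|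
 c (d 1 (a (a 1<|a 0<|a 0<|a 0<|a 0<|a 0<|a 0<|b)<|a (a 0<|a 0<|a 0<|a 1<|a 1<|a 1<|a 0<|b)<|a (a 0<|a 1<|a 1<|a 1<|a 1<|a 1<|a 0<|b)<|a (a 0<|a (-1)<|a 0<|a (-1)<|a (-1)<|a (-1)<|a 0<|b)<|
 a (a 0<|a 1<|a 0<|a 1<|a 0<|a 0<|a 0<|b)<|a (a 0<|a 0<|a 0<|a 0<|a 1<|a 0<|a 0<|b)<|a (a 0<|a 0<|a 0<|a 0<|a 0<|a 1<|a 1<|b)<|b))<|
 c (d 5 (a (a 1<|a 0<|a 0<|a 0<|a 0<|a 0<|a 0<|b)<|a (a 0<|a 1<|a 0<|a 1<|a 1<|a 1<|a 0<|b)<|a (a 0<|a 0<|a 1<|a 1<|a 1<|a 1<|a 0<|b)<|a (a 0<|a 0<|a 0<|a (-1)<|a (-1)<|a (-1)<|a 0<|b)<|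
 a (a 0<|a 0<|a 0<|a 1<|a 0<|a 0<|a 0<|b)<|a (a 0<|a 0<|a 0<|a 0<|a 1<|a 0<|a 0<|b)<|a (a 0<|a 0<|a 0<|a 0<|a 0<|a 1<|a 1<|b)<|b))<|
 c (d 4 (a (a 1<|a 0<|a 0<|a 0<|a 0<|a 0<|a 0<|b)<|a (a 0<|a 1<|a 0<|a 1<|a 1<|a 0<|a 0<|b)<|a (a 0<|a 0<|a 1<|a 1<|a 1<|a 0<|a 0<|b)<|a (a 0<|a 0<|a 0<|a (-1)<|a (-1)<|a 0<|a 0<|b)<|
 a (a 0<|a 0<|a 0<|a 1<|a 0<|a 0<|a 0<|b)<|a (a 0<|a 0<|a 0<|a 0<|a 1<|a 1<|a 0<|b)<|a (a 0<|a 0<|a 0<|a 0<|a 0<|a 0<|a 1<|b)<|b))<|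
 c (d 3 (a (a 1<|a 0<|a 0<|a 0<|a 0<|a 0<|a 0<|b)<|a (a 0<|a 1<|a 0<|a 1<|a 0<|a 0<|a 0<|b)<|a (a 0<|a 0<|a 1<|a 1<|a 0<|a 0<|a 0<|b)<|a (a 0<|a 0<|a 0<|a (-1)<|a 0<|a 0<|a 0<|b)<|
 a (a 0<|a 0<|a 0<|a 1<|a 1<|a 0<|a 0<|b)<|a (a 0<|a 0<|a 0<|a 0<|a 0<|a 1<|a 0<|b)<|a (a 0<|a 0<|a 0<|a 0<|a 0<|a 0<|a 1<|b)<|b))<|e))

theorem ch1_2_4_6_ok : ChainOK Am ch1_2_4_6 :=
  H129.ChainF.ok H129.ChainF.i7 H129.ChainF.m7 (H129.ChainF.c7 <| H129.ChainF.c7 <| H129.ChainF.c7 <| H129.ChainF.c7 <| H129.ChainF.c7 <| H129.ChainF.c7 <| H129.ChainF.c7 <| H129.ChainF.nil) (by decide +kernel)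

/-- coefficients of the eigenvector, order 4 -/
def v1_2_4_6_at4 : Fin 2 → Fin 7 → ℤ := (beta% delta% lq26b68d209e fun a b _ _ _ =>
 (a (a 0<|a 0<|a (-1)<|a (-1)<|a (-1)<|a 0<|a 0<|b)<|a (a 0<|a 1<|a 0<|a 1<|a 1<|a 0<|a 0<|b)<|b))

theorem e1_2_4_6_at4 : EigOK (hd ch1_2_4_6) c4 v1_2_4_6_at4 ![0, 0, -1, 0, 0, 0, 0] :=
  H493.EigF.ok (H493.EigF.hT H493.EigF.t7) H493.EigF.r2 (H493.EigF.mc H493.EigF.r7 <| H493.EigF.mc H493.EigF.r7 <| H493.EigF.m0) H493.EigF.r7 (by decide +kernel)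

/-- coefficients of the eigenvector, order 6 -/
def v1_2_4_6_at6 : Fin 2 → Fin 7 → ℤ := (beta% delta% lq26b68d209e fun a b _ _ _ =>
 (a (a 0<|a 0<|a 0<|a (-1)<|a 0<|a 0<|a 0<|b)<|a (a 0<|a (-1)<|a (-1)<|a (-1)<|a (-1)<|a (-1)<|a 0<|b)<|b))

theorem e1_2_4_6_at6 : EigOK (hd ch1_2_4_6) c6 v1_2_4_6_at6 ![0, 1, 0, -1, 0, 0, 0] :=
  H493.EigF.ok (H493.EigF.hT H493.EigF.t7) H493.EigF.r2 (H493.EigF.mc H493.EigF.r7 <| H493.EigF.mc H493.EigF.r7 <| H493.EigF.m0) H493.EigF.r7 (by decide +kernel)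

theorem rel_6_4 {F : Type u} [Field F] [Finite F] {r s : ℕ} (hr : r.Prime) (hs : s.Prime) (hrs : r ≠ s)
    (h1 : phiC c6 (Nat.card F) 2 r) (h2 : phiC c4 (Nat.card F) 2 s) :
    PG.Rel ↥(chevE7.group F) r s := by
  have := finW
  exact rel_of_eig hp CoxeterMatrix.E₇.toCoxeterSystem H129.TorusChar.invC_E7 (by norm_num)
    (chain_rep hp CoxeterMatrix.E₇.toCoxeterSystem hA ch1_2_4_6_ok) e1_2_4_6_at6 e1_2_4_6_at4 hr hs hrs h1.1 h2.1 h1.2 h2.2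

/-- partial products of an element with characteristic polynomial Φ2 Φ18 -/
def ch2_18 : List (Fin 7 × Mat 7) := (beta% delta% lq26b68d209e fun a b c d e =>
 (c (d 0 (a (a 0<|a 0<|a 1<|a 1<|a 1<|a 0<|a 0<|b)<|a (a 0<|a (-1)<|a 0<|a (-1)<|a (-1)<|a 0<|a 0<|b)<|a (a (-1)<|a 0<|a (-1)<|a (-1)<|a (-1)<|a 0<|a 0<|b)<|a (a 1<|a 1<|a 1<|a 1<|a 1<|a 0<|a 0<|b)<|
 a (a 0<|a 0<|a 0<|a 1<|a 1<|a 1<|a 0<|b)<|a (a 0<|a 0<|a 0<|a 0<|a 0<|a 0<|a 1<|b)<|a (a 0<|a 0<|a 0<|a 0<|a (-1)<|a (-1)<|a (-1)<|b)<|b))<|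
 c (d 4 (a (a 1<|a 0<|a 1<|a 1<|a 1<|a 0<|a 0<|b)<|a (a 0<|a (-1)<|a 0<|a (-1)<|a (-1)<|a 0<|a 0<|b)<|a (a 0<|a 0<|a (-1)<|a (-1)<|a (-1)<|a 0<|a 0<|b)<|a (a 0<|a 1<|a 1<|a 1<|a 1<|a 0<|a 0<|b)<|
 a (a 0<|a 0<|a 0<|a 1<|a 1<|a 1<|a 0<|b)<|a (a 0<|a 0<|a 0<|a 0<|a 0<|a 0<|a 1<|b)<|a (a 0<|a 0<|a 0<|a 0<|a (-1)<|a (-1)<|a (-1)<|b)<|b))<|
 c (d 3 (a (a 1<|a 0<|a 1<|a 1<|a 0<|a 0<|a 0<|b)<|a (a 0<|a (-1)<|a 0<|a (-1)<|a 0<|a 0<|a 0<|b)<|a (a 0<|a 0<|a (-1)<|a (-1)<|a 0<|a 0<|a 0<|b)<|a (a 0<|a 1<|a 1<|a 1<|a 0<|a 0<|a 0<|b)<|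
 a (a 0<|a 0<|a 0<|a 1<|a 1<|a 1<|a 0<|b)<|a (a 0<|a 0<|a 0<|a 0<|a 0<|a 0<|a 1<|b)<|a (a 0<|a 0<|a 0<|a 0<|a 0<|a (-1)<|a (-1)<|b)<|b))<|
 c (d 1 (a (a 1<|a 0<|a 1<|a 0<|a 0<|a 0<|a 0<|b)<|a (a 0<|a (-1)<|a 0<|a 0<|a 0<|a 0<|a 0<|b)<|a (a 0<|a 0<|a (-1)<|a 0<|a 0<|a 0<|a 0<|b)<|a (a 0<|a 1<|a 1<|a 1<|a 0<|a 0<|a 0<|b)<|
 a (a 0<|a 0<|a 0<|a 0<|a 1<|a 1<|a 0<|b)<|a (a 0<|a 0<|a 0<|a 0<|a 0<|a 0<|a 1<|b)<|a (a 0<|a 0<|a 0<|a 0<|a 0<|a (-1)<|a (-1)<|b)<|b))<|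
 c (d 2 (a (a 1<|a 0<|a 1<|a 0<|a 0<|a 0<|a 0<|b)<|a (a 0<|a 1<|a 0<|a 0<|a 0<|a 0<|a 0<|b)<|a (a 0<|a 0<|a (-1)<|a 0<|a 0<|a 0<|a 0<|b)<|a (a 0<|a 0<|a 1<|a 1<|a 0<|a 0<|a 0<|b)<|
 a (a 0<|a 0<|a 0<|a 0<|a 1<|a 1<|a 0<|b)<|a (a 0<|a 0<|a 0<|a 0<|a 0<|a 0<|a 1<|b)<|a (a 0<|a 0<|a 0<|a 0<|a 0<|a (-1)<|a (-1)<|b)<|b))<|
 c (d 5 (a (a 1<|a 0<|a 0<|a 0<|a 0<|a 0<|a 0<|b)<|a (a 0<|a 1<|a 0<|a 0<|a 0<|a 0<|a 0<|b)<|a (a 0<|a 0<|a 1<|a 0<|a 0<|a 0<|a 0<|b)<|a (a 0<|a 0<|a 0<|a 1<|a 0<|a 0<|a 0<|b)<|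
 a (a 0<|a 0<|a 0<|a 0<|a 1<|a 1<|a 0<|b)<|a (a 0<|a 0<|a 0<|a 0<|a 0<|a 0<|a 1<|b)<|a (a 0<|a 0<|a 0<|a 0<|a 0<|a (-1)<|a (-1)<|b)<|b))<|
 c (d 6 (a (a 1<|a 0<|a 0<|a 0<|a 0<|a 0<|a 0<|b)<|a (a 0<|a 1<|a 0<|a 0<|a 0<|a 0<|a 0<|b)<|a (a 0<|a 0<|a 1<|a 0<|a 0<|a 0<|a 0<|b)<|a (a 0<|a 0<|a 0<|a 1<|a 0<|a 0<|a 0<|b)<|
 a (a 0<|a 0<|a 0<|a 0<|a 1<|a 0<|a 0<|b)<|a (a 0<|a 0<|a 0<|a 0<|a 0<|a 1<|a 1<|b)<|a (a 0<|a 0<|a 0<|a 0<|a 0<|a 0<|a (-1)<|b)<|b))<|e))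

theorem ch2_18_ok : ChainOK Am ch2_18 :=
  H129.ChainF.ok H129.ChainF.i7 H129.ChainF.m7 (H129.ChainF.c7 <| H129.ChainF.c7 <| H129.ChainF.c7 <| H129.ChainF.c7 <| H129.ChainF.c7 <| H129.ChainF.c7 <| H129.ChainF.c7 <| H129.ChainF.nil) (by decide +kernel)

/-- coefficients of the eigenvector, order 2 -/
def v2_18_at2 : Fin 1 → Fin 7 → ℤ := ![![0, 1, 0, 0, 1, 0, 1]]

theorem e2_18_at2 : EigOK (hd ch2_18) c2 v2_18_at2 ![0, 1, 0, 0, 0, 0, 0] :=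
  H493.EigF.ok (H493.EigF.hT H493.EigF.t7) H493.EigF.r1 (H493.EigF.mc H493.EigF.r7 <| H493.EigF.m0) H493.EigF.r7 (by decide +kernel)

/-- coefficients of the eigenvector, order 18 -/
def v2_18_at18 : Fin 6 → Fin 7 → ℤ := (beta% delta% lq26b68d209e fun a b _ _ _ =>
 (a (a 1<|a 0<|a 1<|a 0<|a 0<|a 0<|a 0<|b)<|a (a 0<|a 1<|a 0<|a 1<|a 0<|a 0<|a 0<|b)<|
 a (a 0<|a 0<|a 1<|a 1<|a 1<|a 1<|a 1<|b)<|a (a 0<|a 1<|a 0<|a 1<|a 1<|a 1<|a 0<|b)<|a (a 0<|a 0<|a 1<|a 1<|a 1<|a 0<|a 0<|b)<|a (a 1<|a 0<|a 0<|a 0<|a 0<|a 0<|a 0<|b)<|b))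

theorem e2_18_at18 : EigOK (hd ch2_18) c18 v2_18_at18 ![0, 1, 1, -1, 0, 0, 0] :=
  H493.EigF.ok (H493.EigF.hT H493.EigF.t7) H493.EigF.r6 (H493.EigF.mc H493.EigF.r7 <| H493.EigF.mc H493.EigF.r7 <| H493.EigF.mc H493.EigF.r7 <| H493.EigF.mc H493.EigF.r7 <| H493.EigF.mc H493.EigF.r7 <| H493.EigF.mc H493.EigF.r7 <| H493.EigF.m0) H493.EigF.r7 (by decide +kernel)

theorem rel_18_2 {F : Type u} [Field F] [Finite F] {r s : ℕ} (hr : r.Prime) (hs : s.Prime) (hrs : r ≠ s)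
    (h1 : phiC c18 (Nat.card F) 2 r) (h2 : phiC c2 (Nat.card F) 2 s) :
    PG.Rel ↥(chevE7.group F) r s := by
  have := finW
  exact rel_of_eig hp CoxeterMatrix.E₇.toCoxeterSystem H129.TorusChar.invC_E7 (by norm_num)
    (chain_rep hp CoxeterMatrix.E₇.toCoxeterSystem hA ch2_18_ok) e2_18_at18 e2_18_at2 hr hs hrs h1.1 h2.1 h1.2 h2.2

/-- partial products of an element with characteristic polynomial Φ1 Φ9 -/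
def ch1_9 : List (Fin 7 × Mat 7) := (beta% delta% lq26b68d209e fun a b c d e =>
 (c (d 1 (a (a (-1)<|a 0<|a (-1)<|a 0<|a 0<|a 0<|a 0<|b)<|a (a 0<|a 0<|a 0<|a 0<|a 1<|a 0<|a 0<|b)<|a (a 1<|a 1<|a 2<|a 2<|a 1<|a 0<|a 0<|b)<|a (a 0<|a 0<|a (-1)<|a (-1)<|a (-1)<|a 0<|a 0<|b)<|
 a (a 0<|a 0<|a 1<|a 1<|a 1<|a 1<|a 0<|b)<|a (a 0<|a (-1)<|a (-1)<|a (-1)<|a (-1)<|a (-1)<|a 0<|b)<|a (a 0<|a 1<|a 1<|a 1<|a 1<|a 1<|a 1<|b)<|b))<|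
 c (d 2 (a (a (-1)<|a 0<|a (-1)<|a 0<|a 0<|a 0<|a 0<|b)<|a (a 0<|a 0<|a 0<|a 0<|a 1<|a 0<|a 0<|b)<|a (a 1<|a 1<|a 2<|a 2<|a 1<|a 0<|a 0<|b)<|a (a 0<|a (-1)<|a (-1)<|a (-1)<|a (-1)<|a 0<|a 0<|b)<|
 a (a 0<|a 1<|a 1<|a 1<|a 1<|a 1<|a 0<|b)<|a (a 0<|a 0<|a (-1)<|a (-1)<|a (-1)<|a (-1)<|a 0<|b)<|a (a 0<|a 0<|a 1<|a 1<|a 1<|a 1<|a 1<|b)<|b))<|
 c (d 0 (a (a (-1)<|a 0<|a 0<|a 0<|a 0<|a 0<|a 0<|b)<|a (a 0<|a 0<|a 0<|a 0<|a 1<|a 0<|a 0<|b)<|a (a 1<|a 1<|a 1<|a 2<|a 1<|a 0<|a 0<|b)<|a (a 0<|a (-1)<|a 0<|a (-1)<|a (-1)<|a 0<|a 0<|b)<|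
 a (a 0<|a 1<|a 0<|a 1<|a 1<|a 1<|a 0<|b)<|a (a 0<|a 0<|a 0<|a (-1)<|a (-1)<|a (-1)<|a 0<|b)<|a (a 0<|a 0<|a 0<|a 1<|a 1<|a 1<|a 1<|b)<|b))<|
 c (d 3 (a (a 1<|a 0<|a 0<|a 0<|a 0<|a 0<|a 0<|b)<|a (a 0<|a 0<|a 0<|a 0<|a 1<|a 0<|a 0<|b)<|a (a 0<|a 1<|a 1<|a 2<|a 1<|a 0<|a 0<|b)<|a (a 0<|a (-1)<|a 0<|a (-1)<|a (-1)<|a 0<|a 0<|b)<|
 a (a 0<|a 1<|a 0<|a 1<|a 1<|a 1<|a 0<|b)<|a (a 0<|a 0<|a 0<|a (-1)<|a (-1)<|a (-1)<|a 0<|b)<|a (a 0<|a 0<|a 0<|a 1<|a 1<|a 1<|a 1<|b)<|b))<|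
 c (d 1 (a (a 1<|a 0<|a 0<|a 0<|a 0<|a 0<|a 0<|b)<|a (a 0<|a 0<|a 0<|a 1<|a 1<|a 0<|a 0<|b)<|a (a 0<|a 1<|a 1<|a 1<|a 1<|a 0<|a 0<|b)<|a (a 0<|a (-1)<|a 0<|a (-1)<|a (-1)<|a 0<|a 0<|b)<|
 a (a 0<|a 1<|a 0<|a 1<|a 1<|a 1<|a 0<|b)<|a (a 0<|a 0<|a 0<|a 0<|a (-1)<|a (-1)<|a 0<|b)<|a (a 0<|a 0<|a 0<|a 0<|a 1<|a 1<|a 1<|b)<|b))<|
 c (d 4 (a (a 1<|a 0<|a 0<|a 0<|a 0<|a 0<|a 0<|b)<|a (a 0<|a 1<|a 0<|a 1<|a 1<|a 0<|a 0<|b)<|a (a 0<|a 0<|a 1<|a 1<|a 1<|a 0<|a 0<|b)<|a (a 0<|a 0<|a 0<|a (-1)<|a (-1)<|a 0<|a 0<|b)<|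
 a (a 0<|a 0<|a 0<|a 1<|a 1<|a 1<|a 0<|b)<|a (a 0<|a 0<|a 0<|a 0<|a (-1)<|a (-1)<|a 0<|b)<|a (a 0<|a 0<|a 0<|a 0<|a 1<|a 1<|a 1<|b)<|b))<|
 c (d 3 (a (a 1<|a 0<|a 0<|a 0<|a 0<|a 0<|a 0<|b)<|a (a 0<|a 1<|a 0<|a 1<|a 0<|a 0<|a 0<|b)<|a (a 0<|a 0<|a 1<|a 1<|a 0<|a 0<|a 0<|b)<|a (a 0<|a 0<|a 0<|a (-1)<|a 0<|a 0<|a 0<|b)<|
 a (a 0<|a 0<|a 0<|a 1<|a 1<|a 1<|a 0<|b)<|a (a 0<|a 0<|a 0<|a 0<|a 0<|a (-1)<|a 0<|b)<|a (a 0<|a 0<|a 0<|a 0<|a 0<|a 1<|a 1<|b)<|b))<|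
 c (d 5 (a (a 1<|a 0<|a 0<|a 0<|a 0<|a 0<|a 0<|b)<|a (a 0<|a 1<|a 0<|a 0<|a 0<|a 0<|a 0<|b)<|a (a 0<|a 0<|a 1<|a 0<|a 0<|a 0<|a 0<|b)<|a (a 0<|a 0<|a 0<|a 1<|a 0<|a 0<|a 0<|b)<|
 a (a 0<|a 0<|a 0<|a 0<|a 1<|a 1<|a 0<|b)<|a (a 0<|a 0<|a 0<|a 0<|a 0<|a (-1)<|a 0<|b)<|a (a 0<|a 0<|a 0<|a 0<|a 0<|a 1<|a 1<|b)<|b))<|e))

theorem ch1_9_ok : ChainOK Am ch1_9 :=
  H129.ChainF.ok H129.ChainF.i7 H129.ChainF.m7 (H129.ChainF.c7 <| H129.ChainF.c7 <| H129.ChainF.c7 <| H129.ChainF.c7 <| H129.ChainF.c7 <| H129.ChainF.c7 <| H129.ChainF.c7 <| H129.ChainF.c7 <| H129.ChainF.nil) (by decide +kernel)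

/-- coefficients of the eigenvector, order 1 -/
def v1_9_at1 : Fin 1 → Fin 7 → ℤ := ![![2, 3, 4, 6, 5, 4, 3]]

theorem e1_9_at1 : EigOK (hd ch1_9) c1 v1_9_at1 ![-1, 1, 0, 0, 0, 0, 0] :=
  H493.EigF.ok (H493.EigF.hT H493.EigF.t7) H493.EigF.r1 (H493.EigF.mc H493.EigF.r7 <| H493.EigF.m0) H493.EigF.r7 (by decide +kernel)

/-- coefficients of the eigenvector, order 9 -/
def v1_9_at9 : Fin 6 → Fin 7 → ℤ := (beta% delta% lq26b68d209e fun a b _ _ _ =>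
 (a (a 0<|a 1<|a 0<|a 1<|a 1<|a 0<|a 0<|b)<|a (a 1<|a 1<|a 1<|a 1<|a 0<|a 0<|a 0<|b)<|
 a (a 0<|a 0<|a 1<|a 1<|a 0<|a 0<|a 0<|b)<|a (a 0<|a 0<|a 0<|a 0<|a 1<|a 0<|a 0<|b)<|a (a 0<|a 1<|a 0<|a 0<|a 0<|a 0<|a 0<|b)<|a (a 0<|a 0<|a 0<|a 0<|a (-1)<|a (-1)<|a 0<|b)<|b))

theorem e1_9_at9 : EigOK (hd ch1_9) c9 v1_9_at9 ![0, 0, -1, 1, 0, 0, 0] :=
  H493.EigF.ok (H493.EigF.hT H493.EigF.t7) H493.EigF.r6 (H493.EigF.mc H493.EigF.r7 <| H493.EigF.mc H493.EigF.r7 <| H493.EigF.mc H493.EigF.r7 <| H493.EigF.mc H493.EigF.r7 <| H493.EigF.mc H493.EigF.r7 <| H493.EigF.mc H493.EigF.r7 <| H493.EigF.m0) H493.EigF.r7 (by decide +kernel)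

theorem rel_9_1 {F : Type u} [Field F] [Finite F] {r s : ℕ} (hr : r.Prime) (hs : s.Prime) (hrs : r ≠ s)
    (h1 : phiC c9 (Nat.card F) 2 r) (h2 : phiC c1 (Nat.card F) 2 s) :
    PG.Rel ↥(chevE7.group F) r s := by
  have := finW
  exact rel_of_eig hp CoxeterMatrix.E₇.toCoxeterSystem H129.TorusChar.invC_E7 (by norm_num)
    (chain_rep hp CoxeterMatrix.E₇.toCoxeterSystem hA ch1_9_ok) e1_9_at9 e1_9_at1 hr hs hrs h1.1 h2.1 h1.2 h2.2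

end Cfsg.Agent.R2.Spec.EE.CertE7
end

-- part: R2/Spec/EE/CertE7C
section
/-!
# Adjacency of the prime divisors of two cyclotomic values through one torus, type E7, part 3 (helper2)

Chains, eigenvectors and functionals as in `H168/ExcPairE7.lean`.
-/

set_option autoImplicit false

namespace Cfsg.Agent.R2.Spec.EE.CertE7

open Cfsg.Agent.H129.WData Cfsg.Agent.ChevalleyStructure.CoxeterGeomTypes Cfsg.Agent.Nodes.RGDChev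
open Cfsg.Lie Cfsg.Lie.ChevalleyDatum
open Cfsg.Agent Cfsg.Agent.H493 Cfsg.Agent.H493.PGTorus Cfsg.Agent.H493.PGCyc Cfsg.Agent.H493.PGE7
open Cfsg.Agent.H168.ExcAdj

universe u

/-- partial products of an element with characteristic polynomial Φ1 Φ4 Φ8 -/
def ch1_4_8 : List (Fin 7 × Mat 7) := (beta% delta% lq26b68d209e fun a b c d e =>
 (c (d 1 (a (a 1<|a 0<|a 1<|a 0<|a 0<|a 0<|a 0<|b)<|a (a 0<|a 0<|a 0<|a 0<|a 1<|a 0<|a 0<|b)<|a (a 0<|a 1<|a 1<|a 2<|a 1<|a 0<|a 0<|b)<|a (a 0<|a 0<|a (-1)<|a (-1)<|a (-1)<|a 0<|a 0<|b)<|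
 a (a 0<|a 0<|a 1<|a 1<|a 1<|a 1<|a 0<|b)<|a (a 0<|a 0<|a 0<|a 0<|a 0<|a 0<|a 1<|b)<|a (a 0<|a (-1)<|a (-1)<|a (-1)<|a (-1)<|a (-1)<|a (-1)<|b)<|b))<|
 c (d 2 (a (a 1<|a 0<|a 1<|a 0<|a 0<|a 0<|a 0<|b)<|a (a 0<|a 0<|a 0<|a 0<|a 1<|a 0<|a 0<|b)<|a (a 0<|a 1<|a 1<|a 2<|a 1<|a 0<|a 0<|b)<|a (a 0<|a (-1)<|a (-1)<|a (-1)<|a (-1)<|a 0<|a 0<|b)<|
 a (a 0<|a 1<|a 1<|a 1<|a 1<|a 1<|a 0<|b)<|a (a 0<|a 0<|a 0<|a 0<|a 0<|a 0<|a 1<|b)<|a (a 0<|a 0<|a (-1)<|a (-1)<|a (-1)<|a (-1)<|a (-1)<|b)<|b))<|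
 c (d 3 (a (a 1<|a 0<|a 0<|a 0<|a 0<|a 0<|a 0<|b)<|a (a 0<|a 0<|a 0<|a 0<|a 1<|a 0<|a 0<|b)<|a (a 0<|a 1<|a 1<|a 2<|a 1<|a 0<|a 0<|b)<|a (a 0<|a (-1)<|a 0<|a (-1)<|a (-1)<|a 0<|a 0<|b)<|
 a (a 0<|a 1<|a 0<|a 1<|a 1<|a 1<|a 0<|b)<|a (a 0<|a 0<|a 0<|a 0<|a 0<|a 0<|a 1<|b)<|a (a 0<|a 0<|a 0<|a (-1)<|a (-1)<|a (-1)<|a (-1)<|b)<|b))<|
 c (d 1 (a (a 1<|a 0<|a 0<|a 0<|a 0<|a 0<|a 0<|b)<|a (a 0<|a 0<|a 0<|a 1<|a 1<|a 0<|a 0<|b)<|a (a 0<|a 1<|a 1<|a 1<|a 1<|a 0<|a 0<|b)<|a (a 0<|a (-1)<|a 0<|a (-1)<|a (-1)<|a 0<|a 0<|b)<|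
 a (a 0<|a 1<|a 0<|a 1<|a 1<|a 1<|a 0<|b)<|a (a 0<|a 0<|a 0<|a 0<|a 0<|a 0<|a 1<|b)<|a (a 0<|a 0<|a 0<|a 0<|a (-1)<|a (-1)<|a (-1)<|b)<|b))<|
 c (d 4 (a (a 1<|a 0<|a 0<|a 0<|a 0<|a 0<|a 0<|b)<|a (a 0<|a 1<|a 0<|a 1<|a 1<|a 0<|a 0<|b)<|a (a 0<|a 0<|a 1<|a 1<|a 1<|a 0<|a 0<|b)<|a (a 0<|a 0<|a 0<|a (-1)<|a (-1)<|a 0<|a 0<|b)<|
 a (a 0<|a 0<|a 0<|a 1<|a 1<|a 1<|a 0<|b)<|a (a 0<|a 0<|a 0<|a 0<|a 0<|a 0<|a 1<|b)<|a (a 0<|a 0<|a 0<|a 0<|a (-1)<|a (-1)<|a (-1)<|b)<|b))<|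
 c (d 3 (a (a 1<|a 0<|a 0<|a 0<|a 0<|a 0<|a 0<|b)<|a (a 0<|a 1<|a 0<|a 1<|a 0<|a 0<|a 0<|b)<|a (a 0<|a 0<|a 1<|a 1<|a 0<|a 0<|a 0<|b)<|a (a 0<|a 0<|a 0<|a (-1)<|a 0<|a 0<|a 0<|b)<|
 a (a 0<|a 0<|a 0<|a 1<|a 1<|a 1<|a 0<|b)<|a (a 0<|a 0<|a 0<|a 0<|a 0<|a 0<|a 1<|b)<|a (a 0<|a 0<|a 0<|a 0<|a 0<|a (-1)<|a (-1)<|b)<|b))<|
 c (d 5 (a (a 1<|a 0<|a 0<|a 0<|a 0<|a 0<|a 0<|b)<|a (a 0<|a 1<|a 0<|a 0<|a 0<|a 0<|a 0<|b)<|a (a 0<|a 0<|a 1<|a 0<|a 0<|a 0<|a 0<|b)<|a (a 0<|a 0<|a 0<|a 1<|a 0<|a 0<|a 0<|b)<|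
 a (a 0<|a 0<|a 0<|a 0<|a 1<|a 1<|a 0<|b)<|a (a 0<|a 0<|a 0<|a 0<|a 0<|a 0<|a 1<|b)<|a (a 0<|a 0<|a 0<|a 0<|a 0<|a (-1)<|a (-1)<|b)<|b))<|
 c (d 6 (a (a 1<|a 0<|a 0<|a 0<|a 0<|a 0<|a 0<|b)<|a (a 0<|a 1<|a 0<|a 0<|a 0<|a 0<|a 0<|b)<|a (a 0<|a 0<|a 1<|a 0<|a 0<|a 0<|a 0<|b)<|a (a 0<|a 0<|a 0<|a 1<|a 0<|a 0<|a 0<|b)<|
 a (a 0<|a 0<|a 0<|a 0<|a 1<|a 0<|a 0<|b)<|a (a 0<|a 0<|a 0<|a 0<|a 0<|a 1<|a 1<|b)<|a (a 0<|a 0<|a 0<|a 0<|a 0<|a 0<|a (-1)<|b)<|b))<|e))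

theorem ch1_4_8_ok : ChainOK Am ch1_4_8 :=
  H129.ChainF.ok H129.ChainF.i7 H129.ChainF.m7 (H129.ChainF.c7 <| H129.ChainF.c7 <| H129.ChainF.c7 <| H129.ChainF.c7 <| H129.ChainF.c7 <| H129.ChainF.c7 <| H129.ChainF.c7 <| H129.ChainF.c7 <| H129.ChainF.nil) (by decide +kernel)

/-- coefficients of the eigenvector, order 4 -/
def v1_4_8_at4 : Fin 2 → Fin 7 → ℤ := (beta% delta% lq26b68d209e fun a b _ _ _ =>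
 (a (a 0<|a 0<|a (-1)<|a (-1)<|a 0<|a 0<|a 0<|b)<|a (a 0<|a 1<|a 0<|a 1<|a 0<|a 0<|a 0<|b)<|b))

theorem e1_4_8_at4 : EigOK (hd ch1_4_8) c4 v1_4_8_at4 ![0, 0, -1, 0, 0, 0, 0] :=
  H493.EigF.ok (H493.EigF.hT H493.EigF.t7) H493.EigF.r2 (H493.EigF.mc H493.EigF.r7 <| H493.EigF.mc H493.EigF.r7 <| H493.EigF.m0) H493.EigF.r7 (by decide +kernel)

/-- coefficients of the eigenvector, order 8 -/
def v1_4_8_at8 : Fin 4 → Fin 7 → ℤ := (beta% delta% lq26b68d209e fun a b _ _ _ =>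
 (a (a 0<|a (-1)<|a (-1)<|a (-1)<|a (-1)<|a (-1)<|a (-1)<|b)<|a (a 0<|a 0<|a 0<|a 0<|a 0<|a 0<|a 1<|b)<|
 a (a 0<|a 0<|a 0<|a 0<|a 0<|a 1<|a 0<|b)<|a (a 0<|a 0<|a 0<|a 1<|a 1<|a 0<|a 0<|b)<|b))

theorem e1_4_8_at8 : EigOK (hd ch1_4_8) c8 v1_4_8_at8 ![0, -1, 0, 0, 0, 0, 0] :=
  H493.EigF.ok (H493.EigF.hT H493.EigF.t7) H493.EigF.r4 (H493.EigF.mc H493.EigF.r7 <| H493.EigF.mc H493.EigF.r7 <| H493.EigF.mc H493.EigF.r7 <| H493.EigF.mc H493.EigF.r7 <| H493.EigF.m0) H493.EigF.r7 (by decide +kernel)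

theorem rel_8_4 {F : Type u} [Field F] [Finite F] {r s : ℕ} (hr : r.Prime) (hs : s.Prime) (hrs : r ≠ s)
    (h1 : phiC c8 (Nat.card F) 2 r) (h2 : phiC c4 (Nat.card F) 2 s) :
    PG.Rel ↥(chevE7.group F) r s := by
  have := finW
  exact rel_of_eig hp CoxeterMatrix.E₇.toCoxeterSystem H129.TorusChar.invC_E7 (by norm_num)
    (chain_rep hp CoxeterMatrix.E₇.toCoxeterSystem hA ch1_4_8_ok) e1_4_8_at8 e1_4_8_at4 hr hs hrs h1.1 h2.1 h1.2 h2.2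

/-- partial products of an element with characteristic polynomial Φ2 Φ14 -/
def ch2_14 : List (Fin 7 × Mat 7) := (beta% delta% lq26b68d209e fun a b c d e =>
 (c (d 0 (a (a 0<|a 0<|a 1<|a 1<|a 1<|a 0<|a 0<|b)<|a (a (-1)<|a (-1)<|a (-1)<|a (-2)<|a (-2)<|a (-1)<|a 0<|b)<|a (a 0<|a 0<|a 0<|a 0<|a 0<|a 1<|a 0<|b)<|a (a 0<|a 1<|a 0<|a 1<|a 1<|a 0<|a 0<|b)<|
 a (a 1<|a 0<|a 1<|a 0<|a 0<|a 0<|a 0<|b)<|a (a 0<|a 0<|a 0<|a 1<|a 1<|a 1<|a 1<|b)<|a (a 0<|a 0<|a 0<|a 0<|a (-1)<|a (-1)<|a (-1)<|b)<|b))<|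
 c (d 4 (a (a 1<|a 0<|a 1<|a 1<|a 1<|a 0<|a 0<|b)<|a (a 0<|a (-1)<|a (-1)<|a (-2)<|a (-2)<|a (-1)<|a 0<|b)<|a (a 0<|a 0<|a 0<|a 0<|a 0<|a 1<|a 0<|b)<|a (a 0<|a 1<|a 0<|a 1<|a 1<|a 0<|a 0<|b)<|
 a (a 0<|a 0<|a 1<|a 0<|a 0<|a 0<|a 0<|b)<|a (a 0<|a 0<|a 0<|a 1<|a 1<|a 1<|a 1<|b)<|a (a 0<|a 0<|a 0<|a 0<|a (-1)<|a (-1)<|a (-1)<|b)<|b))<|
 c (d 3 (a (a 1<|a 0<|a 1<|a 1<|a 0<|a 0<|a 0<|b)<|a (a 0<|a (-1)<|a (-1)<|a (-2)<|a (-1)<|a (-1)<|a 0<|b)<|a (a 0<|a 0<|a 0<|a 0<|a 1<|a 1<|a 0<|b)<|a (a 0<|a 1<|a 0<|a 1<|a 0<|a 0<|a 0<|b)<|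
 a (a 0<|a 0<|a 1<|a 0<|a 0<|a 0<|a 0<|b)<|a (a 0<|a 0<|a 0<|a 1<|a 1<|a 1<|a 1<|b)<|a (a 0<|a 0<|a 0<|a 0<|a 0<|a (-1)<|a (-1)<|b)<|b))<|
 c (d 2 (a (a 1<|a 0<|a 1<|a 0<|a 0<|a 0<|a 0<|b)<|a (a 0<|a (-1)<|a (-1)<|a (-1)<|a (-1)<|a (-1)<|a 0<|b)<|a (a 0<|a 0<|a 0<|a 1<|a 1<|a 1<|a 0<|b)<|a (a 0<|a 1<|a 0<|a 0<|a 0<|a 0<|a 0<|b)<|
 a (a 0<|a 0<|a 1<|a 1<|a 0<|a 0<|a 0<|b)<|a (a 0<|a 0<|a 0<|a 0<|a 1<|a 1<|a 1<|b)<|a (a 0<|a 0<|a 0<|a 0<|a 0<|a (-1)<|a (-1)<|b)<|b))<|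
 c (d 5 (a (a 1<|a 0<|a 0<|a 0<|a 0<|a 0<|a 0<|b)<|a (a 0<|a (-1)<|a 0<|a (-1)<|a (-1)<|a (-1)<|a 0<|b)<|a (a 0<|a 0<|a 1<|a 1<|a 1<|a 1<|a 0<|b)<|a (a 0<|a 1<|a 0<|a 0<|a 0<|a 0<|a 0<|b)<|
 a (a 0<|a 0<|a 0<|a 1<|a 0<|a 0<|a 0<|b)<|a (a 0<|a 0<|a 0<|a 0<|a 1<|a 1<|a 1<|b)<|a (a 0<|a 0<|a 0<|a 0<|a 0<|a (-1)<|a (-1)<|b)<|b))<|
 c (d 4 (a (a 1<|a 0<|a 0<|a 0<|a 0<|a 0<|a 0<|b)<|a (a 0<|a (-1)<|a 0<|a (-1)<|a (-1)<|a 0<|a 0<|b)<|a (a 0<|a 0<|a 1<|a 1<|a 1<|a 0<|a 0<|b)<|a (a 0<|a 1<|a 0<|a 0<|a 0<|a 0<|a 0<|b)<|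
 a (a 0<|a 0<|a 0<|a 1<|a 0<|a 0<|a 0<|b)<|a (a 0<|a 0<|a 0<|a 0<|a 1<|a 1<|a 1<|b)<|a (a 0<|a 0<|a 0<|a 0<|a 0<|a 0<|a (-1)<|b)<|b))<|
 c (d 3 (a (a 1<|a 0<|a 0<|a 0<|a 0<|a 0<|a 0<|b)<|a (a 0<|a (-1)<|a 0<|a (-1)<|a 0<|a 0<|a 0<|b)<|a (a 0<|a 0<|a 1<|a 1<|a 0<|a 0<|a 0<|b)<|a (a 0<|a 1<|a 0<|a 0<|a 0<|a 0<|a 0<|b)<|
 a (a 0<|a 0<|a 0<|a 1<|a 1<|a 0<|a 0<|b)<|a (a 0<|a 0<|a 0<|a 0<|a 0<|a 1<|a 1<|b)<|a (a 0<|a 0<|a 0<|a 0<|a 0<|a 0<|a (-1)<|b)<|b))<|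
 c (d 1 (a (a 1<|a 0<|a 0<|a 0<|a 0<|a 0<|a 0<|b)<|a (a 0<|a (-1)<|a 0<|a 0<|a 0<|a 0<|a 0<|b)<|a (a 0<|a 0<|a 1<|a 0<|a 0<|a 0<|a 0<|b)<|a (a 0<|a 1<|a 0<|a 1<|a 0<|a 0<|a 0<|b)<|
 a (a 0<|a 0<|a 0<|a 0<|a 1<|a 0<|a 0<|b)<|a (a 0<|a 0<|a 0<|a 0<|a 0<|a 1<|a 1<|b)<|a (a 0<|a 0<|a 0<|a 0<|a 0<|a 0<|a (-1)<|b)<|b))<|
 c (d 6 (a (a 1<|a 0<|a 0<|a 0<|a 0<|a 0<|a 0<|b)<|a (a 0<|a 1<|a 0<|a 0<|a 0<|a 0<|a 0<|b)<|a (a 0<|a 0<|a 1<|a 0<|a 0<|a 0<|a 0<|b)<|a (a 0<|a 0<|a 0<|a 1<|a 0<|a 0<|a 0<|b)<|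
 a (a 0<|a 0<|a 0<|a 0<|a 1<|a 0<|a 0<|b)<|a (a 0<|a 0<|a 0<|a 0<|a 0<|a 1<|a 1<|b)<|a (a 0<|a 0<|a 0<|a 0<|a 0<|a 0<|a (-1)<|b)<|b))<|e))

theorem ch2_14_ok : ChainOK Am ch2_14 :=
  H129.ChainF.ok H129.ChainF.i7 H129.ChainF.m7 (H129.ChainF.c7 <| H129.ChainF.c7 <| H129.ChainF.c7 <| H129.ChainF.c7 <| H129.ChainF.c7 <| H129.ChainF.c7 <| H129.ChainF.c7 <| H129.ChainF.c7 <| H129.ChainF.c7 <| H129.ChainF.nil) (by decide +kernel)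

/-- coefficients of the eigenvector, order 2 -/
def v2_14_at2 : Fin 1 → Fin 7 → ℤ := ![![-2, -1, 0, 0, 1, 0, 1]]

theorem e2_14_at2 : EigOK (hd ch2_14) c2 v2_14_at2 ![0, -1, 0, 0, 0, 0, 0] :=
  H493.EigF.ok (H493.EigF.hT H493.EigF.t7) H493.EigF.r1 (H493.EigF.mc H493.EigF.r7 <| H493.EigF.m0) H493.EigF.r7 (by decide +kernel)

/-- coefficients of the eigenvector, order 14 -/
def v2_14_at14 : Fin 6 → Fin 7 → ℤ := (beta% delta% lq26b68d209e fun a b _ _ _ =>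
 (a (a 0<|a 0<|a 0<|a 0<|a 0<|a (-1)<|a (-1)<|b)<|a (a 0<|a (-1)<|a (-1)<|a (-1)<|a (-1)<|a 0<|a 1<|b)<|
 a (a (-1)<|a 0<|a (-1)<|a (-1)<|a 0<|a 0<|a (-1)<|b)<|a (a 0<|a (-1)<|a 0<|a (-1)<|a (-2)<|a (-1)<|a 0<|b)<|a (a 0<|a 1<|a 0<|a 0<|a 1<|a 0<|a 0<|b)<|a (a 0<|a 0<|a 0<|a 1<|a 0<|a 0<|a 0<|b)<|b))

theorem e2_14_at14 : EigOK (hd ch2_14) c14 v2_14_at14 ![0, -1, 0, 0, 1, -1, 0] :=
  H493.EigF.ok (H493.EigF.hT H493.EigF.t7) H493.EigF.r6 (H493.EigF.mc H493.EigF.r7 <| H493.EigF.mc H493.EigF.r7 <| H493.EigF.mc H493.EigF.r7 <| H493.EigF.mc H493.EigF.r7 <| H493.EigF.mc H493.EigF.r7 <| H493.EigF.mc H493.EigF.r7 <| H493.EigF.m0) H493.EigF.r7 (by decide +kernel)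

theorem rel_14_2 {F : Type u} [Field F] [Finite F] {r s : ℕ} (hr : r.Prime) (hs : s.Prime) (hrs : r ≠ s)
    (h1 : phiC c14 (Nat.card F) 2 r) (h2 : phiC c2 (Nat.card F) 2 s) :
    PG.Rel ↥(chevE7.group F) r s := by
  have := finW
  exact rel_of_eig hp CoxeterMatrix.E₇.toCoxeterSystem H129.TorusChar.invC_E7 (by norm_num)
    (chain_rep hp CoxeterMatrix.E₇.toCoxeterSystem hA ch2_14_ok) e2_14_at14 e2_14_at2 hr hs hrs h1.1 h2.1 h1.2 h2.2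

/-- partial products of an element with characteristic polynomial Φ2 Φ6 Φ12 -/
def ch2_6_12 : List (Fin 7 × Mat 7) := (beta% delta% lq26b68d209e fun a b c d e =>
 (c (d 1 (a (a (-1)<|a 0<|a (-1)<|a 0<|a 0<|a 0<|a 0<|b)<|a (a 0<|a 0<|a 0<|a 0<|a 1<|a 0<|a 0<|b)<|a (a 1<|a 1<|a 2<|a 2<|a 1<|a 0<|a 0<|b)<|a (a 0<|a 0<|a 0<|a 0<|a 0<|a 1<|a 0<|b)<|
 a (a 0<|a 0<|a 0<|a 0<|a 0<|a 0<|a 1<|b)<|a (a 0<|a 0<|a (-1)<|a (-1)<|a (-1)<|a (-1)<|a (-1)<|b)<|a (a 0<|a (-1)<|a 0<|a 0<|a 0<|a 0<|a 0<|b)<|b))<|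
 c (d 2 (a (a (-1)<|a 0<|a (-1)<|a 0<|a 0<|a 0<|a 0<|b)<|a (a 0<|a 0<|a 0<|a 0<|a 1<|a 0<|a 0<|b)<|a (a 1<|a 1<|a 2<|a 2<|a 1<|a 0<|a 0<|b)<|a (a 0<|a 0<|a 0<|a 0<|a 0<|a 1<|a 0<|b)<|
 a (a 0<|a 0<|a 0<|a 0<|a 0<|a 0<|a 1<|b)<|a (a 0<|a (-1)<|a (-1)<|a (-1)<|a (-1)<|a (-1)<|a (-1)<|b)<|a (a 0<|a 1<|a 0<|a 0<|a 0<|a 0<|a 0<|b)<|b))<|
 c (d 0 (a (a (-1)<|a 0<|a 0<|a 0<|a 0<|a 0<|a 0<|b)<|a (a 0<|a 0<|a 0<|a 0<|a 1<|a 0<|a 0<|b)<|a (a 1<|a 1<|a 1<|a 2<|a 1<|a 0<|a 0<|b)<|a (a 0<|a 0<|a 0<|a 0<|a 0<|a 1<|a 0<|b)<|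
 a (a 0<|a 0<|a 0<|a 0<|a 0<|a 0<|a 1<|b)<|a (a 0<|a (-1)<|a 0<|a (-1)<|a (-1)<|a (-1)<|a (-1)<|b)<|a (a 0<|a 1<|a 0<|a 0<|a 0<|a 0<|a 0<|b)<|b))<|
 c (d 3 (a (a 1<|a 0<|a 0<|a 0<|a 0<|a 0<|a 0<|b)<|a (a 0<|a 0<|a 0<|a 0<|a 1<|a 0<|a 0<|b)<|a (a 0<|a 1<|a 1<|a 2<|a 1<|a 0<|a 0<|b)<|a (a 0<|a 0<|a 0<|a 0<|a 0<|a 1<|a 0<|b)<|
 a (a 0<|a 0<|a 0<|a 0<|a 0<|a 0<|a 1<|b)<|a (a 0<|a (-1)<|a 0<|a (-1)<|a (-1)<|a (-1)<|a (-1)<|b)<|a (a 0<|a 1<|a 0<|a 0<|a 0<|a 0<|a 0<|b)<|b))<|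
 c (d 1 (a (a 1<|a 0<|a 0<|a 0<|a 0<|a 0<|a 0<|b)<|a (a 0<|a 0<|a 0<|a 1<|a 1<|a 0<|a 0<|b)<|a (a 0<|a 1<|a 1<|a 1<|a 1<|a 0<|a 0<|b)<|a (a 0<|a 0<|a 0<|a 0<|a 0<|a 1<|a 0<|b)<|
 a (a 0<|a 0<|a 0<|a 0<|a 0<|a 0<|a 1<|b)<|a (a 0<|a (-1)<|a 0<|a (-1)<|a (-1)<|a (-1)<|a (-1)<|b)<|a (a 0<|a 1<|a 0<|a 1<|a 0<|a 0<|a 0<|b)<|b))<|
 c (d 4 (a (a 1<|a 0<|a 0<|a 0<|a 0<|a 0<|a 0<|b)<|a (a 0<|a 1<|a 0<|a 1<|a 1<|a 0<|a 0<|b)<|a (a 0<|a 0<|a 1<|a 1<|a 1<|a 0<|a 0<|b)<|a (a 0<|a 0<|a 0<|a 0<|a 0<|a 1<|a 0<|b)<|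
 a (a 0<|a 0<|a 0<|a 0<|a 0<|a 0<|a 1<|b)<|a (a 0<|a 0<|a 0<|a (-1)<|a (-1)<|a (-1)<|a (-1)<|b)<|a (a 0<|a 0<|a 0<|a 1<|a 0<|a 0<|a 0<|b)<|b))<|
 c (d 3 (a (a 1<|a 0<|a 0<|a 0<|a 0<|a 0<|a 0<|b)<|a (a 0<|a 1<|a 0<|a 1<|a 0<|a 0<|a 0<|b)<|a (a 0<|a 0<|a 1<|a 1<|a 0<|a 0<|a 0<|b)<|a (a 0<|a 0<|a 0<|a 0<|a 1<|a 1<|a 0<|b)<|
 a (a 0<|a 0<|a 0<|a 0<|a 0<|a 0<|a 1<|b)<|a (a 0<|a 0<|a 0<|a (-1)<|a (-1)<|a (-1)<|a (-1)<|b)<|a (a 0<|a 0<|a 0<|a 1<|a 1<|a 0<|a 0<|b)<|b))<|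
 c (d 5 (a (a 1<|a 0<|a 0<|a 0<|a 0<|a 0<|a 0<|b)<|a (a 0<|a 1<|a 0<|a 0<|a 0<|a 0<|a 0<|b)<|a (a 0<|a 0<|a 1<|a 0<|a 0<|a 0<|a 0<|b)<|a (a 0<|a 0<|a 0<|a 1<|a 1<|a 1<|a 0<|b)<|
 a (a 0<|a 0<|a 0<|a 0<|a 0<|a 0<|a 1<|b)<|a (a 0<|a 0<|a 0<|a 0<|a (-1)<|a (-1)<|a (-1)<|b)<|a (a 0<|a 0<|a 0<|a 0<|a 1<|a 0<|a 0<|b)<|b))<|
 c (d 4 (a (a 1<|a 0<|a 0<|a 0<|a 0<|a 0<|a 0<|b)<|a (a 0<|a 1<|a 0<|a 0<|a 0<|a 0<|a 0<|b)<|a (a 0<|a 0<|a 1<|a 0<|a 0<|a 0<|a 0<|b)<|a (a 0<|a 0<|a 0<|a 1<|a 1<|a 0<|a 0<|b)<|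
 a (a 0<|a 0<|a 0<|a 0<|a 0<|a 1<|a 1<|b)<|a (a 0<|a 0<|a 0<|a 0<|a (-1)<|a (-1)<|a (-1)<|b)<|a (a 0<|a 0<|a 0<|a 0<|a 1<|a 1<|a 0<|b)<|b))<|
 c (d 6 (a (a 1<|a 0<|a 0<|a 0<|a 0<|a 0<|a 0<|b)<|a (a 0<|a 1<|a 0<|a 0<|a 0<|a 0<|a 0<|b)<|a (a 0<|a 0<|a 1<|a 0<|a 0<|a 0<|a 0<|b)<|a (a 0<|a 0<|a 0<|a 1<|a 0<|a 0<|a 0<|b)<|
 a (a 0<|a 0<|a 0<|a 0<|a 1<|a 1<|a 1<|b)<|a (a 0<|a 0<|a 0<|a 0<|a 0<|a (-1)<|a (-1)<|b)<|a (a 0<|a 0<|a 0<|a 0<|a 0<|a 1<|a 0<|b)<|b))<|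
 c (d 5 (a (a 1<|a 0<|a 0<|a 0<|a 0<|a 0<|a 0<|b)<|a (a 0<|a 1<|a 0<|a 0<|a 0<|a 0<|a 0<|b)<|a (a 0<|a 0<|a 1<|a 0<|a 0<|a 0<|a 0<|b)<|a (a 0<|a 0<|a 0<|a 1<|a 0<|a 0<|a 0<|b)<|
 a (a 0<|a 0<|a 0<|a 0<|a 1<|a 1<|a 0<|b)<|a (a 0<|a 0<|a 0<|a 0<|a 0<|a (-1)<|a 0<|b)<|a (a 0<|a 0<|a 0<|a 0<|a 0<|a 1<|a 1<|b)<|b))<|e))

theorem ch2_6_12_ok : ChainOK Am ch2_6_12 :=
  H129.ChainF.ok H129.ChainF.i7 H129.ChainF.m7 (H129.ChainF.c7 <| H129.ChainF.c7 <| H129.ChainF.c7 <| H129.ChainF.c7 <| H129.ChainF.c7 <| H129.ChainF.c7 <| H129.ChainF.c7 <| H129.ChainF.c7 <| H129.ChainF.c7 <| H129.ChainF.c7 <| H129.ChainF.c7 <| H129.ChainF.nil) (by decide +kernel)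

/-- coefficients of the eigenvector, order 2 -/
def v2_6_12_at2 : Fin 1 → Fin 7 → ℤ := ![![0, 1, 0, 0, -1, 0, 1]]

theorem e2_6_12_at2 : EigOK (hd ch2_6_12) c2 v2_6_12_at2 ![0, 1, 0, 0, 0, 0, 0] :=
  H493.EigF.ok (H493.EigF.hT H493.EigF.t7) H493.EigF.r1 (H493.EigF.mc H493.EigF.r7 <| H493.EigF.m0) H493.EigF.r7 (by decide +kernel)

/-- coefficients of the eigenvector, order 6 -/
def v2_6_12_at6 : Fin 2 → Fin 7 → ℤ := (beta% delta% lq26b68d209e fun a b _ _ _ =>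
 (a (a 0<|a (-1)<|a 0<|a 0<|a 0<|a 0<|a 1<|b)<|a (a 0<|a 1<|a 0<|a 0<|a 1<|a 0<|a 0<|b)<|b))

theorem e2_6_12_at6 : EigOK (hd ch2_6_12) c6 v2_6_12_at6 ![0, 0, 0, 0, 0, 0, 1] :=
  H493.EigF.ok (H493.EigF.hT H493.EigF.t7) H493.EigF.r2 (H493.EigF.mc H493.EigF.r7 <| H493.EigF.mc H493.EigF.r7 <| H493.EigF.m0) H493.EigF.r7 (by decide +kernel)

/-- coefficients of the eigenvector, order 12 -/
def v2_6_12_at12 : Fin 4 → Fin 7 → ℤ := (beta% delta% lq26b68d209e fun a b _ _ _ =>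
 (a (a (-1)<|a 0<|a 0<|a 0<|a 0<|a 0<|a 0<|b)<|a (a 0<|a (-1)<|a (-1)<|a (-2)<|a (-2)<|a (-2)<|a (-1)<|b)<|
 a (a 0<|a (-1)<|a (-1)<|a (-2)<|a (-1)<|a 0<|a 0<|b)<|a (a (-1)<|a 0<|a (-1)<|a 0<|a 0<|a 0<|a 0<|b)<|b))

theorem e2_6_12_at12 : EigOK (hd ch2_6_12) c12 v2_6_12_at12 ![-1, -1, 1, 0, 0, 0, 0] :=
  H493.EigF.ok (H493.EigF.hT H493.EigF.t7) H493.EigF.r4 (H493.EigF.mc H493.EigF.r7 <| H493.EigF.mc H493.EigF.r7 <| H493.EigF.mc H493.EigF.r7 <| H493.EigF.mc H493.EigF.r7 <| H493.EigF.m0) H493.EigF.r7 (by decide +kernel)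

theorem rel_12_2 {F : Type u} [Field F] [Finite F] {r s : ℕ} (hr : r.Prime) (hs : s.Prime) (hrs : r ≠ s)
    (h1 : phiC c12 (Nat.card F) 2 r) (h2 : phiC c2 (Nat.card F) 2 s) :
    PG.Rel ↥(chevE7.group F) r s := by
  have := finW
  exact rel_of_eig hp CoxeterMatrix.E₇.toCoxeterSystem H129.TorusChar.invC_E7 (by norm_num)
    (chain_rep hp CoxeterMatrix.E₇.toCoxeterSystem hA ch2_6_12_ok) e2_6_12_at12 e2_6_12_at2 hr hs hrs h1.1 h2.1 h1.2 h2.2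

theorem rel_12_6 {F : Type u} [Field F] [Finite F] {r s : ℕ} (hr : r.Prime) (hs : s.Prime) (hrs : r ≠ s)
    (h1 : phiC c12 (Nat.card F) 2 r) (h2 : phiC c6 (Nat.card F) 2 s) :
    PG.Rel ↥(chevE7.group F) r s := by
  have := finW
  exact rel_of_eig hp CoxeterMatrix.E₇.toCoxeterSystem H129.TorusChar.invC_E7 (by norm_num)
    (chain_rep hp CoxeterMatrix.E₇.toCoxeterSystem hA ch2_6_12_ok) e2_6_12_at12 e2_6_12_at6 hr hs hrs h1.1 h2.1 h1.2 h2.2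

/-- partial products of an element with characteristic polynomial Φ2 Φ6 Φ10 -/
def ch2_6_10 : List (Fin 7 × Mat 7) := (beta% delta% lq26b68d209e fun a b c d e =>
 (c (d 0 (a (a 0<|a 1<|a 0<|a 1<|a 1<|a 1<|a 0<|b)<|a (a (-1)<|a 0<|a (-1)<|a (-1)<|a (-1)<|a (-1)<|a 0<|b)<|a (a 0<|a (-1)<|a (-1)<|a (-2)<|a (-2)<|a (-1)<|a 0<|b)<|a (a 0<|a 0<|a 1<|a 1<|a 1<|a 1<|a 0<|b)<|
 a (a 1<|a 1<|a 1<|a 2<|a 1<|a 0<|a 0<|b)<|a (a 0<|a 0<|a 0<|a 0<|a 1<|a 1<|a 1<|b)<|a (a 0<|a 0<|a 0<|a (-1)<|a (-1)<|a (-1)<|a (-1)<|b)<|b))<|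
 c (d 3 (a (a 0<|a 1<|a 0<|a 1<|a 1<|a 1<|a 0<|b)<|a (a 0<|a 0<|a (-1)<|a (-1)<|a (-1)<|a (-1)<|a 0<|b)<|a (a (-1)<|a (-1)<|a (-1)<|a (-2)<|a (-2)<|a (-1)<|a 0<|b)<|a (a 1<|a 0<|a 1<|a 1<|a 1<|a 1<|a 0<|b)<|
 a (a 0<|a 1<|a 1<|a 2<|a 1<|a 0<|a 0<|b)<|a (a 0<|a 0<|a 0<|a 0<|a 1<|a 1<|a 1<|b)<|a (a 0<|a 0<|a 0<|a (-1)<|a (-1)<|a (-1)<|a (-1)<|b)<|b))<|
 c (d 4 (a (a 0<|a 1<|a 0<|a 1<|a 1<|a 1<|a 0<|b)<|a (a 0<|a 0<|a (-1)<|a (-1)<|a (-1)<|a (-1)<|a 0<|b)<|a (a (-1)<|a (-1)<|a (-1)<|a (-2)<|a (-2)<|a (-1)<|a 0<|b)<|a (a 1<|a 0<|a 1<|a 1<|a 1<|a 1<|a 0<|b)<|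
 a (a 0<|a 1<|a 1<|a 1<|a 1<|a 0<|a 0<|b)<|a (a 0<|a 0<|a 0<|a 1<|a 1<|a 1<|a 1<|b)<|a (a 0<|a 0<|a 0<|a 0<|a (-1)<|a (-1)<|a (-1)<|b)<|b))<|
 c (d 3 (a (a 0<|a 1<|a 0<|a 1<|a 1<|a 1<|a 0<|b)<|a (a 0<|a 0<|a (-1)<|a (-1)<|a (-1)<|a (-1)<|a 0<|b)<|a (a (-1)<|a (-1)<|a (-1)<|a (-2)<|a (-1)<|a (-1)<|a 0<|b)<|a (a 1<|a 0<|a 1<|a 1<|a 1<|a 1<|a 0<|b)<|
 a (a 0<|a 1<|a 1<|a 1<|a 0<|a 0<|a 0<|b)<|a (a 0<|a 0<|a 0<|a 1<|a 1<|a 1<|a 1<|b)<|a (a 0<|a 0<|a 0<|a 0<|a 0<|a (-1)<|a (-1)<|b)<|b))<|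
 c (d 1 (a (a 0<|a 1<|a 0<|a 1<|a 1<|a 1<|a 0<|b)<|a (a 0<|a 0<|a (-1)<|a (-1)<|a (-1)<|a (-1)<|a 0<|b)<|a (a (-1)<|a (-1)<|a (-1)<|a (-1)<|a (-1)<|a (-1)<|a 0<|b)<|a (a 1<|a 0<|a 1<|a 1<|a 1<|a 1<|a 0<|b)<|
 a (a 0<|a 1<|a 1<|a 1<|a 0<|a 0<|a 0<|b)<|a (a 0<|a 0<|a 0<|a 0<|a 1<|a 1<|a 1<|b)<|a (a 0<|a 0<|a 0<|a 0<|a 0<|a (-1)<|a (-1)<|b)<|b))<|
 c (d 2 (a (a 0<|a 0<|a 0<|a 1<|a 1<|a 1<|a 0<|b)<|a (a 0<|a (-1)<|a (-1)<|a (-1)<|a (-1)<|a (-1)<|a 0<|b)<|a (a (-1)<|a 0<|a (-1)<|a (-1)<|a (-1)<|a (-1)<|a 0<|b)<|a (a 1<|a 1<|a 1<|a 1<|a 1<|a 1<|a 0<|b)<|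
 a (a 0<|a 0<|a 1<|a 1<|a 0<|a 0<|a 0<|b)<|a (a 0<|a 0<|a 0<|a 0<|a 1<|a 1<|a 1<|b)<|a (a 0<|a 0<|a 0<|a 0<|a 0<|a (-1)<|a (-1)<|b)<|b))<|
 c (d 0 (a (a 0<|a 0<|a 1<|a 1<|a 1<|a 1<|a 0<|b)<|a (a 0<|a (-1)<|a 0<|a (-1)<|a (-1)<|a (-1)<|a 0<|b)<|a (a (-1)<|a 0<|a (-1)<|a (-1)<|a (-1)<|a (-1)<|a 0<|b)<|a (a 1<|a 1<|a 1<|a 1<|a 1<|a 1<|a 0<|b)<|
 a (a 0<|a 0<|a 0<|a 1<|a 0<|a 0<|a 0<|b)<|a (a 0<|a 0<|a 0<|a 0<|a 1<|a 1<|a 1<|b)<|a (a 0<|a 0<|a 0<|a 0<|a 0<|a (-1)<|a (-1)<|b)<|b))<|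
 c (d 5 (a (a 1<|a 0<|a 1<|a 1<|a 1<|a 1<|a 0<|b)<|a (a 0<|a (-1)<|a 0<|a (-1)<|a (-1)<|a (-1)<|a 0<|b)<|a (a 0<|a 0<|a (-1)<|a (-1)<|a (-1)<|a (-1)<|a 0<|b)<|a (a 0<|a 1<|a 1<|a 1<|a 1<|a 1<|a 0<|b)<|
 a (a 0<|a 0<|a 0<|a 1<|a 0<|a 0<|a 0<|b)<|a (a 0<|a 0<|a 0<|a 0<|a 1<|a 1<|a 1<|b)<|a (a 0<|a 0<|a 0<|a 0<|a 0<|a (-1)<|a (-1)<|b)<|b))<|
 c (d 4 (a (a 1<|a 0<|a 1<|a 1<|a 1<|a 0<|a 0<|b)<|a (a 0<|a (-1)<|a 0<|a (-1)<|a (-1)<|a 0<|a 0<|b)<|a (a 0<|a 0<|a (-1)<|a (-1)<|a (-1)<|a 0<|a 0<|b)<|a (a 0<|a 1<|a 1<|a 1<|a 1<|a 0<|a 0<|b)<|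
 a (a 0<|a 0<|a 0<|a 1<|a 0<|a 0<|a 0<|b)<|a (a 0<|a 0<|a 0<|a 0<|a 1<|a 1<|a 1<|b)<|a (a 0<|a 0<|a 0<|a 0<|a 0<|a 0<|a (-1)<|b)<|b))<|
 c (d 3 (a (a 1<|a 0<|a 1<|a 1<|a 0<|a 0<|a 0<|b)<|a (a 0<|a (-1)<|a 0<|a (-1)<|a 0<|a 0<|a 0<|b)<|a (a 0<|a 0<|a (-1)<|a (-1)<|a 0<|a 0<|a 0<|b)<|a (a 0<|a 1<|a 1<|a 1<|a 0<|a 0<|a 0<|b)<|
 a (a 0<|a 0<|a 0<|a 1<|a 1<|a 0<|a 0<|b)<|a (a 0<|a 0<|a 0<|a 0<|a 0<|a 1<|a 1<|b)<|a (a 0<|a 0<|a 0<|a 0<|a 0<|a 0<|a (-1)<|b)<|b))<|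
 c (d 1 (a (a 1<|a 0<|a 1<|a 0<|a 0<|a 0<|a 0<|b)<|a (a 0<|a (-1)<|a 0<|a 0<|a 0<|a 0<|a 0<|b)<|a (a 0<|a 0<|a (-1)<|a 0<|a 0<|a 0<|a 0<|b)<|a (a 0<|a 1<|a 1<|a 1<|a 0<|a 0<|a 0<|b)<|
 a (a 0<|a 0<|a 0<|a 0<|a 1<|a 0<|a 0<|b)<|a (a 0<|a 0<|a 0<|a 0<|a 0<|a 1<|a 1<|b)<|a (a 0<|a 0<|a 0<|a 0<|a 0<|a 0<|a (-1)<|b)<|b))<|
 c (d 2 (a (a 1<|a 0<|a 1<|a 0<|a 0<|a 0<|a 0<|b)<|a (a 0<|a 1<|a 0<|a 0<|a 0<|a 0<|a 0<|b)<|a (a 0<|a 0<|a (-1)<|a 0<|a 0<|a 0<|a 0<|b)<|a (a 0<|a 0<|a 1<|a 1<|a 0<|a 0<|a 0<|b)<|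
 a (a 0<|a 0<|a 0<|a 0<|a 1<|a 0<|a 0<|b)<|a (a 0<|a 0<|a 0<|a 0<|a 0<|a 1<|a 1<|b)<|a (a 0<|a 0<|a 0<|a 0<|a 0<|a 0<|a (-1)<|b)<|b))<|
 c (d 6 (a (a 1<|a 0<|a 0<|a 0<|a 0<|a 0<|a 0<|b)<|a (a 0<|a 1<|a 0<|a 0<|a 0<|a 0<|a 0<|b)<|a (a 0<|a 0<|a 1<|a 0<|a 0<|a 0<|a 0<|b)<|a (a 0<|a 0<|a 0<|a 1<|a 0<|a 0<|a 0<|b)<|
 a (a 0<|a 0<|a 0<|a 0<|a 1<|a 0<|a 0<|b)<|a (a 0<|a 0<|a 0<|a 0<|a 0<|a 1<|a 1<|b)<|a (a 0<|a 0<|a 0<|a 0<|a 0<|a 0<|a (-1)<|b)<|b))<|e))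

theorem ch2_6_10_ok : ChainOK Am ch2_6_10 :=
  H129.ChainF.ok H129.ChainF.i7 H129.ChainF.m7 (H129.ChainF.c7 <| H129.ChainF.c7 <| H129.ChainF.c7 <| H129.ChainF.c7 <| H129.ChainF.c7 <| H129.ChainF.c7 <| H129.ChainF.c7 <| H129.ChainF.c7 <| H129.ChainF.c7 <| H129.ChainF.c7 <| H129.ChainF.c7 <| H129.ChainF.c7 <| H129.ChainF.c7 <| H129.ChainF.nil) (by decide +kernel)

/-- coefficients of the eigenvector, order 6 -/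
def v2_6_10_at6 : Fin 2 → Fin 7 → ℤ := (beta% delta% lq26b68d209e fun a b _ _ _ =>
 (a (a 0<|a 0<|a (-1)<|a (-1)<|a 0<|a 0<|a 0<|b)<|a (a 0<|a (-1)<|a 0<|a (-1)<|a (-1)<|a 0<|a 0<|b)<|b))

theorem e2_6_10_at6 : EigOK (hd ch2_6_10) c6 v2_6_10_at6 ![0, 0, -1, 0, 0, 0, 0] :=
  H493.EigF.ok (H493.EigF.hT H493.EigF.t7) H493.EigF.r2 (H493.EigF.mc H493.EigF.r7 <| H493.EigF.mc H493.EigF.r7 <| H493.EigF.m0) H493.EigF.r7 (by decide +kernel)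

/-- coefficients of the eigenvector, order 10 -/
def v2_6_10_at10 : Fin 4 → Fin 7 → ℤ := (beta% delta% lq26b68d209e fun a b _ _ _ =>
 (a (a (-1)<|a (-1)<|a (-1)<|a (-1)<|a 0<|a 0<|a 0<|b)<|
 a (a 0<|a 0<|a (-1)<|a (-1)<|a (-2)<|a (-1)<|a (-1)<|b)<|a (a 0<|a (-1)<|a 0<|a (-1)<|a 0<|a (-1)<|a 0<|b)<|a (a (-1)<|a 0<|a (-1)<|a (-1)<|a (-1)<|a 0<|a 0<|b)<|b))

theorem e2_6_10_at10 : EigOK (hd ch2_6_10) c10 v2_6_10_at10 ![0, -1, -1, 1, 0, 0, 0] :=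
  H493.EigF.ok (H493.EigF.hT H493.EigF.t7) H493.EigF.r4 (H493.EigF.mc H493.EigF.r7 <| H493.EigF.mc H493.EigF.r7 <| H493.EigF.mc H493.EigF.r7 <| H493.EigF.mc H493.EigF.r7 <| H493.EigF.m0) H493.EigF.r7 (by decide +kernel)

theorem rel_10_6 {F : Type u} [Field F] [Finite F] {r s : ℕ} (hr : r.Prime) (hs : s.Prime) (hrs : r ≠ s)
    (h1 : phiC c10 (Nat.card F) 2 r) (h2 : phiC c6 (Nat.card F) 2 s) :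
    PG.Rel ↥(chevE7.group F) r s := by
  have := finW
  exact rel_of_eig hp CoxeterMatrix.E₇.toCoxeterSystem H129.TorusChar.invC_E7 (by norm_num)
    (chain_rep hp CoxeterMatrix.E₇.toCoxeterSystem hA ch2_6_10_ok) e2_6_10_at10 e2_6_10_at6 hr hs hrs h1.1 h2.1 h1.2 h2.2

end Cfsg.Agent.R2.Spec.EE.CertE7
end
end

-- part: R2/Spec/EE/CertE7A_mg
section
set_option linter.all false
open scoped Cfsg.Agent.FastGrp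
private noncomputable def lq260bf05212 {T : Sort _} (f :
    type_of% (@_root_.Matrix.vecCons.{0}) →
    type_of% (@_root_.Matrix.vecEmpty.{0}) →
    type_of% (@_root_.List.cons.{0}) →
    type_of% (@_root_.Prod.mk.{0, 0}) →
    type_of% (@_root_.List.nil.{0}) → T) : T :=
  f (@_root_.Matrix.vecCons.{0}) (@_root_.Matrix.vecEmpty.{0}) (@_root_.List.cons.{0}) (@_root_.Prod.mk.{0, 0}) (@_root_.List.nil.{0})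

-- part: R2/Spec/EE/CertE7A
section
/-!
# Adjacency of the prime divisors of two cyclotomic values through one torus, type E7, part 1 (helper2)

Chains, eigenvectors and functionals as in `H168/ExcPairE7.lean`.
-/

set_option autoImplicit false

namespace Cfsg.Agent.R2.Spec.EE.CertE7

open Cfsg.Agent.H129.WData Cfsg.Agent.ChevalleyStructure.CoxeterGeomTypes Cfsg.Agent.Nodes.RGDChev
open Cfsg.Lie Cfsg.Lie.ChevalleyDatum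
open Cfsg.Agent Cfsg.Agent.H493 Cfsg.Agent.H493.PGTorus Cfsg.Agent.H493.PGCyc Cfsg.Agent.H493.PGE7
open Cfsg.Agent.H168.ExcAdj

universe u

/-- partial products of an element with characteristic polynomial Φ1^2 Φ2 Φ3 Φ6 -/
def ch1_2_3_6 : List (Fin 7 × Mat 7) := (beta% delta% lq260bf05212 fun a b c d e =>
 (c (d 0 (a (a 0<|a 0<|a 1<|a 1<|a 1<|a 1<|a 0<|b)<|a (a 0<|a 1<|a 0<|a 1<|a 1<|a 1<|a 0<|b)<|a (a (-1)<|a 0<|a (-1)<|a (-1)<|a (-1)<|a (-1)<|a 0<|b)<|a (a 1<|a 0<|a 1<|a 0<|a 0<|a 0<|a 0<|b)<|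
 a (a 0<|a 0<|a 0<|a 1<|a 0<|a 0<|a 0<|b)<|a (a 0<|a 0<|a 0<|a 0<|a 1<|a 0<|a 0<|b)<|a (a 0<|a 0<|a 0<|a 0<|a 0<|a 1<|a 1<|b)<|b))<|
 c (d 5 (a (a 1<|a 0<|a 1<|a 1<|a 1<|a 1<|a 0<|b)<|a (a 0<|a 1<|a 0<|a 1<|a 1<|a 1<|a 0<|b)<|a (a 0<|a 0<|a (-1)<|a (-1)<|a (-1)<|a (-1)<|a 0<|b)<|a (a 0<|a 0<|a 1<|a 0<|a 0<|a 0<|a 0<|b)<|
 a (a 0<|a 0<|a 0<|a 1<|a 0<|a 0<|a 0<|b)<|a (a 0<|a 0<|a 0<|a 0<|a 1<|a 0<|a 0<|b)<|a (a 0<|a 0<|a 0<|a 0<|a 0<|a 1<|a 1<|b)<|b))<|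
 c (d 4 (a (a 1<|a 0<|a 1<|a 1<|a 1<|a 0<|a 0<|b)<|a (a 0<|a 1<|a 0<|a 1<|a 1<|a 0<|a 0<|b)<|a (a 0<|a 0<|a (-1)<|a (-1)<|a (-1)<|a 0<|a 0<|b)<|a (a 0<|a 0<|a 1<|a 0<|a 0<|a 0<|a 0<|b)<|
 a (a 0<|a 0<|a 0<|a 1<|a 0<|a 0<|a 0<|b)<|a (a 0<|a 0<|a 0<|a 0<|a 1<|a 1<|a 0<|b)<|a (a 0<|a 0<|a 0<|a 0<|a 0<|a 0<|a 1<|b)<|b))<|
 c (d 3 (a (a 1<|a 0<|a 1<|a 1<|a 0<|a 0<|a 0<|b)<|a (a 0<|a 1<|a 0<|a 1<|a 0<|a 0<|a 0<|b)<|a (a 0<|a 0<|a (-1)<|a (-1)<|a 0<|a 0<|a 0<|b)<|a (a 0<|a 0<|a 1<|a 0<|a 0<|a 0<|a 0<|b)<|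
 a (a 0<|a 0<|a 0<|a 1<|a 1<|a 0<|a 0<|b)<|a (a 0<|a 0<|a 0<|a 0<|a 0<|a 1<|a 0<|b)<|a (a 0<|a 0<|a 0<|a 0<|a 0<|a 0<|a 1<|b)<|b))<|
 c (d 2 (a (a 1<|a 0<|a 1<|a 0<|a 0<|a 0<|a 0<|b)<|a (a 0<|a 1<|a 0<|a 0<|a 0<|a 0<|a 0<|b)<|a (a 0<|a 0<|a (-1)<|a 0<|a 0<|a 0<|a 0<|b)<|a (a 0<|a 0<|a 1<|a 1<|a 0<|a 0<|a 0<|b)<|
 a (a 0<|a 0<|a 0<|a 0<|a 1<|a 0<|a 0<|b)<|a (a 0<|a 0<|a 0<|a 0<|a 0<|a 1<|a 0<|b)<|a (a 0<|a 0<|a 0<|a 0<|a 0<|a 0<|a 1<|b)<|b))<|e))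

theorem ch1_2_3_6_ok : ChainOK Am ch1_2_3_6 :=
  H129.ChainF.ok H129.ChainF.i7 H129.ChainF.m7 (H129.ChainF.c7 <| H129.ChainF.c7 <| H129.ChainF.c7 <| H129.ChainF.c7 <| H129.ChainF.c7 <| H129.ChainF.nil) (by decide +kernel)

/-- coefficients of the eigenvector, order 1 -/
def v1_2_3_6_at1 : Fin 1 → Fin 7 → ℤ := ![![0, -1, 0, 0, 1, 2, 3]]

theorem e1_2_3_6_at1 : EigOK (hd ch1_2_3_6) c1 v1_2_3_6_at1 ![0, -1, 0, 0, 0, 0, 0] :=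
  H493.EigF.ok (H493.EigF.hT H493.EigF.t7) H493.EigF.r1 (H493.EigF.mc H493.EigF.r7 <| H493.EigF.m0) H493.EigF.r7 (by decide +kernel)

/-- coefficients of the eigenvector, order 2 -/
def v1_2_3_6_at2 : Fin 1 → Fin 7 → ℤ := ![![-1, 0, 0, 1, 0, 1, 0]]

theorem e1_2_3_6_at2 : EigOK (hd ch1_2_3_6) c2 v1_2_3_6_at2 ![-1, 0, 0, 0, 0, 0, 0] :=
  H493.EigF.ok (H493.EigF.hT H493.EigF.t7) H493.EigF.r1 (H493.EigF.mc H493.EigF.r7 <| H493.EigF.m0) H493.EigF.r7 (by decide +kernel)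

/-- coefficients of the eigenvector, order 3 -/
def v1_2_3_6_at3 : Fin 2 → Fin 7 → ℤ := (beta% delta% lq260bf05212 fun a b _ _ _ =>
 (a (a (-1)<|a 0<|a (-1)<|a 0<|a 0<|a (-1)<|a 0<|b)<|a (a (-1)<|a 0<|a 0<|a 0<|a 1<|a 0<|a 0<|b)<|b))

theorem e1_2_3_6_at3 : EigOK (hd ch1_2_3_6) c3 v1_2_3_6_at3 ![0, 0, -1, 0, 0, 0, 0] :=
  H493.EigF.ok (H493.EigF.hT H493.EigF.t7) H493.EigF.r2 (H493.EigF.mc H493.EigF.r7 <| H493.EigF.mc H493.EigF.r7 <| H493.EigF.m0) H493.EigF.r7 (by decide +kernel)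

/-- coefficients of the eigenvector, order 6 -/
def v1_2_3_6_at6 : Fin 2 → Fin 7 → ℤ := (beta% delta% lq260bf05212 fun a b _ _ _ =>
 (a (a (-1)<|a 0<|a (-2)<|a (-2)<|a (-1)<|a 0<|a 0<|b)<|a (a 0<|a 0<|a 1<|a 0<|a (-1)<|a (-1)<|a 0<|b)<|b))

theorem e1_2_3_6_at6 : EigOK (hd ch1_2_3_6) c6 v1_2_3_6_at6 ![-1, 0, 0, 0, 0, 0, 0] :=
  H493.EigF.ok (H493.EigF.hT H493.EigF.t7) H493.EigF.r2 (H493.EigF.mc H493.EigF.r7 <| H493.EigF.mc H493.EigF.r7 <| H493.EigF.m0) H493.EigF.r7 (by decide +kernel)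

theorem rel_2_1 {F : Type u} [Field F] [Finite F] {r s : ℕ} (hr : r.Prime) (hs : s.Prime) (hrs : r ≠ s)
    (h1 : phiC c2 (Nat.card F) 2 r) (h2 : phiC c1 (Nat.card F) 2 s) :
    PG.Rel ↥(chevE7.group F) r s := by
  have := finW
  exact rel_of_eig hp CoxeterMatrix.E₇.toCoxeterSystem H129.TorusChar.invC_E7 (by norm_num)
    (chain_rep hp CoxeterMatrix.E₇.toCoxeterSystem hA ch1_2_3_6_ok) e1_2_3_6_at2 e1_2_3_6_at1 hr hs hrs h1.1 h2.1 h1.2 h2.2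

theorem rel_3_1 {F : Type u} [Field F] [Finite F] {r s : ℕ} (hr : r.Prime) (hs : s.Prime) (hrs : r ≠ s)
    (h1 : phiC c3 (Nat.card F) 2 r) (h2 : phiC c1 (Nat.card F) 2 s) :
    PG.Rel ↥(chevE7.group F) r s := by
  have := finW
  exact rel_of_eig hp CoxeterMatrix.E₇.toCoxeterSystem H129.TorusChar.invC_E7 (by norm_num)
    (chain_rep hp CoxeterMatrix.E₇.toCoxeterSystem hA ch1_2_3_6_ok) e1_2_3_6_at3 e1_2_3_6_at1 hr hs hrs h1.1 h2.1 h1.2 h2.2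

theorem rel_6_1 {F : Type u} [Field F] [Finite F] {r s : ℕ} (hr : r.Prime) (hs : s.Prime) (hrs : r ≠ s)
    (h1 : phiC c6 (Nat.card F) 2 r) (h2 : phiC c1 (Nat.card F) 2 s) :
    PG.Rel ↥(chevE7.group F) r s := by
  have := finW
  exact rel_of_eig hp CoxeterMatrix.E₇.toCoxeterSystem H129.TorusChar.invC_E7 (by norm_num)
    (chain_rep hp CoxeterMatrix.E₇.toCoxeterSystem hA ch1_2_3_6_ok) e1_2_3_6_at6 e1_2_3_6_at1 hr hs hrs h1.1 h2.1 h1.2 h2.2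

theorem rel_3_2 {F : Type u} [Field F] [Finite F] {r s : ℕ} (hr : r.Prime) (hs : s.Prime) (hrs : r ≠ s)
    (h1 : phiC c3 (Nat.card F) 2 r) (h2 : phiC c2 (Nat.card F) 2 s) :
    PG.Rel ↥(chevE7.group F) r s := by
  have := finW
  exact rel_of_eig hp CoxeterMatrix.E₇.toCoxeterSystem H129.TorusChar.invC_E7 (by norm_num)
    (chain_rep hp CoxeterMatrix.E₇.toCoxeterSystem hA ch1_2_3_6_ok) e1_2_3_6_at3 e1_2_3_6_at2 hr hs hrs h1.1 h2.1 h1.2 h2.2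

theorem rel_6_2 {F : Type u} [Field F] [Finite F] {r s : ℕ} (hr : r.Prime) (hs : s.Prime) (hrs : r ≠ s)
    (h1 : phiC c6 (Nat.card F) 2 r) (h2 : phiC c2 (Nat.card F) 2 s) :
    PG.Rel ↥(chevE7.group F) r s := by
  have := finW
  exact rel_of_eig hp CoxeterMatrix.E₇.toCoxeterSystem H129.TorusChar.invC_E7 (by norm_num)
    (chain_rep hp CoxeterMatrix.E₇.toCoxeterSystem hA ch1_2_3_6_ok) e1_2_3_6_at6 e1_2_3_6_at2 hr hs hrs h1.1 h2.1 h1.2 h2.2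

theorem rel_6_3 {F : Type u} [Field F] [Finite F] {r s : ℕ} (hr : r.Prime) (hs : s.Prime) (hrs : r ≠ s)
    (h1 : phiC c6 (Nat.card F) 2 r) (h2 : phiC c3 (Nat.card F) 2 s) :
    PG.Rel ↥(chevE7.group F) r s := by
  have := finW
  exact rel_of_eig hp CoxeterMatrix.E₇.toCoxeterSystem H129.TorusChar.invC_E7 (by norm_num)
    (chain_rep hp CoxeterMatrix.E₇.toCoxeterSystem hA ch1_2_3_6_ok) e1_2_3_6_at6 e1_2_3_6_at3 hr hs hrs h1.1 h2.1 h1.2 h2.2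

/-- partial products of an element with characteristic polynomial Φ1^2 Φ2 Φ3 Φ4 -/
def ch1_2_3_4 : List (Fin 7 × Mat 7) := (beta% delta% lq260bf05212 fun a b c d e =>
 (c (d 1 (a (a 1<|a 0<|a 1<|a 0<|a 0<|a 0<|a 0<|b)<|a (a 0<|a 0<|a 1<|a 1<|a 0<|a 0<|a 0<|b)<|a (a 0<|a 1<|a 0<|a 1<|a 0<|a 0<|a 0<|b)<|a (a 0<|a (-1)<|a (-1)<|a (-1)<|a 0<|a 0<|a 0<|b)<|
 a (a 0<|a 1<|a 1<|a 1<|a 1<|a 1<|a 0<|b)<|a (a 0<|a 0<|a 0<|a 0<|a 0<|a 0<|a 1<|b)<|a (a 0<|a 0<|a 0<|a 0<|a 0<|a (-1)<|a (-1)<|b)<|b))<|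
 c (d 2 (a (a 1<|a 0<|a 1<|a 0<|a 0<|a 0<|a 0<|b)<|a (a 0<|a 1<|a 1<|a 1<|a 0<|a 0<|a 0<|b)<|a (a 0<|a 0<|a 0<|a 1<|a 0<|a 0<|a 0<|b)<|a (a 0<|a 0<|a (-1)<|a (-1)<|a 0<|a 0<|a 0<|b)<|
 a (a 0<|a 0<|a 1<|a 1<|a 1<|a 1<|a 0<|b)<|a (a 0<|a 0<|a 0<|a 0<|a 0<|a 0<|a 1<|b)<|a (a 0<|a 0<|a 0<|a 0<|a 0<|a (-1)<|a (-1)<|b)<|b))<|
 c (d 3 (a (a 1<|a 0<|a 0<|a 0<|a 0<|a 0<|a 0<|b)<|a (a 0<|a 1<|a 0<|a 1<|a 0<|a 0<|a 0<|b)<|a (a 0<|a 0<|a 1<|a 1<|a 0<|a 0<|a 0<|b)<|a (a 0<|a 0<|a 0<|a (-1)<|a 0<|a 0<|a 0<|b)<|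
 a (a 0<|a 0<|a 0<|a 1<|a 1<|a 1<|a 0<|b)<|a (a 0<|a 0<|a 0<|a 0<|a 0<|a 0<|a 1<|b)<|a (a 0<|a 0<|a 0<|a 0<|a 0<|a (-1)<|a (-1)<|b)<|b))<|
 c (d 5 (a (a 1<|a 0<|a 0<|a 0<|a 0<|a 0<|a 0<|b)<|a (a 0<|a 1<|a 0<|a 0<|a 0<|a 0<|a 0<|b)<|a (a 0<|a 0<|a 1<|a 0<|a 0<|a 0<|a 0<|b)<|a (a 0<|a 0<|a 0<|a 1<|a 0<|a 0<|a 0<|b)<|
 a (a 0<|a 0<|a 0<|a 0<|a 1<|a 1<|a 0<|b)<|a (a 0<|a 0<|a 0<|a 0<|a 0<|a 0<|a 1<|b)<|a (a 0<|a 0<|a 0<|a 0<|a 0<|a (-1)<|a (-1)<|b)<|b))<|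
 c (d 6 (a (a 1<|a 0<|a 0<|a 0<|a 0<|a 0<|a 0<|b)<|a (a 0<|a 1<|a 0<|a 0<|a 0<|a 0<|a 0<|b)<|a (a 0<|a 0<|a 1<|a 0<|a 0<|a 0<|a 0<|b)<|a (a 0<|a 0<|a 0<|a 1<|a 0<|a 0<|a 0<|b)<|
 a (a 0<|a 0<|a 0<|a 0<|a 1<|a 0<|a 0<|b)<|a (a 0<|a 0<|a 0<|a 0<|a 0<|a 1<|a 1<|b)<|a (a 0<|a 0<|a 0<|a 0<|a 0<|a 0<|a (-1)<|b)<|b))<|e))

theorem ch1_2_3_4_ok : ChainOK Am ch1_2_3_4 :=
  H129.ChainF.ok H129.ChainF.i7 H129.ChainF.m7 (H129.ChainF.c7 <| H129.ChainF.c7 <| H129.ChainF.c7 <| H129.ChainF.c7 <| H129.ChainF.c7 <| H129.ChainF.nil) (by decide +kernel)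

/-- coefficients of the eigenvector, order 1 -/
def v1_2_3_4_at1 : Fin 1 → Fin 7 → ℤ := ![![-4, -1, -3, -2, 0, 0, 0]]

theorem e1_2_3_4_at1 : EigOK (hd ch1_2_3_4) c1 v1_2_3_4_at1 ![0, -1, 0, 0, 0, 0, 0] :=
  H493.EigF.ok (H493.EigF.hT H493.EigF.t7) H493.EigF.r1 (H493.EigF.mc H493.EigF.r7 <| H493.EigF.m0) H493.EigF.r7 (by decide +kernel)

/-- coefficients of the eigenvector, order 2 -/
def v1_2_3_4_at2 : Fin 1 → Fin 7 → ℤ := ![![0, -1, 1, 0, 0, 0, 0]]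

theorem e1_2_3_4_at2 : EigOK (hd ch1_2_3_4) c2 v1_2_3_4_at2 ![0, -1, 0, 0, 0, 0, 0] :=
  H493.EigF.ok (H493.EigF.hT H493.EigF.t7) H493.EigF.r1 (H493.EigF.mc H493.EigF.r7 <| H493.EigF.m0) H493.EigF.r7 (by decide +kernel)

/-- coefficients of the eigenvector, order 3 -/
def v1_2_3_4_at3 : Fin 2 → Fin 7 → ℤ := (beta% delta% lq260bf05212 fun a b _ _ _ =>
 (a (a 0<|a 0<|a 0<|a 0<|a 0<|a (-1)<|a 0<|b)<|a (a 0<|a 0<|a 0<|a 0<|a 0<|a 0<|a 1<|b)<|b))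

theorem e1_2_3_4_at3 : EigOK (hd ch1_2_3_4) c3 v1_2_3_4_at3 ![0, 0, 0, 0, 0, -1, 0] :=
  H493.EigF.ok (H493.EigF.hT H493.EigF.t7) H493.EigF.r2 (H493.EigF.mc H493.EigF.r7 <| H493.EigF.mc H493.EigF.r7 <| H493.EigF.m0) H493.EigF.r7 (by decide +kernel)

/-- coefficients of the eigenvector, order 4 -/
def v1_2_3_4_at4 : Fin 2 → Fin 7 → ℤ := (beta% delta% lq260bf05212 fun a b _ _ _ =>
 (a (a 0<|a (-1)<|a (-1)<|a (-1)<|a 0<|a 0<|a 0<|b)<|a (a 0<|a 0<|a 0<|a 1<|a 0<|a 0<|a 0<|b)<|b))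

theorem e1_2_3_4_at4 : EigOK (hd ch1_2_3_4) c4 v1_2_3_4_at4 ![0, -1, 0, 0, 0, 0, 0] :=
  H493.EigF.ok (H493.EigF.hT H493.EigF.t7) H493.EigF.r2 (H493.EigF.mc H493.EigF.r7 <| H493.EigF.mc H493.EigF.r7 <| H493.EigF.m0) H493.EigF.r7 (by decide +kernel)

theorem rel_4_1 {F : Type u} [Field F] [Finite F] {r s : ℕ} (hr : r.Prime) (hs : s.Prime) (hrs : r ≠ s)
    (h1 : phiC c4 (Nat.card F) 2 r) (h2 : phiC c1 (Nat.card F) 2 s) :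
    PG.Rel ↥(chevE7.group F) r s := by
  have := finW
  exact rel_of_eig hp CoxeterMatrix.E₇.toCoxeterSystem H129.TorusChar.invC_E7 (by norm_num)
    (chain_rep hp CoxeterMatrix.E₇.toCoxeterSystem hA ch1_2_3_4_ok) e1_2_3_4_at4 e1_2_3_4_at1 hr hs hrs h1.1 h2.1 h1.2 h2.2

theorem rel_4_2 {F : Type u} [Field F] [Finite F] {r s : ℕ} (hr : r.Prime) (hs : s.Prime) (hrs : r ≠ s)
    (h1 : phiC c4 (Nat.card F) 2 r) (h2 : phiC c2 (Nat.card F) 2 s) :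
    PG.Rel ↥(chevE7.group F) r s := by
  have := finW
  exact rel_of_eig hp CoxeterMatrix.E₇.toCoxeterSystem H129.TorusChar.invC_E7 (by norm_num)
    (chain_rep hp CoxeterMatrix.E₇.toCoxeterSystem hA ch1_2_3_4_ok) e1_2_3_4_at4 e1_2_3_4_at2 hr hs hrs h1.1 h2.1 h1.2 h2.2

theorem rel_4_3 {F : Type u} [Field F] [Finite F] {r s : ℕ} (hr : r.Prime) (hs : s.Prime) (hrs : r ≠ s)
    (h1 : phiC c4 (Nat.card F) 2 r) (h2 : phiC c3 (Nat.card F) 2 s) :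
    PG.Rel ↥(chevE7.group F) r s := by
  have := finW
  exact rel_of_eig hp CoxeterMatrix.E₇.toCoxeterSystem H129.TorusChar.invC_E7 (by norm_num)
    (chain_rep hp CoxeterMatrix.E₇.toCoxeterSystem hA ch1_2_3_4_ok) e1_2_3_4_at4 e1_2_3_4_at3 hr hs hrs h1.1 h2.1 h1.2 h2.2

/-- partial products of an element with characteristic polynomial Φ1^2 Φ2 Φ8 -/
def ch1_2_8 : List (Fin 7 × Mat 7) := (beta% delta% lq260bf05212 fun a b c d e =>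
 (c (d 2 (a (a (-1)<|a 0<|a (-1)<|a 0<|a 0<|a 0<|a 0<|b)<|a (a 0<|a (-1)<|a (-1)<|a (-1)<|a 0<|a 0<|a 0<|b)<|a (a 1<|a 0<|a 1<|a 1<|a 0<|a 0<|a 0<|b)<|a (a 0<|a 1<|a 1<|a 1<|a 1<|a 0<|a 0<|b)<|
 a (a 0<|a 0<|a (-1)<|a (-1)<|a (-1)<|a 0<|a 0<|b)<|a (a 0<|a 0<|a 1<|a 1<|a 1<|a 1<|a 0<|b)<|a (a 0<|a 0<|a 0<|a 0<|a 0<|a 0<|a 1<|b)<|b))<|
 c (d 0 (a (a (-1)<|a 0<|a 0<|a 0<|a 0<|a 0<|a 0<|b)<|a (a 0<|a (-1)<|a 0<|a (-1)<|a 0<|a 0<|a 0<|b)<|a (a 1<|a 0<|a 1<|a 1<|a 0<|a 0<|a 0<|b)<|a (a 0<|a 1<|a 0<|a 1<|a 1<|a 0<|a 0<|b)<|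
 a (a 0<|a 0<|a 0<|a (-1)<|a (-1)<|a 0<|a 0<|b)<|a (a 0<|a 0<|a 0<|a 1<|a 1<|a 1<|a 0<|b)<|a (a 0<|a 0<|a 0<|a 0<|a 0<|a 0<|a 1<|b)<|b))<|
 c (d 3 (a (a 1<|a 0<|a 0<|a 0<|a 0<|a 0<|a 0<|b)<|a (a 0<|a (-1)<|a 0<|a (-1)<|a 0<|a 0<|a 0<|b)<|a (a 0<|a 0<|a 1<|a 1<|a 0<|a 0<|a 0<|b)<|a (a 0<|a 1<|a 0<|a 1<|a 1<|a 0<|a 0<|b)<|
 a (a 0<|a 0<|a 0<|a (-1)<|a (-1)<|a 0<|a 0<|b)<|a (a 0<|a 0<|a 0<|a 1<|a 1<|a 1<|a 0<|b)<|a (a 0<|a 0<|a 0<|a 0<|a 0<|a 0<|a 1<|b)<|b))<|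
 c (d 1 (a (a 1<|a 0<|a 0<|a 0<|a 0<|a 0<|a 0<|b)<|a (a 0<|a (-1)<|a 0<|a 0<|a 0<|a 0<|a 0<|b)<|a (a 0<|a 0<|a 1<|a 0<|a 0<|a 0<|a 0<|b)<|a (a 0<|a 1<|a 0<|a 1<|a 1<|a 0<|a 0<|b)<|
 a (a 0<|a 0<|a 0<|a 0<|a (-1)<|a 0<|a 0<|b)<|a (a 0<|a 0<|a 0<|a 0<|a 1<|a 1<|a 0<|b)<|a (a 0<|a 0<|a 0<|a 0<|a 0<|a 0<|a 1<|b)<|b))<|
 c (d 4 (a (a 1<|a 0<|a 0<|a 0<|a 0<|a 0<|a 0<|b)<|a (a 0<|a 1<|a 0<|a 0<|a 0<|a 0<|a 0<|b)<|a (a 0<|a 0<|a 1<|a 0<|a 0<|a 0<|a 0<|b)<|a (a 0<|a 0<|a 0<|a 1<|a 1<|a 0<|a 0<|b)<|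
 a (a 0<|a 0<|a 0<|a 0<|a (-1)<|a 0<|a 0<|b)<|a (a 0<|a 0<|a 0<|a 0<|a 1<|a 1<|a 0<|b)<|a (a 0<|a 0<|a 0<|a 0<|a 0<|a 0<|a 1<|b)<|b))<|e))

theorem ch1_2_8_ok : ChainOK Am ch1_2_8 :=
  H129.ChainF.ok H129.ChainF.i7 H129.ChainF.m7 (H129.ChainF.c7 <| H129.ChainF.c7 <| H129.ChainF.c7 <| H129.ChainF.c7 <| H129.ChainF.c7 <| H129.ChainF.nil) (by decide +kernel)

/-- coefficients of the eigenvector, order 1 -/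
def v1_2_8_at1 : Fin 1 → Fin 7 → ℤ := ![![0, 0, 0, 0, 0, 0, 1]]

theorem e1_2_8_at1 : EigOK (hd ch1_2_8) c1 v1_2_8_at1 ![0, 0, 0, 0, 0, 0, 1] :=
  H493.EigF.ok (H493.EigF.hT H493.EigF.t7) H493.EigF.r1 (H493.EigF.mc H493.EigF.r7 <| H493.EigF.m0) H493.EigF.r7 (by decide +kernel)

/-- coefficients of the eigenvector, order 2 -/
def v1_2_8_at2 : Fin 1 → Fin 7 → ℤ := ![![0, -1, 0, 0, 1, 0, 0]]

theorem e1_2_8_at2 : EigOK (hd ch1_2_8) c2 v1_2_8_at2 ![0, -1, 0, 0, 0, 0, 0] :=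
  H493.EigF.ok (H493.EigF.hT H493.EigF.t7) H493.EigF.r1 (H493.EigF.mc H493.EigF.r7 <| H493.EigF.m0) H493.EigF.r7 (by decide +kernel)

/-- coefficients of the eigenvector, order 8 -/
def v1_2_8_at8 : Fin 4 → Fin 7 → ℤ := (beta% delta% lq260bf05212 fun a b _ _ _ =>
 (a (a (-1)<|a 0<|a (-1)<|a 0<|a 0<|a 0<|a 0<|b)<|a (a 1<|a 0<|a 0<|a 0<|a 0<|a 0<|a 0<|b)<|
 a (a 0<|a 1<|a 1<|a 1<|a 1<|a 0<|a 0<|b)<|a (a 0<|a 0<|a 0<|a 1<|a 0<|a 0<|a 0<|b)<|b))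

theorem e1_2_8_at8 : EigOK (hd ch1_2_8) c8 v1_2_8_at8 ![0, 1, -1, 0, 0, 0, 0] :=
  H493.EigF.ok (H493.EigF.hT H493.EigF.t7) H493.EigF.r4 (H493.EigF.mc H493.EigF.r7 <| H493.EigF.mc H493.EigF.r7 <| H493.EigF.mc H493.EigF.r7 <| H493.EigF.mc H493.EigF.r7 <| H493.EigF.m0) H493.EigF.r7 (by decide +kernel)

theorem rel_8_1 {F : Type u} [Field F] [Finite F] {r s : ℕ} (hr : r.Prime) (hs : s.Prime) (hrs : r ≠ s)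
    (h1 : phiC c8 (Nat.card F) 2 r) (h2 : phiC c1 (Nat.card F) 2 s) :
    PG.Rel ↥(chevE7.group F) r s := by
  have := finW
  exact rel_of_eig hp CoxeterMatrix.E₇.toCoxeterSystem H129.TorusChar.invC_E7 (by norm_num)
    (chain_rep hp CoxeterMatrix.E₇.toCoxeterSystem hA ch1_2_8_ok) e1_2_8_at8 e1_2_8_at1 hr hs hrs h1.1 h2.1 h1.2 h2.2

theorem rel_8_2 {F : Type u} [Field F] [Finite F] {r s : ℕ} (hr : r.Prime) (hs : s.Prime) (hrs : r ≠ s)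
    (h1 : phiC c8 (Nat.card F) 2 r) (h2 : phiC c2 (Nat.card F) 2 s) :
    PG.Rel ↥(chevE7.group F) r s := by
  have := finW
  exact rel_of_eig hp CoxeterMatrix.E₇.toCoxeterSystem H129.TorusChar.invC_E7 (by norm_num)
    (chain_rep hp CoxeterMatrix.E₇.toCoxeterSystem hA ch1_2_8_ok) e1_2_8_at8 e1_2_8_at2 hr hs hrs h1.1 h2.1 h1.2 h2.2

/-- partial products of an element with characteristic polynomial Φ1^2 Φ2 Φ5 -/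
def ch1_2_5 : List (Fin 7 × Mat 7) := (beta% delta% lq260bf05212 fun a b c d e =>
 (c (d 0 (a (a (-1)<|a 0<|a 0<|a 0<|a 0<|a 0<|a 0<|b)<|a (a 0<|a 1<|a 0<|a 1<|a 1<|a 0<|a 0<|b)<|a (a 1<|a 0<|a 1<|a 1<|a 1<|a 0<|a 0<|b)<|a (a 0<|a 0<|a 0<|a (-1)<|a (-1)<|a 0<|a 0<|b)<|
 a (a 0<|a 0<|a 0<|a 1<|a 1<|a 1<|a 1<|b)<|a (a 0<|a 0<|a 0<|a 0<|a (-1)<|a (-1)<|a (-1)<|b)<|a (a 0<|a 0<|a 0<|a 0<|a 1<|a 1<|a 0<|b)<|b))<|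
 c (d 4 (a (a 1<|a 0<|a 0<|a 0<|a 0<|a 0<|a 0<|b)<|a (a 0<|a 1<|a 0<|a 1<|a 1<|a 0<|a 0<|b)<|a (a 0<|a 0<|a 1<|a 1<|a 1<|a 0<|a 0<|b)<|a (a 0<|a 0<|a 0<|a (-1)<|a (-1)<|a 0<|a 0<|b)<|
 a (a 0<|a 0<|a 0<|a 1<|a 1<|a 1<|a 1<|b)<|a (a 0<|a 0<|a 0<|a 0<|a (-1)<|a (-1)<|a (-1)<|b)<|a (a 0<|a 0<|a 0<|a 0<|a 1<|a 1<|a 0<|b)<|b))<|
 c (d 3 (a (a 1<|a 0<|a 0<|a 0<|a 0<|a 0<|a 0<|b)<|a (a 0<|a 1<|a 0<|a 1<|a 0<|a 0<|a 0<|b)<|a (a 0<|a 0<|a 1<|a 1<|a 0<|a 0<|a 0<|b)<|a (a 0<|a 0<|a 0<|a (-1)<|a 0<|a 0<|a 0<|b)<|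
 a (a 0<|a 0<|a 0<|a 1<|a 1<|a 1<|a 1<|b)<|a (a 0<|a 0<|a 0<|a 0<|a 0<|a (-1)<|a (-1)<|b)<|a (a 0<|a 0<|a 0<|a 0<|a 0<|a 1<|a 0<|b)<|b))<|
 c (d 6 (a (a 1<|a 0<|a 0<|a 0<|a 0<|a 0<|a 0<|b)<|a (a 0<|a 1<|a 0<|a 0<|a 0<|a 0<|a 0<|b)<|a (a 0<|a 0<|a 1<|a 0<|a 0<|a 0<|a 0<|b)<|a (a 0<|a 0<|a 0<|a 1<|a 0<|a 0<|a 0<|b)<|
 a (a 0<|a 0<|a 0<|a 0<|a 1<|a 1<|a 1<|b)<|a (a 0<|a 0<|a 0<|a 0<|a 0<|a (-1)<|a (-1)<|b)<|a (a 0<|a 0<|a 0<|a 0<|a 0<|a 1<|a 0<|b)<|b))<|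
 c (d 5 (a (a 1<|a 0<|a 0<|a 0<|a 0<|a 0<|a 0<|b)<|a (a 0<|a 1<|a 0<|a 0<|a 0<|a 0<|a 0<|b)<|a (a 0<|a 0<|a 1<|a 0<|a 0<|a 0<|a 0<|b)<|a (a 0<|a 0<|a 0<|a 1<|a 0<|a 0<|a 0<|b)<|
 a (a 0<|a 0<|a 0<|a 0<|a 1<|a 1<|a 0<|b)<|a (a 0<|a 0<|a 0<|a 0<|a 0<|a (-1)<|a 0<|b)<|a (a 0<|a 0<|a 0<|a 0<|a 0<|a 1<|a 1<|b)<|b))<|e))

theorem ch1_2_5_ok : ChainOK Am ch1_2_5 :=
  H129.ChainF.ok H129.ChainF.i7 H129.ChainF.m7 (H129.ChainF.c7 <| H129.ChainF.c7 <| H129.ChainF.c7 <| H129.ChainF.c7 <| H129.ChainF.c7 <| H129.ChainF.nil) (by decide +kernel)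

/-- coefficients of the eigenvector, order 1 -/
def v1_2_5_at1 : Fin 1 → Fin 7 → ℤ := ![![1, -2, 2, 0, 0, 0, 0]]

theorem e1_2_5_at1 : EigOK (hd ch1_2_5) c1 v1_2_5_at1 ![1, 0, 0, 0, 0, 0, 0] :=
  H493.EigF.ok (H493.EigF.hT H493.EigF.t7) H493.EigF.r1 (H493.EigF.mc H493.EigF.r7 <| H493.EigF.m0) H493.EigF.r7 (by decide +kernel)

/-- coefficients of the eigenvector, order 2 -/
def v1_2_5_at2 : Fin 1 → Fin 7 → ℤ := ![![1, 0, 0, 0, 0, 0, 0]]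

theorem e1_2_5_at2 : EigOK (hd ch1_2_5) c2 v1_2_5_at2 ![1, 0, 0, 0, 0, 0, 0] :=
  H493.EigF.ok (H493.EigF.hT H493.EigF.t7) H493.EigF.r1 (H493.EigF.mc H493.EigF.r7 <| H493.EigF.m0) H493.EigF.r7 (by decide +kernel)

/-- coefficients of the eigenvector, order 5 -/
def v1_2_5_at5 : Fin 4 → Fin 7 → ℤ := (beta% delta% lq260bf05212 fun a b _ _ _ =>
 (a (a 0<|a 0<|a 0<|a 1<|a 1<|a 0<|a 0<|b)<|a (a 0<|a 0<|a 0<|a 0<|a 1<|a 0<|a 0<|b)<|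
 a (a 0<|a 0<|a 0<|a 0<|a 0<|a (-1)<|a 0<|b)<|a (a 0<|a 0<|a 0<|a 0<|a 0<|a (-1)<|a (-1)<|b)<|b))

theorem e1_2_5_at5 : EigOK (hd ch1_2_5) c5 v1_2_5_at5 ![0, 0, 0, 1, 0, 0, 0] :=
  H493.EigF.ok (H493.EigF.hT H493.EigF.t7) H493.EigF.r4 (H493.EigF.mc H493.EigF.r7 <| H493.EigF.mc H493.EigF.r7 <| H493.EigF.mc H493.EigF.r7 <| H493.EigF.mc H493.EigF.r7 <| H493.EigF.m0) H493.EigF.r7 (by decide +kernel)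

theorem rel_5_1 {F : Type u} [Field F] [Finite F] {r s : ℕ} (hr : r.Prime) (hs : s.Prime) (hrs : r ≠ s)
    (h1 : phiC c5 (Nat.card F) 2 r) (h2 : phiC c1 (Nat.card F) 2 s) :
    PG.Rel ↥(chevE7.group F) r s := by
  have := finW
  exact rel_of_eig hp CoxeterMatrix.E₇.toCoxeterSystem H129.TorusChar.invC_E7 (by norm_num)
    (chain_rep hp CoxeterMatrix.E₇.toCoxeterSystem hA ch1_2_5_ok) e1_2_5_at5 e1_2_5_at1 hr hs hrs h1.1 h2.1 h1.2 h2.2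

theorem rel_5_2 {F : Type u} [Field F] [Finite F] {r s : ℕ} (hr : r.Prime) (hs : s.Prime) (hrs : r ≠ s)
    (h1 : phiC c5 (Nat.card F) 2 r) (h2 : phiC c2 (Nat.card F) 2 s) :
    PG.Rel ↥(chevE7.group F) r s := by
  have := finW
  exact rel_of_eig hp CoxeterMatrix.E₇.toCoxeterSystem H129.TorusChar.invC_E7 (by norm_num)
    (chain_rep hp CoxeterMatrix.E₇.toCoxeterSystem hA ch1_2_5_ok) e1_2_5_at5 e1_2_5_at2 hr hs hrs h1.1 h2.1 h1.2 h2.2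

/-- partial products of an element with characteristic polynomial Φ1 Φ2^2 Φ10 -/
def ch1_2_10 : List (Fin 7 × Mat 7) := (beta% delta% lq260bf05212 fun a b c d e =>
 (c (d 6 (a (a 1<|a 0<|a 1<|a 1<|a 1<|a 1<|a 1<|b)<|a (a 0<|a (-1)<|a 0<|a (-1)<|a (-1)<|a (-1)<|a (-1)<|b)<|a (a 0<|a 0<|a (-1)<|a (-1)<|a (-1)<|a (-1)<|a (-1)<|b)<|a (a 0<|a 1<|a 1<|a 1<|a 1<|a 1<|a 1<|b)<|
 a (a 0<|a 0<|a 0<|a 1<|a 0<|a 0<|a 0<|b)<|a (a 0<|a 0<|a 0<|a 0<|a 1<|a 0<|a 0<|b)<|a (a 0<|a 0<|a 0<|a 0<|a 0<|a 1<|a 0<|b)<|b))<|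
 c (d 5 (a (a 1<|a 0<|a 1<|a 1<|a 1<|a 1<|a 0<|b)<|a (a 0<|a (-1)<|a 0<|a (-1)<|a (-1)<|a (-1)<|a 0<|b)<|a (a 0<|a 0<|a (-1)<|a (-1)<|a (-1)<|a (-1)<|a 0<|b)<|a (a 0<|a 1<|a 1<|a 1<|a 1<|a 1<|a 0<|b)<|
 a (a 0<|a 0<|a 0<|a 1<|a 0<|a 0<|a 0<|b)<|a (a 0<|a 0<|a 0<|a 0<|a 1<|a 0<|a 0<|b)<|a (a 0<|a 0<|a 0<|a 0<|a 0<|a 1<|a 1<|b)<|b))<|
 c (d 4 (a (a 1<|a 0<|a 1<|a 1<|a 1<|a 0<|a 0<|b)<|a (a 0<|a (-1)<|a 0<|a (-1)<|a (-1)<|a 0<|a 0<|b)<|a (a 0<|a 0<|a (-1)<|a (-1)<|a (-1)<|a 0<|a 0<|b)<|a (a 0<|a 1<|a 1<|a 1<|a 1<|a 0<|a 0<|b)<|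
 a (a 0<|a 0<|a 0<|a 1<|a 0<|a 0<|a 0<|b)<|a (a 0<|a 0<|a 0<|a 0<|a 1<|a 1<|a 0<|b)<|a (a 0<|a 0<|a 0<|a 0<|a 0<|a 0<|a 1<|b)<|b))<|
 c (d 3 (a (a 1<|a 0<|a 1<|a 1<|a 0<|a 0<|a 0<|b)<|a (a 0<|a (-1)<|a 0<|a (-1)<|a 0<|a 0<|a 0<|b)<|a (a 0<|a 0<|a (-1)<|a (-1)<|a 0<|a 0<|a 0<|b)<|a (a 0<|a 1<|a 1<|a 1<|a 0<|a 0<|a 0<|b)<|
 a (a 0<|a 0<|a 0<|a 1<|a 1<|a 0<|a 0<|b)<|a (a 0<|a 0<|a 0<|a 0<|a 0<|a 1<|a 0<|b)<|a (a 0<|a 0<|a 0<|a 0<|a 0<|a 0<|a 1<|b)<|b))<|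
 c (d 1 (a (a 1<|a 0<|a 1<|a 0<|a 0<|a 0<|a 0<|b)<|a (a 0<|a (-1)<|a 0<|a 0<|a 0<|a 0<|a 0<|b)<|a (a 0<|a 0<|a (-1)<|a 0<|a 0<|a 0<|a 0<|b)<|a (a 0<|a 1<|a 1<|a 1<|a 0<|a 0<|a 0<|b)<|
 a (a 0<|a 0<|a 0<|a 0<|a 1<|a 0<|a 0<|b)<|a (a 0<|a 0<|a 0<|a 0<|a 0<|a 1<|a 0<|b)<|a (a 0<|a 0<|a 0<|a 0<|a 0<|a 0<|a 1<|b)<|b))<|
 c (d 2 (a (a 1<|a 0<|a 1<|a 0<|a 0<|a 0<|a 0<|b)<|a (a 0<|a 1<|a 0<|a 0<|a 0<|a 0<|a 0<|b)<|a (a 0<|a 0<|a (-1)<|a 0<|a 0<|a 0<|a 0<|b)<|a (a 0<|a 0<|a 1<|a 1<|a 0<|a 0<|a 0<|b)<|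
 a (a 0<|a 0<|a 0<|a 0<|a 1<|a 0<|a 0<|b)<|a (a 0<|a 0<|a 0<|a 0<|a 0<|a 1<|a 0<|b)<|a (a 0<|a 0<|a 0<|a 0<|a 0<|a 0<|a 1<|b)<|b))<|e))

theorem ch1_2_10_ok : ChainOK Am ch1_2_10 :=
  H129.ChainF.ok H129.ChainF.i7 H129.ChainF.m7 (H129.ChainF.c7 <| H129.ChainF.c7 <| H129.ChainF.c7 <| H129.ChainF.c7 <| H129.ChainF.c7 <| H129.ChainF.c7 <| H129.ChainF.nil) (by decide +kernel)

/-- coefficients of the eigenvector, order 1 -/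
def v1_2_10_at1 : Fin 1 → Fin 7 → ℤ := ![![-2, -2, -3, -4, -3, -2, -1]]

theorem e1_2_10_at1 : EigOK (hd ch1_2_10) c1 v1_2_10_at1 ![0, 0, 0, 0, 0, 0, -1] :=
  H493.EigF.ok (H493.EigF.hT H493.EigF.t7) H493.EigF.r1 (H493.EigF.mc H493.EigF.r7 <| H493.EigF.m0) H493.EigF.r7 (by decide +kernel)

/-- coefficients of the eigenvector, order 2 -/
def v1_2_10_at2 : Fin 1 → Fin 7 → ℤ := ![![0, 1, -1, 0, 0, 0, 0]]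

theorem e1_2_10_at2 : EigOK (hd ch1_2_10) c2 v1_2_10_at2 ![0, 1, 0, 0, 0, 0, 0] :=
  H493.EigF.ok (H493.EigF.hT H493.EigF.t7) H493.EigF.r1 (H493.EigF.mc H493.EigF.r7 <| H493.EigF.m0) H493.EigF.r7 (by decide +kernel)

/-- coefficients of the eigenvector, order 10 -/
def v1_2_10_at10 : Fin 4 → Fin 7 → ℤ := (beta% delta% lq260bf05212 fun a b _ _ _ =>
 (a (a 0<|a 0<|a 0<|a 0<|a (-1)<|a (-1)<|a 0<|b)<|a (a 0<|a 0<|a 0<|a 0<|a 1<|a 0<|a (-1)<|b)<|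
 a (a 0<|a 1<|a 1<|a 1<|a 0<|a 1<|a 1<|b)<|a (a 0<|a 0<|a 0<|a 1<|a 1<|a 0<|a 0<|b)<|b))

theorem e1_2_10_at10 : EigOK (hd ch1_2_10) c10 v1_2_10_at10 ![0, 0, 1, 0, 0, -1, 0] :=
  H493.EigF.ok (H493.EigF.hT H493.EigF.t7) H493.EigF.r4 (H493.EigF.mc H493.EigF.r7 <| H493.EigF.mc H493.EigF.r7 <| H493.EigF.mc H493.EigF.r7 <| H493.EigF.mc H493.EigF.r7 <| H493.EigF.m0) H493.EigF.r7 (by decide +kernel)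

theorem rel_10_1 {F : Type u} [Field F] [Finite F] {r s : ℕ} (hr : r.Prime) (hs : s.Prime) (hrs : r ≠ s)
    (h1 : phiC c10 (Nat.card F) 2 r) (h2 : phiC c1 (Nat.card F) 2 s) :
    PG.Rel ↥(chevE7.group F) r s := by
  have := finW
  exact rel_of_eig hp CoxeterMatrix.E₇.toCoxeterSystem H129.TorusChar.invC_E7 (by norm_num)
    (chain_rep hp CoxeterMatrix.E₇.toCoxeterSystem hA ch1_2_10_ok) e1_2_10_at10 e1_2_10_at1 hr hs hrs h1.1 h2.1 h1.2 h2.2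

theorem rel_10_2 {F : Type u} [Field F] [Finite F] {r s : ℕ} (hr : r.Prime) (hs : s.Prime) (hrs : r ≠ s)
    (h1 : phiC c10 (Nat.card F) 2 r) (h2 : phiC c2 (Nat.card F) 2 s) :
    PG.Rel ↥(chevE7.group F) r s := by
  have := finW
  exact rel_of_eig hp CoxeterMatrix.E₇.toCoxeterSystem H129.TorusChar.invC_E7 (by norm_num)
    (chain_rep hp CoxeterMatrix.E₇.toCoxeterSystem hA ch1_2_10_ok) e1_2_10_at10 e1_2_10_at2 hr hs hrs h1.1 h2.1 h1.2 h2.2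

end Cfsg.Agent.R2.Spec.EE.CertE7
end

-- part: R2/Spec/EE/CertE7P
section
/-!
# Adjacency with the characteristic, type E7 (helper2)
-/

set_option autoImplicit false

namespace Cfsg.Agent.R2.Spec.EE.CertE7

open Cfsg.Agent.H129.WData Cfsg.Agent.ChevalleyStructure.CoxeterGeomTypes Cfsg.Agent.Nodes.RGDChev
open Cfsg.Lie Cfsg.Lie.ChevalleyDatum
open Cfsg.Agent Cfsg.Agent.H493 Cfsg.Agent.H493.PGTorus Cfsg.Agent.H493.PGCyc Cfsg.Agent.H493.PGE7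
open Cfsg.Agent.H168.ExcAdj Cfsg.Agent.R2.Spec.EE.CertBase

universe u

/-- the highest root -/
def r0 : ℕ := 125

theorem r0_lt : r0 < chevE7.nroots := by decide +kernel

/-- square roots in characteristic two -/
theorem sq_surj {F : Type u} [Field F] [Finite F] {s : ℕ} (hs : s.Prime) (h2 : s ∣ Nat.card F) :
    s ∣ 2 → ∀ a : F, ∃ b : F, b ^ 2 = a := by
  intro h a
  have : Fintype F := Fintype.ofFinite F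
  have hs2 : s = 2 := (Nat.prime_dvd_prime_iff_eq hs Nat.prime_two).1 h
  subst hs2
  have hc : CharP F 2 := by
    obtain ⟨p, hp'⟩ := CharP.exists F
    have : Fact p.Prime := ⟨CharP.char_is_prime F p⟩
    obtain ⟨n, -, h3⟩ := FiniteField.card F p
    rw [Nat.card_eq_fintype_card, h3] at h2
    have h4 := (Nat.prime_dvd_prime_iff_eq Nat.prime_two (Fact.out : p.Prime)).1 (Nat.prime_two.dvd_of_dvd_pow h2)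
    rw [h4]; exact hp'
  exact (Finite.injective_iff_surjective.1 (frobenius_inj F 2)) a

/-- partial products of an element with characteristic polynomial Φ1^7 -/
def q1 : List (Fin 7 × Mat 7) := []

theorem q1_ok : ChainOK Am q1 := by decide +kernel

/-- coefficients of the functional, order 1 -/
def v1 : Fin 1 → Fin 7 → ℤ := ![![-1, 0, 0, 0, 0, 1, 0]]

theorem e1 : EigOK (fun i j => hd q1 j i) c1 v1 ![-1, 0, 0, 0, 0, 0, 0] := by decide +kernel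

theorem f1 : ∀ m, ∑ j, vec chevE7 7 r0 j * hd q1 j m = vec chevE7 7 r0 m := by decide +kernel

theorem z1 : ∀ i, ∑ m, vec chevE7 7 r0 m * v1 i m = 0 := by decide +kernel

theorem rel_1_p {F : Type u} [Field F] [Finite F] {r s : ℕ} (hr : r.Prime) (hs : s.Prime)
    (h1 : phiC c1 (Nat.card F) 2 r) (h2 : s ∣ Nat.card F) : PG.Rel ↥(chevE7.group F) r s := by
  have := finW
  exact rel_p_of_eig hp CoxeterMatrix.E₇.toCoxeterSystem H129.TorusChar.invC_E7 (by norm_num)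
    (chain_rep hp CoxeterMatrix.E₇.toCoxeterSystem hA q1_ok) e1 (Or.inr (by decide +kernel)) r0_lt f1 z1 hr hs h1.1
    (sq_surj hs h2) h1.2 h2

/-- partial products of an element with characteristic polynomial Φ1^6 Φ2 -/
def q2 : List (Fin 7 × Mat 7) := (beta% delta% lq260bf05212 fun a b c d e =>
 (c (d 1 (a (a 1<|a 0<|a 0<|a 0<|a 0<|a 0<|a 0<|b)<|a (a 0<|a (-1)<|a 0<|a 0<|a 0<|a 0<|a 0<|b)<|a (a 0<|a 0<|a 1<|a 0<|a 0<|a 0<|a 0<|b)<|a (a 0<|a 1<|a 0<|a 1<|a 0<|a 0<|a 0<|b)<|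
 a (a 0<|a 0<|a 0<|a 0<|a 1<|a 0<|a 0<|b)<|a (a 0<|a 0<|a 0<|a 0<|a 0<|a 1<|a 0<|b)<|a (a 0<|a 0<|a 0<|a 0<|a 0<|a 0<|a 1<|b)<|b))<|e))

theorem q2_ok : ChainOK Am q2 :=
  H129.ChainF.ok H129.ChainF.i7 H129.ChainF.m7 (H129.ChainF.c7 <| H129.ChainF.nil) (by decide +kernel)

/-- coefficients of the functional, order 2 -/
def v2 : Fin 1 → Fin 7 → ℤ := ![![0, -2, 0, 1, 0, 0, 0]]

theorem e2 : EigOK (fun i j => hd q2 j i) c2 v2 ![0, 0, 0, 1, 0, 0, 0] :=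
  H493.EigF.ok (H493.EigF.tt (hd q2) (H493.EigF.hM H129.ChainF.m7)) H493.EigF.r1 (H493.EigF.mc H493.EigF.r7 <| H493.EigF.m0) H493.EigF.r7 (by decide +kernel)

theorem f2 : ∀ m, ∑ j, vec chevE7 7 r0 j * hd q2 j m = vec chevE7 7 r0 m := by decide +kernel

theorem z2 : ∀ i, ∑ m, vec chevE7 7 r0 m * v2 i m = 0 := by decide +kernel

theorem rel_2_p {F : Type u} [Field F] [Finite F] {r s : ℕ} (hr : r.Prime) (hs : s.Prime)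
    (h1 : phiC c2 (Nat.card F) 2 r) (h2 : s ∣ Nat.card F) : PG.Rel ↥(chevE7.group F) r s := by
  have := finW
  exact rel_p_of_eig hp CoxeterMatrix.E₇.toCoxeterSystem H129.TorusChar.invC_E7 (by norm_num)
    (chain_rep hp CoxeterMatrix.E₇.toCoxeterSystem hA q2_ok) e2 (Or.inl (by decide +kernel)) r0_lt f2 z2 hr hs h1.1
    (sq_surj hs h2) h1.2 h2

/-- partial products of an element with characteristic polynomial Φ1^5 Φ3 -/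
def q3 : List (Fin 7 × Mat 7) := (beta% delta% lq260bf05212 fun a b c d e =>
 (c (d 1 (a (a 1<|a 0<|a 0<|a 0<|a 0<|a 0<|a 0<|b)<|a (a 0<|a 0<|a 0<|a 1<|a 0<|a 0<|a 0<|b)<|a (a 0<|a 1<|a 1<|a 1<|a 0<|a 0<|a 0<|b)<|a (a 0<|a (-1)<|a 0<|a (-1)<|a 0<|a 0<|a 0<|b)<|
 a (a 0<|a 1<|a 0<|a 1<|a 1<|a 0<|a 0<|b)<|a (a 0<|a 0<|a 0<|a 0<|a 0<|a 1<|a 0<|b)<|a (a 0<|a 0<|a 0<|a 0<|a 0<|a 0<|a 1<|b)<|b))<|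
 c (d 3 (a (a 1<|a 0<|a 0<|a 0<|a 0<|a 0<|a 0<|b)<|a (a 0<|a 1<|a 0<|a 1<|a 0<|a 0<|a 0<|b)<|a (a 0<|a 0<|a 1<|a 1<|a 0<|a 0<|a 0<|b)<|a (a 0<|a 0<|a 0<|a (-1)<|a 0<|a 0<|a 0<|b)<|
 a (a 0<|a 0<|a 0<|a 1<|a 1<|a 0<|a 0<|b)<|a (a 0<|a 0<|a 0<|a 0<|a 0<|a 1<|a 0<|b)<|a (a 0<|a 0<|a 0<|a 0<|a 0<|a 0<|a 1<|b)<|b))<|e))

theorem q3_ok : ChainOK Am q3 :=
  H129.ChainF.ok H129.ChainF.i7 H129.ChainF.m7 (H129.ChainF.c7 <| H129.ChainF.c7 <| H129.ChainF.nil) (by decide +kernel)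

/-- coefficients of the functional, order 3 -/
def v3 : Fin 2 → Fin 7 → ℤ := (beta% delta% lq260bf05212 fun a b _ _ _ =>
 (a (a 0<|a 2<|a 0<|a (-1)<|a 0<|a 0<|a 0<|b)<|a (a 0<|a 1<|a (-1)<|a 1<|a (-1)<|a 0<|a 0<|b)<|b))

theorem e3 : EigOK (fun i j => hd q3 j i) c3 v3 ![0, 0, -1, -1, 0, 0, 0] :=
  H493.EigF.ok (H493.EigF.tt (hd q3) (H493.EigF.hM H129.ChainF.m7)) H493.EigF.r2 (H493.EigF.mc H493.EigF.r7 <| H493.EigF.mc H493.EigF.r7 <| H493.EigF.m0) H493.EigF.r7 (by decide +kernel)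

theorem f3 : ∀ m, ∑ j, vec chevE7 7 r0 j * hd q3 j m = vec chevE7 7 r0 m := by decide +kernel

theorem z3 : ∀ i, ∑ m, vec chevE7 7 r0 m * v3 i m = 0 := by decide +kernel

theorem rel_3_p {F : Type u} [Field F] [Finite F] {r s : ℕ} (hr : r.Prime) (hs : s.Prime)
    (h1 : phiC c3 (Nat.card F) 2 r) (h2 : s ∣ Nat.card F) : PG.Rel ↥(chevE7.group F) r s := by
  have := finW
  exact rel_p_of_eig hp CoxeterMatrix.E₇.toCoxeterSystem H129.TorusChar.invC_E7 (by norm_num)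
    (chain_rep hp CoxeterMatrix.E₇.toCoxeterSystem hA q3_ok) e3 (Or.inl (by decide +kernel)) r0_lt f3 z3 hr hs h1.1
    (sq_surj hs h2) h1.2 h2

/-- partial products of an element with characteristic polynomial Φ1^4 Φ2 Φ4 -/
def q4 : List (Fin 7 × Mat 7) := (beta% delta% lq260bf05212 fun a b c d e =>
 (c (d 1 (a (a 1<|a 0<|a 0<|a 0<|a 0<|a 0<|a 0<|b)<|a (a 0<|a 0<|a 0<|a 1<|a 0<|a 0<|a 0<|b)<|a (a 0<|a 1<|a 1<|a 1<|a 0<|a 0<|a 0<|b)<|a (a 0<|a 0<|a 0<|a 0<|a 1<|a 0<|a 0<|b)<|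
 a (a 0<|a (-1)<|a 0<|a (-1)<|a (-1)<|a 0<|a 0<|b)<|a (a 0<|a 1<|a 0<|a 1<|a 1<|a 1<|a 0<|b)<|a (a 0<|a 0<|a 0<|a 0<|a 0<|a 0<|a 1<|b)<|b))<|
 c (d 3 (a (a 1<|a 0<|a 0<|a 0<|a 0<|a 0<|a 0<|b)<|a (a 0<|a 1<|a 0<|a 1<|a 0<|a 0<|a 0<|b)<|a (a 0<|a 0<|a 1<|a 1<|a 0<|a 0<|a 0<|b)<|a (a 0<|a 0<|a 0<|a 0<|a 1<|a 0<|a 0<|b)<|
 a (a 0<|a 0<|a 0<|a (-1)<|a (-1)<|a 0<|a 0<|b)<|a (a 0<|a 0<|a 0<|a 1<|a 1<|a 1<|a 0<|b)<|a (a 0<|a 0<|a 0<|a 0<|a 0<|a 0<|a 1<|b)<|b))<|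
 c (d 4 (a (a 1<|a 0<|a 0<|a 0<|a 0<|a 0<|a 0<|b)<|a (a 0<|a 1<|a 0<|a 0<|a 0<|a 0<|a 0<|b)<|a (a 0<|a 0<|a 1<|a 0<|a 0<|a 0<|a 0<|b)<|a (a 0<|a 0<|a 0<|a 1<|a 1<|a 0<|a 0<|b)<|
 a (a 0<|a 0<|a 0<|a 0<|a (-1)<|a 0<|a 0<|b)<|a (a 0<|a 0<|a 0<|a 0<|a 1<|a 1<|a 0<|b)<|a (a 0<|a 0<|a 0<|a 0<|a 0<|a 0<|a 1<|b)<|b))<|e))

theorem q4_ok : ChainOK Am q4 :=
  H129.ChainF.ok H129.ChainF.i7 H129.ChainF.m7 (H129.ChainF.c7 <| H129.ChainF.c7 <| H129.ChainF.c7 <| H129.ChainF.nil) (by decide +kernel)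

/-- coefficients of the functional, order 4 -/
def v4 : Fin 2 → Fin 7 → ℤ := (beta% delta% lq260bf05212 fun a b _ _ _ =>
 (a (a 0<|a (-1)<|a (-1)<|a 1<|a 1<|a (-1)<|a 0<|b)<|a (a 0<|a (-1)<|a 1<|a (-1)<|a 1<|a 0<|a 0<|b)<|b))

theorem e4 : EigOK (fun i j => hd q4 j i) c4 v4 ![0, 0, 0, 0, 0, -1, 0] :=
  H493.EigF.ok (H493.EigF.tt (hd q4) (H493.EigF.hM H129.ChainF.m7)) H493.EigF.r2 (H493.EigF.mc H493.EigF.r7 <| H493.EigF.mc H493.EigF.r7 <| H493.EigF.m0) H493.EigF.r7 (by decide +kernel)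

theorem f4 : ∀ m, ∑ j, vec chevE7 7 r0 j * hd q4 j m = vec chevE7 7 r0 m := by decide +kernel

theorem z4 : ∀ i, ∑ m, vec chevE7 7 r0 m * v4 i m = 0 := by decide +kernel

theorem rel_4_p {F : Type u} [Field F] [Finite F] {r s : ℕ} (hr : r.Prime) (hs : s.Prime)
    (h1 : phiC c4 (Nat.card F) 2 r) (h2 : s ∣ Nat.card F) : PG.Rel ↥(chevE7.group F) r s := by
  have := finW
  exact rel_p_of_eig hp CoxeterMatrix.E₇.toCoxeterSystem H129.TorusChar.invC_E7 (by norm_num)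
    (chain_rep hp CoxeterMatrix.E₇.toCoxeterSystem hA q4_ok) e4 (Or.inl (by decide +kernel)) r0_lt f4 z4 hr hs h1.1
    (sq_surj hs h2) h1.2 h2

/-- partial products of an element with characteristic polynomial Φ1^3 Φ5 -/
def q5 : List (Fin 7 × Mat 7) := (beta% delta% lq260bf05212 fun a b c d e =>
 (c (d 1 (a (a 1<|a 0<|a 0<|a 0<|a 0<|a 0<|a 0<|b)<|a (a 0<|a 0<|a 0<|a 1<|a 0<|a 0<|a 0<|b)<|a (a 0<|a 1<|a 1<|a 1<|a 0<|a 0<|a 0<|b)<|a (a 0<|a 0<|a 0<|a 0<|a 1<|a 0<|a 0<|b)<|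
 a (a 0<|a 0<|a 0<|a 0<|a 0<|a 1<|a 0<|b)<|a (a 0<|a (-1)<|a 0<|a (-1)<|a (-1)<|a (-1)<|a 0<|b)<|a (a 0<|a 1<|a 0<|a 1<|a 1<|a 1<|a 1<|b)<|b))<|
 c (d 3 (a (a 1<|a 0<|a 0<|a 0<|a 0<|a 0<|a 0<|b)<|a (a 0<|a 1<|a 0<|a 1<|a 0<|a 0<|a 0<|b)<|a (a 0<|a 0<|a 1<|a 1<|a 0<|a 0<|a 0<|b)<|a (a 0<|a 0<|a 0<|a 0<|a 1<|a 0<|a 0<|b)<|
 a (a 0<|a 0<|a 0<|a 0<|a 0<|a 1<|a 0<|b)<|a (a 0<|a 0<|a 0<|a (-1)<|a (-1)<|a (-1)<|a 0<|b)<|a (a 0<|a 0<|a 0<|a 1<|a 1<|a 1<|a 1<|b)<|b))<|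
 c (d 4 (a (a 1<|a 0<|a 0<|a 0<|a 0<|a 0<|a 0<|b)<|a (a 0<|a 1<|a 0<|a 0<|a 0<|a 0<|a 0<|b)<|a (a 0<|a 0<|a 1<|a 0<|a 0<|a 0<|a 0<|b)<|a (a 0<|a 0<|a 0<|a 1<|a 1<|a 0<|a 0<|b)<|
 a (a 0<|a 0<|a 0<|a 0<|a 0<|a 1<|a 0<|b)<|a (a 0<|a 0<|a 0<|a 0<|a (-1)<|a (-1)<|a 0<|b)<|a (a 0<|a 0<|a 0<|a 0<|a 1<|a 1<|a 1<|b)<|b))<|
 c (d 5 (a (a 1<|a 0<|a 0<|a 0<|a 0<|a 0<|a 0<|b)<|a (a 0<|a 1<|a 0<|a 0<|a 0<|a 0<|a 0<|b)<|a (a 0<|a 0<|a 1<|a 0<|a 0<|a 0<|a 0<|b)<|a (a 0<|a 0<|a 0<|a 1<|a 0<|a 0<|a 0<|b)<|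
 a (a 0<|a 0<|a 0<|a 0<|a 1<|a 1<|a 0<|b)<|a (a 0<|a 0<|a 0<|a 0<|a 0<|a (-1)<|a 0<|b)<|a (a 0<|a 0<|a 0<|a 0<|a 0<|a 1<|a 1<|b)<|b))<|e))

theorem q5_ok : ChainOK Am q5 :=
  H129.ChainF.ok H129.ChainF.i7 H129.ChainF.m7 (H129.ChainF.c7 <| H129.ChainF.c7 <| H129.ChainF.c7 <| H129.ChainF.c7 <| H129.ChainF.nil) (by decide +kernel)

/-- coefficients of the functional, order 5 -/
def v5 : Fin 4 → Fin 7 → ℤ := (beta% delta% lq260bf05212 fun a b _ _ _ =>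
 (a (a 0<|a (-2)<|a 0<|a 1<|a 0<|a 0<|a 0<|b)<|a (a 0<|a (-1)<|a 1<|a (-1)<|a 1<|a 0<|a 0<|b)<|
 a (a 0<|a (-1)<|a 1<|a 0<|a (-1)<|a 1<|a 0<|b)<|a (a 0<|a (-1)<|a 1<|a 0<|a 0<|a (-1)<|a 1<|b)<|b))

theorem e5 : EigOK (fun i j => hd q5 j i) c5 v5 ![0, 0, 0, 1, 1, 1, 1] :=
  H493.EigF.ok (H493.EigF.tt (hd q5) (H493.EigF.hM H129.ChainF.m7)) H493.EigF.r4 (H493.EigF.mc H493.EigF.r7 <| H493.EigF.mc H493.EigF.r7 <| H493.EigF.mc H493.EigF.r7 <| H493.EigF.mc H493.EigF.r7 <| H493.EigF.m0) H493.EigF.r7 (by decide +kernel)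

theorem f5 : ∀ m, ∑ j, vec chevE7 7 r0 j * hd q5 j m = vec chevE7 7 r0 m := by decide +kernel

theorem z5 : ∀ i, ∑ m, vec chevE7 7 r0 m * v5 i m = 0 := by decide +kernel

theorem rel_5_p {F : Type u} [Field F] [Finite F] {r s : ℕ} (hr : r.Prime) (hs : s.Prime)
    (h1 : phiC c5 (Nat.card F) 2 r) (h2 : s ∣ Nat.card F) : PG.Rel ↥(chevE7.group F) r s := by
  have := finW
  exact rel_p_of_eig hp CoxeterMatrix.E₇.toCoxeterSystem H129.TorusChar.invC_E7 (by norm_num)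
    (chain_rep hp CoxeterMatrix.E₇.toCoxeterSystem hA q5_ok) e5 (Or.inl (by decide +kernel)) r0_lt f5 z5 hr hs h1.1
    (sq_surj hs h2) h1.2 h2

/-- partial products of an element with characteristic polynomial Φ1^3 Φ2^2 Φ6 -/
def q6 : List (Fin 7 × Mat 7) := (beta% delta% lq260bf05212 fun a b c d e =>
 (c (d 1 (a (a 1<|a 0<|a 1<|a 0<|a 0<|a 0<|a 0<|b)<|a (a 0<|a 0<|a 1<|a 1<|a 0<|a 0<|a 0<|b)<|a (a 0<|a 1<|a 0<|a 1<|a 0<|a 0<|a 0<|b)<|a (a 0<|a 0<|a 0<|a 0<|a 1<|a 0<|a 0<|b)<|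
 a (a 0<|a (-1)<|a (-1)<|a (-1)<|a (-1)<|a 0<|a 0<|b)<|a (a 0<|a 1<|a 1<|a 1<|a 1<|a 1<|a 0<|b)<|a (a 0<|a 0<|a 0<|a 0<|a 0<|a 0<|a 1<|b)<|b))<|
 c (d 2 (a (a 1<|a 0<|a 1<|a 0<|a 0<|a 0<|a 0<|b)<|a (a 0<|a 1<|a 1<|a 1<|a 0<|a 0<|a 0<|b)<|a (a 0<|a 0<|a 0<|a 1<|a 0<|a 0<|a 0<|b)<|a (a 0<|a 0<|a 0<|a 0<|a 1<|a 0<|a 0<|b)<|
 a (a 0<|a 0<|a (-1)<|a (-1)<|a (-1)<|a 0<|a 0<|b)<|a (a 0<|a 0<|a 1<|a 1<|a 1<|a 1<|a 0<|b)<|a (a 0<|a 0<|a 0<|a 0<|a 0<|a 0<|a 1<|b)<|b))<|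
 c (d 3 (a (a 1<|a 0<|a 0<|a 0<|a 0<|a 0<|a 0<|b)<|a (a 0<|a 1<|a 0<|a 1<|a 0<|a 0<|a 0<|b)<|a (a 0<|a 0<|a 1<|a 1<|a 0<|a 0<|a 0<|b)<|a (a 0<|a 0<|a 0<|a 0<|a 1<|a 0<|a 0<|b)<|
 a (a 0<|a 0<|a 0<|a (-1)<|a (-1)<|a 0<|a 0<|b)<|a (a 0<|a 0<|a 0<|a 1<|a 1<|a 1<|a 0<|b)<|a (a 0<|a 0<|a 0<|a 0<|a 0<|a 0<|a 1<|b)<|b))<|
 c (d 4 (a (a 1<|a 0<|a 0<|a 0<|a 0<|a 0<|a 0<|b)<|a (a 0<|a 1<|a 0<|a 0<|a 0<|a 0<|a 0<|b)<|a (a 0<|a 0<|a 1<|a 0<|a 0<|a 0<|a 0<|b)<|a (a 0<|a 0<|a 0<|a 1<|a 1<|a 0<|a 0<|b)<|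
 a (a 0<|a 0<|a 0<|a 0<|a (-1)<|a 0<|a 0<|b)<|a (a 0<|a 0<|a 0<|a 0<|a 1<|a 1<|a 0<|b)<|a (a 0<|a 0<|a 0<|a 0<|a 0<|a 0<|a 1<|b)<|b))<|e))

theorem q6_ok : ChainOK Am q6 :=
  H129.ChainF.ok H129.ChainF.i7 H129.ChainF.m7 (H129.ChainF.c7 <| H129.ChainF.c7 <| H129.ChainF.c7 <| H129.ChainF.c7 <| H129.ChainF.nil) (by decide +kernel)

/-- coefficients of the functional, order 6 -/
def v6 : Fin 2 → Fin 7 → ℤ := (beta% delta% lq260bf05212 fun a b _ _ _ =>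
 (a (a (-1)<|a 0<|a 0<|a 1<|a 0<|a (-1)<|a 0<|b)<|a (a 1<|a (-1)<|a (-1)<|a 0<|a 1<|a 0<|a 0<|b)<|b))

theorem e6 : EigOK (fun i j => hd q6 j i) c6 v6 ![0, 0, 0, 1, 0, 0, 0] :=
  H493.EigF.ok (H493.EigF.tt (hd q6) (H493.EigF.hM H129.ChainF.m7)) H493.EigF.r2 (H493.EigF.mc H493.EigF.r7 <| H493.EigF.mc H493.EigF.r7 <| H493.EigF.m0) H493.EigF.r7 (by decide +kernel)

theorem f6 : ∀ m, ∑ j, vec chevE7 7 r0 j * hd q6 j m = vec chevE7 7 r0 m := by decide +kernel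

theorem z6 : ∀ i, ∑ m, vec chevE7 7 r0 m * v6 i m = 0 := by decide +kernel

theorem rel_6_p {F : Type u} [Field F] [Finite F] {r s : ℕ} (hr : r.Prime) (hs : s.Prime)
    (h1 : phiC c6 (Nat.card F) 2 r) (h2 : s ∣ Nat.card F) : PG.Rel ↥(chevE7.group F) r s := by
  have := finW
  exact rel_p_of_eig hp CoxeterMatrix.E₇.toCoxeterSystem H129.TorusChar.invC_E7 (by norm_num)
    (chain_rep hp CoxeterMatrix.E₇.toCoxeterSystem hA q6_ok) e6 (Or.inl (by decide +kernel)) r0_lt f6 z6 hr hs h1.1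
    (sq_surj hs h2) h1.2 h2

/-- partial products of an element with characteristic polynomial Φ1^2 Φ2 Φ8 -/
def q8 : List (Fin 7 × Mat 7) := (beta% delta% lq260bf05212 fun a b c d e =>
 (c (d 1 (a (a 1<|a 0<|a 1<|a 0<|a 0<|a 0<|a 0<|b)<|a (a 0<|a 0<|a 1<|a 1<|a 0<|a 0<|a 0<|b)<|a (a 0<|a 1<|a 0<|a 1<|a 0<|a 0<|a 0<|b)<|a (a 0<|a 0<|a 0<|a 0<|a 1<|a 0<|a 0<|b)<|
 a (a 0<|a 0<|a 0<|a 0<|a 0<|a 1<|a 0<|b)<|a (a 0<|a (-1)<|a (-1)<|a (-1)<|a (-1)<|a (-1)<|a 0<|b)<|a (a 0<|a 1<|a 1<|a 1<|a 1<|a 1<|a 1<|b)<|b))<|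
 c (d 2 (a (a 1<|a 0<|a 1<|a 0<|a 0<|a 0<|a 0<|b)<|a (a 0<|a 1<|a 1<|a 1<|a 0<|a 0<|a 0<|b)<|a (a 0<|a 0<|a 0<|a 1<|a 0<|a 0<|a 0<|b)<|a (a 0<|a 0<|a 0<|a 0<|a 1<|a 0<|a 0<|b)<|
 a (a 0<|a 0<|a 0<|a 0<|a 0<|a 1<|a 0<|b)<|a (a 0<|a 0<|a (-1)<|a (-1)<|a (-1)<|a (-1)<|a 0<|b)<|a (a 0<|a 0<|a 1<|a 1<|a 1<|a 1<|a 1<|b)<|b))<|
 c (d 3 (a (a 1<|a 0<|a 0<|a 0<|a 0<|a 0<|a 0<|b)<|a (a 0<|a 1<|a 0<|a 1<|a 0<|a 0<|a 0<|b)<|a (a 0<|a 0<|a 1<|a 1<|a 0<|a 0<|a 0<|b)<|a (a 0<|a 0<|a 0<|a 0<|a 1<|a 0<|a 0<|b)<|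
 a (a 0<|a 0<|a 0<|a 0<|a 0<|a 1<|a 0<|b)<|a (a 0<|a 0<|a 0<|a (-1)<|a (-1)<|a (-1)<|a 0<|b)<|a (a 0<|a 0<|a 0<|a 1<|a 1<|a 1<|a 1<|b)<|b))<|
 c (d 4 (a (a 1<|a 0<|a 0<|a 0<|a 0<|a 0<|a 0<|b)<|a (a 0<|a 1<|a 0<|a 0<|a 0<|a 0<|a 0<|b)<|a (a 0<|a 0<|a 1<|a 0<|a 0<|a 0<|a 0<|b)<|a (a 0<|a 0<|a 0<|a 1<|a 1<|a 0<|a 0<|b)<|
 a (a 0<|a 0<|a 0<|a 0<|a 0<|a 1<|a 0<|b)<|a (a 0<|a 0<|a 0<|a 0<|a (-1)<|a (-1)<|a 0<|b)<|a (a 0<|a 0<|a 0<|a 0<|a 1<|a 1<|a 1<|b)<|b))<|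
 c (d 5 (a (a 1<|a 0<|a 0<|a 0<|a 0<|a 0<|a 0<|b)<|a (a 0<|a 1<|a 0<|a 0<|a 0<|a 0<|a 0<|b)<|a (a 0<|a 0<|a 1<|a 0<|a 0<|a 0<|a 0<|b)<|a (a 0<|a 0<|a 0<|a 1<|a 0<|a 0<|a 0<|b)<|
 a (a 0<|a 0<|a 0<|a 0<|a 1<|a 1<|a 0<|b)<|a (a 0<|a 0<|a 0<|a 0<|a 0<|a (-1)<|a 0<|b)<|a (a 0<|a 0<|a 0<|a 0<|a 0<|a 1<|a 1<|b)<|b))<|e))

theorem q8_ok : ChainOK Am q8 :=
  H129.ChainF.ok H129.ChainF.i7 H129.ChainF.m7 (H129.ChainF.c7 <| H129.ChainF.c7 <| H129.ChainF.c7 <| H129.ChainF.c7 <| H129.ChainF.c7 <| H129.ChainF.nil) (by decide +kernel)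

/-- coefficients of the functional, order 8 -/
def v8 : Fin 4 → Fin 7 → ℤ := (beta% delta% lq260bf05212 fun a b _ _ _ =>
 (a (a 1<|a 0<|a 0<|a 0<|a (-1)<|a 0<|a 1<|b)<|a (a 0<|a 1<|a 1<|a (-1)<|a 0<|a (-1)<|a 1<|b)<|
 a (a (-1)<|a 1<|a 1<|a 0<|a (-1)<|a 0<|a 0<|b)<|a (a (-1)<|a 0<|a 0<|a 1<|a 0<|a (-1)<|a 0<|b)<|b))

theorem e8 : EigOK (fun i j => hd q8 j i) c8 v8 ![1, 1, 0, 1, 0, 0, 0] :=
  H493.EigF.ok (H493.EigF.tt (hd q8) (H493.EigF.hM H129.ChainF.m7)) H493.EigF.r4 (H493.EigF.mc H493.EigF.r7 <| H493.EigF.mc H493.EigF.r7 <| H493.EigF.mc H493.EigF.r7 <| H493.EigF.mc H493.EigF.r7 <| H493.EigF.m0) H493.EigF.r7 (by decide +kernel)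

theorem f8 : ∀ m, ∑ j, vec chevE7 7 r0 j * hd q8 j m = vec chevE7 7 r0 m := by decide +kernel

theorem z8 : ∀ i, ∑ m, vec chevE7 7 r0 m * v8 i m = 0 := by decide +kernel

theorem rel_8_p {F : Type u} [Field F] [Finite F] {r s : ℕ} (hr : r.Prime) (hs : s.Prime)
    (h1 : phiC c8 (Nat.card F) 2 r) (h2 : s ∣ Nat.card F) : PG.Rel ↥(chevE7.group F) r s := by
  have := finW
  exact rel_p_of_eig hp CoxeterMatrix.E₇.toCoxeterSystem H129.TorusChar.invC_E7 (by norm_num)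
    (chain_rep hp CoxeterMatrix.E₇.toCoxeterSystem hA q8_ok) e8 (Or.inl (by decide +kernel)) r0_lt f8 z8 hr hs h1.1
    (sq_surj hs h2) h1.2 h2

/-- partial products of an element with characteristic polynomial Φ1 Φ2^2 Φ10 -/
def q10 : List (Fin 7 × Mat 7) := (beta% delta% lq260bf05212 fun a b c d e =>
 (c (d 1 (a (a 1<|a 0<|a 1<|a 0<|a 0<|a 0<|a 0<|b)<|a (a 0<|a 0<|a 1<|a 1<|a 0<|a 0<|a 0<|b)<|a (a 0<|a 1<|a 0<|a 1<|a 0<|a 0<|a 0<|b)<|a (a 0<|a 0<|a 0<|a 0<|a 1<|a 0<|a 0<|b)<|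
 a (a 0<|a 0<|a 0<|a 0<|a 0<|a 1<|a 0<|b)<|a (a 0<|a 0<|a 0<|a 0<|a 0<|a 0<|a 1<|b)<|a (a 0<|a (-1)<|a (-1)<|a (-1)<|a (-1)<|a (-1)<|a (-1)<|b)<|b))<|
 c (d 2 (a (a 1<|a 0<|a 1<|a 0<|a 0<|a 0<|a 0<|b)<|a (a 0<|a 1<|a 1<|a 1<|a 0<|a 0<|a 0<|b)<|a (a 0<|a 0<|a 0<|a 1<|a 0<|a 0<|a 0<|b)<|a (a 0<|a 0<|a 0<|a 0<|a 1<|a 0<|a 0<|b)<|
 a (a 0<|a 0<|a 0<|a 0<|a 0<|a 1<|a 0<|b)<|a (a 0<|a 0<|a 0<|a 0<|a 0<|a 0<|a 1<|b)<|a (a 0<|a 0<|a (-1)<|a (-1)<|a (-1)<|a (-1)<|a (-1)<|b)<|b))<|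
 c (d 3 (a (a 1<|a 0<|a 0<|a 0<|a 0<|a 0<|a 0<|b)<|a (a 0<|a 1<|a 0<|a 1<|a 0<|a 0<|a 0<|b)<|a (a 0<|a 0<|a 1<|a 1<|a 0<|a 0<|a 0<|b)<|a (a 0<|a 0<|a 0<|a 0<|a 1<|a 0<|a 0<|b)<|
 a (a 0<|a 0<|a 0<|a 0<|a 0<|a 1<|a 0<|b)<|a (a 0<|a 0<|a 0<|a 0<|a 0<|a 0<|a 1<|b)<|a (a 0<|a 0<|a 0<|a (-1)<|a (-1)<|a (-1)<|a (-1)<|b)<|b))<|
 c (d 4 (a (a 1<|a 0<|a 0<|a 0<|a 0<|a 0<|a 0<|b)<|a (a 0<|a 1<|a 0<|a 0<|a 0<|a 0<|a 0<|b)<|a (a 0<|a 0<|a 1<|a 0<|a 0<|a 0<|a 0<|b)<|a (a 0<|a 0<|a 0<|a 1<|a 1<|a 0<|a 0<|b)<|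
 a (a 0<|a 0<|a 0<|a 0<|a 0<|a 1<|a 0<|b)<|a (a 0<|a 0<|a 0<|a 0<|a 0<|a 0<|a 1<|b)<|a (a 0<|a 0<|a 0<|a 0<|a (-1)<|a (-1)<|a (-1)<|b)<|b))<|
 c (d 5 (a (a 1<|a 0<|a 0<|a 0<|a 0<|a 0<|a 0<|b)<|a (a 0<|a 1<|a 0<|a 0<|a 0<|a 0<|a 0<|b)<|a (a 0<|a 0<|a 1<|a 0<|a 0<|a 0<|a 0<|b)<|a (a 0<|a 0<|a 0<|a 1<|a 0<|a 0<|a 0<|b)<|
 a (a 0<|a 0<|a 0<|a 0<|a 1<|a 1<|a 0<|b)<|a (a 0<|a 0<|a 0<|a 0<|a 0<|a 0<|a 1<|b)<|a (a 0<|a 0<|a 0<|a 0<|a 0<|a (-1)<|a (-1)<|b)<|b))<|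
 c (d 6 (a (a 1<|a 0<|a 0<|a 0<|a 0<|a 0<|a 0<|b)<|a (a 0<|a 1<|a 0<|a 0<|a 0<|a 0<|a 0<|b)<|a (a 0<|a 0<|a 1<|a 0<|a 0<|a 0<|a 0<|b)<|a (a 0<|a 0<|a 0<|a 1<|a 0<|a 0<|a 0<|b)<|
 a (a 0<|a 0<|a 0<|a 0<|a 1<|a 0<|a 0<|b)<|a (a 0<|a 0<|a 0<|a 0<|a 0<|a 1<|a 1<|b)<|a (a 0<|a 0<|a 0<|a 0<|a 0<|a 0<|a (-1)<|b)<|b))<|e))

theorem q10_ok : ChainOK Am q10 :=
  H129.ChainF.ok H129.ChainF.i7 H129.ChainF.m7 (H129.ChainF.c7 <| H129.ChainF.c7 <| H129.ChainF.c7 <| H129.ChainF.c7 <| H129.ChainF.c7 <| H129.ChainF.c7 <| H129.ChainF.nil) (by decide +kernel)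

/-- coefficients of the functional, order 10 -/
def v10 : Fin 4 → Fin 7 → ℤ := (beta% delta% lq260bf05212 fun a b _ _ _ =>
 (a (a 0<|a 1<|a 1<|a (-1)<|a 0<|a 0<|a (-1)<|b)<|a (a (-1)<|a 0<|a 0<|a 1<|a (-1)<|a 0<|a 1<|b)<|
 a (a 0<|a 0<|a 0<|a 0<|a 1<|a (-1)<|a (-1)<|b)<|a (a (-1)<|a 0<|a 0<|a 0<|a 0<|a 1<|a 0<|b)<|b))

theorem e10 : EigOK (fun i j => hd q10 j i) c10 v10 ![0, 1, 0, 0, 0, 0, 0] :=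
  H493.EigF.ok (H493.EigF.tt (hd q10) (H493.EigF.hM H129.ChainF.m7)) H493.EigF.r4 (H493.EigF.mc H493.EigF.r7 <| H493.EigF.mc H493.EigF.r7 <| H493.EigF.mc H493.EigF.r7 <| H493.EigF.mc H493.EigF.r7 <| H493.EigF.m0) H493.EigF.r7 (by decide +kernel)

theorem f10 : ∀ m, ∑ j, vec chevE7 7 r0 j * hd q10 j m = vec chevE7 7 r0 m := by decide +kernel

theorem z10 : ∀ i, ∑ m, vec chevE7 7 r0 m * v10 i m = 0 := by decide +kernel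

theorem rel_10_p {F : Type u} [Field F] [Finite F] {r s : ℕ} (hr : r.Prime) (hs : s.Prime)
    (h1 : phiC c10 (Nat.card F) 2 r) (h2 : s ∣ Nat.card F) : PG.Rel ↥(chevE7.group F) r s := by
  have := finW
  exact rel_p_of_eig hp CoxeterMatrix.E₇.toCoxeterSystem H129.TorusChar.invC_E7 (by norm_num)
    (chain_rep hp CoxeterMatrix.E₇.toCoxeterSystem hA q10_ok) e10 (Or.inl (by decide +kernel)) r0_lt f10 z10 hr hs h1.1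
    (sq_surj hs h2) h1.2 h2

/-- partial products of an element with characteristic polynomial Φ1 Φ3 Φ12 -/
def q12 : List (Fin 7 × Mat 7) := (beta% delta% lq260bf05212 fun a b c d e =>
 (c (d 0 (a (a 0<|a 0<|a 1<|a 1<|a 1<|a 0<|a 0<|b)<|a (a 0<|a (-1)<|a 0<|a (-1)<|a (-1)<|a 0<|a 0<|b)<|a (a (-1)<|a 0<|a (-1)<|a (-1)<|a (-1)<|a 0<|a 0<|b)<|a (a 1<|a 1<|a 1<|a 1<|a 1<|a 0<|a 0<|b)<|
 a (a 0<|a 0<|a 0<|a 1<|a 1<|a 1<|a 0<|b)<|a (a 0<|a 0<|a 0<|a 0<|a (-1)<|a (-1)<|a 0<|b)<|a (a 0<|a 0<|a 0<|a 0<|a 1<|a 1<|a 1<|b)<|b))<|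
 c (d 4 (a (a 1<|a 0<|a 1<|a 1<|a 1<|a 0<|a 0<|b)<|a (a 0<|a (-1)<|a 0<|a (-1)<|a (-1)<|a 0<|a 0<|b)<|a (a 0<|a 0<|a (-1)<|a (-1)<|a (-1)<|a 0<|a 0<|b)<|a (a 0<|a 1<|a 1<|a 1<|a 1<|a 0<|a 0<|b)<|
 a (a 0<|a 0<|a 0<|a 1<|a 1<|a 1<|a 0<|b)<|a (a 0<|a 0<|a 0<|a 0<|a (-1)<|a (-1)<|a 0<|b)<|a (a 0<|a 0<|a 0<|a 0<|a 1<|a 1<|a 1<|b)<|b))<|
 c (d 3 (a (a 1<|a 0<|a 1<|a 1<|a 0<|a 0<|a 0<|b)<|a (a 0<|a (-1)<|a 0<|a (-1)<|a 0<|a 0<|a 0<|b)<|a (a 0<|a 0<|a (-1)<|a (-1)<|a 0<|a 0<|a 0<|b)<|a (a 0<|a 1<|a 1<|a 1<|a 0<|a 0<|a 0<|b)<|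
 a (a 0<|a 0<|a 0<|a 1<|a 1<|a 1<|a 0<|b)<|a (a 0<|a 0<|a 0<|a 0<|a 0<|a (-1)<|a 0<|b)<|a (a 0<|a 0<|a 0<|a 0<|a 0<|a 1<|a 1<|b)<|b))<|
 c (d 1 (a (a 1<|a 0<|a 1<|a 0<|a 0<|a 0<|a 0<|b)<|a (a 0<|a (-1)<|a 0<|a 0<|a 0<|a 0<|a 0<|b)<|a (a 0<|a 0<|a (-1)<|a 0<|a 0<|a 0<|a 0<|b)<|a (a 0<|a 1<|a 1<|a 1<|a 0<|a 0<|a 0<|b)<|
 a (a 0<|a 0<|a 0<|a 0<|a 1<|a 1<|a 0<|b)<|a (a 0<|a 0<|a 0<|a 0<|a 0<|a (-1)<|a 0<|b)<|a (a 0<|a 0<|a 0<|a 0<|a 0<|a 1<|a 1<|b)<|b))<|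
 c (d 2 (a (a 1<|a 0<|a 1<|a 0<|a 0<|a 0<|a 0<|b)<|a (a 0<|a 1<|a 0<|a 0<|a 0<|a 0<|a 0<|b)<|a (a 0<|a 0<|a (-1)<|a 0<|a 0<|a 0<|a 0<|b)<|a (a 0<|a 0<|a 1<|a 1<|a 0<|a 0<|a 0<|b)<|
 a (a 0<|a 0<|a 0<|a 0<|a 1<|a 1<|a 0<|b)<|a (a 0<|a 0<|a 0<|a 0<|a 0<|a (-1)<|a 0<|b)<|a (a 0<|a 0<|a 0<|a 0<|a 0<|a 1<|a 1<|b)<|b))<|
 c (d 5 (a (a 1<|a 0<|a 0<|a 0<|a 0<|a 0<|a 0<|b)<|a (a 0<|a 1<|a 0<|a 0<|a 0<|a 0<|a 0<|b)<|a (a 0<|a 0<|a 1<|a 0<|a 0<|a 0<|a 0<|b)<|a (a 0<|a 0<|a 0<|a 1<|a 0<|a 0<|a 0<|b)<|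
 a (a 0<|a 0<|a 0<|a 0<|a 1<|a 1<|a 0<|b)<|a (a 0<|a 0<|a 0<|a 0<|a 0<|a (-1)<|a 0<|b)<|a (a 0<|a 0<|a 0<|a 0<|a 0<|a 1<|a 1<|b)<|b))<|e))

theorem q12_ok : ChainOK Am q12 :=
  H129.ChainF.ok H129.ChainF.i7 H129.ChainF.m7 (H129.ChainF.c7 <| H129.ChainF.c7 <| H129.ChainF.c7 <| H129.ChainF.c7 <| H129.ChainF.c7 <| H129.ChainF.c7 <| H129.ChainF.nil) (by decide +kernel)

/-- coefficients of the functional, order 12 -/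
def v12 : Fin 4 → Fin 7 → ℤ := (beta% delta% lq260bf05212 fun a b _ _ _ =>
 (a (a 0<|a 0<|a 1<|a 0<|a (-1)<|a 1<|a (-1)<|b)<|a (a (-1)<|a 1<|a 1<|a 0<|a (-1)<|a 0<|a 0<|b)<|
 a (a 0<|a 1<|a 0<|a (-1)<|a 0<|a 0<|a 1<|b)<|a (a 0<|a (-1)<|a 0<|a 0<|a 0<|a 0<|a 1<|b)<|b))

theorem e12 : EigOK (fun i j => hd q12 j i) c12 v12 ![0, 0, 0, 0, 0, 1, 0] :=
  H493.EigF.ok (H493.EigF.tt (hd q12) (H493.EigF.hM H129.ChainF.m7)) H493.EigF.r4 (H493.EigF.mc H493.EigF.r7 <| H493.EigF.mc H493.EigF.r7 <| H493.EigF.mc H493.EigF.r7 <| H493.EigF.mc H493.EigF.r7 <| H493.EigF.m0) H493.EigF.r7 (by decide +kernel)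

theorem f12 : ∀ m, ∑ j, vec chevE7 7 92 j * hd q12 j m = vec chevE7 7 105 m := by decide +kernel

theorem g12 : ∀ m, ∑ j, vec chevE7 7 105 j * hd q12 j m = vec chevE7 7 113 m := by decide +kernel

theorem h12 : ∀ m, ∑ j, vec chevE7 7 113 j * hd q12 j m = vec chevE7 7 92 m := by decide +kernel

theorem z12 : ∀ i, ∑ m, vec chevE7 7 92 m * v12 i m = 0 := by decide +kernel

theorem y12 : ∀ i, ∑ m, vec chevE7 7 105 m * v12 i m = 0 := by decide +kernel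

theorem x12 : ∀ i, ∑ m, vec chevE7 7 113 m * v12 i m = 0 := by decide +kernel

theorem k12_0 : 105 ≠ 92 ∧ 105 ≠ chevE7.neg 92 ∧ chevE7.commTerms 92 105 = [] := by decide +kernel

theorem k12_1 : 113 ≠ 92 ∧ 113 ≠ chevE7.neg 92 ∧ chevE7.commTerms 92 113 = [] := by decide +kernel

theorem k12_2 : 113 ≠ 105 ∧ 113 ≠ chevE7.neg 105 ∧ chevE7.commTerms 105 113 = [] := by decide +kernel

theorem rel_12_p {F : Type u} [Field F] [Finite F] {r s : ℕ} (hr : r.Prime) (hs : s.Prime)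
    (h1 : phiC c12 (Nat.card F) 2 r) (h2 : s ∣ Nat.card F) : PG.Rel ↥(chevE7.group F) r s := by
  have := finW
  exact rel_p_of_orb hp CoxeterMatrix.E₇.toCoxeterSystem H129.TorusChar.invC_E7 (by norm_num)
    (chain_rep hp CoxeterMatrix.E₇.toCoxeterSystem hA q12_ok) e12 (Or.inl (by decide +kernel))
    (r₀ := 92) (r₁ := 105) (r₂ := 113) (by decide +kernel) (by decide +kernel) (by decide +kernel)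
    f12 g12 h12 k12_0 k12_1 k12_2 (L := ![-1, 1, 0, 0, 0, 0, 0]) (by decide +kernel) (by decide +kernel) (by decide +kernel)
    z12 y12 x12 hr hs h1.1 (sq_surj hs h2) h1.2 h2

end Cfsg.Agent.R2.Spec.EE.CertE7
end
end

-- part: R2/Spec/EE/CertTab
section
set_option linter.all false
private noncomputable def lq26e6736667 {T : Sort _} (f :
    type_of% (@_root_.Matrix.vecCons.{0}) →
    type_of% (@_root_.Matrix.vecEmpty.{0}) →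
    type_of% (@_root_.Prod.mk.{0, 0}) →
    type_of% (@_root_.List.cons.{0} (Prod Nat Nat)) →
    type_of% (@_root_.List.cons.{0}) →
    type_of% (@_root_.List.nil.{0}) → T) : T :=
  f (@_root_.Matrix.vecCons.{0}) (@_root_.Matrix.vecEmpty.{0}) (@_root_.Prod.mk.{0, 0}) (@_root_.List.cons.{0} (Prod Nat Nat)) (@_root_.List.cons.{0}) (@_root_.List.nil.{0})

-- part: R2/Spec/EE/CertE8D
section
/-!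
# Adjacency of the prime divisors of two cyclotomic values through one torus, type E8, part 4 (helper2)

Chains, eigenvectors and functionals as in `H168/ExcPairE8.lean`.
-/

set_option autoImplicit false

namespace Cfsg.Agent.R2.Spec.EE.CertE8

open Cfsg.Agent.H129.WData Cfsg.Agent.ChevalleyStructure.CoxeterGeomTypes Cfsg.Agent.Nodes.RGDChev
open Cfsg.Lie Cfsg.Lie.ChevalleyDatum
open Cfsg.Agent Cfsg.Agent.H493 Cfsg.Agent.H493.PGTorus Cfsg.Agent.H493.PGCyc Cfsg.Agent.H493.PGE8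
open Cfsg.Agent.H168.ExcAdj

universe u

/-- partial products of an element with characteristic polynomial Φ6 Φ18 -/
def ch6_18 : List (Fin 8 × Mat 8) := (beta% delta% lq26e6736667 fun a b c _ e g =>
 (e (c 4 (a (a 0<|a 0<|a 0<|a 0<|a 0<|a 1<|a 0<|a 0<|b)<|a (a (-1)<|a (-1)<|a (-2)<|a (-3)<|a (-3)<|a (-2)<|a (-1)<|a (-1)<|b)<|a (a 0<|a 0<|a 0<|a 0<|a 0<|a 0<|a 1<|a 1<|b)<|
 a (a 0<|a 1<|a 1<|a 2<|a 2<|a 1<|a 0<|a 0<|b)<|a (a 1<|a 0<|a 0<|a 0<|a 0<|a 0<|a 0<|a 0<|b)<|a (a 0<|a 0<|a 1<|a 0<|a 0<|a 0<|a 0<|a 0<|b)<|a (a 0<|a 0<|a 0<|a 1<|a 0<|a 0<|a 0<|a 0<|b)<|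
 a (a 0<|a 0<|a 0<|a 0<|a 1<|a 1<|a 1<|a 0<|b)<|b))<|
 e (c 3 (a (a 0<|a 0<|a 0<|a 0<|a 1<|a 1<|a 0<|a 0<|b)<|a (a (-1)<|a (-1)<|a (-2)<|a (-3)<|a (-2)<|a (-2)<|a (-1)<|a (-1)<|b)<|a (a 0<|a 0<|a 0<|a 0<|a 0<|a 0<|a 1<|a 1<|b)<|
 a (a 0<|a 1<|a 1<|a 2<|a 1<|a 1<|a 0<|a 0<|b)<|a (a 1<|a 0<|a 0<|a 0<|a 0<|a 0<|a 0<|a 0<|b)<|a (a 0<|a 0<|a 1<|a 0<|a 0<|a 0<|a 0<|a 0<|b)<|a (a 0<|a 0<|a 0<|a 1<|a 1<|a 0<|a 0<|a 0<|b)<|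
 a (a 0<|a 0<|a 0<|a 0<|a 0<|a 1<|a 1<|a 0<|b)<|b))<|
 e (c 2 (a (a 0<|a 0<|a 0<|a 1<|a 1<|a 1<|a 0<|a 0<|b)<|a (a (-1)<|a (-1)<|a (-2)<|a (-2)<|a (-2)<|a (-2)<|a (-1)<|a (-1)<|b)<|a (a 0<|a 0<|a 0<|a 0<|a 0<|a 0<|a 1<|a 1<|b)<|
 a (a 0<|a 1<|a 1<|a 1<|a 1<|a 1<|a 0<|a 0<|b)<|a (a 1<|a 0<|a 0<|a 0<|a 0<|a 0<|a 0<|a 0<|b)<|a (a 0<|a 0<|a 1<|a 1<|a 0<|a 0<|a 0<|a 0<|b)<|a (a 0<|a 0<|a 0<|a 0<|a 1<|a 0<|a 0<|a 0<|b)<|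
 a (a 0<|a 0<|a 0<|a 0<|a 0<|a 1<|a 1<|a 0<|b)<|b))<|
 e (c 0 (a (a 0<|a 0<|a 1<|a 1<|a 1<|a 1<|a 0<|a 0<|b)<|a (a (-1)<|a (-1)<|a (-1)<|a (-2)<|a (-2)<|a (-2)<|a (-1)<|a (-1)<|b)<|a (a 0<|a 0<|a 0<|a 0<|a 0<|a 0<|a 1<|a 1<|b)<|
 a (a 0<|a 1<|a 0<|a 1<|a 1<|a 1<|a 0<|a 0<|b)<|a (a 1<|a 0<|a 1<|a 0<|a 0<|a 0<|a 0<|a 0<|b)<|a (a 0<|a 0<|a 0<|a 1<|a 0<|a 0<|a 0<|a 0<|b)<|a (a 0<|a 0<|a 0<|a 0<|a 1<|a 0<|a 0<|a 0<|b)<|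
 a (a 0<|a 0<|a 0<|a 0<|a 0<|a 1<|a 1<|a 0<|b)<|b))<|
 e (c 5 (a (a 1<|a 0<|a 1<|a 1<|a 1<|a 1<|a 0<|a 0<|b)<|a (a 0<|a (-1)<|a (-1)<|a (-2)<|a (-2)<|a (-2)<|a (-1)<|a (-1)<|b)<|a (a 0<|a 0<|a 0<|a 0<|a 0<|a 0<|a 1<|a 1<|b)<|
 a (a 0<|a 1<|a 0<|a 1<|a 1<|a 1<|a 0<|a 0<|b)<|a (a 0<|a 0<|a 1<|a 0<|a 0<|a 0<|a 0<|a 0<|b)<|a (a 0<|a 0<|a 0<|a 1<|a 0<|a 0<|a 0<|a 0<|b)<|a (a 0<|a 0<|a 0<|a 0<|a 1<|a 0<|a 0<|a 0<|b)<|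
 a (a 0<|a 0<|a 0<|a 0<|a 0<|a 1<|a 1<|a 0<|b)<|b))<|
 e (c 4 (a (a 1<|a 0<|a 1<|a 1<|a 1<|a 0<|a 0<|a 0<|b)<|a (a 0<|a (-1)<|a (-1)<|a (-2)<|a (-2)<|a (-1)<|a (-1)<|a (-1)<|b)<|a (a 0<|a 0<|a 0<|a 0<|a 0<|a 1<|a 1<|a 1<|b)<|
 a (a 0<|a 1<|a 0<|a 1<|a 1<|a 0<|a 0<|a 0<|b)<|a (a 0<|a 0<|a 1<|a 0<|a 0<|a 0<|a 0<|a 0<|b)<|a (a 0<|a 0<|a 0<|a 1<|a 0<|a 0<|a 0<|a 0<|b)<|a (a 0<|a 0<|a 0<|a 0<|a 1<|a 1<|a 0<|a 0<|b)<|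
 a (a 0<|a 0<|a 0<|a 0<|a 0<|a 0<|a 1<|a 0<|b)<|b))<|
 e (c 3 (a (a 1<|a 0<|a 1<|a 1<|a 0<|a 0<|a 0<|a 0<|b)<|a (a 0<|a (-1)<|a (-1)<|a (-2)<|a (-1)<|a (-1)<|a (-1)<|a (-1)<|b)<|a (a 0<|a 0<|a 0<|a 0<|a 1<|a 1<|a 1<|a 1<|b)<|
 a (a 0<|a 1<|a 0<|a 1<|a 0<|a 0<|a 0<|a 0<|b)<|a (a 0<|a 0<|a 1<|a 0<|a 0<|a 0<|a 0<|a 0<|b)<|a (a 0<|a 0<|a 0<|a 1<|a 1<|a 0<|a 0<|a 0<|b)<|a (a 0<|a 0<|a 0<|a 0<|a 0<|a 1<|a 0<|a 0<|b)<|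
 a (a 0<|a 0<|a 0<|a 0<|a 0<|a 0<|a 1<|a 0<|b)<|b))<|
 e (c 2 (a (a 1<|a 0<|a 1<|a 0<|a 0<|a 0<|a 0<|a 0<|b)<|a (a 0<|a (-1)<|a (-1)<|a (-1)<|a (-1)<|a (-1)<|a (-1)<|a (-1)<|b)<|a (a 0<|a 0<|a 0<|a 1<|a 1<|a 1<|a 1<|a 1<|b)<|
 a (a 0<|a 1<|a 0<|a 0<|a 0<|a 0<|a 0<|a 0<|b)<|a (a 0<|a 0<|a 1<|a 1<|a 0<|a 0<|a 0<|a 0<|b)<|a (a 0<|a 0<|a 0<|a 0<|a 1<|a 0<|a 0<|a 0<|b)<|a (a 0<|a 0<|a 0<|a 0<|a 0<|a 1<|a 0<|a 0<|b)<|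
 a (a 0<|a 0<|a 0<|a 0<|a 0<|a 0<|a 1<|a 0<|b)<|b))<|
 e (c 7 (a (a 1<|a 0<|a 0<|a 0<|a 0<|a 0<|a 0<|a 0<|b)<|a (a 0<|a (-1)<|a 0<|a (-1)<|a (-1)<|a (-1)<|a (-1)<|a (-1)<|b)<|a (a 0<|a 0<|a 1<|a 1<|a 1<|a 1<|a 1<|a 1<|b)<|
 a (a 0<|a 1<|a 0<|a 0<|a 0<|a 0<|a 0<|a 0<|b)<|a (a 0<|a 0<|a 0<|a 1<|a 0<|a 0<|a 0<|a 0<|b)<|a (a 0<|a 0<|a 0<|a 0<|a 1<|a 0<|a 0<|a 0<|b)<|a (a 0<|a 0<|a 0<|a 0<|a 0<|a 1<|a 0<|a 0<|b)<|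
 a (a 0<|a 0<|a 0<|a 0<|a 0<|a 0<|a 1<|a 0<|b)<|b))<|
 e (c 6 (a (a 1<|a 0<|a 0<|a 0<|a 0<|a 0<|a 0<|a 0<|b)<|a (a 0<|a (-1)<|a 0<|a (-1)<|a (-1)<|a (-1)<|a (-1)<|a 0<|b)<|a (a 0<|a 0<|a 1<|a 1<|a 1<|a 1<|a 1<|a 0<|b)<|
 a (a 0<|a 1<|a 0<|a 0<|a 0<|a 0<|a 0<|a 0<|b)<|a (a 0<|a 0<|a 0<|a 1<|a 0<|a 0<|a 0<|a 0<|b)<|a (a 0<|a 0<|a 0<|a 0<|a 1<|a 0<|a 0<|a 0<|b)<|a (a 0<|a 0<|a 0<|a 0<|a 0<|a 1<|a 0<|a 0<|b)<|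
 a (a 0<|a 0<|a 0<|a 0<|a 0<|a 0<|a 1<|a 1<|b)<|b))<|
 e (c 5 (a (a 1<|a 0<|a 0<|a 0<|a 0<|a 0<|a 0<|a 0<|b)<|a (a 0<|a (-1)<|a 0<|a (-1)<|a (-1)<|a (-1)<|a 0<|a 0<|b)<|a (a 0<|a 0<|a 1<|a 1<|a 1<|a 1<|a 0<|a 0<|b)<|
 a (a 0<|a 1<|a 0<|a 0<|a 0<|a 0<|a 0<|a 0<|b)<|a (a 0<|a 0<|a 0<|a 1<|a 0<|a 0<|a 0<|a 0<|b)<|a (a 0<|a 0<|a 0<|a 0<|a 1<|a 0<|a 0<|a 0<|b)<|a (a 0<|a 0<|a 0<|a 0<|a 0<|a 1<|a 1<|a 0<|b)<|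
 a (a 0<|a 0<|a 0<|a 0<|a 0<|a 0<|a 0<|a 1<|b)<|b))<|
 e (c 4 (a (a 1<|a 0<|a 0<|a 0<|a 0<|a 0<|a 0<|a 0<|b)<|a (a 0<|a (-1)<|a 0<|a (-1)<|a (-1)<|a 0<|a 0<|a 0<|b)<|a (a 0<|a 0<|a 1<|a 1<|a 1<|a 0<|a 0<|a 0<|b)<|
 a (a 0<|a 1<|a 0<|a 0<|a 0<|a 0<|a 0<|a 0<|b)<|a (a 0<|a 0<|a 0<|a 1<|a 0<|a 0<|a 0<|a 0<|b)<|a (a 0<|a 0<|a 0<|a 0<|a 1<|a 1<|a 0<|a 0<|b)<|a (a 0<|a 0<|a 0<|a 0<|a 0<|a 0<|a 1<|a 0<|b)<|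
 a (a 0<|a 0<|a 0<|a 0<|a 0<|a 0<|a 0<|a 1<|b)<|b))<|
 e (c 3 (a (a 1<|a 0<|a 0<|a 0<|a 0<|a 0<|a 0<|a 0<|b)<|a (a 0<|a (-1)<|a 0<|a (-1)<|a 0<|a 0<|a 0<|a 0<|b)<|a (a 0<|a 0<|a 1<|a 1<|a 0<|a 0<|a 0<|a 0<|b)<|
 a (a 0<|a 1<|a 0<|a 0<|a 0<|a 0<|a 0<|a 0<|b)<|a (a 0<|a 0<|a 0<|a 1<|a 1<|a 0<|a 0<|a 0<|b)<|a (a 0<|a 0<|a 0<|a 0<|a 0<|a 1<|a 0<|a 0<|b)<|a (a 0<|a 0<|a 0<|a 0<|a 0<|a 0<|a 1<|a 0<|b)<|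
 a (a 0<|a 0<|a 0<|a 0<|a 0<|a 0<|a 0<|a 1<|b)<|b))<|
 e (c 1 (a (a 1<|a 0<|a 0<|a 0<|a 0<|a 0<|a 0<|a 0<|b)<|a (a 0<|a (-1)<|a 0<|a 0<|a 0<|a 0<|a 0<|a 0<|b)<|a (a 0<|a 0<|a 1<|a 0<|a 0<|a 0<|a 0<|a 0<|b)<|
 a (a 0<|a 1<|a 0<|a 1<|a 0<|a 0<|a 0<|a 0<|b)<|a (a 0<|a 0<|a 0<|a 0<|a 1<|a 0<|a 0<|a 0<|b)<|a (a 0<|a 0<|a 0<|a 0<|a 0<|a 1<|a 0<|a 0<|b)<|a (a 0<|a 0<|a 0<|a 0<|a 0<|a 0<|a 1<|a 0<|b)<|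
 a (a 0<|a 0<|a 0<|a 0<|a 0<|a 0<|a 0<|a 1<|b)<|b))<|g))

theorem ch6_18_ok : ChainOK Am ch6_18 :=
  H129.ChainF.ok H129.ChainF.i8 H129.ChainF.m8 (H129.ChainF.c8 <| H129.ChainF.c8 <| H129.ChainF.c8 <| H129.ChainF.c8 <| H129.ChainF.c8 <| H129.ChainF.c8 <| H129.ChainF.c8 <| H129.ChainF.c8 <| H129.ChainF.c8 <| H129.ChainF.c8 <| H129.ChainF.c8 <| H129.ChainF.c8 <| H129.ChainF.c8 <| H129.ChainF.c8 <| H129.ChainF.nil) (by decide +kernel)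

/-- coefficients of the eigenvector, order 6 -/
def v6_18_at6 : Fin 2 → Fin 8 → ℤ := (beta% delta% lq26e6736667 fun a b _ _ _ _ =>
 (a (a 1<|a 1<|a 1<|a 1<|a 1<|a 1<|a 0<|a 0<|b)<|a (a 0<|a 0<|a 0<|a 1<|a 1<|a 0<|a 0<|a 0<|b)<|b))

theorem e6_18_at6 : EigOK (hd ch6_18) c6 v6_18_at6 ![1, 0, 0, 0, 0, 0, 0, 0] :=
  H493.EigF.ok (H493.EigF.hT H493.EigF.t8) H493.EigF.r2 (H493.EigF.mc H493.EigF.r8 <| H493.EigF.mc H493.EigF.r8 <| H493.EigF.m0) H493.EigF.r8 (by decide +kernel)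

/-- coefficients of the eigenvector, order 18 -/
def v6_18_at18 : Fin 6 → Fin 8 → ℤ := (beta% delta% lq26e6736667 fun a b _ _ _ _ =>
 (a (a 0<|a (-1)<|a (-1)<|a (-1)<|a (-1)<|a 0<|a 0<|a (-1)<|b)<|
 a (a 0<|a 0<|a (-1)<|a (-1)<|a 0<|a 0<|a 1<|a 1<|b)<|a (a 0<|a 0<|a 1<|a 0<|a 0<|a (-1)<|a (-1)<|a 0<|b)<|a (a (-1)<|a 0<|a 0<|a 0<|a 0<|a 0<|a (-1)<|a 0<|b)<|
 a (a 0<|a (-1)<|a (-1)<|a (-1)<|a (-2)<|a (-1)<|a (-1)<|a (-1)<|b)<|a (a 0<|a 0<|a (-1)<|a (-1)<|a 0<|a 0<|a 1<|a 0<|b)<|b))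

theorem e6_18_at18 : EigOK (hd ch6_18) c18 v6_18_at18 ![0, -1, 1, -1, 0, 1, 0, 0] :=
  H493.EigF.ok (H493.EigF.hT H493.EigF.t8) H493.EigF.r6 (H493.EigF.mc H493.EigF.r8 <| H493.EigF.mc H493.EigF.r8 <| H493.EigF.mc H493.EigF.r8 <| H493.EigF.mc H493.EigF.r8 <| H493.EigF.mc H493.EigF.r8 <| H493.EigF.mc H493.EigF.r8 <| H493.EigF.m0) H493.EigF.r8 (by decide +kernel)

theorem rel_18_6 {F : Type u} [Field F] [Finite F] {r s : ℕ} (hr : r.Prime) (hs : s.Prime) (hrs : r ≠ s)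
    (h1 : phiC c18 (Nat.card F) 1 r) (h2 : phiC c6 (Nat.card F) 1 s) :
    PG.Rel ↥(chevE8.group F) r s := by
  have := finW
  exact rel_of_eig hp CoxeterMatrix.E₈.toCoxeterSystem H129.TorusChar.invC_E8 one_ne_zero
    (chain_rep hp CoxeterMatrix.E₈.toCoxeterSystem hA ch6_18_ok) e6_18_at18 e6_18_at6 hr hs hrs h1.1 h2.1 h1.2 h2.2

/-- partial products of an element with characteristic polynomial Φ3 Φ9 -/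
def ch3_9 : List (Fin 8 × Mat 8) := (beta% delta% lq26e6736667 fun a b c _ e g =>
 (e (c 1 (a (a (-1)<|a 0<|a (-1)<|a (-1)<|a 0<|a 0<|a 0<|a 0<|b)<|a (a 0<|a 0<|a 1<|a 1<|a 1<|a 1<|a 1<|a 1<|b)<|a (a 0<|a (-1)<|a (-1)<|a (-1)<|a (-1)<|a 0<|a 0<|a 0<|b)<|
 a (a 1<|a 2<|a 2<|a 3<|a 2<|a 1<|a 1<|a 0<|b)<|a (a (-1)<|a (-2)<|a (-2)<|a (-4)<|a (-3)<|a (-2)<|a (-2)<|a (-1)<|b)<|a (a 0<|a 0<|a 0<|a 1<|a 1<|a 0<|a 0<|a 0<|b)<|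
 a (a 1<|a 1<|a 1<|a 1<|a 1<|a 1<|a 1<|a 1<|b)<|a (a 0<|a 1<|a 1<|a 2<|a 1<|a 1<|a 0<|a 0<|b)<|b))<|
 e (c 3 (a (a (-1)<|a (-1)<|a (-1)<|a (-1)<|a 0<|a 0<|a 0<|a 0<|b)<|a (a 0<|a 1<|a 1<|a 1<|a 1<|a 1<|a 1<|a 1<|b)<|a (a 0<|a 0<|a (-1)<|a (-1)<|a (-1)<|a 0<|a 0<|a 0<|b)<|
 a (a 1<|a 1<|a 2<|a 3<|a 2<|a 1<|a 1<|a 0<|b)<|a (a (-1)<|a (-2)<|a (-2)<|a (-4)<|a (-3)<|a (-2)<|a (-2)<|a (-1)<|b)<|a (a 0<|a 1<|a 0<|a 1<|a 1<|a 0<|a 0<|a 0<|b)<|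
 a (a 1<|a 0<|a 1<|a 1<|a 1<|a 1<|a 1<|a 1<|b)<|a (a 0<|a 1<|a 1<|a 2<|a 1<|a 1<|a 0<|a 0<|b)<|b))<|
 e (c 1 (a (a (-1)<|a (-1)<|a (-1)<|a (-1)<|a 0<|a 0<|a 0<|a 0<|b)<|a (a 0<|a 1<|a 1<|a 2<|a 1<|a 1<|a 1<|a 1<|b)<|a (a 0<|a 0<|a (-1)<|a (-1)<|a (-1)<|a 0<|a 0<|a 0<|b)<|
 a (a 1<|a 1<|a 2<|a 2<|a 2<|a 1<|a 1<|a 0<|b)<|a (a (-1)<|a (-2)<|a (-2)<|a (-3)<|a (-3)<|a (-2)<|a (-2)<|a (-1)<|b)<|a (a 0<|a 1<|a 0<|a 1<|a 1<|a 0<|a 0<|a 0<|b)<|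
 a (a 1<|a 0<|a 1<|a 1<|a 1<|a 1<|a 1<|a 1<|b)<|a (a 0<|a 1<|a 1<|a 1<|a 1<|a 1<|a 0<|a 0<|b)<|b))<|
 e (c 2 (a (a (-1)<|a 0<|a (-1)<|a (-1)<|a 0<|a 0<|a 0<|a 0<|b)<|a (a 0<|a 1<|a 1<|a 2<|a 1<|a 1<|a 1<|a 1<|b)<|a (a 0<|a (-1)<|a (-1)<|a (-1)<|a (-1)<|a 0<|a 0<|a 0<|b)<|
 a (a 1<|a 1<|a 2<|a 2<|a 2<|a 1<|a 1<|a 0<|b)<|a (a (-1)<|a (-1)<|a (-2)<|a (-3)<|a (-3)<|a (-2)<|a (-2)<|a (-1)<|b)<|a (a 0<|a 0<|a 0<|a 1<|a 1<|a 0<|a 0<|a 0<|b)<|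
 a (a 1<|a 1<|a 1<|a 1<|a 1<|a 1<|a 1<|a 1<|b)<|a (a 0<|a 0<|a 1<|a 1<|a 1<|a 1<|a 0<|a 0<|b)<|b))<|
 e (c 0 (a (a (-1)<|a 0<|a (-1)<|a (-1)<|a 0<|a 0<|a 0<|a 0<|b)<|a (a 0<|a 1<|a 1<|a 2<|a 1<|a 1<|a 1<|a 1<|b)<|a (a 0<|a (-1)<|a 0<|a (-1)<|a (-1)<|a 0<|a 0<|a 0<|b)<|
 a (a 1<|a 1<|a 1<|a 2<|a 2<|a 1<|a 1<|a 0<|b)<|a (a (-1)<|a (-1)<|a (-2)<|a (-3)<|a (-3)<|a (-2)<|a (-2)<|a (-1)<|b)<|a (a 0<|a 0<|a 1<|a 1<|a 1<|a 0<|a 0<|a 0<|b)<|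
 a (a 1<|a 1<|a 1<|a 1<|a 1<|a 1<|a 1<|a 1<|b)<|a (a 0<|a 0<|a 0<|a 1<|a 1<|a 1<|a 0<|a 0<|b)<|b))<|
 e (c 3 (a (a 0<|a 0<|a (-1)<|a (-1)<|a 0<|a 0<|a 0<|a 0<|b)<|a (a 1<|a 1<|a 1<|a 2<|a 1<|a 1<|a 1<|a 1<|b)<|a (a 0<|a (-1)<|a 0<|a (-1)<|a (-1)<|a 0<|a 0<|a 0<|b)<|
 a (a 0<|a 1<|a 1<|a 2<|a 2<|a 1<|a 1<|a 0<|b)<|a (a (-1)<|a (-1)<|a (-2)<|a (-3)<|a (-3)<|a (-2)<|a (-2)<|a (-1)<|b)<|a (a 1<|a 0<|a 1<|a 1<|a 1<|a 0<|a 0<|a 0<|b)<|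
 a (a 0<|a 1<|a 1<|a 1<|a 1<|a 1<|a 1<|a 1<|b)<|a (a 0<|a 0<|a 0<|a 1<|a 1<|a 1<|a 0<|a 0<|b)<|b))<|
 e (c 2 (a (a 0<|a 0<|a (-1)<|a 0<|a 0<|a 0<|a 0<|a 0<|b)<|a (a 1<|a 1<|a 1<|a 1<|a 1<|a 1<|a 1<|a 1<|b)<|a (a 0<|a (-1)<|a 0<|a (-1)<|a (-1)<|a 0<|a 0<|a 0<|b)<|
 a (a 0<|a 1<|a 1<|a 2<|a 2<|a 1<|a 1<|a 0<|b)<|a (a (-1)<|a (-1)<|a (-2)<|a (-3)<|a (-3)<|a (-2)<|a (-2)<|a (-1)<|b)<|a (a 1<|a 0<|a 1<|a 1<|a 1<|a 0<|a 0<|a 0<|b)<|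
 a (a 0<|a 1<|a 1<|a 2<|a 1<|a 1<|a 1<|a 1<|b)<|a (a 0<|a 0<|a 0<|a 0<|a 1<|a 1<|a 0<|a 0<|b)<|b))<|
 e (c 4 (a (a 0<|a 0<|a 1<|a 0<|a 0<|a 0<|a 0<|a 0<|b)<|a (a 1<|a 1<|a 1<|a 1<|a 1<|a 1<|a 1<|a 1<|b)<|a (a 0<|a (-1)<|a (-1)<|a (-1)<|a (-1)<|a 0<|a 0<|a 0<|b)<|
 a (a 0<|a 1<|a 1<|a 2<|a 2<|a 1<|a 1<|a 0<|b)<|a (a (-1)<|a (-1)<|a (-2)<|a (-3)<|a (-3)<|a (-2)<|a (-2)<|a (-1)<|b)<|a (a 1<|a 0<|a 1<|a 1<|a 1<|a 0<|a 0<|a 0<|b)<|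
 a (a 0<|a 1<|a 1<|a 2<|a 1<|a 1<|a 1<|a 1<|b)<|a (a 0<|a 0<|a 0<|a 0<|a 1<|a 1<|a 0<|a 0<|b)<|b))<|
 e (c 3 (a (a 0<|a 0<|a 1<|a 0<|a 0<|a 0<|a 0<|a 0<|b)<|a (a 1<|a 1<|a 1<|a 1<|a 1<|a 1<|a 1<|a 1<|b)<|a (a 0<|a (-1)<|a (-1)<|a (-1)<|a 0<|a 0<|a 0<|a 0<|b)<|
 a (a 0<|a 1<|a 1<|a 2<|a 1<|a 1<|a 1<|a 0<|b)<|a (a (-1)<|a (-1)<|a (-2)<|a (-3)<|a (-2)<|a (-2)<|a (-2)<|a (-1)<|b)<|a (a 1<|a 0<|a 1<|a 1<|a 0<|a 0<|a 0<|a 0<|b)<|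
 a (a 0<|a 1<|a 1<|a 2<|a 2<|a 1<|a 1<|a 1<|b)<|a (a 0<|a 0<|a 0<|a 0<|a 0<|a 1<|a 0<|a 0<|b)<|b))<|
 e (c 1 (a (a 0<|a 0<|a 1<|a 1<|a 0<|a 0<|a 0<|a 0<|b)<|a (a 1<|a 1<|a 1<|a 2<|a 1<|a 1<|a 1<|a 1<|b)<|a (a 0<|a (-1)<|a (-1)<|a (-1)<|a 0<|a 0<|a 0<|a 0<|b)<|
 a (a 0<|a 1<|a 1<|a 1<|a 1<|a 1<|a 1<|a 0<|b)<|a (a (-1)<|a (-1)<|a (-2)<|a (-2)<|a (-2)<|a (-2)<|a (-2)<|a (-1)<|b)<|a (a 1<|a 0<|a 1<|a 0<|a 0<|a 0<|a 0<|a 0<|b)<|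
 a (a 0<|a 1<|a 1<|a 2<|a 2<|a 1<|a 1<|a 1<|b)<|a (a 0<|a 0<|a 0<|a 0<|a 0<|a 1<|a 0<|a 0<|b)<|b))<|
 e (c 2 (a (a 0<|a 1<|a 1<|a 1<|a 0<|a 0<|a 0<|a 0<|b)<|a (a 1<|a 1<|a 1<|a 2<|a 1<|a 1<|a 1<|a 1<|b)<|a (a 0<|a 0<|a (-1)<|a (-1)<|a 0<|a 0<|a 0<|a 0<|b)<|
 a (a 0<|a 0<|a 1<|a 1<|a 1<|a 1<|a 1<|a 0<|b)<|a (a (-1)<|a (-1)<|a (-2)<|a (-2)<|a (-2)<|a (-2)<|a (-2)<|a (-1)<|b)<|a (a 1<|a 0<|a 1<|a 0<|a 0<|a 0<|a 0<|a 0<|b)<|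
 a (a 0<|a 1<|a 1<|a 2<|a 2<|a 1<|a 1<|a 1<|b)<|a (a 0<|a 0<|a 0<|a 0<|a 0<|a 1<|a 0<|a 0<|b)<|b))<|
 e (c 3 (a (a 0<|a 1<|a 0<|a 1<|a 0<|a 0<|a 0<|a 0<|b)<|a (a 1<|a 1<|a 2<|a 2<|a 1<|a 1<|a 1<|a 1<|b)<|a (a 0<|a 0<|a 0<|a (-1)<|a 0<|a 0<|a 0<|a 0<|b)<|
 a (a 0<|a 0<|a 0<|a 1<|a 1<|a 1<|a 1<|a 0<|b)<|a (a (-1)<|a (-1)<|a (-1)<|a (-2)<|a (-2)<|a (-2)<|a (-2)<|a (-1)<|b)<|a (a 1<|a 0<|a 0<|a 0<|a 0<|a 0<|a 0<|a 0<|b)<|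
 a (a 0<|a 1<|a 1<|a 2<|a 2<|a 1<|a 1<|a 1<|b)<|a (a 0<|a 0<|a 0<|a 0<|a 0<|a 1<|a 0<|a 0<|b)<|b))<|
 e (c 6 (a (a 0<|a 1<|a 0<|a 0<|a 0<|a 0<|a 0<|a 0<|b)<|a (a 1<|a 1<|a 2<|a 2<|a 1<|a 1<|a 1<|a 1<|b)<|a (a 0<|a 0<|a 0<|a 1<|a 0<|a 0<|a 0<|a 0<|b)<|
 a (a 0<|a 0<|a 0<|a 0<|a 1<|a 1<|a 1<|a 0<|b)<|a (a (-1)<|a (-1)<|a (-1)<|a (-2)<|a (-2)<|a (-2)<|a (-2)<|a (-1)<|b)<|a (a 1<|a 0<|a 0<|a 0<|a 0<|a 0<|a 0<|a 0<|b)<|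
 a (a 0<|a 1<|a 1<|a 2<|a 2<|a 1<|a 1<|a 1<|b)<|a (a 0<|a 0<|a 0<|a 0<|a 0<|a 1<|a 0<|a 0<|b)<|b))<|
 e (c 5 (a (a 0<|a 1<|a 0<|a 0<|a 0<|a 0<|a 0<|a 0<|b)<|a (a 1<|a 1<|a 2<|a 2<|a 1<|a 1<|a 1<|a 1<|b)<|a (a 0<|a 0<|a 0<|a 1<|a 0<|a 0<|a 0<|a 0<|b)<|
 a (a 0<|a 0<|a 0<|a 0<|a 1<|a 1<|a 0<|a 0<|b)<|a (a (-1)<|a (-1)<|a (-1)<|a (-2)<|a (-2)<|a (-2)<|a (-1)<|a (-1)<|b)<|a (a 1<|a 0<|a 0<|a 0<|a 0<|a 0<|a 0<|a 0<|b)<|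
 a (a 0<|a 1<|a 1<|a 2<|a 2<|a 1<|a 1<|a 1<|b)<|a (a 0<|a 0<|a 0<|a 0<|a 0<|a 1<|a 1<|a 0<|b)<|b))<|
 e (c 7 (a (a 0<|a 1<|a 0<|a 0<|a 0<|a 0<|a 0<|a 0<|b)<|a (a 1<|a 1<|a 2<|a 2<|a 1<|a 1<|a 1<|a 1<|b)<|a (a 0<|a 0<|a 0<|a 1<|a 0<|a 0<|a 0<|a 0<|b)<|
 a (a 0<|a 0<|a 0<|a 0<|a 1<|a 0<|a 0<|a 0<|b)<|a (a (-1)<|a (-1)<|a (-1)<|a (-2)<|a (-2)<|a (-1)<|a (-1)<|a (-1)<|b)<|a (a 1<|a 0<|a 0<|a 0<|a 0<|a 0<|a 0<|a 0<|b)<|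
 a (a 0<|a 1<|a 1<|a 2<|a 2<|a 2<|a 1<|a 1<|b)<|a (a 0<|a 0<|a 0<|a 0<|a 0<|a 0<|a 1<|a 0<|b)<|b))<|
 e (c 6 (a (a 0<|a 1<|a 0<|a 0<|a 0<|a 0<|a 0<|a 0<|b)<|a (a 1<|a 1<|a 2<|a 2<|a 1<|a 1<|a 1<|a 0<|b)<|a (a 0<|a 0<|a 0<|a 1<|a 0<|a 0<|a 0<|a 0<|b)<|
 a (a 0<|a 0<|a 0<|a 0<|a 1<|a 0<|a 0<|a 0<|b)<|a (a (-1)<|a (-1)<|a (-1)<|a (-2)<|a (-2)<|a (-1)<|a (-1)<|a 0<|b)<|a (a 1<|a 0<|a 0<|a 0<|a 0<|a 0<|a 0<|a 0<|b)<|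
 a (a 0<|a 1<|a 1<|a 2<|a 2<|a 2<|a 1<|a 0<|b)<|a (a 0<|a 0<|a 0<|a 0<|a 0<|a 0<|a 1<|a 1<|b)<|b))<|
 e (c 5 (a (a 0<|a 1<|a 0<|a 0<|a 0<|a 0<|a 0<|a 0<|b)<|a (a 1<|a 1<|a 2<|a 2<|a 1<|a 1<|a 0<|a 0<|b)<|a (a 0<|a 0<|a 0<|a 1<|a 0<|a 0<|a 0<|a 0<|b)<|
 a (a 0<|a 0<|a 0<|a 0<|a 1<|a 0<|a 0<|a 0<|b)<|a (a (-1)<|a (-1)<|a (-1)<|a (-2)<|a (-2)<|a (-1)<|a 0<|a 0<|b)<|a (a 1<|a 0<|a 0<|a 0<|a 0<|a 0<|a 0<|a 0<|b)<|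
 a (a 0<|a 1<|a 1<|a 2<|a 2<|a 2<|a 1<|a 0<|b)<|a (a 0<|a 0<|a 0<|a 0<|a 0<|a 0<|a 0<|a 1<|b)<|b))<|
 e (c 4 (a (a 0<|a 1<|a 0<|a 0<|a 0<|a 0<|a 0<|a 0<|b)<|a (a 1<|a 1<|a 2<|a 2<|a 1<|a 0<|a 0<|a 0<|b)<|a (a 0<|a 0<|a 0<|a 1<|a 0<|a 0<|a 0<|a 0<|b)<|
 a (a 0<|a 0<|a 0<|a 0<|a 1<|a 1<|a 0<|a 0<|b)<|a (a (-1)<|a (-1)<|a (-1)<|a (-2)<|a (-2)<|a (-1)<|a 0<|a 0<|b)<|a (a 1<|a 0<|a 0<|a 0<|a 0<|a 0<|a 0<|a 0<|b)<|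
 a (a 0<|a 1<|a 1<|a 2<|a 2<|a 1<|a 1<|a 0<|b)<|a (a 0<|a 0<|a 0<|a 0<|a 0<|a 0<|a 0<|a 1<|b)<|b))<|
 e (c 3 (a (a 0<|a 1<|a 0<|a 0<|a 0<|a 0<|a 0<|a 0<|b)<|a (a 1<|a 1<|a 2<|a 2<|a 1<|a 0<|a 0<|a 0<|b)<|a (a 0<|a 0<|a 0<|a 1<|a 1<|a 0<|a 0<|a 0<|b)<|
 a (a 0<|a 0<|a 0<|a 0<|a 0<|a 1<|a 0<|a 0<|b)<|a (a (-1)<|a (-1)<|a (-1)<|a (-2)<|a (-1)<|a (-1)<|a 0<|a 0<|b)<|a (a 1<|a 0<|a 0<|a 0<|a 0<|a 0<|a 0<|a 0<|b)<|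
 a (a 0<|a 1<|a 1<|a 2<|a 1<|a 1<|a 1<|a 0<|b)<|a (a 0<|a 0<|a 0<|a 0<|a 0<|a 0<|a 0<|a 1<|b)<|b))<|
 e (c 1 (a (a 0<|a 1<|a 0<|a 1<|a 0<|a 0<|a 0<|a 0<|b)<|a (a 1<|a 1<|a 2<|a 2<|a 1<|a 0<|a 0<|a 0<|b)<|a (a 0<|a 0<|a 0<|a 0<|a 1<|a 0<|a 0<|a 0<|b)<|
 a (a 0<|a 0<|a 0<|a 0<|a 0<|a 1<|a 0<|a 0<|b)<|a (a (-1)<|a (-1)<|a (-1)<|a (-1)<|a (-1)<|a (-1)<|a 0<|a 0<|b)<|a (a 1<|a 0<|a 0<|a 0<|a 0<|a 0<|a 0<|a 0<|b)<|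
 a (a 0<|a 1<|a 1<|a 1<|a 1<|a 1<|a 1<|a 0<|b)<|a (a 0<|a 0<|a 0<|a 0<|a 0<|a 0<|a 0<|a 1<|b)<|b))<|
 e (c 2 (a (a 0<|a 0<|a 0<|a 1<|a 0<|a 0<|a 0<|a 0<|b)<|a (a 1<|a 1<|a 2<|a 2<|a 1<|a 0<|a 0<|a 0<|b)<|a (a 0<|a 0<|a 0<|a 0<|a 1<|a 0<|a 0<|a 0<|b)<|
 a (a 0<|a 0<|a 0<|a 0<|a 0<|a 1<|a 0<|a 0<|b)<|a (a (-1)<|a 0<|a (-1)<|a (-1)<|a (-1)<|a (-1)<|a 0<|a 0<|b)<|a (a 1<|a 0<|a 0<|a 0<|a 0<|a 0<|a 0<|a 0<|b)<|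
 a (a 0<|a 0<|a 1<|a 1<|a 1<|a 1<|a 1<|a 0<|b)<|a (a 0<|a 0<|a 0<|a 0<|a 0<|a 0<|a 0<|a 1<|b)<|b))<|
 e (c 0 (a (a 0<|a 0<|a 1<|a 1<|a 0<|a 0<|a 0<|a 0<|b)<|a (a 1<|a 1<|a 1<|a 2<|a 1<|a 0<|a 0<|a 0<|b)<|a (a 0<|a 0<|a 0<|a 0<|a 1<|a 0<|a 0<|a 0<|b)<|
 a (a 0<|a 0<|a 0<|a 0<|a 0<|a 1<|a 0<|a 0<|b)<|a (a (-1)<|a 0<|a (-1)<|a (-1)<|a (-1)<|a (-1)<|a 0<|a 0<|b)<|a (a 1<|a 0<|a 1<|a 0<|a 0<|a 0<|a 0<|a 0<|b)<|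
 a (a 0<|a 0<|a 0<|a 1<|a 1<|a 1<|a 1<|a 0<|b)<|a (a 0<|a 0<|a 0<|a 0<|a 0<|a 0<|a 0<|a 1<|b)<|b))<|
 e (c 3 (a (a 1<|a 0<|a 1<|a 1<|a 0<|a 0<|a 0<|a 0<|b)<|a (a 0<|a 1<|a 1<|a 2<|a 1<|a 0<|a 0<|a 0<|b)<|a (a 0<|a 0<|a 0<|a 0<|a 1<|a 0<|a 0<|a 0<|b)<|
 a (a 0<|a 0<|a 0<|a 0<|a 0<|a 1<|a 0<|a 0<|b)<|a (a 0<|a 0<|a (-1)<|a (-1)<|a (-1)<|a (-1)<|a 0<|a 0<|b)<|a (a 0<|a 0<|a 1<|a 0<|a 0<|a 0<|a 0<|a 0<|b)<|a (a 0<|a 0<|a 0<|a 1<|a 1<|a 1<|a 1<|a 0<|b)<|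
 a (a 0<|a 0<|a 0<|a 0<|a 0<|a 0<|a 0<|a 1<|b)<|b))<|
 e (c 2 (a (a 1<|a 0<|a 1<|a 0<|a 0<|a 0<|a 0<|a 0<|b)<|a (a 0<|a 1<|a 1<|a 1<|a 1<|a 0<|a 0<|a 0<|b)<|a (a 0<|a 0<|a 0<|a 1<|a 1<|a 0<|a 0<|a 0<|b)<|
 a (a 0<|a 0<|a 0<|a 0<|a 0<|a 1<|a 0<|a 0<|b)<|a (a 0<|a 0<|a (-1)<|a (-1)<|a (-1)<|a (-1)<|a 0<|a 0<|b)<|a (a 0<|a 0<|a 1<|a 1<|a 0<|a 0<|a 0<|a 0<|b)<|a (a 0<|a 0<|a 0<|a 0<|a 1<|a 1<|a 1<|a 0<|b)<|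
 a (a 0<|a 0<|a 0<|a 0<|a 0<|a 0<|a 0<|a 1<|b)<|b))<|
 e (c 4 (a (a 1<|a 0<|a 0<|a 0<|a 0<|a 0<|a 0<|a 0<|b)<|a (a 0<|a 1<|a 0<|a 1<|a 1<|a 0<|a 0<|a 0<|b)<|a (a 0<|a 0<|a 1<|a 1<|a 1<|a 0<|a 0<|a 0<|b)<|
 a (a 0<|a 0<|a 0<|a 0<|a 0<|a 1<|a 0<|a 0<|b)<|a (a 0<|a 0<|a 0<|a (-1)<|a (-1)<|a (-1)<|a 0<|a 0<|b)<|a (a 0<|a 0<|a 0<|a 1<|a 0<|a 0<|a 0<|a 0<|b)<|a (a 0<|a 0<|a 0<|a 0<|a 1<|a 1<|a 1<|a 0<|b)<|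
 a (a 0<|a 0<|a 0<|a 0<|a 0<|a 0<|a 0<|a 1<|b)<|b))<|
 e (c 3 (a (a 1<|a 0<|a 0<|a 0<|a 0<|a 0<|a 0<|a 0<|b)<|a (a 0<|a 1<|a 0<|a 1<|a 0<|a 0<|a 0<|a 0<|b)<|a (a 0<|a 0<|a 1<|a 1<|a 0<|a 0<|a 0<|a 0<|b)<|
 a (a 0<|a 0<|a 0<|a 0<|a 1<|a 1<|a 0<|a 0<|b)<|a (a 0<|a 0<|a 0<|a (-1)<|a (-1)<|a (-1)<|a 0<|a 0<|b)<|a (a 0<|a 0<|a 0<|a 1<|a 1<|a 0<|a 0<|a 0<|b)<|a (a 0<|a 0<|a 0<|a 0<|a 0<|a 1<|a 1<|a 0<|b)<|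
 a (a 0<|a 0<|a 0<|a 0<|a 0<|a 0<|a 0<|a 1<|b)<|b))<|
 e (c 5 (a (a 1<|a 0<|a 0<|a 0<|a 0<|a 0<|a 0<|a 0<|b)<|a (a 0<|a 1<|a 0<|a 0<|a 0<|a 0<|a 0<|a 0<|b)<|a (a 0<|a 0<|a 1<|a 0<|a 0<|a 0<|a 0<|a 0<|b)<|
 a (a 0<|a 0<|a 0<|a 1<|a 1<|a 1<|a 0<|a 0<|b)<|a (a 0<|a 0<|a 0<|a 0<|a (-1)<|a (-1)<|a 0<|a 0<|b)<|a (a 0<|a 0<|a 0<|a 0<|a 1<|a 0<|a 0<|a 0<|b)<|a (a 0<|a 0<|a 0<|a 0<|a 0<|a 1<|a 1<|a 0<|b)<|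
 a (a 0<|a 0<|a 0<|a 0<|a 0<|a 0<|a 0<|a 1<|b)<|b))<|
 e (c 4 (a (a 1<|a 0<|a 0<|a 0<|a 0<|a 0<|a 0<|a 0<|b)<|a (a 0<|a 1<|a 0<|a 0<|a 0<|a 0<|a 0<|a 0<|b)<|a (a 0<|a 0<|a 1<|a 0<|a 0<|a 0<|a 0<|a 0<|b)<|
 a (a 0<|a 0<|a 0<|a 1<|a 1<|a 0<|a 0<|a 0<|b)<|a (a 0<|a 0<|a 0<|a 0<|a (-1)<|a 0<|a 0<|a 0<|b)<|a (a 0<|a 0<|a 0<|a 0<|a 1<|a 1<|a 0<|a 0<|b)<|a (a 0<|a 0<|a 0<|a 0<|a 0<|a 0<|a 1<|a 0<|b)<|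
 a (a 0<|a 0<|a 0<|a 0<|a 0<|a 0<|a 0<|a 1<|b)<|b))<|g))

theorem ch3_9_ok : ChainOK Am ch3_9 :=
  H129.ChainF.ok H129.ChainF.i8 H129.ChainF.m8 (H129.ChainF.c8 <| H129.ChainF.c8 <| H129.ChainF.c8 <| H129.ChainF.c8 <| H129.ChainF.c8 <| H129.ChainF.c8 <| H129.ChainF.c8 <| H129.ChainF.c8 <| H129.ChainF.c8 <| H129.ChainF.c8 <| H129.ChainF.c8 <| H129.ChainF.c8 <| H129.ChainF.c8 <| H129.ChainF.c8 <| H129.ChainF.c8 <| H129.ChainF.c8 <| H129.ChainF.c8 <| H129.ChainF.c8 <| H129.ChainF.c8 <| H129.ChainF.c8 <| H129.ChainF.c8 <| H129.ChainF.c8 <| H129.ChainF.c8 <| H129.ChainF.c8 <| H129.ChainF.c8 <| H129.ChainF.c8 <| H129.ChainF.c8 <| H129.ChainF.c8 <| H129.ChainF.nil) (by decide +kernel)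

/-- coefficients of the eigenvector, order 3 -/
def v3_9_at3 : Fin 2 → Fin 8 → ℤ := (beta% delta% lq26e6736667 fun a b _ _ _ _ =>
 (a (a 0<|a (-1)<|a 0<|a (-1)<|a (-1)<|a 0<|a 0<|a 0<|b)<|
 a (a 0<|a 0<|a 1<|a 0<|a 0<|a 0<|a 0<|a 0<|b)<|b))

theorem e3_9_at3 : EigOK (hd ch3_9) c3 v3_9_at3 ![0, -1, 0, 0, 0, 0, 0, 0] :=
  H493.EigF.ok (H493.EigF.hT H493.EigF.t8) H493.EigF.r2 (H493.EigF.mc H493.EigF.r8 <| H493.EigF.mc H493.EigF.r8 <| H493.EigF.m0) H493.EigF.r8 (by decide +kernel)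

/-- coefficients of the eigenvector, order 9 -/
def v3_9_at9 : Fin 6 → Fin 8 → ℤ := (beta% delta% lq26e6736667 fun a b _ _ _ _ =>
 (a (a (-1)<|a (-1)<|a (-2)<|a (-3)<|a (-1)<|a 0<|a 1<|a 1<|b)<|
 a (a 1<|a 0<|a 0<|a (-1)<|a (-1)<|a (-1)<|a 0<|a (-1)<|b)<|a (a 0<|a 0<|a 1<|a 2<|a 1<|a 0<|a 0<|a (-1)<|b)<|a (a (-1)<|a 0<|a (-1)<|a (-1)<|a 0<|a 1<|a 0<|a 1<|b)<|
 a (a 1<|a 0<|a 0<|a (-1)<|a 0<|a 0<|a 1<|a 1<|b)<|a (a 0<|a 0<|a 0<|a 0<|a 0<|a 0<|a 1<|a (-1)<|b)<|b))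

theorem e3_9_at9 : EigOK (hd ch3_9) c9 v3_9_at9 ![0, -1, 0, 0, 0, 0, 0, 0] :=
  H493.EigF.ok (H493.EigF.hT H493.EigF.t8) H493.EigF.r6 (H493.EigF.mc H493.EigF.r8 <| H493.EigF.mc H493.EigF.r8 <| H493.EigF.mc H493.EigF.r8 <| H493.EigF.mc H493.EigF.r8 <| H493.EigF.mc H493.EigF.r8 <| H493.EigF.mc H493.EigF.r8 <| H493.EigF.m0) H493.EigF.r8 (by decide +kernel)

theorem rel_9_3 {F : Type u} [Field F] [Finite F] {r s : ℕ} (hr : r.Prime) (hs : s.Prime) (hrs : r ≠ s)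
    (h1 : phiC c9 (Nat.card F) 1 r) (h2 : phiC c3 (Nat.card F) 1 s) :
    PG.Rel ↥(chevE8.group F) r s := by
  have := finW
  exact rel_of_eig hp CoxeterMatrix.E₈.toCoxeterSystem H129.TorusChar.invC_E8 one_ne_zero
    (chain_rep hp CoxeterMatrix.E₈.toCoxeterSystem hA ch3_9_ok) e3_9_at9 e3_9_at3 hr hs hrs h1.1 h2.1 h1.2 h2.2

end Cfsg.Agent.R2.Spec.EE.CertE8
end

-- part: R2/Spec/EE/CertTab
section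
/-!
# Tables of the adjacent classes, types E8 and E7 (helper2)

* `cyc n q` : the value of the cyclotomic polynomial, `n` one of the degrees of E8;
* `rel8`, `rel7` : the pairs `L8`, `L7` of classes are adjacent (equal classes too);
* `relp8`, `relp7` : the classes `P8`, `P7` are adjacent to the characteristic.
-/

set_option autoImplicit false

namespace Cfsg.Agent.R2.Spec.EE.CertTab

open Cfsg Cfsg.Lie Cfsg.Lie.ChevalleyDatum Cfsg.Agent Cfsg.Agent.H493 Cfsg.Agent.H493.PGTorus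
  Cfsg.Agent.H493.PGCyc Cfsg.Agent.H168.ExcAdj Cfsg.Agent.H168

universe u

/-- values of cyclotomic polynomials -/
def cyc : ℕ → ℤ → ℤ
  | 1, q => pv c1 q
  | 2, q => pv c2 q
  | 3, q => pv c3 q
  | 4, q => pv c4 q
  | 5, q => pv c5 q
  | 6, q => pv c6 q
  | 7, q => pv c7 q
  | 8, q => pv c8 q
  | 9, q => pv c9 q
  | 10, q => pv c10 q
  | 12, q => pv c12 q
  | 14, q => pv c14 q
  | 15, q => pv c15 q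
  | 18, q => pv c18 q
  | 20, q => pv c20 q
  | 24, q => pv c24 q
  | 30, q => pv c30 q
  | _, _ => 1

/-- the adjacent classes -/
def L8 : List (ℕ × ℕ) := (beta% delta% lq26e6736667 fun _ _ c d e g =>
 (let f:=(let f:=(let f:=(d (c 12 4)<|d (c 12 6)<|d (c 14 1)<|d (c 14 2)<|d (c 18 1)<|d (c 18 2)<|d (c 18 6)<|g);
 (d (c 10 1)<|d (c 10 2)<|d (c 10 4)<|d (c 10 6)<|
 d (c 12 1)<|d (c 12 2)<|d (c 12 3)<|f));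
 (let f:=(d (c 8 2)<|d (c 8 3)<|d (c 8 4)<|d (c 8 6)<|d (c 9 1)<|d (c 9 2)<|d (c 9 3)<|f);
 (d (c 6 1)<|d (c 6 2)<|d (c 6 3)<|d (c 6 4)<|d (c 7 1)<|d (c 7 2)<|d (c 8 1)<|
 f)));
 (let f:=(let f:=(d (c 4 1)<|d (c 4 2)<|
 d (c 4 3)<|d (c 5 1)<|d (c 5 2)<|d (c 5 3)<|d (c 5 4)<|f);
 (d (c 18 18)<|d (c 20 20)<|d (c 24 24)<|d (c 30 30)<|d (c 2 1)<|d (c 3 1)<|d (c 3 2)<|f));
 (let f:=(d (c 7 7)<|d (c 8 8)<|d (c 9 9)<|d (c 10 10)<|d (c 12 12)<|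
 d (c 14 14)<|d (c 15 15)<|f);
 (e (c 1 1)<|e (c 2 2)<|e (c 3 3)<|e (c 4 4)<|e (c 5 5)<|e (c 6 6)<|f)))))

/-- the classes adjacent to the characteristic -/
def P8 : List ℕ := (beta% delta% lq26e6736667 fun _ _ _ _ e g =>
 (e 1<|e 2<|e 3<|e 4<|e 5<|e 6<|e 7<|e 8<|e 9<|e 10<|e 12<|e 14<|e 18<|g))

theorem rel8_le {F : Type u} [Field F] [Finite F] {r s : ℕ} (hr : r.Prime) (hs : s.Prime) (hrs : r ≠ s)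
    (hrd : ¬ r ∣ 1) (hsd : ¬ s ∣ 1) {a b : ℕ} (h : (a, b) ∈ L8) (h1 : (r : ℤ) ∣ cyc a (Nat.card F))
    (h2 : (s : ℤ) ∣ cyc b (Nat.card F)) : PG.Rel ↥(chevE8.group F) r s := by
  simp only [L8, List.mem_cons, Prod.mk.injEq, List.not_mem_nil, or_false] at h
  rcases h with ⟨rfl, rfl⟩ | ⟨rfl, rfl⟩ | ⟨rfl, rfl⟩ | ⟨rfl, rfl⟩ | ⟨rfl, rfl⟩ | ⟨rfl, rfl⟩ | ⟨rfl, rfl⟩ |
    ⟨rfl, rfl⟩ | ⟨rfl, rfl⟩ | ⟨rfl, rfl⟩ | ⟨rfl, rfl⟩ | ⟨rfl, rfl⟩ | ⟨rfl, rfl⟩ | ⟨rfl, rfl⟩ | ⟨rfl, rfl⟩ |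
    ⟨rfl, rfl⟩ | ⟨rfl, rfl⟩ | ⟨rfl, rfl⟩ | ⟨rfl, rfl⟩ | ⟨rfl, rfl⟩ | ⟨rfl, rfl⟩ | ⟨rfl, rfl⟩ | ⟨rfl, rfl⟩ |
    ⟨rfl, rfl⟩ | ⟨rfl, rfl⟩ | ⟨rfl, rfl⟩ | ⟨rfl, rfl⟩ | ⟨rfl, rfl⟩ | ⟨rfl, rfl⟩ | ⟨rfl, rfl⟩ | ⟨rfl, rfl⟩ |
    ⟨rfl, rfl⟩ | ⟨rfl, rfl⟩ | ⟨rfl, rfl⟩ | ⟨rfl, rfl⟩ | ⟨rfl, rfl⟩ | ⟨rfl, rfl⟩ | ⟨rfl, rfl⟩ | ⟨rfl, rfl⟩ |
    ⟨rfl, rfl⟩ | ⟨rfl, rfl⟩ | ⟨rfl, rfl⟩ | ⟨rfl, rfl⟩ | ⟨rfl, rfl⟩ | ⟨rfl, rfl⟩ | ⟨rfl, rfl⟩ | ⟨rfl, rfl⟩ |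
    ⟨rfl, rfl⟩ | ⟨rfl, rfl⟩ | ⟨rfl, rfl⟩ | ⟨rfl, rfl⟩ | ⟨rfl, rfl⟩ | ⟨rfl, rfl⟩ | ⟨rfl, rfl⟩ | ⟨rfl, rfl⟩
  · exact ExcE8.rel1 hr hs hrs ⟨hrd, h1⟩ ⟨hsd, h2⟩
  · exact ExcE8.rel2 hr hs hrs ⟨hrd, h1⟩ ⟨hsd, h2⟩
  · exact ExcE8.rel3 hr hs hrs ⟨hrd, h1⟩ ⟨hsd, h2⟩
  · exact ExcE8.rel4 hr hs hrs ⟨hrd, h1⟩ ⟨hsd, h2⟩
  · exact ExcE8.rel5 hr hs hrs ⟨hrd, h1⟩ ⟨hsd, h2⟩
  · exact ExcE8.rel6 hr hs hrs ⟨hrd, h1⟩ ⟨hsd, h2⟩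
  · exact ExcE8.rel7 hr hs hrs ⟨hrd, h1⟩ ⟨hsd, h2⟩
  · exact ExcE8.rel8 hr hs hrs ⟨hrd, h1⟩ ⟨hsd, h2⟩
  · exact ExcE8.rel9 hr hs hrs ⟨hrd, h1⟩ ⟨hsd, h2⟩
  · exact ExcE8.rel10 hr hs hrs ⟨hrd, h1⟩ ⟨hsd, h2⟩
  · exact ExcE8.rel12 hr hs hrs ⟨hrd, h1⟩ ⟨hsd, h2⟩
  · exact ExcE8.rel14 hr hs hrs ⟨hrd, h1⟩ ⟨hsd, h2⟩
  · exact ExcE8.rel15 hr hs hrs ⟨hrd, h1⟩ ⟨hsd, h2⟩
  · exact ExcE8.rel18 hr hs hrs ⟨hrd, h1⟩ ⟨hsd, h2⟩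
  · exact ExcE8.rel20 hr hs hrs ⟨hrd, h1⟩ ⟨hsd, h2⟩
  · exact ExcE8.rel24 hr hs hrs ⟨hrd, h1⟩ ⟨hsd, h2⟩
  · exact ExcE8.rel30 hr hs hrs ⟨hrd, h1⟩ ⟨hsd, h2⟩
  · exact CertE8.rel_2_1 hr hs hrs ⟨hrd, h1⟩ ⟨hsd, h2⟩
  · exact CertE8.rel_3_1 hr hs hrs ⟨hrd, h1⟩ ⟨hsd, h2⟩
  · exact CertE8.rel_3_2 hr hs hrs ⟨hrd, h1⟩ ⟨hsd, h2⟩
  · exact CertE8.rel_4_1 hr hs hrs ⟨hrd, h1⟩ ⟨hsd, h2⟩
  · exact CertE8.rel_4_2 hr hs hrs ⟨hrd, h1⟩ ⟨hsd, h2⟩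
  · exact CertE8.rel_4_3 hr hs hrs ⟨hrd, h1⟩ ⟨hsd, h2⟩
  · exact CertE8.rel_5_1 hr hs hrs ⟨hrd, h1⟩ ⟨hsd, h2⟩
  · exact CertE8.rel_5_2 hr hs hrs ⟨hrd, h1⟩ ⟨hsd, h2⟩
  · exact CertE8.rel_5_3 hr hs hrs ⟨hrd, h1⟩ ⟨hsd, h2⟩
  · exact CertE8.rel_5_4 hr hs hrs ⟨hrd, h1⟩ ⟨hsd, h2⟩
  · exact CertE8.rel_6_1 hr hs hrs ⟨hrd, h1⟩ ⟨hsd, h2⟩
  · exact CertE8.rel_6_2 hr hs hrs ⟨hrd, h1⟩ ⟨hsd, h2⟩
  · exact CertE8.rel_6_3 hr hs hrs ⟨hrd, h1⟩ ⟨hsd, h2⟩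
  · exact CertE8.rel_6_4 hr hs hrs ⟨hrd, h1⟩ ⟨hsd, h2⟩
  · exact CertE8.rel_7_1 hr hs hrs ⟨hrd, h1⟩ ⟨hsd, h2⟩
  · exact CertE8.rel_7_2 hr hs hrs ⟨hrd, h1⟩ ⟨hsd, h2⟩
  · exact CertE8.rel_8_1 hr hs hrs ⟨hrd, h1⟩ ⟨hsd, h2⟩
  · exact CertE8.rel_8_2 hr hs hrs ⟨hrd, h1⟩ ⟨hsd, h2⟩
  · exact CertE8.rel_8_3 hr hs hrs ⟨hrd, h1⟩ ⟨hsd, h2⟩
  · exact CertE8.rel_8_4 hr hs hrs ⟨hrd, h1⟩ ⟨hsd, h2⟩
  · exact CertE8.rel_8_6 hr hs hrs ⟨hrd, h1⟩ ⟨hsd, h2⟩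
  · exact CertE8.rel_9_1 hr hs hrs ⟨hrd, h1⟩ ⟨hsd, h2⟩
  · exact CertE8.rel_9_2 hr hs hrs ⟨hrd, h1⟩ ⟨hsd, h2⟩
  · exact CertE8.rel_9_3 hr hs hrs ⟨hrd, h1⟩ ⟨hsd, h2⟩
  · exact CertE8.rel_10_1 hr hs hrs ⟨hrd, h1⟩ ⟨hsd, h2⟩
  · exact CertE8.rel_10_2 hr hs hrs ⟨hrd, h1⟩ ⟨hsd, h2⟩
  · exact CertE8.rel_10_4 hr hs hrs ⟨hrd, h1⟩ ⟨hsd, h2⟩
  · exact CertE8.rel_10_6 hr hs hrs ⟨hrd, h1⟩ ⟨hsd, h2⟩
  · exact CertE8.rel_12_1 hr hs hrs ⟨hrd, h1⟩ ⟨hsd, h2⟩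
  · exact CertE8.rel_12_2 hr hs hrs ⟨hrd, h1⟩ ⟨hsd, h2⟩
  · exact CertE8.rel_12_3 hr hs hrs ⟨hrd, h1⟩ ⟨hsd, h2⟩
  · exact CertE8.rel_12_4 hr hs hrs ⟨hrd, h1⟩ ⟨hsd, h2⟩
  · exact CertE8.rel_12_6 hr hs hrs ⟨hrd, h1⟩ ⟨hsd, h2⟩
  · exact CertE8.rel_14_1 hr hs hrs ⟨hrd, h1⟩ ⟨hsd, h2⟩
  · exact CertE8.rel_14_2 hr hs hrs ⟨hrd, h1⟩ ⟨hsd, h2⟩
  · exact CertE8.rel_18_1 hr hs hrs ⟨hrd, h1⟩ ⟨hsd, h2⟩
  · exact CertE8.rel_18_2 hr hs hrs ⟨hrd, h1⟩ ⟨hsd, h2⟩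
  · exact CertE8.rel_18_6 hr hs hrs ⟨hrd, h1⟩ ⟨hsd, h2⟩

/-- **Adjacent classes of `E8(q)`.** -/
theorem rel8 {F : Type u} [Field F] [Finite F] {r s : ℕ} (hr : r.Prime) (hs : s.Prime) (hrs : r ≠ s)
    {a b : ℕ} (h : (a, b) ∈ L8 ∨ (b, a) ∈ L8) (h1 : (r : ℤ) ∣ cyc a (Nat.card F))
    (h2 : (s : ℤ) ∣ cyc b (Nat.card F)) : PG.Rel ↥(chevE8.group F) r s := by
  have hrd : ¬ r ∣ 1 := fun h => hr.one_lt.ne' (Nat.dvd_one.1 h)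
  have hsd : ¬ s ∣ 1 := fun h => hs.one_lt.ne' (Nat.dvd_one.1 h)
  rcases h with h | h
  · exact rel8_le hr hs hrs hrd hsd h h1 h2
  · exact (rel8_le hs hr hrs.symm hsd hrd h h2 h1).symm

/-- **Classes of `E8(q)` adjacent to the characteristic.** -/
theorem relp8 {F : Type u} [Field F] [Finite F] {r s : ℕ} (hr : r.Prime) (hs : s.Prime)
    {a : ℕ} (h : a ∈ P8) (h1 : (r : ℤ) ∣ cyc a (Nat.card F)) (h2 : s ∣ Nat.card F) :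
    PG.Rel ↥(chevE8.group F) r s := by
  have hrd : ¬ r ∣ 1 := fun h => hr.one_lt.ne' (Nat.dvd_one.1 h)
  simp only [P8, List.mem_cons, List.not_mem_nil, or_false] at h
  rcases h with rfl | rfl | rfl | rfl | rfl | rfl | rfl | rfl | rfl | rfl | rfl | rfl | rfl
  · exact CertE8.rel_1_p hr hs ⟨hrd, h1⟩ h2
  · exact CertE8.rel_2_p hr hs ⟨hrd, h1⟩ h2
  · exact CertE8.rel_3_p hr hs ⟨hrd, h1⟩ h2
  · exact CertE8.rel_4_p hr hs ⟨hrd, h1⟩ h2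
  · exact CertE8.rel_5_p hr hs ⟨hrd, h1⟩ h2
  · exact CertE8.rel_6_p hr hs ⟨hrd, h1⟩ h2
  · exact CertE8.rel_7_p hr hs ⟨hrd, h1⟩ h2
  · exact CertE8.rel_8_p hr hs ⟨hrd, h1⟩ h2
  · exact CertE8.rel_9_p hr hs ⟨hrd, h1⟩ h2
  · exact CertE8.rel_10_p hr hs ⟨hrd, h1⟩ h2
  · exact CertE8.rel_12_p hr hs ⟨hrd, h1⟩ h2
  · exact CertE8.rel_14_p hr hs ⟨hrd, h1⟩ h2
  · exact CertE8.rel_18_p hr hs ⟨hrd, h1⟩ h2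

/-- the adjacent classes -/
def L7 : List (ℕ × ℕ) := (beta% delta% lq26e6736667 fun _ _ c d e g =>
 (let f:=(let f:=(let f:=(d (c 12 2)<|d (c 12 3)<|d (c 12 6)<|d (c 14 2)<|d (c 18 2)<|g);
 (d (c 9 1)<|d (c 10 1)<|d (c 10 2)<|d (c 10 6)<|d (c 12 1)<|
 f));
 (let f:=(d (c 6 4)<|d (c 7 1)<|d (c 8 1)<|d (c 8 2)<|d (c 8 4)<|f);
 (d (c 5 2)<|d (c 5 3)<|d (c 6 1)<|
 d (c 6 2)<|d (c 6 3)<|f)));
 (let f:=(let f:=(d (c 3 2)<|d (c 4 1)<|d (c 4 2)<|d (c 4 3)<|d (c 5 1)<|f);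
 (d (c 12 12)<|
 d (c 14 14)<|d (c 18 18)<|d (c 2 1)<|d (c 3 1)<|f));
 (let f:=(d (c 6 6)<|d (c 7 7)<|d (c 8 8)<|d (c 9 9)<|d (c 10 10)<|f);
 (e (c 1 1)<|e (c 2 2)<|e (c 3 3)<|e (c 4 4)<|e (c 5 5)<|f)))))

/-- the classes adjacent to the characteristic -/
def P7 : List ℕ := [1, 2, 3, 4, 5, 6, 8, 10, 12]

theorem rel7_le {F : Type u} [Field F] [Finite F] {r s : ℕ} (hr : r.Prime) (hs : s.Prime) (hrs : r ≠ s)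
    (hrd : ¬ r ∣ 2) (hsd : ¬ s ∣ 2) {a b : ℕ} (h : (a, b) ∈ L7) (h1 : (r : ℤ) ∣ cyc a (Nat.card F))
    (h2 : (s : ℤ) ∣ cyc b (Nat.card F)) : PG.Rel ↥(chevE7.group F) r s := by
  simp only [L7, List.mem_cons, Prod.mk.injEq, List.not_mem_nil, or_false] at h
  rcases h with ⟨rfl, rfl⟩ | ⟨rfl, rfl⟩ | ⟨rfl, rfl⟩ | ⟨rfl, rfl⟩ | ⟨rfl, rfl⟩ | ⟨rfl, rfl⟩ | ⟨rfl, rfl⟩ |
    ⟨rfl, rfl⟩ | ⟨rfl, rfl⟩ | ⟨rfl, rfl⟩ | ⟨rfl, rfl⟩ | ⟨rfl, rfl⟩ | ⟨rfl, rfl⟩ | ⟨rfl, rfl⟩ | ⟨rfl, rfl⟩ |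
    ⟨rfl, rfl⟩ | ⟨rfl, rfl⟩ | ⟨rfl, rfl⟩ | ⟨rfl, rfl⟩ | ⟨rfl, rfl⟩ | ⟨rfl, rfl⟩ | ⟨rfl, rfl⟩ | ⟨rfl, rfl⟩ |
    ⟨rfl, rfl⟩ | ⟨rfl, rfl⟩ | ⟨rfl, rfl⟩ | ⟨rfl, rfl⟩ | ⟨rfl, rfl⟩ | ⟨rfl, rfl⟩ | ⟨rfl, rfl⟩ | ⟨rfl, rfl⟩ |
    ⟨rfl, rfl⟩ | ⟨rfl, rfl⟩ | ⟨rfl, rfl⟩ | ⟨rfl, rfl⟩ | ⟨rfl, rfl⟩ | ⟨rfl, rfl⟩ | ⟨rfl, rfl⟩ | ⟨rfl, rfl⟩ |
    ⟨rfl, rfl⟩
  · exact ExcE7.rel1 hr hs hrs ⟨hrd, h1⟩ ⟨hsd, h2⟩
  · exact ExcE7.rel2 hr hs hrs ⟨hrd, h1⟩ ⟨hsd, h2⟩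
  · exact ExcE7.rel3 hr hs hrs ⟨hrd, h1⟩ ⟨hsd, h2⟩
  · exact ExcE7.rel4 hr hs hrs ⟨hrd, h1⟩ ⟨hsd, h2⟩
  · exact ExcE7.rel5 hr hs hrs ⟨hrd, h1⟩ ⟨hsd, h2⟩
  · exact ExcE7.rel6 hr hs hrs ⟨hrd, h1⟩ ⟨hsd, h2⟩
  · exact ExcE7.rel7 hr hs hrs ⟨hrd, h1⟩ ⟨hsd, h2⟩
  · exact ExcE7.rel8 hr hs hrs ⟨hrd, h1⟩ ⟨hsd, h2⟩
  · exact ExcE7.rel9 hr hs hrs ⟨hrd, h1⟩ ⟨hsd, h2⟩
  · exact ExcE7.rel10 hr hs hrs ⟨hrd, h1⟩ ⟨hsd, h2⟩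
  · exact ExcE7.rel12 hr hs hrs ⟨hrd, h1⟩ ⟨hsd, h2⟩
  · exact ExcE7.rel14 hr hs hrs ⟨hrd, h1⟩ ⟨hsd, h2⟩
  · exact ExcE7.rel18 hr hs hrs ⟨hrd, h1⟩ ⟨hsd, h2⟩
  · exact CertE7.rel_2_1 hr hs hrs ⟨hrd, h1⟩ ⟨hsd, h2⟩
  · exact CertE7.rel_3_1 hr hs hrs ⟨hrd, h1⟩ ⟨hsd, h2⟩
  · exact CertE7.rel_3_2 hr hs hrs ⟨hrd, h1⟩ ⟨hsd, h2⟩
  · exact CertE7.rel_4_1 hr hs hrs ⟨hrd, h1⟩ ⟨hsd, h2⟩
  · exact CertE7.rel_4_2 hr hs hrs ⟨hrd, h1⟩ ⟨hsd, h2⟩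
  · exact CertE7.rel_4_3 hr hs hrs ⟨hrd, h1⟩ ⟨hsd, h2⟩
  · exact CertE7.rel_5_1 hr hs hrs ⟨hrd, h1⟩ ⟨hsd, h2⟩
  · exact CertE7.rel_5_2 hr hs hrs ⟨hrd, h1⟩ ⟨hsd, h2⟩
  · exact CertE7.rel_5_3 hr hs hrs ⟨hrd, h1⟩ ⟨hsd, h2⟩
  · exact CertE7.rel_6_1 hr hs hrs ⟨hrd, h1⟩ ⟨hsd, h2⟩
  · exact CertE7.rel_6_2 hr hs hrs ⟨hrd, h1⟩ ⟨hsd, h2⟩
  · exact CertE7.rel_6_3 hr hs hrs ⟨hrd, h1⟩ ⟨hsd, h2⟩
  · exact CertE7.rel_6_4 hr hs hrs ⟨hrd, h1⟩ ⟨hsd, h2⟩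
  · exact CertE7.rel_7_1 hr hs hrs ⟨hrd, h1⟩ ⟨hsd, h2⟩
  · exact CertE7.rel_8_1 hr hs hrs ⟨hrd, h1⟩ ⟨hsd, h2⟩
  · exact CertE7.rel_8_2 hr hs hrs ⟨hrd, h1⟩ ⟨hsd, h2⟩
  · exact CertE7.rel_8_4 hr hs hrs ⟨hrd, h1⟩ ⟨hsd, h2⟩
  · exact CertE7.rel_9_1 hr hs hrs ⟨hrd, h1⟩ ⟨hsd, h2⟩
  · exact CertE7.rel_10_1 hr hs hrs ⟨hrd, h1⟩ ⟨hsd, h2⟩
  · exact CertE7.rel_10_2 hr hs hrs ⟨hrd, h1⟩ ⟨hsd, h2⟩
  · exact CertE7.rel_10_6 hr hs hrs ⟨hrd, h1⟩ ⟨hsd, h2⟩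
  · exact CertE7.rel_12_1 hr hs hrs ⟨hrd, h1⟩ ⟨hsd, h2⟩
  · exact CertE7.rel_12_2 hr hs hrs ⟨hrd, h1⟩ ⟨hsd, h2⟩
  · exact CertE7.rel_12_3 hr hs hrs ⟨hrd, h1⟩ ⟨hsd, h2⟩
  · exact CertE7.rel_12_6 hr hs hrs ⟨hrd, h1⟩ ⟨hsd, h2⟩
  · exact CertE7.rel_14_2 hr hs hrs ⟨hrd, h1⟩ ⟨hsd, h2⟩
  · exact CertE7.rel_18_2 hr hs hrs ⟨hrd, h1⟩ ⟨hsd, h2⟩

/-- **Adjacent classes of `E7(q)`.** -/
theorem rel7 {F : Type u} [Field F] [Finite F] {r s : ℕ} (hr : r.Prime) (hs : s.Prime) (hrs : r ≠ s) (hrd : ¬ r ∣ 2) (hsd : ¬ s ∣ 2)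
    {a b : ℕ} (h : (a, b) ∈ L7 ∨ (b, a) ∈ L7) (h1 : (r : ℤ) ∣ cyc a (Nat.card F))
    (h2 : (s : ℤ) ∣ cyc b (Nat.card F)) : PG.Rel ↥(chevE7.group F) r s := by
  rcases h with h | h
  · exact rel7_le hr hs hrs hrd hsd h h1 h2
  · exact (rel7_le hs hr hrs.symm hsd hrd h h2 h1).symm

/-- **Classes of `E7(q)` adjacent to the characteristic.** -/
theorem relp7 {F : Type u} [Field F] [Finite F] {r s : ℕ} (hr : r.Prime) (hs : s.Prime) (hrd : ¬ r ∣ 2)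
    {a : ℕ} (h : a ∈ P7) (h1 : (r : ℤ) ∣ cyc a (Nat.card F)) (h2 : s ∣ Nat.card F) :
    PG.Rel ↥(chevE7.group F) r s := by
  simp only [P7, List.mem_cons, List.not_mem_nil, or_false] at h
  rcases h with rfl | rfl | rfl | rfl | rfl | rfl | rfl | rfl | rfl
  · exact CertE7.rel_1_p hr hs ⟨hrd, h1⟩ h2
  · exact CertE7.rel_2_p hr hs ⟨hrd, h1⟩ h2
  · exact CertE7.rel_3_p hr hs ⟨hrd, h1⟩ h2
  · exact CertE7.rel_4_p hr hs ⟨hrd, h1⟩ h2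
  · exact CertE7.rel_5_p hr hs ⟨hrd, h1⟩ h2
  · exact CertE7.rel_6_p hr hs ⟨hrd, h1⟩ h2
  · exact CertE7.rel_8_p hr hs ⟨hrd, h1⟩ h2
  · exact CertE7.rel_10_p hr hs ⟨hrd, h1⟩ h2
  · exact CertE7.rel_12_p hr hs ⟨hrd, h1⟩ h2

end Cfsg.Agent.R2.Spec.EE.CertTab
end

private theorem dce_641ca017846c : _root_.True := by
  try have : _root_.True := by simp only [_root_.Cfsg.Agent.R2.Spec.EE.CertTab.P8.eq_1]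
  try have : _root_.True := by simp only [_root_.Cfsg.Agent.R2.Spec.EE.CertTab.P7.eq_1]
  try have : _root_.True := by simp only [_root_.Cfsg.Agent.R2.Spec.EE.CertTab.L7.eq_1]
  try have : _root_.True := by simp only [_root_.Cfsg.Agent.R2.Spec.EE.CertTab.L8.eq_1]
  exact _root_.True.intro
end

-- part: R2/Spec/EE/CertE6P_mg
section
set_option linter.all false
open scoped Cfsg.Agent.FastGrp

-- part: R2/Spec/EE/CertE6P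
section
/-!
# Adjacency with the characteristic, type E6 (helper2)
-/

set_option autoImplicit false

namespace Cfsg.Agent.R2.Spec.EE.CertE6

open Cfsg.Agent.H129.WData Cfsg.Agent.ChevalleyStructure.CoxeterGeomTypes Cfsg.Agent.Nodes.RGDChev
open Cfsg.Lie Cfsg.Lie.ChevalleyDatum
open Cfsg.Agent Cfsg.Agent.H493 Cfsg.Agent.H493.PGTorus Cfsg.Agent.H493.PGCyc Cfsg.Agent.H493.PGE6
open Cfsg.Agent.H168.ExcAdj Cfsg.Agent.R2.Spec.EE.CertBase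

universe u

/-- the highest root -/
def r0 : ℕ := 71

theorem r0_lt : r0 < chevE6.nroots := by decide +kernel

/-- cubic roots in characteristic three -/
theorem cb_surj {F : Type u} [Field F] [Finite F] {s : ℕ} (hs : s.Prime) (h2 : s ∣ Nat.card F) :
    s ∣ 3 → ∀ a : F, ∃ b : F, b ^ 3 = a := by
  intro h a
  have : Fintype F := Fintype.ofFinite F
  have hs2 : s = 3 := (Nat.prime_dvd_prime_iff_eq hs Nat.prime_three).1 h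
  subst hs2
  have hc : CharP F 3 := by
    obtain ⟨p, hp'⟩ := CharP.exists F
    have : Fact p.Prime := ⟨CharP.char_is_prime F p⟩
    obtain ⟨n, -, h3⟩ := FiniteField.card F p
    rw [Nat.card_eq_fintype_card, h3] at h2
    have h4 := (Nat.prime_dvd_prime_iff_eq Nat.prime_three (Fact.out : p.Prime)).1 (Nat.prime_three.dvd_of_dvd_pow h2)
    rw [h4]; exact hp'
  have : Fact (Nat.Prime 3) := ⟨Nat.prime_three⟩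
  exact (Finite.injective_iff_surjective.1 (frobenius_inj F 3)) a

/-- partial products, characteristic polynomial Φ1^6 -/
def q1 : List (Fin 6 × Mat 6) := []

theorem q1_ok : ChainOK Am q1 := by decide +kernel

/-- coefficients of the functional, order 1 -/
def w1 : Fin 1 → Fin 6 → ℤ := ![![-1, 0, 0, 0, 0, 1]]

theorem g1 : EigOK (fun i j => hd q1 j i) c1 w1 ![-1, 0, 0, 0, 0, 0] := by decide +kernel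

theorem f1 : ∀ m, ∑ j, vec chevE6 6 r0 j * hd q1 j m = vec chevE6 6 r0 m := by decide +kernel

theorem z1 : ∀ i, ∑ m, vec chevE6 6 r0 m * w1 i m = 0 := by decide +kernel

theorem rel_1_p {F : Type u} [Field F] [Finite F] {r s : ℕ} (hr : r.Prime) (hs : s.Prime)
    (h1 : phiC c1 (Nat.card F) 3 r) (h2 : s ∣ Nat.card F) : PG.Rel ↥(chevE6.group F) r s := by
  have := finW
  exact rel_p_of_eig hp CoxeterMatrix.E₆.toCoxeterSystem H129.TorusChar.invC_E6 (by norm_num)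
    (chain_rep hp CoxeterMatrix.E₆.toCoxeterSystem hA q1_ok) g1 (Or.inr (by decide +kernel)) r0_lt f1 z1 hr hs h1.1
    (cb_surj hs h2) h1.2 h2

/-- partial products, characteristic polynomial Φ1^5 Φ2 -/
def q2 : List (Fin 6 × Mat 6) := [
    (0, ![![-1, 0, 0, 0, 0, 0], ![0, 1, 0, 0, 0, 0], ![1, 0, 1, 0, 0, 0], ![0, 0, 0, 1, 0, 0], ![0, 0, 0, 0, 1, 0],
      ![0, 0, 0, 0, 0, 1]])]

theorem q2_ok : ChainOK Am q2 :=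
  H129.ChainF.ok H129.ChainF.i6 H129.ChainF.m6 (H129.ChainF.c6 <| H129.ChainF.nil) (by decide +kernel)

/-- coefficients of the functional, order 2 -/
def w2 : Fin 1 → Fin 6 → ℤ := ![![-2, 0, 1, 0, 0, 0]]

theorem g2 : EigOK (fun i j => hd q2 j i) c2 w2 ![0, 0, 1, 0, 0, 0] :=
  H493.EigF.ok (H493.EigF.tt (hd q2) (H493.EigF.hM H129.ChainF.m6)) H493.EigF.r1 (H493.EigF.mc H493.EigF.r6 <| H493.EigF.m0) H493.EigF.r6 (by decide +kernel)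

theorem f2 : ∀ m, ∑ j, vec chevE6 6 r0 j * hd q2 j m = vec chevE6 6 r0 m := by decide +kernel

theorem z2 : ∀ i, ∑ m, vec chevE6 6 r0 m * w2 i m = 0 := by decide +kernel

theorem rel_2_p {F : Type u} [Field F] [Finite F] {r s : ℕ} (hr : r.Prime) (hs : s.Prime)
    (h1 : phiC c2 (Nat.card F) 3 r) (h2 : s ∣ Nat.card F) : PG.Rel ↥(chevE6.group F) r s := by
  have := finW
  exact rel_p_of_eig hp CoxeterMatrix.E₆.toCoxeterSystem H129.TorusChar.invC_E6 (by norm_num)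
    (chain_rep hp CoxeterMatrix.E₆.toCoxeterSystem hA q2_ok) g2 (Or.inl (by decide +kernel)) r0_lt f2 z2 hr hs h1.1
    (cb_surj hs h2) h1.2 h2

/-- partial products, characteristic polynomial Φ1^4 Φ3 -/
def q3 : List (Fin 6 × Mat 6) := [
    (2, ![![-1, 0, -1, 0, 0, 0], ![0, 1, 0, 0, 0, 0], ![1, 0, 0, 0, 0, 0], ![0, 0, 1, 1, 0, 0], ![0, 0, 0, 0, 1, 0],
      ![0, 0, 0, 0, 0, 1]]),
    (0, ![![-1, 0, 0, 0, 0, 0], ![0, 1, 0, 0, 0, 0], ![1, 0, 1, 0, 0, 0], ![0, 0, 0, 1, 0, 0], ![0, 0, 0, 0, 1, 0],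
      ![0, 0, 0, 0, 0, 1]])]

theorem q3_ok : ChainOK Am q3 :=
  H129.ChainF.ok H129.ChainF.i6 H129.ChainF.m6 (H129.ChainF.c6 <| H129.ChainF.c6 <| H129.ChainF.nil) (by decide +kernel)

/-- coefficients of the functional, order 3 -/
def w3 : Fin 2 → Fin 6 → ℤ := ![![-1, 0, -1, 1, 0, 0], ![-2, 0, 1, 0, 0, 0]]

theorem g3 : EigOK (fun i j => hd q3 j i) c3 w3 ![0, 0, 0, 1, 0, 0] :=
  H493.EigF.ok (H493.EigF.tt (hd q3) (H493.EigF.hM H129.ChainF.m6)) H493.EigF.r2 (H493.EigF.mc H493.EigF.r6 <| H493.EigF.mc H493.EigF.r6 <| H493.EigF.m0) H493.EigF.r6 (by decide +kernel)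

theorem f3 : ∀ m, ∑ j, vec chevE6 6 r0 j * hd q3 j m = vec chevE6 6 r0 m := by decide +kernel

theorem z3 : ∀ i, ∑ m, vec chevE6 6 r0 m * w3 i m = 0 := by decide +kernel

theorem rel_3_p {F : Type u} [Field F] [Finite F] {r s : ℕ} (hr : r.Prime) (hs : s.Prime)
    (h1 : phiC c3 (Nat.card F) 3 r) (h2 : s ∣ Nat.card F) : PG.Rel ↥(chevE6.group F) r s := by
  have := finW
  exact rel_p_of_eig hp CoxeterMatrix.E₆.toCoxeterSystem H129.TorusChar.invC_E6 (by norm_num)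
    (chain_rep hp CoxeterMatrix.E₆.toCoxeterSystem hA q3_ok) g3 (Or.inl (by decide +kernel)) r0_lt f3 z3 hr hs h1.1
    (cb_surj hs h2) h1.2 h2

/-- partial products, characteristic polynomial Φ1^3 Φ2 Φ4 -/
def q4 : List (Fin 6 × Mat 6) := [
    (3, ![![-1, 0, -1, -1, 0, 0], ![0, 1, 0, 1, 0, 0], ![1, 0, 0, 0, 0, 0], ![0, 0, 1, 0, 0, 0],
      ![0, 0, 0, 1, 1, 0], ![0, 0, 0, 0, 0, 1]]),
    (2, ![![-1, 0, -1, 0, 0, 0], ![0, 1, 0, 0, 0, 0], ![1, 0, 0, 0, 0, 0], ![0, 0, 1, 1, 0, 0], ![0, 0, 0, 0, 1, 0],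
      ![0, 0, 0, 0, 0, 1]]),
    (0, ![![-1, 0, 0, 0, 0, 0], ![0, 1, 0, 0, 0, 0], ![1, 0, 1, 0, 0, 0], ![0, 0, 0, 1, 0, 0], ![0, 0, 0, 0, 1, 0],
      ![0, 0, 0, 0, 0, 1]])]

theorem q4_ok : ChainOK Am q4 :=
  H129.ChainF.ok H129.ChainF.i6 H129.ChainF.m6 (H129.ChainF.c6 <| H129.ChainF.c6 <| H129.ChainF.c6 <| H129.ChainF.nil) (by decide +kernel)

/-- coefficients of the functional, order 4 -/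
def w4 : Fin 2 → Fin 6 → ℤ := ![![1, 1, -1, -1, 1, 0], ![-1, 0, -1, 1, 0, 0]]

theorem g4 : EigOK (fun i j => hd q4 j i) c4 w4 ![0, 1, 0, 0, 0, 0] :=
  H493.EigF.ok (H493.EigF.tt (hd q4) (H493.EigF.hM H129.ChainF.m6)) H493.EigF.r2 (H493.EigF.mc H493.EigF.r6 <| H493.EigF.mc H493.EigF.r6 <| H493.EigF.m0) H493.EigF.r6 (by decide +kernel)

theorem f4 : ∀ m, ∑ j, vec chevE6 6 r0 j * hd q4 j m = vec chevE6 6 r0 m := by decide +kernel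

theorem z4 : ∀ i, ∑ m, vec chevE6 6 r0 m * w4 i m = 0 := by decide +kernel

theorem rel_4_p {F : Type u} [Field F] [Finite F] {r s : ℕ} (hr : r.Prime) (hs : s.Prime)
    (h1 : phiC c4 (Nat.card F) 3 r) (h2 : s ∣ Nat.card F) : PG.Rel ↥(chevE6.group F) r s := by
  have := finW
  exact rel_p_of_eig hp CoxeterMatrix.E₆.toCoxeterSystem H129.TorusChar.invC_E6 (by norm_num)
    (chain_rep hp CoxeterMatrix.E₆.toCoxeterSystem hA q4_ok) g4 (Or.inl (by decide +kernel)) r0_lt f4 z4 hr hs h1.1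
    (cb_surj hs h2) h1.2 h2

/-- partial products, characteristic polynomial Φ1^2 Φ5 -/
def q5 : List (Fin 6 × Mat 6) := [
    (4, ![![-1, 0, -1, -1, -1, 0], ![0, 1, 0, 1, 1, 0], ![1, 0, 0, 0, 0, 0], ![0, 0, 1, 0, 0, 0],
      ![0, 0, 0, 1, 0, 0], ![0, 0, 0, 0, 1, 1]]),
    (3, ![![-1, 0, -1, -1, 0, 0], ![0, 1, 0, 1, 0, 0], ![1, 0, 0, 0, 0, 0], ![0, 0, 1, 0, 0, 0],
      ![0, 0, 0, 1, 1, 0], ![0, 0, 0, 0, 0, 1]]),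
    (2, ![![-1, 0, -1, 0, 0, 0], ![0, 1, 0, 0, 0, 0], ![1, 0, 0, 0, 0, 0], ![0, 0, 1, 1, 0, 0], ![0, 0, 0, 0, 1, 0],
      ![0, 0, 0, 0, 0, 1]]),
    (0, ![![-1, 0, 0, 0, 0, 0], ![0, 1, 0, 0, 0, 0], ![1, 0, 1, 0, 0, 0], ![0, 0, 0, 1, 0, 0], ![0, 0, 0, 0, 1, 0],
      ![0, 0, 0, 0, 0, 1]])]

theorem q5_ok : ChainOK Am q5 :=
  H129.ChainF.ok H129.ChainF.i6 H129.ChainF.m6 (H129.ChainF.c6 <| H129.ChainF.c6 <| H129.ChainF.c6 <| H129.ChainF.c6 <| H129.ChainF.nil) (by decide +kernel)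

/-- coefficients of the functional, order 5 -/
def w5 : Fin 4 → Fin 6 → ℤ := ![![-1, 1, 0, 0, -1, 1], ![-1, 1, 0, -1, 1, 0],
    ![-1, 0, -1, 1, 0, 0], ![-2, 0, 1, 0, 0, 0]]

theorem g5 : EigOK (fun i j => hd q5 j i) c5 w5 ![0, 0, 0, 0, 0, 1] :=
  H493.EigF.ok (H493.EigF.tt (hd q5) (H493.EigF.hM H129.ChainF.m6)) H493.EigF.r4 (H493.EigF.mc H493.EigF.r6 <| H493.EigF.mc H493.EigF.r6 <| H493.EigF.mc H493.EigF.r6 <| H493.EigF.mc H493.EigF.r6 <| H493.EigF.m0) H493.EigF.r6 (by decide +kernel)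

theorem f5 : ∀ m, ∑ j, vec chevE6 6 r0 j * hd q5 j m = vec chevE6 6 r0 m := by decide +kernel

theorem z5 : ∀ i, ∑ m, vec chevE6 6 r0 m * w5 i m = 0 := by decide +kernel

theorem rel_5_p {F : Type u} [Field F] [Finite F] {r s : ℕ} (hr : r.Prime) (hs : s.Prime)
    (h1 : phiC c5 (Nat.card F) 3 r) (h2 : s ∣ Nat.card F) : PG.Rel ↥(chevE6.group F) r s := by
  have := finW
  exact rel_p_of_eig hp CoxeterMatrix.E₆.toCoxeterSystem H129.TorusChar.invC_E6 (by norm_num)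
    (chain_rep hp CoxeterMatrix.E₆.toCoxeterSystem hA q5_ok) g5 (Or.inl (by decide +kernel)) r0_lt f5 z5 hr hs h1.1
    (cb_surj hs h2) h1.2 h2

/-- partial products, characteristic polynomial Φ1 Φ2 Φ3 Φ6 -/
def q6 : List (Fin 6 × Mat 6) := [
    (5, ![![-1, 0, -1, -1, -1, -1], ![0, 1, 0, 1, 1, 1], ![1, 0, 0, 0, 0, 0], ![0, 0, 1, 0, 0, 0],
      ![0, 0, 0, 1, 0, 0], ![0, 0, 0, 0, 1, 0]]),
    (4, ![![-1, 0, -1, -1, -1, 0], ![0, 1, 0, 1, 1, 0], ![1, 0, 0, 0, 0, 0], ![0, 0, 1, 0, 0, 0],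
      ![0, 0, 0, 1, 0, 0], ![0, 0, 0, 0, 1, 1]]),
    (3, ![![-1, 0, -1, -1, 0, 0], ![0, 1, 0, 1, 0, 0], ![1, 0, 0, 0, 0, 0], ![0, 0, 1, 0, 0, 0],
      ![0, 0, 0, 1, 1, 0], ![0, 0, 0, 0, 0, 1]]),
    (2, ![![-1, 0, -1, 0, 0, 0], ![0, 1, 0, 0, 0, 0], ![1, 0, 0, 0, 0, 0], ![0, 0, 1, 1, 0, 0], ![0, 0, 0, 0, 1, 0],
      ![0, 0, 0, 0, 0, 1]]),
    (0, ![![-1, 0, 0, 0, 0, 0], ![0, 1, 0, 0, 0, 0], ![1, 0, 1, 0, 0, 0], ![0, 0, 0, 1, 0, 0], ![0, 0, 0, 0, 1, 0],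
      ![0, 0, 0, 0, 0, 1]])]

theorem q6_ok : ChainOK Am q6 :=
  H129.ChainF.ok H129.ChainF.i6 H129.ChainF.m6 (H129.ChainF.c6 <| H129.ChainF.c6 <| H129.ChainF.c6 <| H129.ChainF.c6 <| H129.ChainF.c6 <| H129.ChainF.nil) (by decide +kernel)

/-- coefficients of the functional, order 6 -/
def w6 : Fin 2 → Fin 6 → ℤ := ![![1, 0, 1, 0, -1, -1], ![0, 2, -1, -1, 0, 1]]

theorem g6 : EigOK (fun i j => hd q6 j i) c6 w6 ![1, 0, 0, 0, 0, 0] :=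
  H493.EigF.ok (H493.EigF.tt (hd q6) (H493.EigF.hM H129.ChainF.m6)) H493.EigF.r2 (H493.EigF.mc H493.EigF.r6 <| H493.EigF.mc H493.EigF.r6 <| H493.EigF.m0) H493.EigF.r6 (by decide +kernel)

theorem f6 : ∀ m, ∑ j, vec chevE6 6 r0 j * hd q6 j m = vec chevE6 6 r0 m := by decide +kernel

theorem z6 : ∀ i, ∑ m, vec chevE6 6 r0 m * w6 i m = 0 := by decide +kernel

theorem rel_6_p {F : Type u} [Field F] [Finite F] {r s : ℕ} (hr : r.Prime) (hs : s.Prime)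
    (h1 : phiC c6 (Nat.card F) 3 r) (h2 : s ∣ Nat.card F) : PG.Rel ↥(chevE6.group F) r s := by
  have := finW
  exact rel_p_of_eig hp CoxeterMatrix.E₆.toCoxeterSystem H129.TorusChar.invC_E6 (by norm_num)
    (chain_rep hp CoxeterMatrix.E₆.toCoxeterSystem hA q6_ok) g6 (Or.inl (by decide +kernel)) r0_lt f6 z6 hr hs h1.1
    (cb_surj hs h2) h1.2 h2

end Cfsg.Agent.R2.Spec.EE.CertE6
end

-- part: R2/Spec/EE/CertF4A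
section
/-!
# Adjacency of the prime divisors of two cyclotomic values through one torus, type F4, part 1 (helper2)
-/

set_option autoImplicit false

namespace Cfsg.Agent.R2.Spec.EE.CertF4

open Cfsg.Agent.H129.WData Cfsg.Agent.ChevalleyStructure.CoxeterGeomTypes Cfsg.Agent.Nodes.RGDChev
open Cfsg.Lie Cfsg.Lie.ChevalleyDatum
open Cfsg.Agent Cfsg.Agent.H493 Cfsg.Agent.H493.PGTorus Cfsg.Agent.H493.PGCyc Cfsg.Agent.H493.PGF4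
open Cfsg.Agent.H168.ExcAdj Cfsg.Agent.R2.Spec.EE.CertBase

universe u

end Cfsg.Agent.R2.Spec.EE.CertF4
end
end

-- part: R2/Spec/EE/CertG2A
section
set_option linter.all false

/-!
# Adjacency of the prime divisors of two cyclotomic values through one torus, type G2, part 1 (helper2)
-/

set_option autoImplicit false

namespace Cfsg.Agent.R2.Spec.EE.CertG2

open Cfsg.Agent.H129.WData Cfsg.Agent.ChevalleyStructure.CoxeterGeomTypes Cfsg.Agent.Nodes.RGDChev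
open Cfsg.Lie Cfsg.Lie.ChevalleyDatum
open Cfsg.Agent Cfsg.Agent.H493 Cfsg.Agent.H493.PGTorus Cfsg.Agent.H493.PGCyc Cfsg.Agent.H493.PGG2
open Cfsg.Agent.H168.ExcAdj Cfsg.Agent.R2.Spec.EE.CertBase

universe u

end Cfsg.Agent.R2.Spec.EE.CertG2
end

-- part: R2/Spec/EE/CertBaseT
section
set_option linter.all false

/-!
# Adjacency with the characteristic through a twisted torus (helper2)

`rel_p_tw` : `H493.PGTwist.conn_p_of_eig` with `PG.Rel`; `relp_six` : `²E₆(q)`; `relp_tri` : `³D₄(q)`.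
-/

set_option autoImplicit false
set_option linter.unusedSectionVars false

namespace Cfsg.Agent.R2.Spec.EE.CertBaseT

open CoxeterSystem Cfsg Cfsg.Lie Cfsg.Lie.ChevalleyDatum
open Cfsg.Agent Cfsg.Agent.ChevalleyStructure Cfsg.Agent.ChevalleyStructure.Elts
  Cfsg.Agent.ChevalleyStructure.CoxeterGeom
  Cfsg.Agent.ChevalleyStructure.CoxeterGeomTypes Cfsg.Agent.ChevalleyStructure.NPerm
open Cfsg.Agent.Tits.Roots Cfsg.Agent.Tits.Core Cfsg.Agent.Nodes Cfsg.Agent.Nodes.Reps Cfsg.Agent.Nodes.BNOf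
  Cfsg.Agent.Nodes.RGDChev Cfsg.Agent.Nodes.Bruhat Cfsg.Agent.Nodes.SubComb Cfsg.Agent.Nodes.Coroot
open Cfsg.Agent.KFacts.RgdField Cfsg.Agent.KFacts.RgdChevCoord Cfsg.Agent.BpExc.TorCent Cfsg.Agent.BpExc.TorChev
open Cfsg.Agent.GpExc.Field Cfsg.Agent.BpExc.Tow Cfsg.Agent.BpExc.TowChev Cfsg.Agent.BpExc.Fr
  Cfsg.Agent.BpExc.LangFr Cfsg.Agent.LangThm Cfsg.Agent.BpExc Cfsg.Agent.H129 Cfsg.Agent.H129.WData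
  Cfsg.Agent.H129.TorusChar Cfsg.Agent.H129.TorusCent
  Cfsg.Agent.H129.TorusTw Cfsg.Agent.H129.TorusMain Cfsg.Agent.H493 Cfsg.Agent.H493.PGTorus
  Cfsg.Agent.H493.PGTwist

universe u

section Main

variable {D : ChevalleyDatum} {l : ℕ} {M : CoxeterMatrix (Fin l)} (hp : IsType D l M) {k : Type u} [Field k]
  [IsAlgClosed k] {W : Type*} [Group W] [Finite W] (cs : CoxeterSystem M W) {p e : ℕ} [Fact p.Prime] [CharP k p]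
  {σ : MulAut ↥(D.group k)} {g : (Fin l → ℤ) ≃+ (Fin l → ℤ)}
  {G0 : Type*} [Group G0] [Finite G0] {e0 : G0 →* ↥(D.group k)}

end Main

open Cfsg.Agent.H168.TwCover (pi6 pi4)

end Cfsg.Agent.R2.Spec.EE.CertBaseT
end

-- part: R2/Spec/EE/CertE6A_mg
section
set_option linter.all false
private noncomputable def lq26062aab03 {T : Sort _} (f :
    type_of% (@_root_.Matrix.vecCons.{0}) →
    type_of% (@_root_.Matrix.vecEmpty.{0}) →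
    type_of% (@_root_.List.cons.{0}) →
    type_of% (@_root_.Prod.mk.{0, 0}) →
    type_of% (@_root_.List.nil.{0}) → T) : T :=
  f (@_root_.Matrix.vecCons.{0}) (@_root_.Matrix.vecEmpty.{0}) (@_root_.List.cons.{0}) (@_root_.Prod.mk.{0, 0}) (@_root_.List.nil.{0})

-- part: R2/Spec/EE/CertE6A
section
/-!
# Adjacency of the prime divisors of two cyclotomic values through one torus, type E6, part 1 (helper2)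
-/

set_option autoImplicit false

namespace Cfsg.Agent.R2.Spec.EE.CertE6

open Cfsg.Agent.H129.WData Cfsg.Agent.ChevalleyStructure.CoxeterGeomTypes Cfsg.Agent.Nodes.RGDChev
open Cfsg.Lie Cfsg.Lie.ChevalleyDatum
open Cfsg.Agent Cfsg.Agent.H493 Cfsg.Agent.H493.PGTorus Cfsg.Agent.H493.PGCyc Cfsg.Agent.H493.PGE6
open Cfsg.Agent.H168.ExcAdj Cfsg.Agent.R2.Spec.EE.CertBase

universe u

/-- partial products, characteristic polynomial Φ1^3 Φ2 Φ4 -/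
def ch1_2_4 : List (Fin 6 × Mat 6) := (beta% delta% lq26062aab03 fun a b c d e =>
 (c (d 3 (a (a (-1)<|a 0<|a (-1)<|a (-1)<|a 0<|a 0<|b)<|a (a 0<|a 1<|a 0<|a 1<|a 0<|a 0<|b)<|a (a 1<|a 0<|a 0<|a 0<|a 0<|a 0<|b)<|a (a 0<|a 0<|a 1<|a 0<|a 0<|a 0<|b)<|
 a (a 0<|a 0<|a 0<|a 1<|a 1<|a 0<|b)<|a (a 0<|a 0<|a 0<|a 0<|a 0<|a 1<|b)<|b))<|
 c (d 2 (a (a (-1)<|a 0<|a (-1)<|a 0<|a 0<|a 0<|b)<|a (a 0<|a 1<|a 0<|a 0<|a 0<|a 0<|b)<|a (a 1<|a 0<|a 0<|a 0<|a 0<|a 0<|b)<|a (a 0<|a 0<|a 1<|a 1<|a 0<|a 0<|b)<|a (a 0<|a 0<|a 0<|a 0<|a 1<|a 0<|b)<|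
 a (a 0<|a 0<|a 0<|a 0<|a 0<|a 1<|b)<|b))<|
 c (d 0 (a (a (-1)<|a 0<|a 0<|a 0<|a 0<|a 0<|b)<|a (a 0<|a 1<|a 0<|a 0<|a 0<|a 0<|b)<|a (a 1<|a 0<|a 1<|a 0<|a 0<|a 0<|b)<|a (a 0<|a 0<|a 0<|a 1<|a 0<|a 0<|b)<|a (a 0<|a 0<|a 0<|a 0<|a 1<|a 0<|b)<|
 a (a 0<|a 0<|a 0<|a 0<|a 0<|a 1<|b)<|b))<|e))

theorem ch1_2_4_ok : ChainOK Am ch1_2_4 :=
  H129.ChainF.ok H129.ChainF.i6 H129.ChainF.m6 (H129.ChainF.c6 <| H129.ChainF.c6 <| H129.ChainF.c6 <| H129.ChainF.nil) (by decide +kernel)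

/-- coefficients, order 1 -/
def v1_2_4_at1 : Fin 1 → Fin 6 → ℤ := ![![0, 0, 0, 0, 0, 1]]

theorem e1_2_4_at1 : EigOK (hd ch1_2_4) c1 v1_2_4_at1 ![0, 0, 0, 0, 0, 1] :=
  H493.EigF.ok (H493.EigF.hT H493.EigF.t6) H493.EigF.r1 (H493.EigF.mc H493.EigF.r6 <| H493.EigF.m0) H493.EigF.r6 (by decide +kernel)

/-- coefficients, order 2 -/
def v1_2_4_at2 : Fin 1 → Fin 6 → ℤ := ![![1, 0, 0, 1, 0, 0]]

theorem e1_2_4_at2 : EigOK (hd ch1_2_4) c2 v1_2_4_at2 ![1, 0, 0, 0, 0, 0] :=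
  H493.EigF.ok (H493.EigF.hT H493.EigF.t6) H493.EigF.r1 (H493.EigF.mc H493.EigF.r6 <| H493.EigF.m0) H493.EigF.r6 (by decide +kernel)

/-- coefficients, order 4 -/
def v1_2_4_at4 : Fin 2 → Fin 6 → ℤ := (beta% delta% lq26062aab03 fun a b _ _ _ =>
 (a (a 0<|a 0<|a (-1)<|a (-1)<|a 0<|a 0<|b)<|a (a 1<|a 0<|a 1<|a 0<|a 0<|a 0<|b)<|b))

theorem e1_2_4_at4 : EigOK (hd ch1_2_4) c4 v1_2_4_at4 ![0, 0, 0, -1, 0, 0] :=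
  H493.EigF.ok (H493.EigF.hT H493.EigF.t6) H493.EigF.r2 (H493.EigF.mc H493.EigF.r6 <| H493.EigF.mc H493.EigF.r6 <| H493.EigF.m0) H493.EigF.r6 (by decide +kernel)

theorem rel_4_1 {F : Type u} [Field F] [Finite F] {r s : ℕ} (hr : r.Prime) (hs : s.Prime) (hrs : r ≠ s)
    (h1 : phiC c4 (Nat.card F) 3 r) (h2 : phiC c1 (Nat.card F) 3 s) :
    PG.Rel ↥(chevE6.group F) r s := by
  have := finW
  exact rel_of_eig hp CoxeterMatrix.E₆.toCoxeterSystem H129.TorusChar.invC_E6 (by norm_num)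
    (chain_rep hp CoxeterMatrix.E₆.toCoxeterSystem hA ch1_2_4_ok) e1_2_4_at4 e1_2_4_at1 hr hs hrs h1.1 h2.1 h1.2 h2.2

theorem rel_4_2 {F : Type u} [Field F] [Finite F] {r s : ℕ} (hr : r.Prime) (hs : s.Prime) (hrs : r ≠ s)
    (h1 : phiC c4 (Nat.card F) 3 r) (h2 : phiC c2 (Nat.card F) 3 s) :
    PG.Rel ↥(chevE6.group F) r s := by
  have := finW
  exact rel_of_eig hp CoxeterMatrix.E₆.toCoxeterSystem H129.TorusChar.invC_E6 (by norm_num)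
    (chain_rep hp CoxeterMatrix.E₆.toCoxeterSystem hA ch1_2_4_ok) e1_2_4_at4 e1_2_4_at2 hr hs hrs h1.1 h2.1 h1.2 h2.2

theorem rel_4_4 {F : Type u} [Field F] [Finite F] {r s : ℕ} (hr : r.Prime) (hs : s.Prime) (hrs : r ≠ s)
    (h1 : phiC c4 (Nat.card F) 3 r) (h2 : phiC c4 (Nat.card F) 3 s) :
    PG.Rel ↥(chevE6.group F) r s := by
  have := finW
  exact rel_of_eig hp CoxeterMatrix.E₆.toCoxeterSystem H129.TorusChar.invC_E6 (by norm_num)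
    (chain_rep hp CoxeterMatrix.E₆.toCoxeterSystem hA ch1_2_4_ok) e1_2_4_at4 e1_2_4_at4 hr hs hrs h1.1 h2.1 h1.2 h2.2

/-- partial products, characteristic polynomial Φ1 Φ2 Φ3 Φ6 -/
def ch1_2_3_6 : List (Fin 6 × Mat 6) := (beta% delta% lq26062aab03 fun a b c d e =>
 (c (d 5 (a (a (-1)<|a 0<|a (-1)<|a (-1)<|a (-1)<|a (-1)<|b)<|a (a 0<|a 1<|a 0<|a 1<|a 1<|a 1<|b)<|a (a 1<|a 0<|a 0<|a 0<|a 0<|a 0<|b)<|a (a 0<|a 0<|a 1<|a 0<|a 0<|a 0<|b)<|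
 a (a 0<|a 0<|a 0<|a 1<|a 0<|a 0<|b)<|a (a 0<|a 0<|a 0<|a 0<|a 1<|a 0<|b)<|b))<|
 c (d 4 (a (a (-1)<|a 0<|a (-1)<|a (-1)<|a (-1)<|a 0<|b)<|a (a 0<|a 1<|a 0<|a 1<|a 1<|a 0<|b)<|a (a 1<|a 0<|a 0<|a 0<|a 0<|a 0<|b)<|a (a 0<|a 0<|a 1<|a 0<|a 0<|a 0<|b)<|
 a (a 0<|a 0<|a 0<|a 1<|a 0<|a 0<|b)<|a (a 0<|a 0<|a 0<|a 0<|a 1<|a 1<|b)<|b))<|
 c (d 3 (a (a (-1)<|a 0<|a (-1)<|a (-1)<|a 0<|a 0<|b)<|a (a 0<|a 1<|a 0<|a 1<|a 0<|a 0<|b)<|a (a 1<|a 0<|a 0<|a 0<|a 0<|a 0<|b)<|a (a 0<|a 0<|a 1<|a 0<|a 0<|a 0<|b)<|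
 a (a 0<|a 0<|a 0<|a 1<|a 1<|a 0<|b)<|a (a 0<|a 0<|a 0<|a 0<|a 0<|a 1<|b)<|b))<|
 c (d 2 (a (a (-1)<|a 0<|a (-1)<|a 0<|a 0<|a 0<|b)<|a (a 0<|a 1<|a 0<|a 0<|a 0<|a 0<|b)<|a (a 1<|a 0<|a 0<|a 0<|a 0<|a 0<|b)<|a (a 0<|a 0<|a 1<|a 1<|a 0<|a 0<|b)<|a (a 0<|a 0<|a 0<|a 0<|a 1<|a 0<|b)<|
 a (a 0<|a 0<|a 0<|a 0<|a 0<|a 1<|b)<|b))<|
 c (d 0 (a (a (-1)<|a 0<|a 0<|a 0<|a 0<|a 0<|b)<|a (a 0<|a 1<|a 0<|a 0<|a 0<|a 0<|b)<|a (a 1<|a 0<|a 1<|a 0<|a 0<|a 0<|b)<|a (a 0<|a 0<|a 0<|a 1<|a 0<|a 0<|b)<|a (a 0<|a 0<|a 0<|a 0<|a 1<|a 0<|b)<|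
 a (a 0<|a 0<|a 0<|a 0<|a 0<|a 1<|b)<|b))<|e))

theorem ch1_2_3_6_ok : ChainOK Am ch1_2_3_6 :=
  H129.ChainF.ok H129.ChainF.i6 H129.ChainF.m6 (H129.ChainF.c6 <| H129.ChainF.c6 <| H129.ChainF.c6 <| H129.ChainF.c6 <| H129.ChainF.c6 <| H129.ChainF.nil) (by decide +kernel)

/-- coefficients, order 1 -/
def v1_2_3_6_at1 : Fin 1 → Fin 6 → ℤ := ![![1, 2, 2, 3, 2, 1]]

theorem e1_2_3_6_at1 : EigOK (hd ch1_2_3_6) c1 v1_2_3_6_at1 ![1, 0, 0, 0, 0, 0] :=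
  H493.EigF.ok (H493.EigF.hT H493.EigF.t6) H493.EigF.r1 (H493.EigF.mc H493.EigF.r6 <| H493.EigF.m0) H493.EigF.r6 (by decide +kernel)

/-- coefficients, order 2 -/
def v1_2_3_6_at2 : Fin 1 → Fin 6 → ℤ := ![![1, 0, 0, 1, 0, 1]]

theorem e1_2_3_6_at2 : EigOK (hd ch1_2_3_6) c2 v1_2_3_6_at2 ![1, 0, 0, 0, 0, 0] :=
  H493.EigF.ok (H493.EigF.hT H493.EigF.t6) H493.EigF.r1 (H493.EigF.mc H493.EigF.r6 <| H493.EigF.m0) H493.EigF.r6 (by decide +kernel)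

/-- coefficients, order 3 -/
def v1_2_3_6_at3 : Fin 2 → Fin 6 → ℤ := (beta% delta% lq26062aab03 fun a b _ _ _ =>
 (a (a 0<|a 0<|a (-1)<|a 0<|a 0<|a (-1)<|b)<|a (a 1<|a 0<|a 0<|a 0<|a 1<|a 0<|b)<|b))

theorem e1_2_3_6_at3 : EigOK (hd ch1_2_3_6) c3 v1_2_3_6_at3 ![0, 0, -1, 0, 0, 0] :=
  H493.EigF.ok (H493.EigF.hT H493.EigF.t6) H493.EigF.r2 (H493.EigF.mc H493.EigF.r6 <| H493.EigF.mc H493.EigF.r6 <| H493.EigF.m0) H493.EigF.r6 (by decide +kernel)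

/-- coefficients, order 6 -/
def v1_2_3_6_at6 : Fin 2 → Fin 6 → ℤ := (beta% delta% lq26062aab03 fun a b _ _ _ =>
 (a (a 1<|a 0<|a 1<|a 0<|a (-1)<|a (-1)<|b)<|a (a 0<|a 0<|a 1<|a 2<|a 2<|a 1<|b)<|b))

theorem e1_2_3_6_at6 : EigOK (hd ch1_2_3_6) c6 v1_2_3_6_at6 ![1, 0, 0, 0, 0, 0] :=
  H493.EigF.ok (H493.EigF.hT H493.EigF.t6) H493.EigF.r2 (H493.EigF.mc H493.EigF.r6 <| H493.EigF.mc H493.EigF.r6 <| H493.EigF.m0) H493.EigF.r6 (by decide +kernel)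

theorem rel_1_1 {F : Type u} [Field F] [Finite F] {r s : ℕ} (hr : r.Prime) (hs : s.Prime) (hrs : r ≠ s)
    (h1 : phiC c1 (Nat.card F) 3 r) (h2 : phiC c1 (Nat.card F) 3 s) :
    PG.Rel ↥(chevE6.group F) r s := by
  have := finW
  exact rel_of_eig hp CoxeterMatrix.E₆.toCoxeterSystem H129.TorusChar.invC_E6 (by norm_num)
    (chain_rep hp CoxeterMatrix.E₆.toCoxeterSystem hA ch1_2_3_6_ok) e1_2_3_6_at1 e1_2_3_6_at1 hr hs hrs h1.1 h2.1 h1.2 h2.2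

theorem rel_2_1 {F : Type u} [Field F] [Finite F] {r s : ℕ} (hr : r.Prime) (hs : s.Prime) (hrs : r ≠ s)
    (h1 : phiC c2 (Nat.card F) 3 r) (h2 : phiC c1 (Nat.card F) 3 s) :
    PG.Rel ↥(chevE6.group F) r s := by
  have := finW
  exact rel_of_eig hp CoxeterMatrix.E₆.toCoxeterSystem H129.TorusChar.invC_E6 (by norm_num)
    (chain_rep hp CoxeterMatrix.E₆.toCoxeterSystem hA ch1_2_3_6_ok) e1_2_3_6_at2 e1_2_3_6_at1 hr hs hrs h1.1 h2.1 h1.2 h2.2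

theorem rel_3_1 {F : Type u} [Field F] [Finite F] {r s : ℕ} (hr : r.Prime) (hs : s.Prime) (hrs : r ≠ s)
    (h1 : phiC c3 (Nat.card F) 3 r) (h2 : phiC c1 (Nat.card F) 3 s) :
    PG.Rel ↥(chevE6.group F) r s := by
  have := finW
  exact rel_of_eig hp CoxeterMatrix.E₆.toCoxeterSystem H129.TorusChar.invC_E6 (by norm_num)
    (chain_rep hp CoxeterMatrix.E₆.toCoxeterSystem hA ch1_2_3_6_ok) e1_2_3_6_at3 e1_2_3_6_at1 hr hs hrs h1.1 h2.1 h1.2 h2.2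

theorem rel_6_1 {F : Type u} [Field F] [Finite F] {r s : ℕ} (hr : r.Prime) (hs : s.Prime) (hrs : r ≠ s)
    (h1 : phiC c6 (Nat.card F) 3 r) (h2 : phiC c1 (Nat.card F) 3 s) :
    PG.Rel ↥(chevE6.group F) r s := by
  have := finW
  exact rel_of_eig hp CoxeterMatrix.E₆.toCoxeterSystem H129.TorusChar.invC_E6 (by norm_num)
    (chain_rep hp CoxeterMatrix.E₆.toCoxeterSystem hA ch1_2_3_6_ok) e1_2_3_6_at6 e1_2_3_6_at1 hr hs hrs h1.1 h2.1 h1.2 h2.2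

theorem rel_2_2 {F : Type u} [Field F] [Finite F] {r s : ℕ} (hr : r.Prime) (hs : s.Prime) (hrs : r ≠ s)
    (h1 : phiC c2 (Nat.card F) 3 r) (h2 : phiC c2 (Nat.card F) 3 s) :
    PG.Rel ↥(chevE6.group F) r s := by
  have := finW
  exact rel_of_eig hp CoxeterMatrix.E₆.toCoxeterSystem H129.TorusChar.invC_E6 (by norm_num)
    (chain_rep hp CoxeterMatrix.E₆.toCoxeterSystem hA ch1_2_3_6_ok) e1_2_3_6_at2 e1_2_3_6_at2 hr hs hrs h1.1 h2.1 h1.2 h2.2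

theorem rel_3_2 {F : Type u} [Field F] [Finite F] {r s : ℕ} (hr : r.Prime) (hs : s.Prime) (hrs : r ≠ s)
    (h1 : phiC c3 (Nat.card F) 3 r) (h2 : phiC c2 (Nat.card F) 3 s) :
    PG.Rel ↥(chevE6.group F) r s := by
  have := finW
  exact rel_of_eig hp CoxeterMatrix.E₆.toCoxeterSystem H129.TorusChar.invC_E6 (by norm_num)
    (chain_rep hp CoxeterMatrix.E₆.toCoxeterSystem hA ch1_2_3_6_ok) e1_2_3_6_at3 e1_2_3_6_at2 hr hs hrs h1.1 h2.1 h1.2 h2.2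

theorem rel_6_2 {F : Type u} [Field F] [Finite F] {r s : ℕ} (hr : r.Prime) (hs : s.Prime) (hrs : r ≠ s)
    (h1 : phiC c6 (Nat.card F) 3 r) (h2 : phiC c2 (Nat.card F) 3 s) :
    PG.Rel ↥(chevE6.group F) r s := by
  have := finW
  exact rel_of_eig hp CoxeterMatrix.E₆.toCoxeterSystem H129.TorusChar.invC_E6 (by norm_num)
    (chain_rep hp CoxeterMatrix.E₆.toCoxeterSystem hA ch1_2_3_6_ok) e1_2_3_6_at6 e1_2_3_6_at2 hr hs hrs h1.1 h2.1 h1.2 h2.2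

theorem rel_3_3 {F : Type u} [Field F] [Finite F] {r s : ℕ} (hr : r.Prime) (hs : s.Prime) (hrs : r ≠ s)
    (h1 : phiC c3 (Nat.card F) 3 r) (h2 : phiC c3 (Nat.card F) 3 s) :
    PG.Rel ↥(chevE6.group F) r s := by
  have := finW
  exact rel_of_eig hp CoxeterMatrix.E₆.toCoxeterSystem H129.TorusChar.invC_E6 (by norm_num)
    (chain_rep hp CoxeterMatrix.E₆.toCoxeterSystem hA ch1_2_3_6_ok) e1_2_3_6_at3 e1_2_3_6_at3 hr hs hrs h1.1 h2.1 h1.2 h2.2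

theorem rel_6_3 {F : Type u} [Field F] [Finite F] {r s : ℕ} (hr : r.Prime) (hs : s.Prime) (hrs : r ≠ s)
    (h1 : phiC c6 (Nat.card F) 3 r) (h2 : phiC c3 (Nat.card F) 3 s) :
    PG.Rel ↥(chevE6.group F) r s := by
  have := finW
  exact rel_of_eig hp CoxeterMatrix.E₆.toCoxeterSystem H129.TorusChar.invC_E6 (by norm_num)
    (chain_rep hp CoxeterMatrix.E₆.toCoxeterSystem hA ch1_2_3_6_ok) e1_2_3_6_at6 e1_2_3_6_at3 hr hs hrs h1.1 h2.1 h1.2 h2.2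

theorem rel_6_6 {F : Type u} [Field F] [Finite F] {r s : ℕ} (hr : r.Prime) (hs : s.Prime) (hrs : r ≠ s)
    (h1 : phiC c6 (Nat.card F) 3 r) (h2 : phiC c6 (Nat.card F) 3 s) :
    PG.Rel ↥(chevE6.group F) r s := by
  have := finW
  exact rel_of_eig hp CoxeterMatrix.E₆.toCoxeterSystem H129.TorusChar.invC_E6 (by norm_num)
    (chain_rep hp CoxeterMatrix.E₆.toCoxeterSystem hA ch1_2_3_6_ok) e1_2_3_6_at6 e1_2_3_6_at6 hr hs hrs h1.1 h2.1 h1.2 h2.2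

/-- partial products, characteristic polynomial Φ1 Φ2 Φ5 -/
def ch1_2_5 : List (Fin 6 × Mat 6) := (beta% delta% lq26062aab03 fun a b c d e =>
 (c (d 5 (a (a (-1)<|a 0<|a (-1)<|a (-1)<|a 0<|a 0<|b)<|a (a 0<|a (-1)<|a 0<|a (-1)<|a 0<|a 0<|b)<|a (a 1<|a 0<|a 0<|a 0<|a 0<|a 0<|b)<|a (a 0<|a 1<|a 1<|a 1<|a 0<|a 0<|b)<|
 a (a 0<|a 0<|a 0<|a 1<|a 1<|a 1<|b)<|a (a 0<|a 0<|a 0<|a 0<|a 0<|a (-1)<|b)<|b))<|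
 c (d 3 (a (a (-1)<|a 0<|a (-1)<|a (-1)<|a 0<|a 0<|b)<|a (a 0<|a (-1)<|a 0<|a (-1)<|a 0<|a 0<|b)<|a (a 1<|a 0<|a 0<|a 0<|a 0<|a 0<|b)<|a (a 0<|a 1<|a 1<|a 1<|a 0<|a 0<|b)<|
 a (a 0<|a 0<|a 0<|a 1<|a 1<|a 0<|b)<|a (a 0<|a 0<|a 0<|a 0<|a 0<|a 1<|b)<|b))<|
 c (d 2 (a (a (-1)<|a 0<|a (-1)<|a 0<|a 0<|a 0<|b)<|a (a 0<|a (-1)<|a 0<|a 0<|a 0<|a 0<|b)<|a (a 1<|a 0<|a 0<|a 0<|a 0<|a 0<|b)<|a (a 0<|a 1<|a 1<|a 1<|a 0<|a 0<|b)<|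
 a (a 0<|a 0<|a 0<|a 0<|a 1<|a 0<|b)<|a (a 0<|a 0<|a 0<|a 0<|a 0<|a 1<|b)<|b))<|
 c (d 1 (a (a (-1)<|a 0<|a 0<|a 0<|a 0<|a 0<|b)<|a (a 0<|a (-1)<|a 0<|a 0<|a 0<|a 0<|b)<|a (a 1<|a 0<|a 1<|a 0<|a 0<|a 0<|b)<|a (a 0<|a 1<|a 0<|a 1<|a 0<|a 0<|b)<|a (a 0<|a 0<|a 0<|a 0<|a 1<|a 0<|b)<|
 a (a 0<|a 0<|a 0<|a 0<|a 0<|a 1<|b)<|b))<|
 c (d 0 (a (a (-1)<|a 0<|a 0<|a 0<|a 0<|a 0<|b)<|a (a 0<|a 1<|a 0<|a 0<|a 0<|a 0<|b)<|a (a 1<|a 0<|a 1<|a 0<|a 0<|a 0<|b)<|a (a 0<|a 0<|a 0<|a 1<|a 0<|a 0<|b)<|a (a 0<|a 0<|a 0<|a 0<|a 1<|a 0<|b)<|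
 a (a 0<|a 0<|a 0<|a 0<|a 0<|a 1<|b)<|b))<|e))

theorem ch1_2_5_ok : ChainOK Am ch1_2_5 :=
  H129.ChainF.ok H129.ChainF.i6 H129.ChainF.m6 (H129.ChainF.c6 <| H129.ChainF.c6 <| H129.ChainF.c6 <| H129.ChainF.c6 <| H129.ChainF.c6 <| H129.ChainF.nil) (by decide +kernel)

/-- coefficients, order 1 -/
def v1_2_5_at1 : Fin 1 → Fin 6 → ℤ := ![![4, 6, 8, 12, 10, 5]]

theorem e1_2_5_at1 : EigOK (hd ch1_2_5) c1 v1_2_5_at1 ![-1, 0, 0, 0, 0, 1] :=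
  H493.EigF.ok (H493.EigF.hT H493.EigF.t6) H493.EigF.r1 (H493.EigF.mc H493.EigF.r6 <| H493.EigF.m0) H493.EigF.r6 (by decide +kernel)

/-- coefficients, order 2 -/
def v1_2_5_at2 : Fin 1 → Fin 6 → ℤ := ![![0, 0, 0, 0, 0, 1]]

theorem e1_2_5_at2 : EigOK (hd ch1_2_5) c2 v1_2_5_at2 ![0, 0, 0, 0, 0, 1] :=
  H493.EigF.ok (H493.EigF.hT H493.EigF.t6) H493.EigF.r1 (H493.EigF.mc H493.EigF.r6 <| H493.EigF.m0) H493.EigF.r6 (by decide +kernel)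

/-- coefficients, order 5 -/
def v1_2_5_at5 : Fin 4 → Fin 6 → ℤ := (beta% delta% lq26062aab03 fun a b _ _ _ =>
 (a (a 0<|a (-1)<|a 0<|a (-1)<|a 0<|a 0<|b)<|a (a 0<|a 0<|a 0<|a (-1)<|a 0<|a 0<|b)<|
 a (a 1<|a 0<|a 1<|a 0<|a 0<|a 0<|b)<|a (a 0<|a 0<|a 1<|a 0<|a 0<|a 0<|b)<|b))

theorem e1_2_5_at5 : EigOK (hd ch1_2_5) c5 v1_2_5_at5 ![0, -1, 0, 0, 0, 0] :=
  H493.EigF.ok (H493.EigF.hT H493.EigF.t6) H493.EigF.r4 (H493.EigF.mc H493.EigF.r6 <| H493.EigF.mc H493.EigF.r6 <| H493.EigF.mc H493.EigF.r6 <| H493.EigF.mc H493.EigF.r6 <| H493.EigF.m0) H493.EigF.r6 (by decide +kernel)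

theorem rel_5_1 {F : Type u} [Field F] [Finite F] {r s : ℕ} (hr : r.Prime) (hs : s.Prime) (hrs : r ≠ s)
    (h1 : phiC c5 (Nat.card F) 3 r) (h2 : phiC c1 (Nat.card F) 3 s) :
    PG.Rel ↥(chevE6.group F) r s := by
  have := finW
  exact rel_of_eig hp CoxeterMatrix.E₆.toCoxeterSystem H129.TorusChar.invC_E6 (by norm_num)
    (chain_rep hp CoxeterMatrix.E₆.toCoxeterSystem hA ch1_2_5_ok) e1_2_5_at5 e1_2_5_at1 hr hs hrs h1.1 h2.1 h1.2 h2.2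

theorem rel_5_2 {F : Type u} [Field F] [Finite F] {r s : ℕ} (hr : r.Prime) (hs : s.Prime) (hrs : r ≠ s)
    (h1 : phiC c5 (Nat.card F) 3 r) (h2 : phiC c2 (Nat.card F) 3 s) :
    PG.Rel ↥(chevE6.group F) r s := by
  have := finW
  exact rel_of_eig hp CoxeterMatrix.E₆.toCoxeterSystem H129.TorusChar.invC_E6 (by norm_num)
    (chain_rep hp CoxeterMatrix.E₆.toCoxeterSystem hA ch1_2_5_ok) e1_2_5_at5 e1_2_5_at2 hr hs hrs h1.1 h2.1 h1.2 h2.2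

theorem rel_5_5 {F : Type u} [Field F] [Finite F] {r s : ℕ} (hr : r.Prime) (hs : s.Prime) (hrs : r ≠ s)
    (h1 : phiC c5 (Nat.card F) 3 r) (h2 : phiC c5 (Nat.card F) 3 s) :
    PG.Rel ↥(chevE6.group F) r s := by
  have := finW
  exact rel_of_eig hp CoxeterMatrix.E₆.toCoxeterSystem H129.TorusChar.invC_E6 (by norm_num)
    (chain_rep hp CoxeterMatrix.E₆.toCoxeterSystem hA ch1_2_5_ok) e1_2_5_at5 e1_2_5_at5 hr hs hrs h1.1 h2.1 h1.2 h2.2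

/-- partial products, characteristic polynomial Φ1 Φ2 Φ8 -/
def ch1_2_8 : List (Fin 6 × Mat 6) := (beta% delta% lq26062aab03 fun a b c d e =>
 (c (d 4 (a (a (-1)<|a 0<|a (-1)<|a (-1)<|a (-1)<|a 0<|b)<|a (a 0<|a (-1)<|a 0<|a (-1)<|a (-1)<|a 0<|b)<|a (a 1<|a 0<|a 0<|a 0<|a 0<|a 0<|b)<|a (a 0<|a 1<|a 1<|a 1<|a 1<|a 0<|b)<|
 a (a 0<|a 0<|a 0<|a 1<|a 0<|a 0<|b)<|a (a 0<|a 0<|a 0<|a 0<|a 1<|a 1<|b)<|b))<|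
 c (d 3 (a (a (-1)<|a 0<|a (-1)<|a (-1)<|a 0<|a 0<|b)<|a (a 0<|a (-1)<|a 0<|a (-1)<|a 0<|a 0<|b)<|a (a 1<|a 0<|a 0<|a 0<|a 0<|a 0<|b)<|a (a 0<|a 1<|a 1<|a 1<|a 0<|a 0<|b)<|
 a (a 0<|a 0<|a 0<|a 1<|a 1<|a 0<|b)<|a (a 0<|a 0<|a 0<|a 0<|a 0<|a 1<|b)<|b))<|
 c (d 2 (a (a (-1)<|a 0<|a (-1)<|a 0<|a 0<|a 0<|b)<|a (a 0<|a (-1)<|a 0<|a 0<|a 0<|a 0<|b)<|a (a 1<|a 0<|a 0<|a 0<|a 0<|a 0<|b)<|a (a 0<|a 1<|a 1<|a 1<|a 0<|a 0<|b)<|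
 a (a 0<|a 0<|a 0<|a 0<|a 1<|a 0<|b)<|a (a 0<|a 0<|a 0<|a 0<|a 0<|a 1<|b)<|b))<|
 c (d 1 (a (a (-1)<|a 0<|a 0<|a 0<|a 0<|a 0<|b)<|a (a 0<|a (-1)<|a 0<|a 0<|a 0<|a 0<|b)<|a (a 1<|a 0<|a 1<|a 0<|a 0<|a 0<|b)<|a (a 0<|a 1<|a 0<|a 1<|a 0<|a 0<|b)<|a (a 0<|a 0<|a 0<|a 0<|a 1<|a 0<|b)<|
 a (a 0<|a 0<|a 0<|a 0<|a 0<|a 1<|b)<|b))<|
 c (d 0 (a (a (-1)<|a 0<|a 0<|a 0<|a 0<|a 0<|b)<|a (a 0<|a 1<|a 0<|a 0<|a 0<|a 0<|b)<|a (a 1<|a 0<|a 1<|a 0<|a 0<|a 0<|b)<|a (a 0<|a 0<|a 0<|a 1<|a 0<|a 0<|b)<|a (a 0<|a 0<|a 0<|a 0<|a 1<|a 0<|b)<|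
 a (a 0<|a 0<|a 0<|a 0<|a 0<|a 1<|b)<|b))<|e))

theorem ch1_2_8_ok : ChainOK Am ch1_2_8 :=
  H129.ChainF.ok H129.ChainF.i6 H129.ChainF.m6 (H129.ChainF.c6 <| H129.ChainF.c6 <| H129.ChainF.c6 <| H129.ChainF.c6 <| H129.ChainF.c6 <| H129.ChainF.nil) (by decide +kernel)

/-- coefficients, order 1 -/
def v1_2_8_at1 : Fin 1 → Fin 6 → ℤ := ![![-2, -3, -4, -6, -5, -4]]

theorem e1_2_8_at1 : EigOK (hd ch1_2_8) c1 v1_2_8_at1 ![1, -1, 0, 0, 0, 0] :=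
  H493.EigF.ok (H493.EigF.hT H493.EigF.t6) H493.EigF.r1 (H493.EigF.mc H493.EigF.r6 <| H493.EigF.m0) H493.EigF.r6 (by decide +kernel)

/-- coefficients, order 2 -/
def v1_2_8_at2 : Fin 1 → Fin 6 → ℤ := ![![0, 1, 0, 0, 1, 0]]

theorem e1_2_8_at2 : EigOK (hd ch1_2_8) c2 v1_2_8_at2 ![0, 1, 0, 0, 0, 0] :=
  H493.EigF.ok (H493.EigF.hT H493.EigF.t6) H493.EigF.r1 (H493.EigF.mc H493.EigF.r6 <| H493.EigF.m0) H493.EigF.r6 (by decide +kernel)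

/-- coefficients, order 8 -/
def v1_2_8_at8 : Fin 4 → Fin 6 → ℤ := (beta% delta% lq26062aab03 fun a b _ _ _ =>
 (a (a 0<|a (-1)<|a 0<|a (-1)<|a 0<|a 0<|b)<|a (a (-1)<|a 0<|a (-1)<|a (-1)<|a (-1)<|a 0<|b)<|
 a (a 1<|a 0<|a 0<|a 0<|a 0<|a 0<|b)<|a (a 0<|a 0<|a 1<|a 0<|a 0<|a 0<|b)<|b))

theorem e1_2_8_at8 : EigOK (hd ch1_2_8) c8 v1_2_8_at8 ![0, -1, 0, 0, 0, 0] :=
  H493.EigF.ok (H493.EigF.hT H493.EigF.t6) H493.EigF.r4 (H493.EigF.mc H493.EigF.r6 <| H493.EigF.mc H493.EigF.r6 <| H493.EigF.mc H493.EigF.r6 <| H493.EigF.mc H493.EigF.r6 <| H493.EigF.m0) H493.EigF.r6 (by decide +kernel)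

theorem rel_8_1 {F : Type u} [Field F] [Finite F] {r s : ℕ} (hr : r.Prime) (hs : s.Prime) (hrs : r ≠ s)
    (h1 : phiC c8 (Nat.card F) 3 r) (h2 : phiC c1 (Nat.card F) 3 s) :
    PG.Rel ↥(chevE6.group F) r s := by
  have := finW
  exact rel_of_eig hp CoxeterMatrix.E₆.toCoxeterSystem H129.TorusChar.invC_E6 (by norm_num)
    (chain_rep hp CoxeterMatrix.E₆.toCoxeterSystem hA ch1_2_8_ok) e1_2_8_at8 e1_2_8_at1 hr hs hrs h1.1 h2.1 h1.2 h2.2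

theorem rel_8_2 {F : Type u} [Field F] [Finite F] {r s : ℕ} (hr : r.Prime) (hs : s.Prime) (hrs : r ≠ s)
    (h1 : phiC c8 (Nat.card F) 3 r) (h2 : phiC c2 (Nat.card F) 3 s) :
    PG.Rel ↥(chevE6.group F) r s := by
  have := finW
  exact rel_of_eig hp CoxeterMatrix.E₆.toCoxeterSystem H129.TorusChar.invC_E6 (by norm_num)
    (chain_rep hp CoxeterMatrix.E₆.toCoxeterSystem hA ch1_2_8_ok) e1_2_8_at8 e1_2_8_at2 hr hs hrs h1.1 h2.1 h1.2 h2.2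

theorem rel_8_8 {F : Type u} [Field F] [Finite F] {r s : ℕ} (hr : r.Prime) (hs : s.Prime) (hrs : r ≠ s)
    (h1 : phiC c8 (Nat.card F) 3 r) (h2 : phiC c8 (Nat.card F) 3 s) :
    PG.Rel ↥(chevE6.group F) r s := by
  have := finW
  exact rel_of_eig hp CoxeterMatrix.E₆.toCoxeterSystem H129.TorusChar.invC_E6 (by norm_num)
    (chain_rep hp CoxeterMatrix.E₆.toCoxeterSystem hA ch1_2_8_ok) e1_2_8_at8 e1_2_8_at8 hr hs hrs h1.1 h2.1 h1.2 h2.2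

/-- partial products, characteristic polynomial Φ3 Φ12 -/
def ch3_12 : List (Fin 6 × Mat 6) := (beta% delta% lq26062aab03 fun a b c d e =>
 (c (d 5 (a (a (-1)<|a 0<|a (-1)<|a (-1)<|a (-1)<|a (-1)<|b)<|a (a 0<|a (-1)<|a 0<|a (-1)<|a (-1)<|a (-1)<|b)<|a (a 1<|a 0<|a 0<|a 0<|a 0<|a 0<|b)<|a (a 0<|a 1<|a 1<|a 1<|a 1<|a 1<|b)<|
 a (a 0<|a 0<|a 0<|a 1<|a 0<|a 0<|b)<|a (a 0<|a 0<|a 0<|a 0<|a 1<|a 0<|b)<|b))<|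
 c (d 4 (a (a (-1)<|a 0<|a (-1)<|a (-1)<|a (-1)<|a 0<|b)<|a (a 0<|a (-1)<|a 0<|a (-1)<|a (-1)<|a 0<|b)<|a (a 1<|a 0<|a 0<|a 0<|a 0<|a 0<|b)<|a (a 0<|a 1<|a 1<|a 1<|a 1<|a 0<|b)<|
 a (a 0<|a 0<|a 0<|a 1<|a 0<|a 0<|b)<|a (a 0<|a 0<|a 0<|a 0<|a 1<|a 1<|b)<|b))<|
 c (d 3 (a (a (-1)<|a 0<|a (-1)<|a (-1)<|a 0<|a 0<|b)<|a (a 0<|a (-1)<|a 0<|a (-1)<|a 0<|a 0<|b)<|a (a 1<|a 0<|a 0<|a 0<|a 0<|a 0<|b)<|a (a 0<|a 1<|a 1<|a 1<|a 0<|a 0<|b)<|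
 a (a 0<|a 0<|a 0<|a 1<|a 1<|a 0<|b)<|a (a 0<|a 0<|a 0<|a 0<|a 0<|a 1<|b)<|b))<|
 c (d 2 (a (a (-1)<|a 0<|a (-1)<|a 0<|a 0<|a 0<|b)<|a (a 0<|a (-1)<|a 0<|a 0<|a 0<|a 0<|b)<|a (a 1<|a 0<|a 0<|a 0<|a 0<|a 0<|b)<|a (a 0<|a 1<|a 1<|a 1<|a 0<|a 0<|b)<|
 a (a 0<|a 0<|a 0<|a 0<|a 1<|a 0<|b)<|a (a 0<|a 0<|a 0<|a 0<|a 0<|a 1<|b)<|b))<|
 c (d 1 (a (a (-1)<|a 0<|a 0<|a 0<|a 0<|a 0<|b)<|a (a 0<|a (-1)<|a 0<|a 0<|a 0<|a 0<|b)<|a (a 1<|a 0<|a 1<|a 0<|a 0<|a 0<|b)<|a (a 0<|a 1<|a 0<|a 1<|a 0<|a 0<|b)<|a (a 0<|a 0<|a 0<|a 0<|a 1<|a 0<|b)<|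
 a (a 0<|a 0<|a 0<|a 0<|a 0<|a 1<|b)<|b))<|
 c (d 0 (a (a (-1)<|a 0<|a 0<|a 0<|a 0<|a 0<|b)<|a (a 0<|a 1<|a 0<|a 0<|a 0<|a 0<|b)<|a (a 1<|a 0<|a 1<|a 0<|a 0<|a 0<|b)<|a (a 0<|a 0<|a 0<|a 1<|a 0<|a 0<|b)<|a (a 0<|a 0<|a 0<|a 0<|a 1<|a 0<|b)<|
 a (a 0<|a 0<|a 0<|a 0<|a 0<|a 1<|b)<|b))<|e))

theorem ch3_12_ok : ChainOK Am ch3_12 :=
  H129.ChainF.ok H129.ChainF.i6 H129.ChainF.m6 (H129.ChainF.c6 <| H129.ChainF.c6 <| H129.ChainF.c6 <| H129.ChainF.c6 <| H129.ChainF.c6 <| H129.ChainF.c6 <| H129.ChainF.nil) (by decide +kernel)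

/-- coefficients, order 3 -/
def v3_12_at3 : Fin 2 → Fin 6 → ℤ := (beta% delta% lq26062aab03 fun a b _ _ _ =>
 (a (a 0<|a 0<|a (-1)<|a 0<|a 0<|a (-1)<|b)<|a (a 1<|a 0<|a 0<|a 0<|a 1<|a 0<|b)<|b))

theorem e3_12_at3 : EigOK (hd ch3_12) c3 v3_12_at3 ![0, 0, -1, 0, 0, 0] :=
  H493.EigF.ok (H493.EigF.hT H493.EigF.t6) H493.EigF.r2 (H493.EigF.mc H493.EigF.r6 <| H493.EigF.mc H493.EigF.r6 <| H493.EigF.m0) H493.EigF.r6 (by decide +kernel)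

/-- coefficients, order 12 -/
def v3_12_at12 : Fin 4 → Fin 6 → ℤ := (beta% delta% lq26062aab03 fun a b _ _ _ =>
 (a (a 0<|a 1<|a 0<|a 0<|a 0<|a 0<|b)<|a (a 1<|a 0<|a 1<|a 1<|a 0<|a 0<|b)<|
 a (a 0<|a 0<|a 1<|a 1<|a 1<|a 0<|b)<|a (a 0<|a 1<|a 0<|a 1<|a 1<|a 1<|b)<|b))

theorem e3_12_at12 : EigOK (hd ch3_12) c12 v3_12_at12 ![0, 1, 0, 0, 0, -1] :=
  H493.EigF.ok (H493.EigF.hT H493.EigF.t6) H493.EigF.r4 (H493.EigF.mc H493.EigF.r6 <| H493.EigF.mc H493.EigF.r6 <| H493.EigF.mc H493.EigF.r6 <| H493.EigF.mc H493.EigF.r6 <| H493.EigF.m0) H493.EigF.r6 (by decide +kernel)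

theorem rel_12_3 {F : Type u} [Field F] [Finite F] {r s : ℕ} (hr : r.Prime) (hs : s.Prime) (hrs : r ≠ s)
    (h1 : phiC c12 (Nat.card F) 3 r) (h2 : phiC c3 (Nat.card F) 3 s) :
    PG.Rel ↥(chevE6.group F) r s := by
  have := finW
  exact rel_of_eig hp CoxeterMatrix.E₆.toCoxeterSystem H129.TorusChar.invC_E6 (by norm_num)
    (chain_rep hp CoxeterMatrix.E₆.toCoxeterSystem hA ch3_12_ok) e3_12_at12 e3_12_at3 hr hs hrs h1.1 h2.1 h1.2 h2.2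

theorem rel_12_12 {F : Type u} [Field F] [Finite F] {r s : ℕ} (hr : r.Prime) (hs : s.Prime) (hrs : r ≠ s)
    (h1 : phiC c12 (Nat.card F) 3 r) (h2 : phiC c12 (Nat.card F) 3 s) :
    PG.Rel ↥(chevE6.group F) r s := by
  have := finW
  exact rel_of_eig hp CoxeterMatrix.E₆.toCoxeterSystem H129.TorusChar.invC_E6 (by norm_num)
    (chain_rep hp CoxeterMatrix.E₆.toCoxeterSystem hA ch3_12_ok) e3_12_at12 e3_12_at12 hr hs hrs h1.1 h2.1 h1.2 h2.2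

/-- partial products, characteristic polynomial Φ1 Φ2 Φ4 Φ6 -/
def ch1_2_4_6 : List (Fin 6 × Mat 6) := (beta% delta% lq26062aab03 fun a b c d e =>
 (c (d 3 (a (a (-1)<|a (-1)<|a (-1)<|a (-2)<|a (-1)<|a 0<|b)<|a (a 0<|a 0<|a 0<|a 0<|a (-1)<|a 0<|b)<|a (a 1<|a 0<|a 0<|a 0<|a 0<|a 0<|b)<|a (a 0<|a 0<|a 1<|a 1<|a 1<|a 0<|b)<|
 a (a 0<|a 1<|a 0<|a 0<|a 0<|a 0<|b)<|a (a 0<|a 0<|a 0<|a 1<|a 1<|a 1<|b)<|b))<|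
 c (d 4 (a (a (-1)<|a (-1)<|a (-1)<|a (-1)<|a (-1)<|a 0<|b)<|a (a 0<|a 0<|a 0<|a (-1)<|a (-1)<|a 0<|b)<|a (a 1<|a 0<|a 0<|a 0<|a 0<|a 0<|b)<|a (a 0<|a 0<|a 1<|a 1<|a 1<|a 0<|b)<|
 a (a 0<|a 1<|a 0<|a 1<|a 0<|a 0<|b)<|a (a 0<|a 0<|a 0<|a 0<|a 1<|a 1<|b)<|b))<|
 c (d 1 (a (a (-1)<|a (-1)<|a (-1)<|a (-1)<|a 0<|a 0<|b)<|a (a 0<|a 0<|a 0<|a (-1)<|a 0<|a 0<|b)<|a (a 1<|a 0<|a 0<|a 0<|a 0<|a 0<|b)<|a (a 0<|a 0<|a 1<|a 1<|a 0<|a 0<|b)<|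
 a (a 0<|a 1<|a 0<|a 1<|a 1<|a 0<|b)<|a (a 0<|a 0<|a 0<|a 0<|a 0<|a 1<|b)<|b))<|
 c (d 3 (a (a (-1)<|a 0<|a (-1)<|a (-1)<|a 0<|a 0<|b)<|a (a 0<|a (-1)<|a 0<|a (-1)<|a 0<|a 0<|b)<|a (a 1<|a 0<|a 0<|a 0<|a 0<|a 0<|b)<|a (a 0<|a 1<|a 1<|a 1<|a 0<|a 0<|b)<|
 a (a 0<|a 0<|a 0<|a 1<|a 1<|a 0<|b)<|a (a 0<|a 0<|a 0<|a 0<|a 0<|a 1<|b)<|b))<|
 c (d 2 (a (a (-1)<|a 0<|a (-1)<|a 0<|a 0<|a 0<|b)<|a (a 0<|a (-1)<|a 0<|a 0<|a 0<|a 0<|b)<|a (a 1<|a 0<|a 0<|a 0<|a 0<|a 0<|b)<|a (a 0<|a 1<|a 1<|a 1<|a 0<|a 0<|b)<|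
 a (a 0<|a 0<|a 0<|a 0<|a 1<|a 0<|b)<|a (a 0<|a 0<|a 0<|a 0<|a 0<|a 1<|b)<|b))<|
 c (d 1 (a (a (-1)<|a 0<|a 0<|a 0<|a 0<|a 0<|b)<|a (a 0<|a (-1)<|a 0<|a 0<|a 0<|a 0<|b)<|a (a 1<|a 0<|a 1<|a 0<|a 0<|a 0<|b)<|a (a 0<|a 1<|a 0<|a 1<|a 0<|a 0<|b)<|a (a 0<|a 0<|a 0<|a 0<|a 1<|a 0<|b)<|
 a (a 0<|a 0<|a 0<|a 0<|a 0<|a 1<|b)<|b))<|
 c (d 0 (a (a (-1)<|a 0<|a 0<|a 0<|a 0<|a 0<|b)<|a (a 0<|a 1<|a 0<|a 0<|a 0<|a 0<|b)<|a (a 1<|a 0<|a 1<|a 0<|a 0<|a 0<|b)<|a (a 0<|a 0<|a 0<|a 1<|a 0<|a 0<|b)<|a (a 0<|a 0<|a 0<|a 0<|a 1<|a 0<|b)<|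
 a (a 0<|a 0<|a 0<|a 0<|a 0<|a 1<|b)<|b))<|e))

theorem ch1_2_4_6_ok : ChainOK Am ch1_2_4_6 :=
  H129.ChainF.ok H129.ChainF.i6 H129.ChainF.m6 (H129.ChainF.c6 <| H129.ChainF.c6 <| H129.ChainF.c6 <| H129.ChainF.c6 <| H129.ChainF.c6 <| H129.ChainF.c6 <| H129.ChainF.c6 <| H129.ChainF.nil) (by decide +kernel)

/-- coefficients, order 4 -/
def v1_2_4_6_at4 : Fin 2 → Fin 6 → ℤ := (beta% delta% lq26062aab03 fun a b _ _ _ =>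
 (a (a 0<|a 1<|a 0<|a 0<|a 0<|a 0<|b)<|a (a 0<|a 0<|a 0<|a 0<|a 1<|a 0<|b)<|b))

theorem e1_2_4_6_at4 : EigOK (hd ch1_2_4_6) c4 v1_2_4_6_at4 ![0, 1, 0, 0, 0, 0] :=
  H493.EigF.ok (H493.EigF.hT H493.EigF.t6) H493.EigF.r2 (H493.EigF.mc H493.EigF.r6 <| H493.EigF.mc H493.EigF.r6 <| H493.EigF.m0) H493.EigF.r6 (by decide +kernel)

/-- coefficients, order 6 -/
def v1_2_4_6_at6 : Fin 2 → Fin 6 → ℤ := (beta% delta% lq26062aab03 fun a b _ _ _ =>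
 (a (a 1<|a 0<|a 1<|a 0<|a 0<|a 0<|b)<|a (a 0<|a 1<|a 1<|a 2<|a 1<|a 0<|b)<|b))

theorem e1_2_4_6_at6 : EigOK (hd ch1_2_4_6) c6 v1_2_4_6_at6 ![1, 0, 0, 0, 0, 0] :=
  H493.EigF.ok (H493.EigF.hT H493.EigF.t6) H493.EigF.r2 (H493.EigF.mc H493.EigF.r6 <| H493.EigF.mc H493.EigF.r6 <| H493.EigF.m0) H493.EigF.r6 (by decide +kernel)

theorem rel_6_4 {F : Type u} [Field F] [Finite F] {r s : ℕ} (hr : r.Prime) (hs : s.Prime) (hrs : r ≠ s)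
    (h1 : phiC c6 (Nat.card F) 3 r) (h2 : phiC c4 (Nat.card F) 3 s) :
    PG.Rel ↥(chevE6.group F) r s := by
  have := finW
  exact rel_of_eig hp CoxeterMatrix.E₆.toCoxeterSystem H129.TorusChar.invC_E6 (by norm_num)
    (chain_rep hp CoxeterMatrix.E₆.toCoxeterSystem hA ch1_2_4_6_ok) e1_2_4_6_at6 e1_2_4_6_at4 hr hs hrs h1.1 h2.1 h1.2 h2.2

/-- partial products, characteristic polynomial Φ9 -/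
def ch9 : List (Fin 6 × Mat 6) := (beta% delta% lq26062aab03 fun a b c d e =>
 (c (d 5 (a (a (-1)<|a (-1)<|a (-1)<|a (-2)<|a (-1)<|a (-1)<|b)<|a (a 0<|a 0<|a 0<|a 0<|a (-1)<|a (-1)<|b)<|a (a 1<|a 0<|a 0<|a 0<|a 0<|a 0<|b)<|a (a 0<|a 0<|a 1<|a 1<|a 1<|a 1<|b)<|
 a (a 0<|a 1<|a 0<|a 0<|a 0<|a 0<|b)<|a (a 0<|a 0<|a 0<|a 1<|a 1<|a 0<|b)<|b))<|
 c (d 3 (a (a (-1)<|a (-1)<|a (-1)<|a (-2)<|a (-1)<|a 0<|b)<|a (a 0<|a 0<|a 0<|a 0<|a (-1)<|a 0<|b)<|a (a 1<|a 0<|a 0<|a 0<|a 0<|a 0<|b)<|a (a 0<|a 0<|a 1<|a 1<|a 1<|a 0<|b)<|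
 a (a 0<|a 1<|a 0<|a 0<|a 0<|a 0<|b)<|a (a 0<|a 0<|a 0<|a 1<|a 1<|a 1<|b)<|b))<|
 c (d 4 (a (a (-1)<|a (-1)<|a (-1)<|a (-1)<|a (-1)<|a 0<|b)<|a (a 0<|a 0<|a 0<|a (-1)<|a (-1)<|a 0<|b)<|a (a 1<|a 0<|a 0<|a 0<|a 0<|a 0<|b)<|a (a 0<|a 0<|a 1<|a 1<|a 1<|a 0<|b)<|
 a (a 0<|a 1<|a 0<|a 1<|a 0<|a 0<|b)<|a (a 0<|a 0<|a 0<|a 0<|a 1<|a 1<|b)<|b))<|
 c (d 1 (a (a (-1)<|a (-1)<|a (-1)<|a (-1)<|a 0<|a 0<|b)<|a (a 0<|a 0<|a 0<|a (-1)<|a 0<|a 0<|b)<|a (a 1<|a 0<|a 0<|a 0<|a 0<|a 0<|b)<|a (a 0<|a 0<|a 1<|a 1<|a 0<|a 0<|b)<|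
 a (a 0<|a 1<|a 0<|a 1<|a 1<|a 0<|b)<|a (a 0<|a 0<|a 0<|a 0<|a 0<|a 1<|b)<|b))<|
 c (d 3 (a (a (-1)<|a 0<|a (-1)<|a (-1)<|a 0<|a 0<|b)<|a (a 0<|a (-1)<|a 0<|a (-1)<|a 0<|a 0<|b)<|a (a 1<|a 0<|a 0<|a 0<|a 0<|a 0<|b)<|a (a 0<|a 1<|a 1<|a 1<|a 0<|a 0<|b)<|
 a (a 0<|a 0<|a 0<|a 1<|a 1<|a 0<|b)<|a (a 0<|a 0<|a 0<|a 0<|a 0<|a 1<|b)<|b))<|
 c (d 2 (a (a (-1)<|a 0<|a (-1)<|a 0<|a 0<|a 0<|b)<|a (a 0<|a (-1)<|a 0<|a 0<|a 0<|a 0<|b)<|a (a 1<|a 0<|a 0<|a 0<|a 0<|a 0<|b)<|a (a 0<|a 1<|a 1<|a 1<|a 0<|a 0<|b)<|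
 a (a 0<|a 0<|a 0<|a 0<|a 1<|a 0<|b)<|a (a 0<|a 0<|a 0<|a 0<|a 0<|a 1<|b)<|b))<|
 c (d 1 (a (a (-1)<|a 0<|a 0<|a 0<|a 0<|a 0<|b)<|a (a 0<|a (-1)<|a 0<|a 0<|a 0<|a 0<|b)<|a (a 1<|a 0<|a 1<|a 0<|a 0<|a 0<|b)<|a (a 0<|a 1<|a 0<|a 1<|a 0<|a 0<|b)<|a (a 0<|a 0<|a 0<|a 0<|a 1<|a 0<|b)<|
 a (a 0<|a 0<|a 0<|a 0<|a 0<|a 1<|b)<|b))<|
 c (d 0 (a (a (-1)<|a 0<|a 0<|a 0<|a 0<|a 0<|b)<|a (a 0<|a 1<|a 0<|a 0<|a 0<|a 0<|b)<|a (a 1<|a 0<|a 1<|a 0<|a 0<|a 0<|b)<|a (a 0<|a 0<|a 0<|a 1<|a 0<|a 0<|b)<|a (a 0<|a 0<|a 0<|a 0<|a 1<|a 0<|b)<|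
 a (a 0<|a 0<|a 0<|a 0<|a 0<|a 1<|b)<|b))<|e))

theorem ch9_ok : ChainOK Am ch9 :=
  H129.ChainF.ok H129.ChainF.i6 H129.ChainF.m6 (H129.ChainF.c6 <| H129.ChainF.c6 <| H129.ChainF.c6 <| H129.ChainF.c6 <| H129.ChainF.c6 <| H129.ChainF.c6 <| H129.ChainF.c6 <| H129.ChainF.c6 <| H129.ChainF.nil) (by decide +kernel)

/-- coefficients, order 9 -/
def v9_at9 : Fin 6 → Fin 6 → ℤ := (beta% delta% lq26062aab03 fun a b _ _ _ =>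
 (a (a (-1)<|a 0<|a (-1)<|a (-1)<|a (-1)<|a (-1)<|b)<|a (a 0<|a 0<|a (-1)<|a (-1)<|a 0<|a 0<|b)<|
 a (a 0<|a (-1)<|a 0<|a (-1)<|a 0<|a 0<|b)<|a (a 0<|a 0<|a 0<|a 0<|a (-1)<|a (-1)<|b)<|a (a 0<|a 1<|a 0<|a 0<|a 0<|a 0<|b)<|a (a 0<|a 0<|a 0<|a 0<|a 1<|a 0<|b)<|b))

theorem e9_at9 : EigOK (hd ch9) c9 v9_at9 ![-1, 0, 0, 0, 0, 0] :=
  H493.EigF.ok (H493.EigF.hT H493.EigF.t6) H493.EigF.r6 (H493.EigF.mc H493.EigF.r6 <| H493.EigF.mc H493.EigF.r6 <| H493.EigF.mc H493.EigF.r6 <| H493.EigF.mc H493.EigF.r6 <| H493.EigF.mc H493.EigF.r6 <| H493.EigF.mc H493.EigF.r6 <| H493.EigF.m0) H493.EigF.r6 (by decide +kernel)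

theorem rel_9_9 {F : Type u} [Field F] [Finite F] {r s : ℕ} (hr : r.Prime) (hs : s.Prime) (hrs : r ≠ s)
    (h1 : phiC c9 (Nat.card F) 3 r) (h2 : phiC c9 (Nat.card F) 3 s) :
    PG.Rel ↥(chevE6.group F) r s := by
  have := finW
  exact rel_of_eig hp CoxeterMatrix.E₆.toCoxeterSystem H129.TorusChar.invC_E6 (by norm_num)
    (chain_rep hp CoxeterMatrix.E₆.toCoxeterSystem hA ch9_ok) e9_at9 e9_at9 hr hs hrs h1.1 h2.1 h1.2 h2.2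

end Cfsg.Agent.R2.Spec.EE.CertE6
end

-- part: R2/Spec/EE/CertTE6A
section
/-!
# Adjacency of the prime divisors of two cyclotomic values through one torus, type TE6, part 1 (helper2)
-/

set_option autoImplicit false

namespace Cfsg.Agent.R2.Spec.EE.CertTE6

open Cfsg Cfsg.Lie Cfsg.Lie.ChevalleyDatum Cfsg.Agent Cfsg.Agent.H129 Cfsg.Agent.H129.WData
open Cfsg.Agent.Nodes Cfsg.Agent.Nodes.RGDChev Cfsg.Agent.Tits.Roots Cfsg.Agent.ChevalleyStructure.CoxeterGeomTypes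
open Cfsg.Agent.H493 Cfsg.Agent.H493.PGTorus Cfsg.Agent.H493.PGCyc Cfsg.Agent.H168.ExcAdj Cfsg.Agent.H168.TwAdj
open Cfsg.Agent.H168.TwCover (pi6 pi4 phiT rel_six rel_tri)
open Cfsg.Agent.R2.Spec.EE.CertBaseT

universe u

/-- partial products, characteristic polynomial Φ1 Φ2 Φ8 -/
def ch1_2_8 : List (Fin 6 × Mat 6) := (beta% delta% lq26062aab03 fun a b c d e =>
 (c (d 3 (a (a 1<|a 0<|a 1<|a 1<|a 0<|a 0<|b)<|a (a 0<|a (-1)<|a 0<|a (-1)<|a 0<|a 0<|b)<|a (a 0<|a 0<|a (-1)<|a (-1)<|a 0<|a 0<|b)<|a (a 0<|a 1<|a 1<|a 1<|a 0<|a 0<|b)<|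
 a (a 0<|a 0<|a 0<|a 1<|a 1<|a 0<|b)<|a (a 0<|a 0<|a 0<|a 0<|a 0<|a 1<|b)<|b))<|
 c (d 2 (a (a 1<|a 0<|a 1<|a 0<|a 0<|a 0<|b)<|a (a 0<|a (-1)<|a 0<|a 0<|a 0<|a 0<|b)<|a (a 0<|a 0<|a (-1)<|a 0<|a 0<|a 0<|b)<|a (a 0<|a 1<|a 1<|a 1<|a 0<|a 0<|b)<|a (a 0<|a 0<|a 0<|a 0<|a 1<|a 0<|b)<|
 a (a 0<|a 0<|a 0<|a 0<|a 0<|a 1<|b)<|b))<|
 c (d 1 (a (a 1<|a 0<|a 0<|a 0<|a 0<|a 0<|b)<|a (a 0<|a (-1)<|a 0<|a 0<|a 0<|a 0<|b)<|a (a 0<|a 0<|a 1<|a 0<|a 0<|a 0<|b)<|a (a 0<|a 1<|a 0<|a 1<|a 0<|a 0<|b)<|a (a 0<|a 0<|a 0<|a 0<|a 1<|a 0<|b)<|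
 a (a 0<|a 0<|a 0<|a 0<|a 0<|a 1<|b)<|b))<|e))

theorem ch1_2_8_ok : ChainOK PGE6.Am ch1_2_8 :=
  H129.ChainF.ok H129.ChainF.i6 H129.ChainF.m6 (H129.ChainF.c6 <| H129.ChainF.c6 <| H129.ChainF.c6 <| H129.ChainF.nil) (by decide +kernel)

/-- the matrix -/
def th1_2_8 : Mat 6 := (beta% delta% lq26062aab03 fun a b _ _ _ =>
 (a (a 0<|a 0<|a 0<|a 0<|a 0<|a 1<|b)<|a (a 0<|a (-1)<|a 0<|a (-1)<|a 0<|a 0<|b)<|a (a 0<|a 0<|a 0<|a 1<|a 1<|a 0<|b)<|a (a 0<|a 1<|a 1<|a 1<|a 0<|a 0<|b)<|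
 a (a 0<|a 0<|a (-1)<|a (-1)<|a 0<|a 0<|b)<|a (a 1<|a 0<|a 1<|a 1<|a 0<|a 0<|b)<|b))

theorem th1_2_8_eq : ∀ j, hd ch1_2_8 (pi6 j) = th1_2_8 j := by decide +kernel

/-- partial products, characteristic polynomial Φ6 Φ12 -/
def ch6_12 : List (Fin 6 × Mat 6) := (beta% delta% lq26062aab03 fun a b c d e =>
 (c (d 2 (a (a 0<|a 0<|a 0<|a (-1)<|a 0<|a 0<|b)<|a (a 0<|a (-1)<|a (-1)<|a (-1)<|a 0<|a 0<|b)<|a (a (-1)<|a 0<|a (-1)<|a 0<|a 0<|a 0<|b)<|a (a 1<|a 1<|a 1<|a 1<|a 0<|a 0<|b)<|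
 a (a 0<|a 0<|a 1<|a 1<|a 1<|a 0<|b)<|a (a 0<|a 0<|a 0<|a 0<|a 0<|a 1<|b)<|b))<|
 c (d 3 (a (a 0<|a 0<|a (-1)<|a (-1)<|a 0<|a 0<|b)<|a (a 0<|a (-1)<|a 0<|a (-1)<|a 0<|a 0<|b)<|a (a (-1)<|a 0<|a 0<|a 0<|a 0<|a 0<|b)<|a (a 1<|a 1<|a 1<|a 1<|a 0<|a 0<|b)<|
 a (a 0<|a 0<|a 0<|a 1<|a 1<|a 0<|b)<|a (a 0<|a 0<|a 0<|a 0<|a 0<|a 1<|b)<|b))<|
 c (d 0 (a (a 0<|a 0<|a (-1)<|a 0<|a 0<|a 0<|b)<|a (a 0<|a (-1)<|a 0<|a 0<|a 0<|a 0<|b)<|a (a (-1)<|a 0<|a 0<|a 0<|a 0<|a 0<|b)<|a (a 1<|a 1<|a 1<|a 1<|a 0<|a 0<|b)<|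
 a (a 0<|a 0<|a 0<|a 0<|a 1<|a 0<|b)<|a (a 0<|a 0<|a 0<|a 0<|a 0<|a 1<|b)<|b))<|
 c (d 2 (a (a (-1)<|a 0<|a (-1)<|a 0<|a 0<|a 0<|b)<|a (a 0<|a (-1)<|a 0<|a 0<|a 0<|a 0<|b)<|a (a 1<|a 0<|a 0<|a 0<|a 0<|a 0<|b)<|a (a 0<|a 1<|a 1<|a 1<|a 0<|a 0<|b)<|
 a (a 0<|a 0<|a 0<|a 0<|a 1<|a 0<|b)<|a (a 0<|a 0<|a 0<|a 0<|a 0<|a 1<|b)<|b))<|
 c (d 1 (a (a (-1)<|a 0<|a 0<|a 0<|a 0<|a 0<|b)<|a (a 0<|a (-1)<|a 0<|a 0<|a 0<|a 0<|b)<|a (a 1<|a 0<|a 1<|a 0<|a 0<|a 0<|b)<|a (a 0<|a 1<|a 0<|a 1<|a 0<|a 0<|b)<|a (a 0<|a 0<|a 0<|a 0<|a 1<|a 0<|b)<|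
 a (a 0<|a 0<|a 0<|a 0<|a 0<|a 1<|b)<|b))<|
 c (d 0 (a (a (-1)<|a 0<|a 0<|a 0<|a 0<|a 0<|b)<|a (a 0<|a 1<|a 0<|a 0<|a 0<|a 0<|b)<|a (a 1<|a 0<|a 1<|a 0<|a 0<|a 0<|b)<|a (a 0<|a 0<|a 0<|a 1<|a 0<|a 0<|b)<|a (a 0<|a 0<|a 0<|a 0<|a 1<|a 0<|b)<|
 a (a 0<|a 0<|a 0<|a 0<|a 0<|a 1<|b)<|b))<|e))

theorem ch6_12_ok : ChainOK PGE6.Am ch6_12 :=
  H129.ChainF.ok H129.ChainF.i6 H129.ChainF.m6 (H129.ChainF.c6 <| H129.ChainF.c6 <| H129.ChainF.c6 <| H129.ChainF.c6 <| H129.ChainF.c6 <| H129.ChainF.c6 <| H129.ChainF.nil) (by decide +kernel)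

/-- the matrix -/
def th6_12 : Mat 6 := (beta% delta% lq26062aab03 fun a b _ _ _ =>
 (a (a 0<|a 0<|a 0<|a 0<|a 0<|a 1<|b)<|a (a 0<|a (-1)<|a (-1)<|a (-1)<|a 0<|a 0<|b)<|a (a 0<|a 0<|a 1<|a 1<|a 1<|a 0<|b)<|
 a (a 1<|a 1<|a 1<|a 1<|a 0<|a 0<|b)<|a (a (-1)<|a 0<|a (-1)<|a 0<|a 0<|a 0<|b)<|a (a 0<|a 0<|a 0<|a (-1)<|a 0<|a 0<|b)<|b))

theorem th6_12_eq : ∀ j, hd ch6_12 (pi6 j) = th6_12 j := by decide +kernel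

end Cfsg.Agent.R2.Spec.EE.CertTE6
end
end

-- part: R2/Spec/EE/CertTE6P_mg
section
set_option linter.all false

-- part: R2/Spec/EE/CertTE6P
section
/-!
# Adjacency with the characteristic, type TE6 (helper2)
-/

set_option autoImplicit false

namespace Cfsg.Agent.R2.Spec.EE.CertTE6

open Cfsg Cfsg.Lie Cfsg.Lie.ChevalleyDatum Cfsg.Agent Cfsg.Agent.H129 Cfsg.Agent.H129.WData
open Cfsg.Agent.Nodes Cfsg.Agent.Nodes.RGDChev Cfsg.Agent.Tits.Roots Cfsg.Agent.ChevalleyStructure.CoxeterGeomTypes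
open Cfsg.Agent.H493 Cfsg.Agent.H493.PGTorus Cfsg.Agent.H493.PGCyc Cfsg.Agent.H168.ExcAdj Cfsg.Agent.H168.TwAdj
open Cfsg.Agent.H168.TwCover (pi6 pi4 phiT rel_six rel_tri)
open Cfsg.Agent.R2.Spec.EE.CertBaseT

universe u

end Cfsg.Agent.R2.Spec.EE.CertTE6
end

-- part: R2/Spec/EE/CertTD4A
section
/-!
# Adjacency of the prime divisors of two cyclotomic values through one torus, type TD4, part 1 (helper2)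
-/

set_option autoImplicit false

namespace Cfsg.Agent.R2.Spec.EE.CertTD4

open Cfsg Cfsg.Lie Cfsg.Lie.ChevalleyDatum Cfsg.Agent Cfsg.Agent.H129 Cfsg.Agent.H129.WData
open Cfsg.Agent.Nodes Cfsg.Agent.Nodes.RGDChev Cfsg.Agent.Tits.Roots Cfsg.Agent.ChevalleyStructure.CoxeterGeomTypes
open Cfsg.Agent.H493 Cfsg.Agent.H493.PGTorus Cfsg.Agent.H493.PGCyc Cfsg.Agent.H168.ExcAdj Cfsg.Agent.H168.TwAdj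
open Cfsg.Agent.H168.TwCover (pi6 pi4 phiT rel_six rel_tri)
open Cfsg.Agent.R2.Spec.EE.CertBaseT

universe u

end Cfsg.Agent.R2.Spec.EE.CertTD4
end
end

-- part: R2/Spec/EE/CertF4P_mg
section
set_option linter.all false

-- part: R2/Spec/EE/CertF4P
section
/-!
# Adjacency with the characteristic, type F4 (helper2)
-/

set_option autoImplicit false

namespace Cfsg.Agent.R2.Spec.EE.CertF4

open Cfsg.Agent.H129.WData Cfsg.Agent.ChevalleyStructure.CoxeterGeomTypes Cfsg.Agent.Nodes.RGDChev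
open Cfsg.Lie Cfsg.Lie.ChevalleyDatum
open Cfsg.Agent Cfsg.Agent.H493 Cfsg.Agent.H493.PGTorus Cfsg.Agent.H493.PGCyc Cfsg.Agent.H493.PGF4
open Cfsg.Agent.H168.ExcAdj Cfsg.Agent.R2.Spec.EE.CertBase

universe u

end Cfsg.Agent.R2.Spec.EE.CertF4
end

-- part: R2/Spec/EE/CertTD4P
section
/-!
# Adjacency with the characteristic, type TD4 (helper2)
-/

set_option autoImplicit false

namespace Cfsg.Agent.R2.Spec.EE.CertTD4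

open Cfsg Cfsg.Lie Cfsg.Lie.ChevalleyDatum Cfsg.Agent Cfsg.Agent.H129 Cfsg.Agent.H129.WData
open Cfsg.Agent.Nodes Cfsg.Agent.Nodes.RGDChev Cfsg.Agent.Tits.Roots Cfsg.Agent.ChevalleyStructure.CoxeterGeomTypes
open Cfsg.Agent.H493 Cfsg.Agent.H493.PGTorus Cfsg.Agent.H493.PGCyc Cfsg.Agent.H168.ExcAdj Cfsg.Agent.H168.TwAdj
open Cfsg.Agent.H168.TwCover (pi6 pi4 phiT rel_six rel_tri)
open Cfsg.Agent.R2.Spec.EE.CertBaseT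

universe u

end Cfsg.Agent.R2.Spec.EE.CertTD4
end
end

-- part: R2/Spec/EE/CertTab2
section
set_option linter.all false

-- part: R2/Spec/EE/CertG2P
section
/-!
# Adjacency with the characteristic, type G2 (helper2)
-/

set_option autoImplicit false

namespace Cfsg.Agent.R2.Spec.EE.CertG2

open Cfsg.Agent.H129.WData Cfsg.Agent.ChevalleyStructure.CoxeterGeomTypes Cfsg.Agent.Nodes.RGDChev
open Cfsg.Lie Cfsg.Lie.ChevalleyDatum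
open Cfsg.Agent Cfsg.Agent.H493 Cfsg.Agent.H493.PGTorus Cfsg.Agent.H493.PGCyc Cfsg.Agent.H493.PGG2
open Cfsg.Agent.H168.ExcAdj Cfsg.Agent.R2.Spec.EE.CertBase

universe u

end Cfsg.Agent.R2.Spec.EE.CertG2
end

-- part: R2/Spec/EE/CertTab2
section
/-!
# Tables of the adjacent classes, types E6, F4, G2, ²E6, ³D4 (helper2)

* `rel6`, `relF4`, `relG2`, `relTE6`, `relTD4` : the pairs of classes in `L6`, ... are adjacent (equal classes too);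
* `relp6`, ... : the classes `P6`, ... are adjacent to the characteristic.
-/

set_option autoImplicit false

namespace Cfsg.Agent.R2.Spec.EE.CertTab

open Cfsg Cfsg.Lie Cfsg.Lie.ChevalleyDatum Cfsg.Agent Cfsg.Agent.H493 Cfsg.Agent.H493.PGTorus
  Cfsg.Agent.H493.PGCyc Cfsg.Agent.H168.ExcAdj Cfsg.Agent.H168

universe u

/-- the adjacent classes of type E6 -/
def L6 : List (ℕ × ℕ) := [
    (1, 1), (2, 1), (2, 2), (3, 1), (3, 2), (3, 3), (4, 1), (4, 2), (4, 4), (5, 1), (5, 2), (5, 5),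
    (6, 1), (6, 2), (6, 3), (6, 4), (6, 6), (8, 1), (8, 2), (8, 8), (9, 9), (12, 3), (12, 12)]

/-- the classes of type E6 adjacent to the characteristic -/
def P6 : List ℕ := [1, 2, 3, 4, 5, 6]

theorem rel6_le {F : Type u} [Field F] [Finite F] {r s : ℕ} (hr : r.Prime) (hs : s.Prime) (hrs : r ≠ s)
    (hrd : ¬ r ∣ 3) (hsd : ¬ s ∣ 3) {a b : ℕ} (h : (a, b) ∈ L6) (h1 : (r : ℤ) ∣ cyc a (Nat.card F))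
    (h2 : (s : ℤ) ∣ cyc b (Nat.card F)) : PG.Rel ↥(chevE6.group F) r s := by
  simp only [L6, List.mem_cons, Prod.mk.injEq, List.not_mem_nil, or_false] at h
  rcases h with ⟨rfl, rfl⟩ | ⟨rfl, rfl⟩ | ⟨rfl, rfl⟩ | ⟨rfl, rfl⟩ | ⟨rfl, rfl⟩ | ⟨rfl, rfl⟩ | ⟨rfl, rfl⟩ |
    ⟨rfl, rfl⟩ | ⟨rfl, rfl⟩ | ⟨rfl, rfl⟩ | ⟨rfl, rfl⟩ | ⟨rfl, rfl⟩ | ⟨rfl, rfl⟩ | ⟨rfl, rfl⟩ | ⟨rfl, rfl⟩ |
    ⟨rfl, rfl⟩ | ⟨rfl, rfl⟩ | ⟨rfl, rfl⟩ | ⟨rfl, rfl⟩ | ⟨rfl, rfl⟩ | ⟨rfl, rfl⟩ | ⟨rfl, rfl⟩ | ⟨rfl, rfl⟩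
  · exact CertE6.rel_1_1 hr hs hrs ⟨hrd, h1⟩ ⟨hsd, h2⟩
  · exact CertE6.rel_2_1 hr hs hrs ⟨hrd, h1⟩ ⟨hsd, h2⟩
  · exact CertE6.rel_2_2 hr hs hrs ⟨hrd, h1⟩ ⟨hsd, h2⟩
  · exact CertE6.rel_3_1 hr hs hrs ⟨hrd, h1⟩ ⟨hsd, h2⟩
  · exact CertE6.rel_3_2 hr hs hrs ⟨hrd, h1⟩ ⟨hsd, h2⟩
  · exact CertE6.rel_3_3 hr hs hrs ⟨hrd, h1⟩ ⟨hsd, h2⟩
  · exact CertE6.rel_4_1 hr hs hrs ⟨hrd, h1⟩ ⟨hsd, h2⟩
  · exact CertE6.rel_4_2 hr hs hrs ⟨hrd, h1⟩ ⟨hsd, h2⟩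
  · exact CertE6.rel_4_4 hr hs hrs ⟨hrd, h1⟩ ⟨hsd, h2⟩
  · exact CertE6.rel_5_1 hr hs hrs ⟨hrd, h1⟩ ⟨hsd, h2⟩
  · exact CertE6.rel_5_2 hr hs hrs ⟨hrd, h1⟩ ⟨hsd, h2⟩
  · exact CertE6.rel_5_5 hr hs hrs ⟨hrd, h1⟩ ⟨hsd, h2⟩
  · exact CertE6.rel_6_1 hr hs hrs ⟨hrd, h1⟩ ⟨hsd, h2⟩
  · exact CertE6.rel_6_2 hr hs hrs ⟨hrd, h1⟩ ⟨hsd, h2⟩
  · exact CertE6.rel_6_3 hr hs hrs ⟨hrd, h1⟩ ⟨hsd, h2⟩
  · exact CertE6.rel_6_4 hr hs hrs ⟨hrd, h1⟩ ⟨hsd, h2⟩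
  · exact CertE6.rel_6_6 hr hs hrs ⟨hrd, h1⟩ ⟨hsd, h2⟩
  · exact CertE6.rel_8_1 hr hs hrs ⟨hrd, h1⟩ ⟨hsd, h2⟩
  · exact CertE6.rel_8_2 hr hs hrs ⟨hrd, h1⟩ ⟨hsd, h2⟩
  · exact CertE6.rel_8_8 hr hs hrs ⟨hrd, h1⟩ ⟨hsd, h2⟩
  · exact CertE6.rel_9_9 hr hs hrs ⟨hrd, h1⟩ ⟨hsd, h2⟩
  · exact CertE6.rel_12_3 hr hs hrs ⟨hrd, h1⟩ ⟨hsd, h2⟩
  · exact CertE6.rel_12_12 hr hs hrs ⟨hrd, h1⟩ ⟨hsd, h2⟩

/-- **Adjacent classes, type E6.** -/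
theorem rel6 {F : Type u} [Field F] [Finite F] {r s : ℕ} (hr : r.Prime) (hs : s.Prime) (hrs : r ≠ s) (hrd : ¬ r ∣ 3) (hsd : ¬ s ∣ 3)
    {a b : ℕ} (h : (a, b) ∈ L6 ∨ (b, a) ∈ L6) (h1 : (r : ℤ) ∣ cyc a (Nat.card F))
    (h2 : (s : ℤ) ∣ cyc b (Nat.card F)) : PG.Rel ↥(chevE6.group F) r s := by
  rcases h with h | h
  · exact rel6_le hr hs hrs hrd hsd h h1 h2
  · exact (rel6_le hs hr hrs.symm hsd hrd h h2 h1).symm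

/-- **Classes adjacent to the characteristic, type E6.** -/
theorem relp6 {F : Type u} [Field F] [Finite F] {r s : ℕ} (hr : r.Prime) (hs : s.Prime) (hrd : ¬ r ∣ 3)
    {a : ℕ} (h : a ∈ P6) (h1 : (r : ℤ) ∣ cyc a (Nat.card F)) (h2 : s ∣ Nat.card F) :
    PG.Rel ↥(chevE6.group F) r s := by
  simp only [P6, List.mem_cons, List.not_mem_nil, or_false] at h
  rcases h with rfl | rfl | rfl | rfl | rfl | rfl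
  · exact CertE6.rel_1_p hr hs ⟨hrd, h1⟩ h2
  · exact CertE6.rel_2_p hr hs ⟨hrd, h1⟩ h2
  · exact CertE6.rel_3_p hr hs ⟨hrd, h1⟩ h2
  · exact CertE6.rel_4_p hr hs ⟨hrd, h1⟩ h2
  · exact CertE6.rel_5_p hr hs ⟨hrd, h1⟩ h2
  · exact CertE6.rel_6_p hr hs ⟨hrd, h1⟩ h2

end Cfsg.Agent.R2.Spec.EE.CertTab
end

private theorem dce_59381d3b662e : _root_.True := by
  try have : _root_.True := by simp only [_root_.Cfsg.Agent.R2.Spec.EE.CertTab.L6.eq_1]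
  try have : _root_.True := by simp only [_root_.Cfsg.Agent.R2.Spec.EE.CertTab.P6.eq_1]
  exact _root_.True.intro
end

-- part: R2/Spec/X1/TD/OmTor
section
prune_inst 0x10003100440000000018000260001e0280000092004b800151400344078eba42a9012e21482009121030aa00200000481100001002100000000000000000000000024202c389a10c260006803006400000000000000000000000000000041000000000000
set_option linter.all false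
open scoped Cfsg.Agent.FastGrp

-- part: R2/Spec/X1/TD/Nil
section
/-!
# Exponents of groups of class two, `p` odd (helper13, S3435; after helper378's `cube`)

* `pow_two_class` : a group of class two generated by elements of order dividing `p` odd has exponent `p`;
* `pow_mem_two` : the same for joins of root groups.
-/

set_option autoImplicit false
set_option linter.unusedSectionVars false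

namespace Cfsg.Agent.R2.Spec.X1.TD

open scoped commutatorElement
open Cfsg.Agent.H378.NilExp

universe u

section Grp

variable {G : Type u} [Group G]

/-- `(a b) ^ n = d ^ (n choose 2) a ^ n b ^ n` for `b a = d a b`, `d` central -/
theorem mul_pow_central {a b d : G} (hd : ∀ g, d * g = g * d) (e : b * a = d * (a * b)) (n : ℕ) :
    (a * b) ^ n = d ^ n.choose 2 * (a ^ n * b ^ n) := by
  have hdn : ∀ (k : ℕ) (g : G), d ^ k * g = g * d ^ k := fun k g => ((show Commute d g from hd g).pow_left k).eq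
  have hb : ∀ n : ℕ, b ^ n * a = d ^ n * (a * b ^ n) := by
    intro n
    induction n with
    | zero => simp
    | succ n ih =>
      calc b ^ (n + 1) * a = b ^ n * (b * a) := by rw [pow_succ, mul_assoc]
        _ = b ^ n * (d * (a * b)) := by rw [e]
        _ = d * (b ^ n * (a * b)) := by rw [← mul_assoc, ← hd, mul_assoc]
        _ = d * ((b ^ n * a) * b) := by rw [mul_assoc (b ^ n)]
        _ = d * ((d ^ n * (a * b ^ n)) * b) := by rw [ih]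
        _ = d ^ (n + 1) * (a * b ^ (n + 1)) := by rw [pow_succ' d, pow_succ b]; simp only [mul_assoc]
  induction n with
  | zero => simp
  | succ n ih =>
    calc (a * b) ^ (n + 1) = (a * b) ^ n * (a * b) := pow_succ _ _
      _ = d ^ n.choose 2 * (a ^ n * b ^ n) * (a * b) := by rw [ih]
      _ = d ^ n.choose 2 * (a ^ n * ((b ^ n * a) * b)) := by simp only [mul_assoc]
      _ = d ^ n.choose 2 * (a ^ n * ((d ^ n * (a * b ^ n)) * b)) := by rw [hb]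
      _ = d ^ n.choose 2 * ((a ^ n * d ^ n) * (a * b ^ n * b)) := by simp only [mul_assoc]
      _ = d ^ n.choose 2 * ((d ^ n * a ^ n) * (a * b ^ n * b)) := by rw [hdn n (a ^ n)]
      _ = (d ^ n.choose 2 * d ^ n) * (a ^ (n + 1) * b ^ (n + 1)) := by
        rw [pow_succ a, pow_succ b]; simp only [mul_assoc]
      _ = d ^ (n + 1).choose 2 * (a ^ (n + 1) * b ^ (n + 1)) := by
        rw [← pow_add, Nat.choose_succ_succ' n 1, Nat.choose_one_right, add_comm]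

/-- class two, exponent `p` odd -/
theorem pow_two_class {p : ℕ} (hp : p.Prime) (hp2 : p ≠ 2) {s : Set G} (hs : Subgroup.closure s = ⊤) {Z : Subgroup G}
    (hZ : ∀ z ∈ Z, ∀ x ∈ s, z * x = x * z)
    (hc : ∀ x ∈ s, ∀ y ∈ s, ⁅x, y⁆ ∈ Z) (h3 : ∀ x ∈ s, x ^ p = 1) (x : G) : x ^ p = 1 := by
  have hcen : ∀ z ∈ Z, ∀ x : G, z * x = x * z := by
    intro z hz x
    have hx : x ∈ Subgroup.closure s := by rw [hs]; exact Subgroup.mem_top x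
    induction hx using Subgroup.closure_induction with
    | mem x hx => exact hZ z hz x hx
    | one => rw [one_mul, mul_one]
    | mul a b _ _ ha hb => rw [← mul_assoc, ha, mul_assoc, hb, mul_assoc]
    | inv a _ ha => exact ((show Commute z a from ha).inv_right).eq
  -- the elements of `Z` of order `p`
  let K : Subgroup G :=
    { carrier := {z | z ∈ Z ∧ z ^ p = 1}
      one_mem' := ⟨one_mem _, one_pow p⟩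
      mul_mem' := fun {a b} ha hb => ⟨mul_mem ha.1 hb.1, by
        rw [(show Commute a b from hcen a ha.1 b).mul_pow, ha.2, hb.2, one_mul]⟩
      inv_mem' := fun {a} ha => ⟨inv_mem ha.1, by rw [inv_pow, ha.2, inv_one]⟩ }
  have hK : ∀ x ∈ s, ∀ y ∈ s, ⁅x, y⁆ ∈ K := by
    intro x hx y hy
    refine ⟨hc x hx y hy, ?_⟩
    set c := ⁅x, y⁆ with hcd
    have hcc : ∀ g, c * g = g * c := hcen c (hc x hx y hy)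
    have e : x * y = c * y * x := by rw [hcd, commutatorElement_def]; group
    have e1 : x * y * x⁻¹ = c * y := by rw [e]; group
    have e3 : ∀ n : ℕ, x ^ n * y * (x ^ n)⁻¹ = c ^ n * y := by
      intro n
      induction n with
      | zero => simp
      | succ n ih =>
        have hcn : c ^ n * x = x * c ^ n := ((show Commute c x from hcc x).pow_left n).eq
        calc x ^ (n + 1) * y * (x ^ (n + 1))⁻¹ = x * (x ^ n * y * (x ^ n)⁻¹) * x⁻¹ := by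
              rw [pow_succ']; group
          _ = x * (c ^ n * y) * x⁻¹ := by rw [ih]
          _ = (x * c ^ n) * y * x⁻¹ := by group
          _ = (c ^ n * x) * y * x⁻¹ := by rw [hcn]
          _ = c ^ n * (x * y * x⁻¹) := by group
          _ = c ^ n * (c * y) := by rw [e1]
          _ = c ^ (n + 1) * y := by rw [pow_succ, mul_assoc]
    have e4 := e3 p
    rw [h3 x hx, one_mul, inv_one, mul_one] at e4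
    exact (mul_eq_right.1 e4.symm)
  -- all commutators are in `K`
  have hK1 : ∀ y ∈ s, ∀ x : G, ⁅x, y⁆ ∈ K := by
    intro y hy x
    have hx : x ∈ Subgroup.closure s := by rw [hs]; exact Subgroup.mem_top x
    induction hx using Subgroup.closure_induction with
    | mem x hx => exact hK x hx y hy
    | one => rw [commutatorElement_one_left]; exact one_mem _
    | mul a b _ _ ha hb =>
      have e : ⁅a * b, y⁆ = ⁅b, y⁆ * ⁅a, y⁆ := by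
        have h1 : ⁅a * b, y⁆ = a * ⁅b, y⁆ * a⁻¹ * ⁅a, y⁆ := by
          rw [commutatorElement_def, commutatorElement_def, commutatorElement_def]; group
        rw [h1, ← hcen _ hb.1 a, mul_inv_cancel_right]
      rw [e]
      exact mul_mem hb ha
    | inv a _ ha =>
      have e : ⁅a⁻¹, y⁆ = ⁅a, y⁆⁻¹ := by
        have h1 : ⁅a⁻¹, y⁆ = a⁻¹ * ⁅a, y⁆⁻¹ * a := by
          rw [commutatorElement_def, commutatorElement_def]; group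
        rw [h1, ← hcen _ (inv_mem ha.1) a⁻¹, mul_assoc, inv_mul_cancel, mul_one]
      rw [e]
      exact inv_mem ha
  have hK2 : ∀ x y : G, ⁅x, y⁆ ∈ K := by
    intro x y
    have hy : y ∈ Subgroup.closure s := by rw [hs]; exact Subgroup.mem_top y
    induction hy using Subgroup.closure_induction with
    | mem y hy => exact hK1 y hy x
    | one => rw [commutatorElement_one_right]; exact one_mem _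
    | mul a b _ _ ha hb =>
      have e : ⁅x, a * b⁆ = ⁅x, a⁆ * ⁅x, b⁆ := by
        have h1 : ⁅x, a * b⁆ = ⁅x, a⁆ * (a * ⁅x, b⁆ * a⁻¹) := by
          rw [commutatorElement_def, commutatorElement_def, commutatorElement_def]; group
        rw [h1, ← hcen _ hb.1 a, mul_inv_cancel_right]
      rw [e]
      exact mul_mem ha hb
    | inv a _ ha =>
      have e : ⁅x, a⁻¹⁆ = ⁅x, a⁆⁻¹ := by
        have h1 : ⁅x, a⁻¹⁆ = a⁻¹ * ⁅x, a⁆⁻¹ * a := by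
          rw [commutatorElement_def, commutatorElement_def]; group
        rw [h1, ← hcen _ (inv_mem ha.1) a⁻¹, mul_assoc, inv_mul_cancel, mul_one]
      rw [e]
      exact inv_mem ha
  have hx : x ∈ Subgroup.closure s := by rw [hs]; exact Subgroup.mem_top x
  induction hx using Subgroup.closure_induction with
  | mem x hx => exact h3 x hx
  | one => exact one_pow p
  | mul a b _ _ ha hb =>
    obtain ⟨hd, hd3⟩ := hK2 b a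
    set d := ⁅b, a⁆ with hdd
    have hdc : ∀ g, d * g = g * d := hcen d hd
    have e : b * a = d * (a * b) := by rw [hdd, commutatorElement_def]; group
    rw [mul_pow_central hdc e, ha, hb, one_mul, mul_one]
    have h4 : p ∣ p.choose 2 := hp.dvd_choose_self two_ne_zero (by
      have := hp.two_le
      omega)
    obtain ⟨c, hc⟩ := h4
    rw [hc, pow_mul, hd3, one_pow]
  | inv a _ ha => rw [inv_pow, ha, inv_one]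

theorem pow_mem_two_of_gen {p : ℕ} (hp : p.Prime) (hp2 : p ≠ 2) {s : Set G} {N Z : Subgroup G}
    (hN : Subgroup.closure s ≤ Subgroup.normalizer (N : Set G))
    (hZs : ∀ z ∈ Z, ∀ x ∈ s, ⁅z, x⁆ ∈ N) (hc : ∀ x ∈ s, ∀ y ∈ s, ⁅x, y⁆ ∈ Z) (h3 : ∀ x ∈ s, x ^ p ∈ N) {x : G}
    (hx : x ∈ Subgroup.closure s) : x ^ p ∈ N := by
  obtain ⟨Q, _, π, h1, h2⟩ := exists_quot hN
  have h3 := pow_two_class hp hp2 h2 (Z := (Z.subgroupOf (Subgroup.closure s)).map π) (by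
    rintro _ ⟨z, hz, rfl⟩ _ ⟨x, hx, rfl⟩
    rw [← commutatorElement_eq_one_iff_mul_comm, ← map_commutatorElement, h1]
    exact hZs _ hz _ hx) (by
    rintro _ ⟨x, hx, rfl⟩ _ ⟨y, hy, rfl⟩
    rw [← map_commutatorElement]
    exact ⟨⁅x, y⁆, hc _ hx _ hy, rfl⟩) (by
    rintro _ ⟨x, hx, rfl⟩
    rw [← map_pow, h1]
    exact h3 _ hx) (π ⟨x, hx⟩)
  rw [← map_pow, h1] at h3
  exact h3

end Grp

section Sup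

open Cfsg.Agent.KFacts.RgdField

variable {I Y : Type*} [Fintype I] [DecidableEq I] [Group Y] {X : (I → ℤ) → Subgroup Y} {S S₁ S' : Set (I → ℤ)}

theorem pow_mem_two {p : ℕ} (hp : p.Prime) (hp2 : p ≠ 2) (hSS₁ : S₁ ⊆ S) (hSS : S' ⊆ S₁)
    (hc : ∀ a ∈ S, ∀ b ∈ S, ∀ x ∈ X a, ∀ y ∈ X b, ⁅x, y⁆ ∈ Cfsg.Agent.Nodes.BNOf.RGD.Sup X S₁)
    (hc' : ∀ a ∈ S₁, ∀ b ∈ S, ∀ x ∈ X a, ∀ y ∈ X b, ⁅x, y⁆ ∈ Cfsg.Agent.Nodes.BNOf.RGD.Sup X S')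
    (hpp : ∀ a ∈ S, ∀ x ∈ X a, x ^ p = 1) {x : Y} (hx : x ∈ Cfsg.Agent.Nodes.BNOf.RGD.Sup X S) :
    x ^ p ∈ Cfsg.Agent.Nodes.BNOf.RGD.Sup X S' := by
  have hN := le_normalizer_of (S := S) (S' := S') fun a ha b hb x hx y hy => by
    have h1 := hc' b (hSS hb) a ha y hy x hx
    rw [← commutatorElement_inv]
    exact inv_mem h1
  have hN₁ := le_trans (Cfsg.Agent.Nodes.BNOf.RGD.Sup_mono (X := X) hSS₁) hN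
  have hcc : ∀ z ∈ Cfsg.Agent.Nodes.BNOf.RGD.Sup X S₁, ∀ b ∈ S, ∀ x ∈ X b, ⁅z, x⁆ ∈ Cfsg.Agent.Nodes.BNOf.RGD.Sup X S' :=
    fun z hz b hb x hx => comm_Sup hN₁ (fun a ha y hy => hc' a ha b hb y hy x hx) hz
  rw [Sup_eq_closure X S] at hx hN
  refine pow_mem_two_of_gen hp hp2 (Z := Cfsg.Agent.Nodes.BNOf.RGD.Sup X S₁) hN ?_ ?_ ?_ hx
  · rintro z hz x ⟨b, hb, hx⟩
    exact hcc z hz b hb x hx
  · rintro x ⟨a, ha, hx⟩ y ⟨b, hb, hy⟩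
    exact hc a ha b hb x hx y hy
  · rintro x ⟨a, ha, hx⟩
    rw [hpp a ha x hx]
    exact one_mem _

end Sup

end Cfsg.Agent.R2.Spec.X1.TD
end

-- part: R2/Spec/X1/TD/OmTor
section
/-!
# Pairs of commuting semisimple and unipotent elements of `³D₄(q)`, `p` odd (helper13, S3435; after helper378)
-/

set_option autoImplicit false
set_option linter.unusedSectionVars false

namespace Cfsg.Agent.R2.Spec.X1.TD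

open CoxeterSystem Cfsg Cfsg.Lie Cfsg.Lie.ChevalleyDatum
open Cfsg.Agent.ChevalleyStructure Cfsg.Agent.ChevalleyStructure.Elts Cfsg.Agent.ChevalleyStructure.CoxeterGeom
  Cfsg.Agent.ChevalleyStructure.CoxeterGeomTypes Cfsg.Agent.ChevalleyStructure.NPerm
open Cfsg.Agent.Tits.Roots Cfsg.Agent.Tits.Core Cfsg.Agent.Nodes Cfsg.Agent.Nodes.Reps Cfsg.Agent.Nodes.BNOf
  Cfsg.Agent.Nodes.RGDChev Cfsg.Agent.Nodes.Bruhat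
open Cfsg.Agent.KFacts.RgdField Cfsg.Agent.KFacts.RgdChevCoord
open Cfsg.Agent.BpExc Cfsg.Agent.BpExc.TorCent Cfsg.Agent.BpExc.TorChev Cfsg.Agent.BpExc.Tow
  Cfsg.Agent.BpExc.TowChev Cfsg.Agent.BpExc.Fr Cfsg.Agent.BpExc.NInst
open Cfsg.Agent.H129.TorusChar Cfsg.Agent.H129.TriD4 Cfsg.Agent.H378 Cfsg.Agent.H378.OmD4
open scoped commutatorElement

universe u v

variable {W : Type v} [Group W] (cs : CoxeterSystem coxeterD4 W)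

section Unip

variable {k : Type u} [Field k] (hk : LocFin k) (p : ℕ) [Fact p.Prime] [CharP k p]

variable {x : ↥(chevD4.group k)}

include hk p

/-- `p`-th powers, `p` odd -/
theorem pow_Hn [Finite W] (h2 : p ≠ 2) {n : ℤ} (hn : 0 ≤ n) (hx : x ∈ RGD.Sup (XX chevD4 4 k) (Hn cs n)) :
    x ^ p ∈ RGD.Sup (XX chevD4 4 k) (Hn cs (3 * n)) := by
  refine pow_mem_two (Fact.out : p.Prime) h2 (S := Hn cs n) (S₁ := Hn cs (2 * n)) (S' := Hn cs (3 * n)) ?_ ?_ ?_ ?_ ?_ hx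
  · rintro a ⟨h1, h2, h3⟩
    exact ⟨h1, h2, by omega⟩
  · rintro a ⟨h1, h2, h3⟩
    exact ⟨h1, h2, by omega⟩
  · intro a ha b hb y hy z hz
    exact comm_Hn cs hk p ha hb hy hz (by omega)
  · intro a ha b hb y hy z hz
    exact comm_Hn cs hk p ha hb hy hz (by omega)
  · intro a ha y hy
    exact NilExp.pow_root RGDTwD4.hp cs hk p ha.1 hy

/-- the elements of `U` -/
theorem U_expo [Finite W] (h2 : p ≠ 2) (hx : x ∈ RGD.Sup (XX chevD4 4 k) (Hn cs 1)) : x ^ p ^ 2 = 1 := by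
  have h3 := pow_Hn cs hk p h2 (by norm_num) (pow_Hn cs hk p h2 (by norm_num) hx)
  rw [Hn_empty cs (by norm_num), Sup_empty, Subgroup.mem_bot, ← pow_mul] at h3
  rw [pow_two]
  exact h3

/-- no sums of three roots -/
theorem exp_twoo [Finite W] (h2 : p ≠ 2) {S : Set (Fin 4 → ℤ)}
    (hS : ∀ a ∈ S, IsRoot cs RGDTwD4.hp.isCartan a ∧ 0 ≤ a)
    (hcl : ∀ a ∈ S, ∀ b ∈ S, IsRoot cs RGDTwD4.hp.isCartan (a + b) → a + b ∈ S)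
    (hsum : ∀ a ∈ S, ∀ b ∈ S, ∀ c ∈ S, IsRoot cs RGDTwD4.hp.isCartan (a + b) →
      ¬ IsRoot cs RGDTwD4.hp.isCartan (a + b + c)) (hx : x ∈ RGD.Sup (XX chevD4 4 k) S) :
    x ^ p = 1 := by
  set S₁ : Set (Fin 4 → ℤ) := {z | z ∈ S ∧ ∃ a ∈ S, ∃ b ∈ S, z = a + b} with hS₁
  have hle : S₁ ⊆ S := fun z hz => hz.1
  have hc : ∀ a ∈ S, ∀ b ∈ S, ∀ y ∈ XX chevD4 4 k a, ∀ z ∈ XX chevD4 4 k b,
      ⁅y, z⁆ ∈ RGD.Sup (XX chevD4 4 k) S₁ := fun a ha b hb y hy z hz =>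
    NilExp.comm_pos RGDTwD4.hp cs (sl_D4 cs) hk p (S := S₁) (hS a ha).1 (hS a ha).2 (hS b hb).1 (hS b hb).2
      (fun h => ⟨hcl a ha b hb h, a, ha, b, hb, rfl⟩) hy hz
  have hc' : ∀ a ∈ S₁, ∀ b ∈ S, ∀ y ∈ XX chevD4 4 k a, ∀ z ∈ XX chevD4 4 k b,
      ⁅y, z⁆ ∈ RGD.Sup (XX chevD4 4 k) (∅ : Set (Fin 4 → ℤ)) := fun a ha b hb y hy z hz =>
    NilExp.comm_pos RGDTwD4.hp cs (sl_D4 cs) hk p (hS a ha.1).1 (hS a ha.1).2 (hS b hb).1 (hS b hb).2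
      (fun h => by
        obtain ⟨haS, c, hc, d, hd, rfl⟩ := ha
        exact absurd h (hsum c hc d hd b hb (hS _ haS).1)) hy hz
  have h1 := pow_mem_two (Fact.out : p.Prime) h2 hle (Set.empty_subset S₁) hc hc'
    (fun a ha y hy => NilExp.pow_root RGDTwD4.hp cs hk p (hS a ha).1 hy) hx
  rwa [Sup_empty, Subgroup.mem_bot] at h1

end Unip

/-! ### the main theorem -/

section Main

variable {k : Type u} [Field k] [IsAlgClosed k] (hk : LocFin k) {p e : ℕ} [Fact p.Prime] [CharP k p]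

/-- **Pairs of commuting elements, `p` odd.** -/
theorem main_odd (h2 : p ≠ 2) (hk : LocFin k) (hka : BpExc.TorAll.HAlg p k) {s u : ↥(chevD4.group k)}
    (hσs : tau k p e s = s)
    (hsu : u * s = s * u) {m : ℕ} (hm : m ≠ 0) (hmp : m.Coprime p) (hsm : s ^ m = 1) {j : ℕ} (huj : u ^ p ^ j = 1) :
    (u = 1 ∧ (s ^ ((p ^ e) ^ 4 + (p ^ e) ^ 3) = s ^ (p ^ e + 1) ∨ s ^ ((p ^ e) ^ 4 + p ^ e) = s ^ ((p ^ e) ^ 3 + 1) ∨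
      s ^ ((p ^ e) ^ 4 + 1) = s ^ (p ^ e) ^ 2)) ∨
    (s = 1 ∧ u ^ p ^ 2 = 1) ∨
    (u ^ p = 1 ∧ (s ^ (p ^ e) ^ 3 = s ∨ s ^ ((p ^ e) ^ 3 + 1) = 1)) ∨
    (u ^ p = 1 ∧
      (s ^ ((p ^ e) ^ 2 + p ^ e + 1) = 1 ∨ s ^ ((p ^ e) ^ 2 + 1) = s ^ p ^ e)) := by
  set cs := coxeterD4.toCoxeterSystem
  have hfin := finite_W RGDTwD4.hp cs
  have H := tow (k := k) RGDTwD4.hp cs hk p
  have hN : NSys coxeterD4 (TT chevD4 k) (nc RGDTwD4.hp k) := by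
    have h1 := H.nsys
    rwa [TL_eq RGDTwD4.hp hk] at h1
  obtain ⟨z₁, t, n, w, hx, ht, hn, hnt⟩ := H720.TorusReal.exists_toral RGDTwD4.hp cs hka hk (fr_tau cs) hN hσs hm hmp
    hsm
  have hchi := fr_conj_tau cs hk hn ht hnt
  obtain ⟨v, i, hi⟩ := exists_conj_rep cs w
  obtain ⟨g, hg⟩ := exists_rp cs hN v
  set t' := g * t * g⁻¹ with ht'
  have htT : t' ∈ TT chevD4 k := (Subgroup.mem_normalizer_iff.1 hg.mem_normalizer t).1 ht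
  have hR : ∀ y : V, cX RGDTwD4.hp t' ((reps i).ap y).fn = cX RGDTwD4.hp t' y.fn ^ p ^ e := by
    intro y
    have h1 := hi y
    rw [← h1]
    show cX RGDTwD4.hp t' (rep cs RGDTwD4.hp.isCartan v
      (rep cs RGDTwD4.hp.isCartan w (tri (rep cs RGDTwD4.hp.isCartan v⁻¹ y.fn)))) = _
    rw [ht', cX_rp RGDTwD4.hp cs hk p hg ht, hchi, ← cX_rp RGDTwD4.hp cs hk p hg ht, rep_apply_inv]
  have hmc := isMC_cX RGDTwD4.hp htT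
  set z := z₁ * g⁻¹ with hz
  have hs : s = z * t' * z⁻¹ := by rw [hx, ht', hz]; group
  have hpow : ∀ a b : ℕ, (∀ j, cX RGDTwD4.hp t' (sr j) ^ a = cX RGDTwD4.hp t' (sr j) ^ b) → s ^ a = s ^ b := by
    intro a b h1
    have h2 : t' ^ a = t' ^ b := cX_inj RGDTwD4.hp (pow_mem htT a) (pow_mem htT b) fun j => by
      rw [cX_pow RGDTwD4.hp htT, cX_pow RGDTwD4.hp htT, h1]
    have h3 : ∀ n : ℕ, s ^ n = z * t' ^ n * z⁻¹ := fun n => by rw [hs]; exact conj_pow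
    rw [h3, h3, h2]
  obtain ⟨g₂, hg₂, hU⟩ := UnipCent.exists_conj RGDTwD4.hp cs hk (p := p) htT (u := z⁻¹ * u * z) (j := j) (by
      have h1 : t' = z⁻¹ * s * z := by rw [hs]; group
      rw [h1]
      calc z⁻¹ * u * z * (z⁻¹ * s * z) = z⁻¹ * (u * s) * z := by group
        _ = z⁻¹ * (s * u) * z := by rw [hsu]
        _ = _ := by group) (by
      have h1 := conj_pow (a := z⁻¹) (b := u) (i := p ^ j)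
      rw [inv_inv] at h1
      rw [h1, huj]; group)
  set u' := g₂ * (z⁻¹ * u * z) * g₂⁻¹ with hu'
  have hupow : ∀ a : ℕ, u' ^ a = 1 → u ^ a = 1 := by
    intro a h1
    have h2 : u = (g₂ * z⁻¹)⁻¹ * u' * (g₂ * z⁻¹) := by rw [hu']; group
    have h3 := conj_pow (a := (g₂ * z⁻¹)⁻¹) (b := u') (i := a)
    rw [inv_inv] at h3
    rw [h2, h3, h1]; group
  set S := SP (Sx cs RGDTwD4.hp.isCartan (ch RGDTwD4.hp) t') with hS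
  have hSr : ∀ a ∈ S, IsRoot cs RGDTwD4.hp.isCartan a ∧ 0 ≤ a := fun a ha => ⟨ha.1.1, ha.2⟩
  have hSv : ∀ a ∈ S, ∃ y ∈ pos, y.fn = a ∧ cX RGDTwD4.hp t' y.fn = 1 := by
    intro a ha
    obtain ⟨y, hy, e⟩ := mem_pos cs ha.1.1 ha.2
    exact ⟨y, hy, e, by rw [e, cX_root RGDTwD4.hp cs htT ha.1.1]; exact ha.1.2⟩
  have hadd : ∀ {x y : V}, x ∈ pos → y ∈ pos → 0 ≤ x.fn → 0 ≤ y.fn →
      IsRoot cs RGDTwD4.hp.isCartan (x.fn + y.fn) → x.add y ∈ pos := by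
    intro x y hx hy h0 h0' h1
    obtain ⟨w', hw', e⟩ := mem_pos cs h1 (add_nonneg h0 h0')
    have h2 : w' = x.add y := fn_inj (by rw [e, fn_add])
    rwa [h2] at hw'
  by_cases hne : S = ∅
  · -- no roots
    left
    rw [hne, Sup_empty, Subgroup.mem_bot] at hU
    refine ⟨by simpa using hupow 1 (by rw [pow_one]; exact hU), ?_⟩
    rcases c0' hmc hR with h | h | h
    · left
      refine hpow _ _ fun j => ?_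
      rw [pow_add, pow_add, pow_one]
      exact h j
    · right; left
      refine hpow _ _ fun j => ?_
      rw [pow_add, pow_add, pow_one]
      exact h j
    · right; right
      refine hpow _ _ fun j => ?_
      rw [pow_add, pow_one]
      exact h j
  obtain ⟨a₀, ha₀⟩ := Set.nonempty_iff_ne_empty.2 hne
  by_cases hsum : ∃ a ∈ S, ∃ b ∈ S, IsRoot cs RGDTwD4.hp.isCartan (a + b)
  · -- sums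
    by_cases hall : ∀ y : V, cX RGDTwD4.hp t' y.fn = 1
    · right; left
      have ht1 : t' = 1 := cX_inj RGDTwD4.hp htT (one_mem _) fun j => by
        rw [cX_one, ← fn_bas]; exact hall _
      refine ⟨by rw [hs, ht1]; group, ?_⟩
      have h1 : u' ∈ RGD.Sup (XX chevD4 4 k) (Hn cs 1) := by
        refine RGD.Sup_mono (S := S) ?_ hU
        intro a ha
        refine ⟨ha.1.1, ha.2, ?_⟩
        have := RGD.ht_pos ha.1.1 ha.2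
        omega
      exact hupow _ (U_expo cs hk p h2 h1)
    · right; right; right
      have key : ∀ a ∈ S, ∀ b ∈ S, IsRoot cs RGDTwD4.hp.isCartan (a + b) →
          ((∀ j, cX RGDTwD4.hp t' (sr j) ^ (p ^ e) ^ 2 * cX RGDTwD4.hp t' (sr j) ^ p ^ e *
            cX RGDTwD4.hp t' (sr j) = 1) ∨ (∀ j, cX RGDTwD4.hp t' (sr j) ^ (p ^ e) ^ 2 * cX RGDTwD4.hp t' (sr j) =
              cX RGDTwD4.hp t' (sr j) ^ p ^ e)) ∧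
            ∀ c ∈ S, ¬ IsRoot cs RGDTwD4.hp.isCartan (a + b + c) := by
        intro a ha b hb hab
        obtain ⟨x, hx, ex, hx1⟩ := hSv a ha
        obtain ⟨y, hy, ey, hy1⟩ := hSv b hb
        have hxy : x.add y ∈ pos := hadd hx hy (by rw [ex]; exact ha.2) (by rw [ey]; exact hb.2)
          (by rw [ex, ey]; exact hab)
        rcases c2' hmc hR hx hy hxy hx1 hy1 with h | ⟨h, h'⟩
        · exact absurd h hall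
        refine ⟨h, fun c hc habc => ?_⟩
        obtain ⟨w', hw', ew, hw1⟩ := hSv c hc
        refine h' w' hw' ?_ hw1
        refine hadd hxy hw' ?_ (by rw [ew]; exact hc.2) ?_
        · rw [fn_add, ex, ey]; exact add_nonneg ha.2 hb.2
        · rw [fn_add, ex, ey, ew]; exact habc
      obtain ⟨a, ha, b, hb, hab⟩ := hsum
      have hcl : ∀ a ∈ S, ∀ b ∈ S, IsRoot cs RGDTwD4.hp.isCartan (a + b) → a + b ∈ S := by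
        intro a ha b hb hab
        refine ⟨⟨hab, ?_⟩, add_nonneg ha.2 hb.2⟩
        rw [← cX_root RGDTwD4.hp cs htT hab, hmc.add, cX_root RGDTwD4.hp cs htT ha.1.1,
          cX_root RGDTwD4.hp cs htT hb.1.1, ha.1.2, hb.1.2, one_mul]
      have h3 := exp_twoo cs hk p h2 hSr hcl (fun a ha b hb c hc hab => (key a ha b hb hab).2 c hc) hU
      refine ⟨hupow p h3, ?_⟩
      rcases (key a ha b hb hab).1 with h | h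
      · left
        have h3 := hpow ((p ^ e) ^ 2 + p ^ e + 1) 0 fun j => by
          rw [pow_add, pow_add, pow_one, pow_zero]
          exact h j
        rwa [pow_zero] at h3
      · right
        refine hpow _ _ fun j => ?_
        rw [pow_add, pow_one]
        exact h j
  · -- no sums
    right; right; left
    push Not at hsum
    refine ⟨hupow p (exp_one cs hk p hSr hsum hU), ?_⟩
    obtain ⟨x, hx, -, hx1⟩ := hSv a₀ ha₀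
    rcases c1' hmc hR hx hx1 with h | h
    · left
      have h3 := hpow ((p ^ e) ^ 3) 1 fun j => by
        rw [pow_one]
        exact h j
      rwa [pow_one] at h3
    · right
      have h3 := hpow ((p ^ e) ^ 3 + 1) 0 fun j => by
        rw [pow_add, pow_one, pow_zero]
        exact h j
      rwa [pow_zero] at h3

end Main

end Cfsg.Agent.R2.Spec.X1.TD
end
end

-- part: R2/Spec/X1/TD/OmD4
section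
prune_inst 0x20007004300000000000001202000220400001900040800161800b460b01a202890020010a8001121064b28010400008110000100200000000003000000200000000420043b50d0c260000801004400000000000000000000000000000000000000000000
set_option linter.all false
open scoped Cfsg.Agent.FastGrp

/-!
# The element orders of `³D₄(q)`, `q` a power of `p ≥ 5` (helper13, S3435; after helper378)

* `om_3D4` : the order of every element of `³D₄(q)` divides one of the numbers in `Om p q`.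
-/

set_option autoImplicit false
set_option linter.unusedSectionVars false

namespace Cfsg.Agent.R2.Spec.X1.TD

open Cfsg Cfsg.Lie Cfsg.Lie.ChevalleyDatum
open Cfsg.Agent.H129.TriD4
open Cfsg.Agent.H378

universe u

theorem dvd_of_pow_eq {G : Type*} [Group G] {s : G} {A B C : ℕ} (h : s ^ A = s ^ B) (e : A = B + C) :
    orderOf s ∣ C := by
  rw [e, pow_add] at h
  exact orderOf_dvd_of_pow_eq_one (mul_eq_left.1 h)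

/-- **The spectrum of `³D₄(q)`.** -/
theorem om_3D4 {K : Type u} [Field K] [Fintype K] {p q : ℕ} (h : Par p q) (hK : Fintype.card K = q ^ 3)
    [CharP K p] (g : ↥(twistedD4 K q)) : Om p q (orderOf g) := by
  obtain ⟨k, _, _, f, p', _, hC, _, hk, hka, -, -⟩ := TorFin.exists_closure K
  have hpp : p' = p := by
    have h1 : CharP k p := charP_of_injective_ringHom f.injective p
    exact CharP.eq k hC h1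
  subst hpp
  obtain ⟨e, he, hqe⟩ := h.hk
  have hp : p'.Prime := h.prime
  set a := embT (k := k) f h.isPrimePow hK g with ha
  have hσa : tau k p' e a = a := tau_embT f hqe h.isPrimePow hK g
  have hoa : orderOf a = orderOf g := orderOf_injective _ (embT_injective f h.isPrimePow hK) g
  have hn0 : orderOf g ≠ 0 := (orderOf_pos g).ne'
  obtain ⟨j, m, hpm, hn⟩ := Nat.exists_eq_pow_mul_and_not_dvd hn0 p' hp.ne_one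
  have hm0 : m ≠ 0 := by
    rintro rfl
    rw [mul_zero] at hn
    exact hn0 hn
  have hpj : 0 < p' ^ j := pow_pos hp.pos j
  have hos : orderOf (a ^ p' ^ j) = m := by
    rw [orderOf_pow' _ hpj.ne', hoa, hn, Nat.gcd_mul_right_left, Nat.mul_div_cancel_left _ hpj]
  have hou : orderOf (a ^ m) = p' ^ j := by
    rw [orderOf_pow' _ hm0, hoa, hn, Nat.gcd_mul_left_left, Nat.mul_div_cancel _ (Nat.pos_of_ne_zero hm0)]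
  have hmp : m.Coprime p' := ((Nat.Prime.coprime_iff_not_dvd hp).2 hpm).symm
  have key := main_odd (k := k) (p := p') (e := e) (by have := h.h5; omega) hk hka (s := a ^ p' ^ j) (u := a ^ m)
    (by rw [map_pow, hσa])
    (by rw [← pow_add, ← pow_add, add_comm]) hm0 hmp
    (by rw [← pow_mul, ← hn, ← hoa, pow_orderOf_eq_one]) (j := j)
    (by rw [← pow_mul, mul_comm, ← hn, ← hoa, pow_orderOf_eq_one])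
  rw [← hqe] at key
  obtain ⟨c, hc⟩ := h.exists_add
  have e1 : q ^ 4 + q ^ 3 = (q + 1) + (q ^ 3 - 1) * (q + 1) := by
    obtain ⟨d, hd⟩ : ∃ d, q ^ 3 = d + 1 := ⟨q ^ 3 - 1, by have := Nat.one_le_pow 3 q (by omega); omega⟩
    rw [show q ^ 4 = q ^ 3 * q by ring, hd, Nat.add_sub_cancel]; ring
  have e2 : q ^ 4 + q = (q ^ 3 + 1) + (q ^ 3 + 1) * (q - 1) := by
    rw [hc, show c + 3 - 1 = c + 2 by omega]; ring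
  have e3 : q ^ 4 + 1 = q ^ 2 + mm q := by
    unfold mm
    have : q ^ 2 ≤ q ^ 4 := Nat.pow_le_pow_right (by omega) (by norm_num)
    omega
  have e4 : q ^ 2 + 1 = q + (q ^ 2 - q + 1) := by
    have : q ≤ q ^ 2 := by nlinarith
    omega
  have e5 : q ^ 3 = 1 + (q ^ 3 - 1) := by
    have := Nat.one_le_pow 3 q (by omega)
    omega
  have e6 : q ^ 3 - 1 = (q ^ 2 + q + 1) * (q - 1) := by
    rw [hc, show c + 3 - 1 = c + 2 by omega]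
    apply Nat.sub_eq_of_eq_add
    ring
  have e7 : q ^ 3 + 1 = (q ^ 2 - q + 1) * (q + 1) := by
    have e8 : q ^ 2 - q = q * (q - 1) := by rw [Nat.mul_sub, mul_one, pow_two]
    rw [e8, hc, show c + 3 - 1 = c + 2 by omega]
    ring
  rcases key with ⟨hu, hs⟩ | ⟨hs, hu2⟩ | ⟨hu, hs⟩ | ⟨hu, hs⟩
  · -- semisimple elements
    rw [hu, orderOf_one] at hou
    rw [hn, ← hou, one_mul, ← hos]
    rcases hs with hs | hs | hs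
    · exact Or.inr (Or.inl (dvd_of_pow_eq hs e1))
    · exact Or.inr (Or.inr (Or.inl (dvd_of_pow_eq hs e2)))
    · exact Or.inl (dvd_of_pow_eq hs e3)
  · -- unipotent elements
    rw [hs, orderOf_one] at hos
    rw [hn, ← hos, mul_one, ← hou]
    exact Or.inr (Or.inr (Or.inr (Or.inr (Or.inr (orderOf_dvd_of_pow_eq_one hu2)))))
  · have h1 : p' ^ j ∣ p' := hou ▸ orderOf_dvd_of_pow_eq_one hu
    rcases hs with hs | hs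
    · have h2 : m ∣ q ^ 3 - 1 := hos ▸ dvd_of_pow_eq (B := 1) (by rw [pow_one]; exact hs) e5
      rw [hn]
      exact Or.inr (Or.inr (Or.inr (Or.inl (mul_dvd_mul h1 h2))))
    · have h2 : m ∣ q ^ 3 + 1 := hos ▸ orderOf_dvd_of_pow_eq_one hs
      rw [hn]
      exact Or.inr (Or.inr (Or.inr (Or.inr (Or.inl (mul_dvd_mul h1 h2)))))
  · have h1 : p' ^ j ∣ p' := hou ▸ orderOf_dvd_of_pow_eq_one hu
    rcases hs with hs | hs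
    · have h2 : m ∣ q ^ 2 + q + 1 := hos ▸ orderOf_dvd_of_pow_eq_one hs
      rw [hn]
      exact Or.inr (Or.inr (Or.inr (Or.inl (mul_dvd_mul h1 (h2.trans (e6 ▸ dvd_mul_right _ _))))))
    · have h2 : m ∣ q ^ 2 - q + 1 := hos ▸ dvd_of_pow_eq hs e4
      rw [hn]
      exact Or.inr (Or.inr (Or.inr (Or.inr (Or.inl (mul_dvd_mul h1 (h2.trans (e7 ▸ dvd_mul_right _ _)))))))

end Cfsg.Agent.R2.Spec.X1.TD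
end

-- part: R2/Spec/NA5/Inst5
section
prune_inst 0x30006104740000000018001202000220600001900000000070c00d46090fb242a94128014a800d121064b280180000000000000000000000000030000002000000000200c1ad030c0e0006803007580c00000000000000000000000000041000000000000
set_option linter.all false
open scoped Cfsg.Agent.FastGrp

/-!
# S3435, packet NON-A, `dimL t ≥ 5`, `m ≥ 5` (helper3): the relations

* `NE` : the hypotheses (as `NA.ND`, but `m ≥ 5` and the full torus of type `(k, m - k)`);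
* `NE.bd` : the inequality; `NE.bigL` : the least common multiple of all tori.
-/

set_option autoImplicit false

namespace Cfsg.Agent.R2.Spec.NA5

open Cfsg.Agent.H403.NumTop Cfsg.Agent.R2.Spec.NA

/-- the hypotheses -/
structure NE (s e : Bool) (m k u q p H M N d : ℕ) (a b c : ℤ) : Prop where
  k3 : 3 ≤ k
  km : k + 2 ≤ m
  nk : ¬ k ∣ ii s m
  u2 : 2 ≤ u
  ex1 : ¬ (e = false ∧ u = 2 ∧ k = 3)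
  p_prime : p.Prime
  pq : p ∣ q
  q3 : 3 ≤ q
  rel : a * M = b * N + c
  typ : Typ q a b c
  hd : d ∣ AA e 1 u
  eqM : d * M = H * ZZ s e m u
  n1 : AA e k u ∣ N
  n2 : AA e (m - k) u ∣ d * N
  n3 : ∀ b, 1 ≤ b → b + k + 1 ≤ m → AA e b u ∣ d * N
  pu : ¬ p ∣ u
  pH : ¬ p ∣ H
  pN : ¬ p ∣ N

variable {s e : Bool} {m k u q p H M N d : ℕ} {a b c : ℤ}

theorem NE.n2' (h : NE s e m k u q p H M N d a b c) : YY e (m - k) u ∣ d * N := (YY_dvd h.u2).trans h.n2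

theorem NE.pd (h : NE s e m k u q p H M N d a b c) : ¬ p ∣ d := fun h1 =>
  h.pN (h1.trans (h.hd.trans ((AA1_dvd h.u2).trans h.n1)))

theorem NE.pdN (h : NE s e m k u q p H M N d a b c) : ¬ p ∣ d * N := fun h1 =>
  (h.p_prime.dvd_mul.1 h1).elim h.pd h.pN

theorem NE.pA1 (h : NE s e m k u q p H M N d a b c) : ¬ p ∣ AA e 1 u := fun h1 =>
  h.pN (h1.trans ((AA1_dvd h.u2).trans h.n1))

theorem NE.d_pos (h : NE s e m k u q p H M N d a b c) : 0 < d :=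
  Nat.pos_of_dvd_of_pos h.hd (AA_pos h.u2 le_rfl)

theorem NE.d_le (h : NE s e m k u q p H M N d a b c) : d ≤ AA e 1 u :=
  Nat.le_of_dvd (AA_pos h.u2 le_rfl) h.hd

theorem NE.d_le' (h : NE s e m k u q p H M N d a b c) : d ≤ u + 1 :=
  h.d_le.trans (by have := AA_le (e := e) (n := 1) (u := u); rwa [pow_one] at this)

/-- `rel_core` in the present situation, `T ∣ K` in the natural numbers -/
theorem NE.core' (h : NE s e m k u q p H M N d a b c) {T : ℕ} {E μ K ρ : ℤ} (hZ : E.natAbs = ZZ s e m u)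
    (hE : μ * E = K + ρ) (hTK : T ∣ K.natAbs) (hTN : T ∣ d * N) (hpμ : ¬ p ∣ μ.natAbs) (hpK : ¬ p ∣ K.natAbs) :
    T ≤ (q + 1) * (H * ρ.natAbs + μ.natAbs * d * (q + 1)) ∨
      (T2 a b c ∧ H * ρ.natAbs = μ.natAbs * d ∧ μ.natAbs * d * N = H * K.natAbs) :=
  rel_core h.p_prime h.pq h.q3 h.rel h.typ (E := E) (d := d) (H := H) (by rw [hZ]; exact h.eqM) hE
    (Int.natCast_dvd.2 hTK) hTN h.pH h.pd (fun h1 => hpμ (Int.natCast_dvd.1 h1)) (fun h1 => hpK (Int.natCast_dvd.1 h1))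

/-- `rel_core` in the present situation, `T ∣ K` in the natural numbers -/
theorem NE.core (h : NE s e m k u q p H M N d a b c) {T : ℕ} {E μ K ρ : ℤ} (hZ : E.natAbs = ZZ s e m u)
    (hE : μ * E = K + ρ) (hTK : T ∣ K.natAbs) (hTN : T ∣ d * N) (hpμ : ¬ p ∣ μ.natAbs) (hpK : ¬ p ∣ K.natAbs) :
    T ≤ (q + 1) * (H * ρ.natAbs + μ.natAbs * d * (q + 1)) ∨
      (H * ρ.natAbs = μ.natAbs * d ∧ μ.natAbs * d * N = H * K.natAbs) := by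
  rcases h.core' hZ hE hTK hTN hpμ hpK with h1 | ⟨-, h1⟩
  · exact Or.inl h1
  · exact Or.inr h1

theorem NE.R1t (h : NE true e m k u q p H M N d a b c) :
    YY e k u ≤ (q + 1) * (H * YY e (m - k) u + 1 * d * (q + 1)) := by
  have hu := h.u2
  have hk := h.k3
  have hkm := h.km
  have hE : (1 : ℤ) * Yz e m u = xv e u ^ (m - k) * Yz e k u + Yz e (m - k) u := by
    have h1 : Yz e m u = Yz e (m - k) u + xv e u ^ (m - k) * Yz e k u := by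
      unfold Yz
      rw [Finset.mul_sum]
      conv_lhs => rw [show m = (m - k) + k by omega, Finset.sum_range_add]
      simp only [pow_add]
    rw [h1]; ring
  have hK : (xv e u ^ (m - k) * Yz e k u).natAbs = u ^ (m - k) * YY e k u := by
    rw [Int.natAbs_mul, Int.natAbs_pow, xv_natAbs, Yz_natAbs hu]
  have h0 := h.core (T := YY e k u) (by rw [Yz_natAbs hu]; rfl) hE (by rw [hK]; exact Dvd.intro_left _ rfl)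
    (((YY_dvd hu).trans h.n1).trans (Dvd.intro_left _ rfl)) (by
      intro h1; exact h.p_prime.one_lt.ne' (Nat.dvd_one.1 h1)) (by
      rw [hK]; intro h1
      rcases h.p_prime.dvd_mul.1 h1 with h2 | h2
      · exact h.pu (h.p_prime.dvd_of_dvd_pow h2)
      · exact h.pN (h2.trans ((YY_dvd hu).trans h.n1)))
  rw [Yz_natAbs hu, hK] at h0
  rcases h0 with h0 | ⟨h0, h1⟩
  · exact h0
  · exfalso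
    simp only [Int.natAbs_one, one_mul] at h0 h1
    obtain ⟨n, hn⟩ := h.n1
    have hH : 0 < H := by
      rcases Nat.eq_zero_or_pos H with h2 | h2
      · rw [h2, zero_mul] at h0; have := h.d_pos; omega
      · exact h2
    have e1 : AA e (m - k) u * n = u ^ (m - k) := by
      refine Nat.eq_of_mul_eq_mul_left (Nat.mul_pos hH (YY_pos (e := e) (n := k) hu (by omega))) ?_
      calc H * YY e k u * (AA e (m - k) u * n) = H * YY e k u * (YY e (m - k) u * AA e 1 u * n) := by rw [YY_mul hu]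
        _ = H * YY e (m - k) u * (YY e k u * AA e 1 u * n) := by ring
        _ = d * N := by rw [h0, YY_mul hu, hn]
        _ = _ := by rw [h1]; ring
    have e2 := cop_eq_one e1 (Nat.Coprime.pow_left _ (cop_u hu (by omega)))
    have e3 := le_AA (e := e) (n := m - k) (u := u)
    have e4 : u ^ 2 ≤ u ^ (m - k) := Nat.pow_le_pow_right (by omega) (by omega)
    nlinarith only [hu, e2, e3, e4]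

theorem NE.R2t (h : NE true e m k u q p H M N d a b c) :
    YY e (m - k) u ≤ (q + 1) * (H * YY e k u + 1 * d * (q + 1)) := by
  have hu := h.u2
  have hk := h.k3
  have hkm := h.km
  have hE : (1 : ℤ) * Yz e m u = xv e u ^ k * Yz e (m - k) u + Yz e k u := by
    have h1 : Yz e m u = Yz e k u + xv e u ^ k * Yz e (m - k) u := by
      unfold Yz
      rw [Finset.mul_sum]
      conv_lhs => rw [show m = k + (m - k) by omega, Finset.sum_range_add]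
      simp only [pow_add]
    rw [h1]; ring
  have hK : (xv e u ^ k * Yz e (m - k) u).natAbs = u ^ k * YY e (m - k) u := by
    rw [Int.natAbs_mul, Int.natAbs_pow, xv_natAbs, Yz_natAbs hu]
  have h0 := h.core (T := YY e (m - k) u) (by rw [Yz_natAbs hu]; rfl) hE (by rw [hK]; exact Dvd.intro_left _ rfl)
    h.n2' (by intro h1; exact h.p_prime.one_lt.ne' (Nat.dvd_one.1 h1)) (by
      rw [hK]; intro h1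
      rcases h.p_prime.dvd_mul.1 h1 with h2 | h2
      · exact h.pu (h.p_prime.dvd_of_dvd_pow h2)
      · exact h.pdN (h2.trans h.n2'))
  rw [Yz_natAbs hu, hK] at h0
  rcases h0 with h0 | ⟨h0, h1⟩
  · exact h0
  · exfalso
    simp only [Int.natAbs_one, one_mul] at h0 h1
    have hH : 1 ≤ H := by
      rcases Nat.eq_zero_or_pos H with h2 | h2
      · rw [h2, zero_mul] at h0; have := h.d_pos; omega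
      · exact h2
    have h2 := AAk_big (e := e) hu hk h.ex1
    have h3 := h.d_le
    nlinarith only [h0, hH, h2, h3]

theorem NE.P0t (h : NE true e m k u q p H M N d a b c)
    (hz : d < H * ((YY e k u - YY e (m - k) u) + (YY e (m - k) u - YY e k u))) :
    Nat.lcm (AA e k u) (YY e (m - k) u) ≤ (q + 1) * (H * (YY e k u + YY e (m - k) u) + 1 * d * (q + 1)) := by
  have hu := h.u2
  have hk := h.k3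
  have hkm := h.km
  have hE : (1 : ℤ) * Yz e m u = (xv e u ^ k - 1) * Yz e (m - k) u + (Yz e k u + Yz e (m - k) u) := by
    have h1 : Yz e m u = Yz e k u + xv e u ^ k * Yz e (m - k) u := by
      unfold Yz
      rw [Finset.mul_sum]
      conv_lhs => rw [show m = k + (m - k) by omega, Finset.sum_range_add]
      simp only [pow_add]
    rw [h1]; ring
  have hK : ((xv e u ^ k - 1) * Yz e (m - k) u).natAbs = AA e k u * YY e (m - k) u := by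
    rw [Int.natAbs_mul, AA_natAbs (by omega), Yz_natAbs hu]
  have h0 := h.core (T := Nat.lcm (AA e k u) (YY e (m - k) u)) (by rw [Yz_natAbs hu]; rfl) hE
    (by rw [hK]; exact Nat.lcm_dvd_mul _ _)
    (Nat.lcm_dvd (h.n1.trans (Dvd.intro_left _ rfl)) h.n2')
    (by intro h1; exact h.p_prime.one_lt.ne' (Nat.dvd_one.1 h1)) (by
      rw [hK]; intro h1
      rcases h.p_prime.dvd_mul.1 h1 with h2 | h2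
      · exact h.pN (h2.trans h.n1)
      · exact h.pdN (h2.trans h.n2'))
  rcases h0 with h0 | ⟨h0, -⟩
  · refine h0.trans (Nat.mul_le_mul_left _ (Nat.add_le_add (Nat.mul_le_mul_left _ ?_) ?_))
    · refine (Int.natAbs_add_le _ _).trans ?_
      rw [Yz_natAbs hu, Yz_natAbs hu]
    · rw [Int.natAbs_one]
  · exfalso
    rw [Int.natAbs_one, one_mul] at h0
    have h2 : (YY e k u - YY e (m - k) u) + (YY e (m - k) u - YY e k u) ≤ (Yz e k u + Yz e (m - k) u).natAbs := by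
      rw [← Yz_natAbs hu, ← Yz_natAbs hu]; (clear * -; omega)
    have h3 := Nat.mul_le_mul_left H h2
    omega

theorem NE.R1f' (h : NE false e m k u q p H M N d a b c) :
    AA e k u ≤ (q + 1) * (H * AA e (m - 1 - k) u + 1 * d * (q + 1)) ∨ (T2 a b c ∧ e = true ∧ u = 2 ∧ k + 2 = m) := by
  have hu := h.u2
  have hk := h.k3
  have hkm := h.km
  have hE : (1 : ℤ) * (xv e u ^ (m - 1) - 1) = xv e u ^ (m - 1 - k) * (xv e u ^ k - 1) + (xv e u ^ (m - 1 - k) - 1) := by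
    conv_lhs => rw [show m - 1 = (m - 1 - k) + k by omega, pow_add]
    ring
  have hK : (xv e u ^ (m - 1 - k) * (xv e u ^ k - 1)).natAbs = u ^ (m - 1 - k) * AA e k u := by
    rw [Int.natAbs_mul, Int.natAbs_pow, xv_natAbs, AA_natAbs (by omega)]
  have h0 := h.core' (T := AA e k u) (by rw [AA_natAbs (by omega)]; rfl) hE (by rw [hK]; exact Dvd.intro_left _ rfl)
    (h.n1.trans (Dvd.intro_left _ rfl)) (by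
      intro h1; exact h.p_prime.one_lt.ne' (Nat.dvd_one.1 h1)) (by
      rw [hK]; intro h1
      rcases h.p_prime.dvd_mul.1 h1 with h2 | h2
      · exact h.pu (h.p_prime.dvd_of_dvd_pow h2)
      · exact h.pN (h2.trans h.n1))
  rw [AA_natAbs (by omega), hK] at h0
  rcases h0 with h0 | ⟨hT, h0, h1⟩
  · exact Or.inl h0
  · right
    simp only [Int.natAbs_one, one_mul] at h0 h1
    obtain ⟨n, hn⟩ := h.n1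
    have hH : 0 < H := by
      rcases Nat.eq_zero_or_pos H with h2 | h2
      · rw [h2, zero_mul] at h0; have := h.d_pos; omega
      · exact h2
    have e1 : AA e (m - 1 - k) u * n = u ^ (m - 1 - k) := by
      refine Nat.eq_of_mul_eq_mul_left (Nat.mul_pos hH (AA_pos (e := e) (n := k) hu (by omega))) ?_
      calc H * AA e k u * (AA e (m - 1 - k) u * n) = H * AA e (m - 1 - k) u * (AA e k u * n) := by ring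
        _ = d * N := by rw [h0, hn]
        _ = _ := by rw [h1]; ring
    have e2 := cop_eq_one e1 (Nat.Coprime.pow_left _ (cop_u hu (by omega)))
    have e3 := le_AA (e := e) (n := m - 1 - k) (u := u)
    have e5 : m - 1 - k = 1 := by
      by_contra hcon
      have e4 : u ^ 2 ≤ u ^ (m - 1 - k) := Nat.pow_le_pow_right (by omega) (by omega)
      nlinarith only [hu, e2, e3, e4]
    rw [e2, e5, pow_one] at e3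
    have e6 : u = 2 := by omega
    refine ⟨hT, ?_, e6, by omega⟩
    cases e with
    | true => rfl
    | false => rw [e5, e6] at e2; exact absurd e2 (by decide)

theorem NE.R1f (h : NE false e m k u q p H M N d a b c) (hex : ¬ (e = true ∧ u = 2 ∧ k + 2 = m)) :
    AA e k u ≤ (q + 1) * (H * AA e (m - 1 - k) u + 1 * d * (q + 1)) :=
  h.R1f'.resolve_right fun h1 => hex h1.2

theorem NE.R2f (h : NE false e m k u q p H M N d a b c) :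
    YY e (m - k) u ≤ (q + 1) * (H * AA e (k - 1) u + 1 * d * (q + 1)) := by
  have hu := h.u2
  have hk := h.k3
  have hkm := h.km
  have hE : (1 : ℤ) * (xv e u ^ (m - 1) - 1) = xv e u ^ (k - 1) * (xv e u ^ (m - k) - 1) + (xv e u ^ (k - 1) - 1) := by
    conv_lhs => rw [show m - 1 = (k - 1) + (m - k) by omega, pow_add]
    ring
  have hK : (xv e u ^ (k - 1) * (xv e u ^ (m - k) - 1)).natAbs = u ^ (k - 1) * AA e (m - k) u := by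
    rw [Int.natAbs_mul, Int.natAbs_pow, xv_natAbs, AA_natAbs (by omega)]
  have h0 := h.core (T := YY e (m - k) u) (by rw [AA_natAbs (by omega)]; rfl) hE
    (by rw [hK]; exact (YY_dvd hu).mul_left _) h.n2'
    (by intro h1; exact h.p_prime.one_lt.ne' (Nat.dvd_one.1 h1)) (by
      rw [hK]; intro h1
      rcases h.p_prime.dvd_mul.1 h1 with h2 | h2
      · exact h.pu (h.p_prime.dvd_of_dvd_pow h2)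
      · rw [← YY_mul hu] at h2
        rcases h.p_prime.dvd_mul.1 h2 with h3 | h3
        · exact h.pdN (h3.trans h.n2')
        · exact h.pA1 h3)
  rw [AA_natAbs (by omega), hK] at h0
  rcases h0 with h0 | ⟨h0, h1⟩
  · exact h0
  · exfalso
    simp only [Int.natAbs_one, one_mul] at h0 h1
    have hH : 1 ≤ H := by
      rcases Nat.eq_zero_or_pos H with h2 | h2
      · rw [h2, zero_mul] at h0; have := h.d_pos; omega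
      · exact h2
    have h2 : AA e 1 u < AA e (k - 1) u := by
      have h3 : u ^ 2 ≤ u ^ (k - 1) := Nat.pow_le_pow_right (by omega) (by omega)
      have h4 := le_AA (e := e) (n := k - 1) (u := u)
      cases e with
      | true =>
        rw [AA_true, pow_one]
        have h5 : u ^ 2 ≥ 2 * u := by nlinarith only [hu]
        omega
      | false =>
        rw [AA_false_odd (n := 1) rfl, pow_one]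
        rcases Nat.lt_or_ge 2 u with h6 | h6
        · have h5 : u ^ 2 ≥ 3 * u := by nlinarith only [h6]
          omega
        · have h7 : u = 2 := by omega
          subst h7
          have h8 : 4 ≤ k := by
            rcases Nat.lt_or_ge 3 k with h6 | h6
            · omega
            · exact absurd ⟨rfl, rfl, by omega⟩ h.ex1
          have h6 : 2 ^ 3 ≤ 2 ^ (k - 1) := Nat.pow_le_pow_right (by omega) (by omega)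
          omega
    have h3 := h.d_le
    nlinarith only [h0, hH, h2, h3]

theorem NE.P0f (h : NE false e m k u q p H M N d a b c)
    (hz : u * d < H * (((AA e k u - AA e (m - k) u) + (AA e (m - k) u - AA e k u)) - AA e 1 u)) :
    Nat.lcm (AA e k u) (YY e (m - k) u) ≤
      (q + 1) * (H * (AA e k u + AA e (m - k) u + AA e 1 u) + u * d * (q + 1)) := by
  have hu := h.u2
  have hk := h.k3
  have hkm := h.km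
  have hE : xv e u * (xv e u ^ (m - 1) - 1) = (xv e u ^ k - 1) * (xv e u ^ (m - k) - 1) +
      ((xv e u ^ k - 1) + (xv e u ^ (m - k) - 1) - (xv e u ^ 1 - 1)) := by
    have h1 : xv e u * xv e u ^ (m - 1) = xv e u ^ k * xv e u ^ (m - k) := by
      rw [← pow_succ', ← pow_add]; congr 1; omega
    linear_combination h1
  have hK : ((xv e u ^ k - 1) * (xv e u ^ (m - k) - 1)).natAbs = AA e k u * AA e (m - k) u := by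
    rw [Int.natAbs_mul, AA_natAbs (by omega), AA_natAbs (by omega)]
  have h0 := h.core (T := Nat.lcm (AA e k u) (YY e (m - k) u)) (by rw [AA_natAbs (by omega)]; rfl) hE
    (by rw [hK]; exact (Nat.lcm_dvd_mul _ _).trans (Nat.mul_dvd_mul_left _ (YY_dvd hu)))
    (Nat.lcm_dvd (h.n1.trans (Dvd.intro_left _ rfl)) h.n2')
    (by rw [xv_natAbs]; exact h.pu) (by
      rw [hK]; intro h1
      rcases h.p_prime.dvd_mul.1 h1 with h2 | h2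
      · exact h.pN (h2.trans h.n1)
      · rw [← YY_mul hu] at h2
        rcases h.p_prime.dvd_mul.1 h2 with h3 | h3
        · exact h.pdN (h3.trans h.n2')
        · exact h.pA1 h3)
  rw [xv_natAbs] at h0
  rcases h0 with h0 | ⟨h0, -⟩
  · refine h0.trans (Nat.mul_le_mul_left _ (Nat.add_le_add_right (Nat.mul_le_mul_left _ ?_) _))
    refine (Int.natAbs_sub_le _ _).trans ?_
    rw [AA_natAbs (n := 1) (by omega)]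
    refine Nat.add_le_add_right ((Int.natAbs_add_le _ _).trans ?_) _
    rw [AA_natAbs (by omega), AA_natAbs (by omega)]
  · exfalso
    have h2 : ((AA e k u - AA e (m - k) u) + (AA e (m - k) u - AA e k u)) - AA e 1 u ≤
        ((xv e u ^ k - 1) + (xv e u ^ (m - k) - 1) - (xv e u ^ 1 - 1)).natAbs := by
      rw [← AA_natAbs (n := 1) (show 1 ≤ u by omega), ← AA_natAbs (n := k) (show 1 ≤ u by omega),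
        ← AA_natAbs (n := m - k) (show 1 ≤ u by omega)]
      (clear * -; omega)
    have h3 := Nat.mul_le_mul_left H h2
    omega

theorem NE.P1f (h : NE false e m k u q p H M N d a b c) 
    (hz : d < H * ((AA e k u - AA e (m - 1 - k) u) + (AA e (m - 1 - k) u - AA e k u))) :
    Nat.lcm (AA e k u) (AA e (m - 1 - k) u) ≤
      (q + 1) * (H * (AA e k u + AA e (m - 1 - k) u) + 1 * d * (q + 1)) := by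
  have hu := h.u2
  have hk := h.k3
  have hkm := h.km
  have hE : 1 * (xv e u ^ (m - 1) - 1) = (xv e u ^ k - 1) * (xv e u ^ (m - 1 - k) - 1) +
      ((xv e u ^ k - 1) + (xv e u ^ (m - 1 - k) - 1)) := by
    have h1 : xv e u ^ (m - 1) = xv e u ^ k * xv e u ^ (m - 1 - k) := by
      rw [← pow_add]; congr 1; omega
    linear_combination h1
  have hK : ((xv e u ^ k - 1) * (xv e u ^ (m - 1 - k) - 1)).natAbs = AA e k u * AA e (m - 1 - k) u := by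
    rw [Int.natAbs_mul, AA_natAbs (by omega), AA_natAbs (by omega)]
  have hn3 := h.n3 (m - 1 - k) (by omega) (by omega)
  have h0 := h.core (T := Nat.lcm (AA e k u) (AA e (m - 1 - k) u)) (by rw [AA_natAbs (by omega)]; rfl) hE
    (by rw [hK]; exact Nat.lcm_dvd_mul _ _)
    (Nat.lcm_dvd (h.n1.trans (Dvd.intro_left _ rfl)) hn3)
    (by intro h1; exact h.p_prime.one_lt.ne' (Nat.dvd_one.1 h1)) (by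
      rw [hK]; intro h1
      rcases h.p_prime.dvd_mul.1 h1 with h2 | h2
      · exact h.pN (h2.trans h.n1)
      · exact h.pdN (h2.trans hn3))
  rcases h0 with h0 | ⟨h0, -⟩
  · refine h0.trans (Nat.mul_le_mul_left _ (Nat.add_le_add (Nat.mul_le_mul_left _ ?_) ?_))
    · refine (Int.natAbs_add_le _ _).trans ?_
      rw [AA_natAbs (by omega), AA_natAbs (by omega)]
    · rw [Int.natAbs_one]
  · exfalso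
    rw [Int.natAbs_one, one_mul] at h0
    have h2 : (AA e k u - AA e (m - 1 - k) u) + (AA e (m - 1 - k) u - AA e k u) ≤
        ((xv e u ^ k - 1) + (xv e u ^ (m - 1 - k) - 1)).natAbs := by
      rw [← AA_natAbs (n := k) (show 1 ≤ u by omega), ← AA_natAbs (n := m - 1 - k) (show 1 ≤ u by omega)]
      (clear * -; omega)
    have h3 := Nat.mul_le_mul_left H h2
    omega

theorem NE.bd (h : NE s e m k u q p H M N d a b c) (j : ℕ) (hz : rZ s e m k u d H j = true) :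
    rT s e m k u j ≤ (q + 1) * (H * rR s e m k u j + rMu s u j * d * (q + 1)) := by
  match j, hz with
  | 0, hz =>
    cases s with
    | true => exact h.R1t
    | false =>
      refine h.R1f ?_
      rintro ⟨h1, h2, h3⟩
      simp [rZ, h1, h2, h3] at hz
  | 1, _ =>
    cases s with
    | true => exact h.R2t
    | false => exact h.R2f
  | 2, hz =>
    cases s with
    | true => exact h.P0t (by simpa only [rZ, ↓ _root_.reduceIte, _root_.decide_eq_true_eq] using hz)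
    | false => exact h.P0f (by simpa only [rZ, _root_.Bool.false_eq_true, ↓ _root_.reduceIte, _root_.decide_eq_true_eq] using hz)
  | 3, hz =>
    cases s with
    | true => simp only [rZ, _root_.Bool.not_true, _root_.Bool.false_and, _root_.Bool.false_eq_true] at hz
    | false => exact h.P1f (by simpa only [rZ, _root_.Bool.not_false, _root_.Bool.true_and, _root_.decide_eq_true_eq] using hz)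
  | n + 4, hz => simp [rZ] at hz


/-- the number `N` is not large -/
theorem N_le (hq : 3 ≤ q) (hrel : a * M = b * N + c) (ht : Typ q a b c) (hs : q ^ 5 ≤ 48 * M) : N ≤ 4 * M := by
  have hM : (q : ℤ) ^ 5 ≤ 48 * M := by exact_mod_cast hs
  have hq' : (3 : ℤ) ≤ q := by exact_mod_cast hq
  have hM2 : (q : ℤ) + 5 ≤ 2 * M := by
    have h1 : (q : ℤ) ^ 5 = q * q ^ 4 := by ring
    have h2 : (81 : ℤ) ≤ q ^ 4 := by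
      have : (3 : ℤ) ^ 4 ≤ q ^ 4 := pow_le_pow_left₀ (by norm_num) hq' 4
      norm_num at this; exact this
    nlinarith only [hq, hs, h2]
  have hcM : |c| ≤ (q + 1) ^ 2 := by
    have h1 := ht.c_le (show 2 ≤ q by omega)
    have h2 : (c.natAbs : ℤ) ≤ ((q + 1) * (q + 1) : ℕ) := by exact_mod_cast h1
    rw [Int.natCast_natAbs] at h2
    push_cast at h2
    linarith only [h1]
  have hc1 := neg_abs_le c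
  have hM0 : (0 : ℤ) ≤ M := Int.natCast_nonneg _
  suffices h : (N : ℤ) ≤ 4 * M by exact_mod_cast h
  rcases ht with ⟨s, hs, hab, -⟩ | ⟨h1, h2, h3⟩
  · have hs1 : s ≤ 1 ∧ -1 ≤ s := by rcases hs with rfl | rfl <;> constructor <;> norm_num
    rcases hab with ⟨rfl, rfl⟩ | ⟨rfl, rfl⟩
    · -- `a = q + s`, `b = q`
      by_contra hcon
      push Not at hcon
      have h4 : (q : ℤ) * (4 * M + 1) ≤ q * N := by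
        apply mul_le_mul_of_nonneg_left _ (by linarith only [hq]); omega
      have h5 : (q : ℤ) * N = (q + s) * M - c := by linarith only [hrel]
      have h6 : ((q : ℤ) + s) * M ≤ (q + 1) * M := by nlinarith only [hs1]
      have h7 : (q : ℤ) * (4 * M + 1) ≤ (q + 1) * M + (q + 1) ^ 2 := by linarith only [hcM, hc1, hrel, h4, h6]
      nlinarith only [hq, hM2, hcM, hc1, hrel, h4, h6]
    · by_contra hcon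
      push Not at hcon
      have h4 : ((q : ℤ) + s) * (4 * M + 1) ≤ (q + s) * N := by
        apply mul_le_mul_of_nonneg_left _ (by linarith only [hq, hs1.2]); omega
      have h5 : ((q : ℤ) + s) * N = q * M - c := by linarith only [hrel]
      have h6 : ((q : ℤ) - 1) * (4 * M + 1) ≤ (q + s) * (4 * M + 1) := by
        apply mul_le_mul_of_nonneg_right _ (by linarith only []); linarith only [hs1.2]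
      have h7 : ((q : ℤ) - 1) * (4 * M + 1) ≤ q * M + (q + 1) ^ 2 := by linarith only [hcM, hc1, hrel, h4, h6]
      nlinarith only [hq, hM2, hcM, hc1, hrel, h4, h6]
  · rw [h1, h2] at hrel
    have h4 : c ≤ 1 ∧ -1 ≤ c := by rcases h3 with rfl | rfl <;> constructor <;> norm_num
    linarith only [hrel, hM2, h4.2]

/-- the least common multiple of the tori -/
def bigL (e : Bool) (m k u : ℕ) : ℕ :=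
  (List.range (m - 1 - k)).foldr (fun i x => Nat.lcm (AA e (i + 1) u) x) (Nat.lcm (AA e k u) (AA e (m - k) u))

theorem foldr_dvd {e : Bool} {u x0 X : ℕ} (h0 : x0 ∣ X) : ∀ L : List ℕ, (∀ i ∈ L, AA e (i + 1) u ∣ X) →
    L.foldr (fun i x => Nat.lcm (AA e (i + 1) u) x) x0 ∣ X := by
  intro L
  induction L with
  | nil => intro _; exact h0
  | cons i L ih =>
    intro hL
    exact Nat.lcm_dvd (hL i List.mem_cons_self) (ih fun j hj => hL j (List.mem_cons_of_mem _ hj))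

theorem dvd_foldr {e : Bool} {u x0 : ℕ} : ∀ L : List ℕ, x0 ∣ L.foldr (fun i x => Nat.lcm (AA e (i + 1) u) x) x0 := by
  intro L
  induction L with
  | nil => exact dvd_rfl
  | cons i L ih => exact ih.trans (Nat.dvd_lcm_right _ _)

theorem dvd_foldr_mem {e : Bool} {u x0 : ℕ} : ∀ L : List ℕ, ∀ i ∈ L,
    AA e (i + 1) u ∣ L.foldr (fun i x => Nat.lcm (AA e (i + 1) u) x) x0 := by
  intro L
  induction L with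
  | nil => intro i hi; cases hi
  | cons j L ih =>
    intro i hi
    rcases List.mem_cons.1 hi with rfl | hi
    · exact Nat.dvd_lcm_left _ _
    · exact (ih i hi).trans (Nat.dvd_lcm_right _ _)

theorem NE.bigL_dvd (h : NE s e m k u q p H M N d a b c) : bigL e m k u ∣ d * N := by
  refine foldr_dvd (Nat.lcm_dvd (h.n1.trans (Dvd.intro_left _ rfl)) h.n2) _ fun i hi => ?_
  have := List.mem_range.1 hi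
  exact h.n3 (i + 1) (by omega) (by omega)

theorem NE.N_pos (h : NE s e m k u q p H M N d a b c) : 0 < N := by
  rcases Nat.eq_zero_or_pos N with h0 | h0
  · exact absurd (by rw [h0]; exact dvd_zero p) h.pN
  · exact h0

theorem NE.bigL_le (h : NE s e m k u q p H M N d a b c) (hs : q ^ 5 ≤ 48 * M) :
    bigL e m k u ≤ 4 * (H * ZZ s e m u) := by
  calc bigL e m k u ≤ d * N := Nat.le_of_dvd (Nat.mul_pos h.d_pos h.N_pos) h.bigL_dvd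
    _ ≤ d * (4 * M) := Nat.mul_le_mul_left _ (N_le h.q3 h.rel h.typ hs)
    _ = 4 * (H * ZZ s e m u) := by rw [← h.eqM]; ring

end Cfsg.Agent.R2.Spec.NA5
end

-- part: R2/Spec/NA5/Crude7
section
prune_inst 0x30007104740000000000001202000020600001900000800031c00f420b0f3240894020004a800d121044128018000000000000100000000000003000000200000000400083180f0c2e0006803007580c00000000000000000000000000041000000000000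
set_option linter.all false
open scoped Cfsg.Agent.FastGrp

-- part: R2/Spec/NA5/Crude5
section
/-!
# S3435, packet NON-A, `dimL t ≥ 5` (helper3): the crude inequalities
-/

set_option autoImplicit false

namespace Cfsg.Agent.R2.Spec.NA5

open Cfsg.Agent.R2.Spec.NA
open Cfsg.Agent.H403.NumTop hiding nu

/-- the sufficient condition -/
def chk5 (θ T ρ μ d H Z : ℕ) : Bool :=
  decide ((θ * (H * ρ)) ^ (5:ℕ) * (203 * (H * Z)) < ((θ - 1) * T) ^ (5:ℕ) * d) &&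
    decide ((θ * (μ * d)) ^ (5:ℕ) * (203 ^ (2:ℕ) * (H * Z) ^ (2:ℕ)) < T ^ (5:ℕ) * d ^ (2:ℕ))

theorem semi5_false {θ T ρ μ d H Z M q : ℕ} (hθ : 1 ≤ θ) (hq : 3 ≤ q) (hM : d * M = H * Z) (hs : q ^ (5:ℕ) ≤ 48 * M)
    (hT : T ≤ (q + 1) * (H * ρ + μ * d * (q + 1))) (h : chk5 θ T ρ μ d H Z = true) : False := by
  have h1 : (q + 1) ^ (5:ℕ) ≤ 203 * M := by
    have h2 : 3 * (q + 1) ≤ 4 * q := by omega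
    have h3 := Nat.pow_le_pow_left h2 5
    rw [mul_pow, mul_pow] at h3
    have h4 : 3 ^ (5:ℕ) * (q + 1) ^ (5:ℕ) ≤ 4 ^ (5:ℕ) * (48 * M) := h3.trans (Nat.mul_le_mul_left _ hs)
    omega
  rw [chk5, Bool.and_eq_true, decide_eq_true_eq, decide_eq_true_eq] at h
  obtain ⟨c1, c2⟩ := h
  rw [← hM] at c1 c2
  have k1 : θ * (H * ρ) * (q + 1) < (θ - 1) * T := by
    by_contra hcon
    have h5 := Nat.pow_le_pow_left (not_lt.1 hcon) 5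
    have h6 : ((θ - 1) * T) ^ (5:ℕ) * d ≤ (θ * (H * ρ)) ^ (5:ℕ) * (203 * (d * M)) := by
      calc ((θ - 1) * T) ^ (5:ℕ) * d ≤ (θ * (H * ρ) * (q + 1)) ^ (5:ℕ) * d := Nat.mul_le_mul_right _ h5
        _ = (θ * (H * ρ)) ^ (5:ℕ) * ((q + 1) ^ (5:ℕ) * d) := by rw [mul_pow]; ring
        _ ≤ (θ * (H * ρ)) ^ (5:ℕ) * (203 * M * d) := Nat.mul_le_mul_left _ (Nat.mul_le_mul_right _ h1)
        _ = _ := by ring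
    omega
  have k2 : θ * (μ * d) * (q + 1) ^ (2:ℕ) < T := by
    by_contra hcon
    have h5 := Nat.pow_le_pow_left (not_lt.1 hcon) 5
    have h6 : T ^ (5:ℕ) * d ^ (2:ℕ) ≤ (θ * (μ * d)) ^ (5:ℕ) * (203 ^ (2:ℕ) * (d * M) ^ (2:ℕ)) := by
      calc T ^ (5:ℕ) * d ^ (2:ℕ) ≤ (θ * (μ * d) * (q + 1) ^ (2:ℕ)) ^ (5:ℕ) * d ^ (2:ℕ) := Nat.mul_le_mul_right _ h5
        _ = (θ * (μ * d)) ^ (5:ℕ) * (((q + 1) ^ (5:ℕ)) ^ (2:ℕ) * d ^ (2:ℕ)) := by rw [mul_pow]; ring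
        _ ≤ (θ * (μ * d)) ^ (5:ℕ) * ((203 * M) ^ (2:ℕ) * d ^ (2:ℕ)) :=
          Nat.mul_le_mul_left _ (Nat.mul_le_mul_right _ (Nat.pow_le_pow_left h1 2))
        _ = _ := by ring
    omega
  have k3 : θ * T < θ * T := by
    calc θ * T ≤ θ * ((q + 1) * (H * ρ + μ * d * (q + 1))) := Nat.mul_le_mul_left _ hT
      _ = θ * (H * ρ) * (q + 1) + θ * (μ * d) * (q + 1) ^ (2:ℕ) := by ring
      _ < (θ - 1) * T + T := Nat.add_lt_add k1 k2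
      _ = (θ - 1 + 1) * T := by ring
      _ = θ * T := by rw [Nat.sub_add_cancel hθ]
  exact lt_irrefl _ k3

def L1 : ℕ → ℕ
  | 0 => 406 * 2 ^ (15:ℕ)
  | 1 => 406 * 2 ^ (15:ℕ)
  | _ => 406 * 2 ^ (30:ℕ)

def L2 : ℕ → ℕ
  | 0 => 41209 * 2 ^ (15:ℕ)
  | 1 => 41209 * 2 ^ (15:ℕ)
  | _ => 41209 * 2 ^ (25:ℕ)

/-- the zero case is excluded -/
def z5 (s : Bool) (m k u : ℕ) : ℕ → Bool
  | 0 => true
  | 1 => true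
  | 2 => decide (k ≠ m - k) && (decide (6 ≤ min k (m - k)) || (decide (5 ≤ u) && decide (2 ≤ min k (m - k))))
  | 3 => !s && (decide (k ≠ m - 1 - k) &&
      (decide (6 ≤ min k (m - 1 - k)) || (decide (5 ≤ u) && decide (2 ≤ min k (m - 1 - k)))))
  | _ => false

theorem z5_zc {s : Bool} {m k u j : ℕ} (hu : 2 ≤ u) (h : z5 s m k u j = true) : zc s m k u j = true := by
  have key : ∀ x : ℕ, (6 ≤ x ∨ (5 ≤ u ∧ 2 ≤ x)) → (u + 1) ^ (2:ℕ) + 2 < u ^ x * (u - 1) := by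
    intro x hx
    rcases hx with hx | ⟨h5, hx⟩
    · have h3 : 2 ^ (4:ℕ) ≤ u ^ (4:ℕ) := Nat.pow_le_pow_left hu 4
      have h4 : u ^ (6:ℕ) = u ^ (4:ℕ) * u ^ (2:ℕ) := by rw [← pow_add]
      have h5 : u ^ (6:ℕ) * 1 ≤ u ^ x * (u - 1) := Nat.mul_le_mul (Nat.pow_le_pow_right (by omega) hx) (by omega)
      have h6 : 16 * u ^ (2:ℕ) ≤ u ^ (6:ℕ) := by rw [h4]; exact Nat.mul_le_mul_right _ h3
      nlinarith only [hu, h5, h6]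
    · have h6 : u ^ (2:ℕ) * 4 ≤ u ^ x * (u - 1) := Nat.mul_le_mul (Nat.pow_le_pow_right (by omega) hx) (by omega)
      nlinarith only [h5, h6]
  match j, h with
  | 0, _ => rfl
  | 1, _ => rfl
  | 2, h =>
    simp only [z5, zc, Bool.and_eq_true, Bool.or_eq_true, decide_eq_true_eq] at h ⊢
    exact ⟨h.1, key _ h.2⟩
  | 3, h =>
    simp only [z5, zc, Bool.and_eq_true, Bool.or_eq_true, decide_eq_true_eq] at h ⊢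
    exact ⟨h.1, h.2.1, key _ h.2.2⟩
  | n + 4, h => simp [z5] at h

/-- the sufficient condition in terms of powers of `u`, relation `j` -/
def crude5 (s : Bool) (m k u H j : ℕ) : Bool :=
  (decide (5 * rr s m k j + (m - 1) ≤ 5 * tau s m k j) &&
      decide (L1 j * H ^ (6:ℕ) < u ^ (5 * tau s m k j - (5 * rr s m k j + (m - 1))))) &&
    ((decide (5 * nu s j + 3 + 2 * (m - 1) ≤ 5 * tau s m k j) &&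
      decide (L2 j * H ^ (2:ℕ) < u ^ (5 * tau s m k j - (5 * nu s j + 3 + 2 * (m - 1))))) && z5 s m k u j)

theorem crude5_chk {A B T ρ μ d H Z u τ r ν n : ℕ} (hT : u ^ τ ≤ A * T) (hρ : ρ ≤ B * u ^ r) (hμ : μ = u ^ ν)
    (hd0 : 0 < d) (hd : d ≤ 2 * u) (hZ : Z ≤ 2 * u ^ n) (hA : 0 < A)
    (h1 : 5 * r + n ≤ 5 * τ) (h2 : 406 * (A * B * 2) ^ (5:ℕ) * H ^ (6:ℕ) < u ^ (5 * τ - (5 * r + n)))
    (h3 : 5 * ν + 3 + 2 * n ≤ 5 * τ) (h4 : 41209 * (32 * (A * 2) ^ (5:ℕ)) * H ^ (2:ℕ) < u ^ (5 * τ - (5 * ν + 3 + 2 * n))) :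
    chk5 2 T ρ μ d H Z = true := by
  have hT7 : u ^ (5 * τ) ≤ A ^ (5:ℕ) * T ^ (5:ℕ) := by
    calc u ^ (5 * τ) = (u ^ τ) ^ (5:ℕ) := by rw [← pow_mul]; congr 1; ring
      _ ≤ (A * T) ^ (5:ℕ) := Nat.pow_le_pow_left hT 5
      _ = _ := by ring
  have hu : 0 < u := by omega
  rw [chk5, Bool.and_eq_true, decide_eq_true_eq, decide_eq_true_eq]
  constructor
  · refine lt_of_mul_lt_mul_left ?_ (Nat.zero_le (A ^ (5:ℕ)))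
    calc A ^ (5:ℕ) * ((2 * (H * ρ)) ^ (5:ℕ) * (203 * (H * Z)))
        ≤ A ^ (5:ℕ) * ((2 * (H * (B * u ^ r))) ^ (5:ℕ) * (203 * (H * (2 * u ^ n)))) := by gcongr
      _ = 406 * (A * B * 2) ^ (5:ℕ) * H ^ (6:ℕ) * u ^ (5 * r + n) := by ring
      _ < u ^ (5 * τ - (5 * r + n)) * u ^ (5 * r + n) := Nat.mul_lt_mul_of_pos_right h2 (Nat.pow_pos hu)
      _ = u ^ (5 * τ) := by rw [← pow_add]; congr 1; omega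
      _ ≤ A ^ (5:ℕ) * T ^ (5:ℕ) := hT7
      _ ≤ A ^ (5:ℕ) * (((2 - 1) * T) ^ (5:ℕ) * d) := by
        have : 1 ≤ d := hd0
        rw [show 2 - 1 = 1 from rfl, one_mul]
        nlinarith only [hd0, Nat.zero_le (A ^ (5:ℕ) * T ^ (5:ℕ))]
  · refine lt_of_mul_lt_mul_left ?_ (Nat.zero_le (A ^ (5:ℕ)))
    calc A ^ (5:ℕ) * ((2 * (μ * d)) ^ (5:ℕ) * (203 ^ (2:ℕ) * (H * Z) ^ (2:ℕ)))
        = A ^ (5:ℕ) * (2 ^ (5:ℕ) * μ ^ (5:ℕ) * d ^ (3:ℕ) * (203 ^ (2:ℕ) * (H * Z) ^ (2:ℕ))) * d ^ (2:ℕ) := by ring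
      _ ≤ A ^ (5:ℕ) * (2 ^ (5:ℕ) * μ ^ (5:ℕ) * (2 * u) ^ (3:ℕ) * (203 ^ (2:ℕ) * (H * (2 * u ^ n)) ^ (2:ℕ))) * d ^ (2:ℕ) := by gcongr
      _ = 41209 * (32 * (A * 2) ^ (5:ℕ)) * H ^ (2:ℕ) * u ^ (5 * ν + 3 + 2 * n) * d ^ (2:ℕ) := by rw [hμ]; ring
      _ < u ^ (5 * τ - (5 * ν + 3 + 2 * n)) * u ^ (5 * ν + 3 + 2 * n) * d ^ (2:ℕ) :=
        Nat.mul_lt_mul_of_pos_right (Nat.mul_lt_mul_of_pos_right h4 (Nat.pow_pos hu)) (Nat.pow_pos hd0)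
      _ = u ^ (5 * τ) * d ^ (2:ℕ) := by rw [← pow_add]; congr 2; (clear * - h3; omega)
      _ ≤ A ^ (5:ℕ) * T ^ (5:ℕ) * d ^ (2:ℕ) := Nat.mul_le_mul_right _ hT7
      _ = _ := by ring

/-- the crude condition implies the condition of `semi5_false` -/
theorem chk_of_crude5 {s e : Bool} {m k u d H j : ℕ} (hu : 2 ≤ u) (hk : 3 ≤ k) (hkm : k + 2 ≤ m) (hd0 : 0 < d)
    (hd : d ≤ u + 1) (h : crude5 s m k u H j = true) :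
    chk5 2 (rT s e m k u j) (rR s e m k u j) (rMu s u j) d H (ZZ s e m u) = true := by
  rw [crude5] at h
  simp only [Bool.and_eq_true, decide_eq_true_eq] at h
  obtain ⟨⟨h1, h2⟩, ⟨h3, h4⟩, -⟩ := h
  refine crude5_chk (A := if j < 2 then 2 else 8) (B := if j < 2 then 2 else 4) (rT_lo hu hk hkm j)
    (rR_hi hu hk hkm j) (rMu_eq j) hd0 (by omega) (ZZ_hi hu (by omega)) (by split_ifs <;> norm_num) h1 ?_ h3 ?_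
  · refine lt_of_eq_of_lt ?_ h2
    match j with
    | 0 => simp [L1]
    | 1 => simp [L1]
    | n + 2 => simp [L1]
  · refine lt_of_eq_of_lt ?_ h4
    match j with
    | 0 => simp [L2]
    | 1 => simp [L2]
    | n + 2 => simp [L2]

variable {s e : Bool} {m k u q p H M N d : ℕ} {a b c : ℤ}

theorem NE.of_crude5 (h : NE s e m k u q p H M N d a b c)
    (hs : q ^ (5:ℕ) ≤ 48 * M) (hH : 1 ≤ H) (hex : ¬ (s = false ∧ e = true ∧ u = 2 ∧ k + 2 = m)) {j : ℕ}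
    (hc : crude5 s m k u H j = true) : False := by
  have hz : zc s m k u j = true := by
    refine z5_zc h.u2 ?_
    rw [crude5] at hc
    simp only [Bool.and_eq_true] at hc
    exact hc.2.2
  exact semi5_false (by norm_num) h.q3 h.eqM hs (h.bd j (zc_rZ h.u2 h.k3 h.km h.d_le' hH hex hz))
    (chk_of_crude5 h.u2 h.k3 h.km h.d_pos h.d_le' hc)

/-! ### the refined inequality, `u ≥ 16`, relations `0`, `1` -/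

theorem AA_lo16 {e : Bool} {n u : ℕ} (hu : 16 ≤ u) (hn : 1 ≤ n) : 15 * u ^ n ≤ 17 * AA e n u := by
  have h1 := le_AA (e := e) (n := n) (u := u)
  have h2 : u ≤ u ^ n := Nat.le_self_pow (by omega) u
  omega

theorem AA_hi16 {e : Bool} {n u : ℕ} (hu : 16 ≤ u) (hn : 1 ≤ n) : 15 * AA e n u ≤ 16 * u ^ n := by
  have h1 := AA_le (e := e) (n := n) (u := u)
  have h2 : u ≤ u ^ n := Nat.le_self_pow (by omega) u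
  omega

theorem YY_lo16 {e : Bool} {n u : ℕ} (hu : 16 ≤ u) (hn : 1 ≤ n) : 15 * u ^ (n - 1) ≤ 17 * YY e n u := by
  obtain ⟨j, rfl⟩ : ∃ j, n = j + 1 := ⟨n - 1, by omega⟩
  rw [Nat.add_sub_cancel]
  have hA := AA_pos (e := e) (show 2 ≤ u by omega) (le_refl 1)
  refine Nat.le_of_mul_le_mul_right ?_ hA
  rw [mul_assoc 17, YY_mul (by omega)]
  have h1 := le_AA (e := e) (n := j + 1) (u := u)
  have h2 := AA1_le (e := e) (u := u)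
  obtain ⟨x, hx⟩ : ∃ x, x = u ^ j := ⟨_, rfl⟩
  have hp : u ^ (j + 1) = x * u := by rw [hx, pow_succ]
  have hx1 : 1 ≤ x := by rw [hx]; exact Nat.one_le_pow _ _ (by omega)
  rw [hp] at h1
  rw [← hx]
  have h3 : 15 * x * AA e 1 u ≤ 15 * x * (u + 1) := Nat.mul_le_mul_left _ h2
  nlinarith only [hu, h1, hx1, h3]

theorem YY_hi16 {e : Bool} {n u : ℕ} (hu : 16 ≤ u) (hn : 1 ≤ n) : 15 * YY e n u ≤ 16 * u ^ (n - 1) := by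
  obtain ⟨j, rfl⟩ : ∃ j, n = j + 1 := ⟨n - 1, by omega⟩
  rw [Nat.add_sub_cancel]
  have hA := AA_pos (e := e) (show 2 ≤ u by omega) (le_refl 1)
  refine Nat.le_of_mul_le_mul_right ?_ hA
  rw [mul_assoc 15, YY_mul (by omega)]
  obtain ⟨x, hx⟩ : ∃ x, x = u ^ j := ⟨_, rfl⟩
  have hp : u ^ (j + 1) = x * u := by rw [hx, pow_succ]
  have hx1 : 1 ≤ x := by rw [hx]; exact Nat.one_le_pow _ _ (by omega)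
  rw [← hx]
  cases e with
  | true =>
    rw [AA_true, AA_true, hp, pow_one]
    obtain ⟨r, rfl⟩ : ∃ r, u = r + 1 := ⟨u - 1, by omega⟩
    rw [Nat.add_sub_cancel]
    have h1 : x * (r + 1) = x * r + x := by ring
    have h2 : 15 * x ≤ x * r := by nlinarith only [hu]
    have h3 : 16 * x * r = 16 * (x * r) := by ring
    omega
  | false =>
    rw [AA_false_odd (n := 1) rfl, pow_one]
    have h1 := AA_le (e := false) (n := j + 1) (u := u)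
    rw [hp] at h1
    linarith only [hx1, h1]

def crude16 (s : Bool) (m k u H j : ℕ) : Bool :=
  (decide (16 ≤ u) && decide (j < 2)) &&
  ((decide (5 * rr s m k j + (m - 1) ≤ 5 * tau s m k j) &&
      decide (800 * H ^ (6:ℕ) < u ^ (5 * tau s m k j - (5 * rr s m k j + (m - 1))))) &&
    (decide (3 + 2 * (m - 1) ≤ 5 * tau s m k j) &&
      decide (12 * 10 ^ (10:ℕ) * H ^ (2:ℕ) < u ^ (5 * tau s m k j - (3 + 2 * (m - 1))))))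

theorem crude16_chk {T ρ d H Z u τ r n : ℕ} (hT : 15 * u ^ τ ≤ 17 * T) (hρ : 15 * ρ ≤ 16 * u ^ r)
    (hu : 16 ≤ u) (hd0 : 0 < d) (hd : d ≤ u + 1) (hZ : 15 * Z ≤ 16 * u ^ n)
    (h1 : 5 * r + n ≤ 5 * τ) (h2 : 800 * H ^ (6:ℕ) < u ^ (5 * τ - (5 * r + n)))
    (h3 : 3 + 2 * n ≤ 5 * τ) (h4 : 12 * 10 ^ (10:ℕ) * H ^ (2:ℕ) < u ^ (5 * τ - (3 + 2 * n))) :
    chk5 16 T ρ 1 d H Z = true := by
  have hT5 : 15 ^ (5:ℕ) * u ^ (5 * τ) ≤ 17 ^ (5:ℕ) * T ^ (5:ℕ) := by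
    calc 15 ^ (5:ℕ) * u ^ (5 * τ) = (15 * u ^ τ) ^ (5:ℕ) := by rw [mul_pow, ← pow_mul]; congr 2; ring
      _ ≤ (17 * T) ^ (5:ℕ) := Nat.pow_le_pow_left hT 5
      _ = _ := by ring
  have hu0 : 0 < u := by omega
  rw [chk5, Bool.and_eq_true, decide_eq_true_eq, decide_eq_true_eq]
  constructor
  · refine lt_of_mul_lt_mul_left ?_ (Nat.zero_le (17 ^ (5:ℕ) * 15 ^ (6:ℕ)))
    calc 17 ^ (5:ℕ) * 15 ^ (6:ℕ) * ((16 * (H * ρ)) ^ (5:ℕ) * (203 * (H * Z)))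
        = 17 ^ (5:ℕ) * ((16 * (H * (15 * ρ))) ^ (5:ℕ) * (203 * (H * (15 * Z)))) := by ring
      _ ≤ 17 ^ (5:ℕ) * ((16 * (H * (16 * u ^ r))) ^ (5:ℕ) * (203 * (H * (16 * u ^ n)))) := by gcongr
      _ = 17 ^ (5:ℕ) * 256 ^ (5:ℕ) * 3248 * H ^ (6:ℕ) * u ^ (5 * r + n) := by ring
      _ ≤ 15 ^ (6:ℕ) * 225 ^ (5:ℕ) * (800 * H ^ (6:ℕ)) * u ^ (5 * r + n) := by
        refine Nat.mul_le_mul_right _ ?_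
        rw [← mul_assoc]
        exact Nat.mul_le_mul_right _ (by norm_num)
      _ < 15 ^ (6:ℕ) * 225 ^ (5:ℕ) * u ^ (5 * τ - (5 * r + n)) * u ^ (5 * r + n) :=
        Nat.mul_lt_mul_of_pos_right (Nat.mul_lt_mul_of_pos_left h2 (by norm_num)) (Nat.pow_pos hu0)
      _ = 15 ^ (6:ℕ) * 15 ^ (5:ℕ) * (15 ^ (5:ℕ) * u ^ (5 * τ)) := by
        rw [mul_assoc (15 ^ (6:ℕ) * 225 ^ (5:ℕ)), ← pow_add, Nat.sub_add_cancel h1]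
        ring
      _ ≤ 15 ^ (6:ℕ) * 15 ^ (5:ℕ) * (17 ^ (5:ℕ) * T ^ (5:ℕ)) := Nat.mul_le_mul_left _ hT5
      _ = 17 ^ (5:ℕ) * 15 ^ (6:ℕ) * (((16 - 1) * T) ^ (5:ℕ) * 1) := by
        rw [show 16 - 1 = 15 from rfl]; ring
      _ ≤ 17 ^ (5:ℕ) * 15 ^ (6:ℕ) * (((16 - 1) * T) ^ (5:ℕ) * d) :=
        Nat.mul_le_mul_left _ (Nat.mul_le_mul_left _ hd0)
  · have hd' : 16 * d ≤ 17 * u := by omega
    refine lt_of_mul_lt_mul_left ?_ (Nat.zero_le (17 ^ (5:ℕ) * 225))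
    calc 17 ^ (5:ℕ) * 225 * ((16 * (1 * d)) ^ (5:ℕ) * (203 ^ (2:ℕ) * (H * Z) ^ (2:ℕ)))
        = 17 ^ (5:ℕ) * (256 * (16 * d) ^ (3:ℕ) * (203 ^ (2:ℕ) * (H * (15 * Z)) ^ (2:ℕ))) * d ^ (2:ℕ) := by ring
      _ ≤ 17 ^ (5:ℕ) * (256 * (17 * u) ^ (3:ℕ) * (203 ^ (2:ℕ) * (H * (16 * u ^ n)) ^ (2:ℕ))) * d ^ (2:ℕ) := by gcongr
      _ = 17 ^ (5:ℕ) * 256 * 17 ^ (3:ℕ) * 203 ^ (2:ℕ) * 256 * H ^ (2:ℕ) * u ^ (3 + 2 * n) * d ^ (2:ℕ) := by ring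
      _ ≤ 225 * 15 ^ (5:ℕ) * (12 * 10 ^ (10:ℕ) * H ^ (2:ℕ)) * u ^ (3 + 2 * n) * d ^ (2:ℕ) := by
        refine Nat.mul_le_mul_right _ (Nat.mul_le_mul_right _ ?_)
        rw [← mul_assoc]
        exact Nat.mul_le_mul_right _ (by norm_num)
      _ < 225 * 15 ^ (5:ℕ) * u ^ (5 * τ - (3 + 2 * n)) * u ^ (3 + 2 * n) * d ^ (2:ℕ) :=
        Nat.mul_lt_mul_of_pos_right (Nat.mul_lt_mul_of_pos_right
          (Nat.mul_lt_mul_of_pos_left h4 (by norm_num)) (Nat.pow_pos hu0)) (Nat.pow_pos hd0)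
      _ = 225 * (15 ^ (5:ℕ) * u ^ (5 * τ)) * d ^ (2:ℕ) := by
        rw [mul_assoc (225 * 15 ^ (5:ℕ)), ← pow_add, Nat.sub_add_cancel h3]
        ring
      _ ≤ 225 * (17 ^ (5:ℕ) * T ^ (5:ℕ)) * d ^ (2:ℕ) := Nat.mul_le_mul_right _ (Nat.mul_le_mul_left _ hT5)
      _ = _ := by ring

theorem NE.of_crude16 (h : NE s e m k u q p H M N d a b c)
    (hs : q ^ (5:ℕ) ≤ 48 * M) (hex : ¬ (s = false ∧ e = true ∧ u = 2 ∧ k + 2 = m)) {j : ℕ}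
    (hc : crude16 s m k u H j = true) : False := by
  have hk := h.k3
  have hkm := h.km
  rw [crude16] at hc
  simp only [Bool.and_eq_true, decide_eq_true_eq] at hc
  obtain ⟨⟨hu, hj⟩, ⟨h1, h2⟩, h3, h4⟩ := hc
  have hZ : 15 * ZZ s e m u ≤ 16 * u ^ (m - 1) := by
    unfold ZZ
    split_ifs
    · exact YY_hi16 hu (by omega)
    · exact AA_hi16 hu (by omega)
  have hT : 15 * u ^ tau s m k j ≤ 17 * rT s e m k u j := by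
    match j, hj with
    | 0, _ =>
      cases s with
      | true => exact YY_lo16 (n := k) hu (by omega)
      | false => exact AA_lo16 (n := k) hu (by omega)
    | 1, _ => exact YY_lo16 (n := m - k) hu (by omega)
  have hR : 15 * rR s e m k u j ≤ 16 * u ^ rr s m k j := by
    match j, hj with
    | 0, _ =>
      cases s with
      | true => exact YY_hi16 (n := m - k) hu (by omega)
      | false =>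
        have h1 := AA_hi16 (e := e) (n := m - 1 - k) hu (by omega)
        change 15 * AA e (m - 1 - k) u ≤ 16 * u ^ (m - k - 1)
        rwa [show m - k - 1 = m - 1 - k by omega]
    | 1, _ =>
      cases s with
      | true => exact YY_hi16 (n := k) hu (by omega)
      | false => exact AA_hi16 (n := k - 1) hu (by omega)
  have hmu : rMu s u j = 1 := by
    match j, hj with
    | 0, _ => rfl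
    | 1, _ => rfl
  have hz : rZ s e m k u d H j = true := by
    match j, hj with
    | 0, _ =>
      cases s with
      | true => rfl
      | false =>
        have : u ≠ 2 := by omega
        simp [rZ, this]
    | 1, _ => rfl
  have h5 := h.bd j hz
  rw [hmu] at h5
  exact semi5_false (by norm_num) h.q3 h.eqM hs h5 (crude16_chk hT hR hu h.d_pos h.d_le' hZ h1 h2 h3 h4)

/-! ### the least common multiple -/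

def crudeL (m k u H : ℕ) : Bool :=
  decide (1 + Nat.gcd k (m - k) + Nat.gcd k (m - k - 1) ≤ m - k) &&
    decide (512 * H < u ^ (m - k - (1 + Nat.gcd k (m - k) + Nat.gcd k (m - k - 1))))

theorem bigL_lo {e : Bool} {m k u : ℕ} (hu : 2 ≤ u) (hk : 3 ≤ k) (hkm : k + 2 ≤ m) :
    u ^ (m + (m - k) - 1) ≤ 64 * bigL e m k u * u ^ (Nat.gcd k (m - k) + Nat.gcd k (m - k - 1) + 1) := by
  have ha := AA_lo (e := e) (n := k) hu (by omega)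
  have hb := AA_lo (e := e) (n := m - k) hu (by omega)
  have hc := AA_lo (e := e) (n := m - k - 1) hu (by omega)
  obtain ⟨A, hA⟩ : ∃ A, A = AA e k u := ⟨_, rfl⟩
  obtain ⟨B, hB⟩ : ∃ B, B = AA e (m - k) u := ⟨_, rfl⟩
  obtain ⟨C, hC⟩ : ∃ C, C = AA e (m - k - 1) u := ⟨_, rfl⟩
  have hA0 : 0 < A := by rw [hA]; exact AA_pos hu (by omega)
  have hB0 : 0 < B := by rw [hB]; exact AA_pos hu (by omega)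
  have hC0 : 0 < C := by rw [hC]; exact AA_pos hu (by omega)
  have g1 : Nat.gcd A B ≤ 2 * u ^ Nat.gcd k (m - k) := by
    rw [hA, hB]
    exact (Nat.le_of_dvd (AA_pos hu (Nat.gcd_pos_of_pos_left _ (by omega))) (gcd_AA hu)).trans (AA_hi hu)
  have g2 : Nat.gcd A C ≤ 2 * u ^ Nat.gcd k (m - k - 1) := by
    rw [hA, hC]
    exact (Nat.le_of_dvd (AA_pos hu (Nat.gcd_pos_of_pos_left _ (by omega))) (gcd_AA hu)).trans (AA_hi hu)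
  have g3 : Nat.gcd B C ≤ 2 * u := by
    rw [hB, hC]
    have h1 := Nat.le_of_dvd (AA_pos hu (Nat.gcd_pos_of_pos_left _ (by omega))) (gcd_AA (e := e) (k := m - k)
      (n := m - k - 1) hu)
    have h2 : Nat.gcd (m - k) (m - k - 1) = 1 := by
      have h3 := Nat.dvd_sub (Nat.gcd_dvd_left (m - k) (m - k - 1)) (Nat.gcd_dvd_right (m - k) (m - k - 1))
      rw [show m - k - (m - k - 1) = 1 by omega] at h3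
      exact Nat.dvd_one.1 h3
    rw [h2] at h1
    exact h1.trans ((AA_hi hu).trans (by rw [pow_one]))
  have hL0 : Nat.lcm A B ∣ bigL e m k u := by rw [hA, hB]; exact dvd_foldr _
  have hLC : C ∣ bigL e m k u := by
    rw [hC]
    have := dvd_foldr_mem (e := e) (u := u) (x0 := Nat.lcm (AA e k u) (AA e (m - k) u)) (List.range (m - 1 - k))
      (m - k - 2) (List.mem_range.2 (by omega))
    rwa [show m - k - 2 + 1 = m - k - 1 by omega] at this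
  have hLpos : 0 < bigL e m k u := by
    unfold bigL
    have : ∀ L : List ℕ, 0 < L.foldr (fun i x => Nat.lcm (AA e (i + 1) u) x) (Nat.lcm (AA e k u) (AA e (m - k) u)) := by
      intro L
      induction L with
      | nil => exact Nat.lcm_pos (AA_pos hu (by omega)) (AA_pos hu (by omega))
      | cons i L ih => exact Nat.lcm_pos (AA_pos hu (by omega)) ih
    exact this _
  have hL3 : Nat.lcm (Nat.lcm A B) C ≤ bigL e m k u := Nat.le_of_dvd hLpos (Nat.lcm_dvd hL0 hLC)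
  have e1 : A * B * C ≤ bigL e m k u * (2 * u ^ Nat.gcd k (m - k)) * ((2 * u ^ Nat.gcd k (m - k - 1)) * (2 * u)) := by
    have h1 : A * B * C = Nat.gcd A B * (Nat.gcd (Nat.lcm A B) C * Nat.lcm (Nat.lcm A B) C) := by
      rw [Nat.gcd_mul_lcm, ← mul_assoc, Nat.gcd_mul_lcm]
    have h2 : Nat.gcd (Nat.lcm A B) C ≤ Nat.gcd A C * Nat.gcd B C := by
      refine Nat.le_of_dvd (Nat.mul_pos (Nat.gcd_pos_of_pos_left _ hA0) (Nat.gcd_pos_of_pos_left _ hB0)) ?_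
      refine (Nat.gcd_dvd_gcd_of_dvd_left _ (Nat.lcm_dvd_mul A B)).trans ?_
      exact Nat.gcd_mul_left_dvd_mul_gcd C A B
    rw [h1]
    calc Nat.gcd A B * (Nat.gcd (Nat.lcm A B) C * Nat.lcm (Nat.lcm A B) C)
        ≤ (2 * u ^ Nat.gcd k (m - k)) * (((2 * u ^ Nat.gcd k (m - k - 1)) * (2 * u)) * bigL e m k u) :=
          Nat.mul_le_mul g1 (Nat.mul_le_mul (h2.trans (Nat.mul_le_mul g2 g3)) hL3)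
      _ = _ := by ring
  rw [← hA] at ha
  rw [← hB] at hb
  rw [← hC] at hc
  calc u ^ (m + (m - k) - 1) = u ^ k * u ^ (m - k) * u ^ (m - k - 1) := by
        rw [← pow_add, ← pow_add]; congr 1; (clear * - hk hkm; omega)
    _ ≤ (2 * A) * (2 * B) * (2 * C) := Nat.mul_le_mul (Nat.mul_le_mul ha hb) hc
    _ = 8 * (A * B * C) := by ring
    _ ≤ 8 * (bigL e m k u * (2 * u ^ Nat.gcd k (m - k)) * ((2 * u ^ Nat.gcd k (m - k - 1)) * (2 * u))) :=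
      Nat.mul_le_mul_left _ e1
    _ = _ := by ring

theorem NE.of_crudeL (h : NE s e m k u q p H M N d a b c) (hs : q ^ (5:ℕ) ≤ 48 * M)
    (hc : crudeL m k u H = true) : False := by
  have hk := h.k3
  have hkm := h.km
  have hu := h.u2
  rw [crudeL, Bool.and_eq_true, decide_eq_true_eq, decide_eq_true_eq] at hc
  obtain ⟨h1, h2⟩ := hc
  obtain ⟨g, hg⟩ : ∃ g, g = 1 + Nat.gcd k (m - k) + Nat.gcd k (m - k - 1) := ⟨_, rfl⟩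
  have h3 := bigL_lo (e := e) hu hk hkm
  have h4 := h.bigL_le hs
  have h5 := ZZ_hi (s := s) (e := e) (m := m) hu (by omega)
  rw [show Nat.gcd k (m - k) + Nat.gcd k (m - k - 1) + 1 = g by omega] at h3
  rw [← hg] at h1 h2
  have h6 : u ^ (m + (m - k) - 1) ≤ 512 * H * (u ^ (m - 1) * u ^ g) := by
    calc u ^ (m + (m - k) - 1) ≤ 64 * bigL e m k u * u ^ g := h3
      _ ≤ 64 * (4 * (H * (2 * u ^ (m - 1)))) * u ^ g :=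
        Nat.mul_le_mul_right _ (Nat.mul_le_mul_left _ (h4.trans (Nat.mul_le_mul_left _ (Nat.mul_le_mul_left _ h5))))
      _ = _ := by ring
  have h7 : 512 * H * (u ^ (m - 1) * u ^ g) < u ^ (m - k - g) * (u ^ (m - 1) * u ^ g) :=
    Nat.mul_lt_mul_of_pos_right h2 (Nat.mul_pos (Nat.pow_pos (by omega)) (Nat.pow_pos (by omega)))
  have h8 : u ^ (m - k - g) * (u ^ (m - 1) * u ^ g) = u ^ (m + (m - k) - 1) := by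
    rw [← pow_add, ← pow_add]; congr 1; (clear * - hkm h1; omega)
  omega

end Cfsg.Agent.R2.Spec.NA5
end

-- part: R2/Spec/NA5/Crude7
section
/-!
# S3435, packet NON-A, `dimL t ≥ 5` (helper3): two more crude conditions

* `crude7` : relations `0`, `1`, `u ≥ 16`, `d ≤ m`;
* `crude8` : relation `2`, `i' = m`, `gcd (k, m - k) = 1`, `u ≥ 16`, `d ≤ m`.
-/

set_option autoImplicit false

namespace Cfsg.Agent.R2.Spec.NA5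

open Cfsg.Agent.R2.Spec.NA
open Cfsg.Agent.H403.NumTop hiding nu

variable {s e : Bool} {m k u q p H M N d : ℕ} {a b c : ℤ}

def crude7 (s : Bool) (m k u H j : ℕ) : Bool :=
  (decide (16 ≤ u) && decide (j < 2)) &&
  ((decide (5 * rr s m k j + (m - 1) ≤ 5 * tau s m k j) &&
      decide (800 * H ^ (6:ℕ) < u ^ (5 * tau s m k j - (5 * rr s m k j + (m - 1))))) &&
    (decide (2 * (m - 1) ≤ 5 * tau s m k j) &&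
      decide (92 * 10 ^ (9:ℕ) * m ^ (3:ℕ) * H ^ (2:ℕ) < u ^ (5 * tau s m k j - (2 * (m - 1))))))

theorem crude7_chk {T ρ d H Z u τ r n m : ℕ} (hT : 15 * u ^ τ ≤ 17 * T) (hρ : 15 * ρ ≤ 16 * u ^ r)
    (hu : 16 ≤ u) (hd0 : 0 < d) (hd : d ≤ m) (hZ : 15 * Z ≤ 16 * u ^ n)
    (h1 : 5 * r + n ≤ 5 * τ) (h2 : 800 * H ^ (6:ℕ) < u ^ (5 * τ - (5 * r + n)))
    (h3 : 2 * n ≤ 5 * τ) (h4 : 92 * 10 ^ (9:ℕ) * m ^ (3:ℕ) * H ^ (2:ℕ) < u ^ (5 * τ - (2 * n))) :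
    chk5 16 T ρ 1 d H Z = true := by
  have hT5 : 15 ^ (5:ℕ) * u ^ (5 * τ) ≤ 17 ^ (5:ℕ) * T ^ (5:ℕ) := by
    calc 15 ^ (5:ℕ) * u ^ (5 * τ) = (15 * u ^ τ) ^ (5:ℕ) := by rw [mul_pow, ← pow_mul]; congr 2; ring
      _ ≤ (17 * T) ^ (5:ℕ) := Nat.pow_le_pow_left hT 5
      _ = _ := by ring
  have hu0 : 0 < u := by omega
  rw [chk5, Bool.and_eq_true, decide_eq_true_eq, decide_eq_true_eq]
  constructor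
  · refine lt_of_mul_lt_mul_left ?_ (Nat.zero_le (17 ^ (5:ℕ) * 15 ^ (6:ℕ)))
    calc 17 ^ (5:ℕ) * 15 ^ (6:ℕ) * ((16 * (H * ρ)) ^ (5:ℕ) * (203 * (H * Z)))
        = 17 ^ (5:ℕ) * ((16 * (H * (15 * ρ))) ^ (5:ℕ) * (203 * (H * (15 * Z)))) := by ring
      _ ≤ 17 ^ (5:ℕ) * ((16 * (H * (16 * u ^ r))) ^ (5:ℕ) * (203 * (H * (16 * u ^ n)))) := by gcongr
      _ = 17 ^ (5:ℕ) * 256 ^ (5:ℕ) * 3248 * H ^ (6:ℕ) * u ^ (5 * r + n) := by ring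
      _ ≤ 15 ^ (6:ℕ) * 225 ^ (5:ℕ) * (800 * H ^ (6:ℕ)) * u ^ (5 * r + n) := by
        refine Nat.mul_le_mul_right _ ?_
        rw [← mul_assoc]
        exact Nat.mul_le_mul_right _ (by norm_num)
      _ < 15 ^ (6:ℕ) * 225 ^ (5:ℕ) * u ^ (5 * τ - (5 * r + n)) * u ^ (5 * r + n) :=
        Nat.mul_lt_mul_of_pos_right (Nat.mul_lt_mul_of_pos_left h2 (by norm_num)) (Nat.pow_pos hu0)
      _ = 15 ^ (6:ℕ) * 15 ^ (5:ℕ) * (15 ^ (5:ℕ) * u ^ (5 * τ)) := by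
        rw [mul_assoc (15 ^ (6:ℕ) * 225 ^ (5:ℕ)), ← pow_add, Nat.sub_add_cancel h1]
        ring
      _ ≤ 15 ^ (6:ℕ) * 15 ^ (5:ℕ) * (17 ^ (5:ℕ) * T ^ (5:ℕ)) := Nat.mul_le_mul_left _ hT5
      _ = 17 ^ (5:ℕ) * 15 ^ (6:ℕ) * (((16 - 1) * T) ^ (5:ℕ) * 1) := by
        rw [show 16 - 1 = 15 from rfl]; ring
      _ ≤ 17 ^ (5:ℕ) * 15 ^ (6:ℕ) * (((16 - 1) * T) ^ (5:ℕ) * d) :=
        Nat.mul_le_mul_left _ (Nat.mul_le_mul_left _ hd0)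
  · refine lt_of_mul_lt_mul_left ?_ (Nat.zero_le (17 ^ (5:ℕ) * 225))
    calc 17 ^ (5:ℕ) * 225 * ((16 * (1 * d)) ^ (5:ℕ) * (203 ^ (2:ℕ) * (H * Z) ^ (2:ℕ)))
        = 17 ^ (5:ℕ) * (16 ^ (5:ℕ) * d ^ (3:ℕ) * (203 ^ (2:ℕ) * (H * (15 * Z)) ^ (2:ℕ))) * d ^ (2:ℕ) := by ring
      _ ≤ 17 ^ (5:ℕ) * (16 ^ (5:ℕ) * m ^ (3:ℕ) * (203 ^ (2:ℕ) * (H * (16 * u ^ n)) ^ (2:ℕ))) * d ^ (2:ℕ) := by gcongr
      _ = 17 ^ (5:ℕ) * 16 ^ (5:ℕ) * 203 ^ (2:ℕ) * 256 * (m ^ (3:ℕ) * H ^ (2:ℕ)) * u ^ (2 * n) * d ^ (2:ℕ) := by ring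
      _ ≤ 225 * 15 ^ (5:ℕ) * (92 * 10 ^ (9:ℕ)) * (m ^ (3:ℕ) * H ^ (2:ℕ)) * u ^ (2 * n) * d ^ (2:ℕ) := by
        refine Nat.mul_le_mul_right _ (Nat.mul_le_mul_right _ (Nat.mul_le_mul_right _ ?_))
        norm_num
      _ = 225 * 15 ^ (5:ℕ) * (92 * 10 ^ (9:ℕ) * m ^ (3:ℕ) * H ^ (2:ℕ)) * u ^ (2 * n) * d ^ (2:ℕ) := by ring
      _ < 225 * 15 ^ (5:ℕ) * u ^ (5 * τ - (2 * n)) * u ^ (2 * n) * d ^ (2:ℕ) :=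
        Nat.mul_lt_mul_of_pos_right (Nat.mul_lt_mul_of_pos_right
          (Nat.mul_lt_mul_of_pos_left h4 (by norm_num)) (Nat.pow_pos hu0)) (Nat.pow_pos hd0)
      _ = 225 * (15 ^ (5:ℕ) * u ^ (5 * τ)) * d ^ (2:ℕ) := by
        rw [mul_assoc (225 * 15 ^ (5:ℕ)), ← pow_add, Nat.sub_add_cancel h3]
        ring
      _ ≤ 225 * (17 ^ (5:ℕ) * T ^ (5:ℕ)) * d ^ (2:ℕ) := Nat.mul_le_mul_right _ (Nat.mul_le_mul_left _ hT5)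
      _ = _ := by ring

theorem NE.of_crude7 (h : NE s e m k u q p H M N d a b c) (hdm : d ≤ m)
    (hs : q ^ (5:ℕ) ≤ 48 * M) {j : ℕ} (hc : crude7 s m k u H j = true) : False := by
  have hk := h.k3
  have hkm := h.km
  rw [crude7] at hc
  simp only [Bool.and_eq_true, decide_eq_true_eq] at hc
  obtain ⟨⟨hu, hj⟩, ⟨h1, h2⟩, h3, h4⟩ := hc
  have hZ : 15 * ZZ s e m u ≤ 16 * u ^ (m - 1) := by
    unfold ZZ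
    split_ifs
    · exact YY_hi16 hu (by omega)
    · exact AA_hi16 hu (by omega)
  have hT : 15 * u ^ tau s m k j ≤ 17 * rT s e m k u j := by
    match j, hj with
    | 0, _ =>
      cases s with
      | true => exact YY_lo16 (n := k) hu (by omega)
      | false => exact AA_lo16 (n := k) hu (by omega)
    | 1, _ => exact YY_lo16 (n := m - k) hu (by omega)
  have hR : 15 * rR s e m k u j ≤ 16 * u ^ rr s m k j := by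
    match j, hj with
    | 0, _ =>
      cases s with
      | true => exact YY_hi16 (n := m - k) hu (by omega)
      | false =>
        have h1 := AA_hi16 (e := e) (n := m - 1 - k) hu (by omega)
        change 15 * AA e (m - 1 - k) u ≤ 16 * u ^ (m - k - 1)
        rwa [show m - k - 1 = m - 1 - k by omega]
    | 1, _ =>
      cases s with
      | true => exact YY_hi16 (n := k) hu (by omega)
      | false => exact AA_hi16 (n := k - 1) hu (by omega)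
  have hmu : rMu s u j = 1 := by
    match j, hj with
    | 0, _ => rfl
    | 1, _ => rfl
  have hz : rZ s e m k u d H j = true := by
    match j, hj with
    | 0, _ =>
      cases s with
      | true => rfl
      | false =>
        have : u ≠ 2 := by omega
        simp [rZ, this]
    | 1, _ => rfl
  have h5 := h.bd j hz
  rw [hmu] at h5
  exact semi5_false (by norm_num) h.q3 h.eqM hs h5 (crude7_chk hT hR hu h.d_pos hdm hZ h1 h2 h3 h4)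

/-- `gcd (y - 1, 1 + y + ... + y^(n-1))` divides `n` -/
theorem gcd_AA1_YY {e : Bool} {n u : ℕ} (hu : 2 ≤ u) : Nat.gcd (AA e 1 u) (YY e n u) ∣ n := by
  have h1 : ((Nat.gcd (AA e 1 u) (YY e n u) : ℕ) : ℤ) ∣ xv e u - 1 := by
    rw [Int.natCast_dvd]
    have := AA_natAbs (e := e) (n := 1) (show 1 ≤ u by omega)
    rw [pow_one] at this
    rw [this]
    exact Nat.gcd_dvd_left _ _
  have h2 : ((Nat.gcd (AA e 1 u) (YY e n u) : ℕ) : ℤ) ∣ Yz e n u := by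
    rw [Int.natCast_dvd, Yz_natAbs hu]
    exact Nat.gcd_dvd_right _ _
  have h3 : xv e u - 1 ∣ Yz e n u - n := by
    have h4 : Yz e n u - n = ∑ i ∈ Finset.range n, (xv e u ^ i - 1) := by
      rw [Finset.sum_sub_distrib]
      simp [Yz]
    rw [h4]
    exact Finset.dvd_sum fun i _ => sub_one_dvd_pow_sub_one _ i
  have h5 : ((Nat.gcd (AA e 1 u) (YY e n u) : ℕ) : ℤ) ∣ (n : ℤ) := by
    have := dvd_sub h2 (h1.trans h3)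
    rwa [sub_sub_cancel] at this
  exact_mod_cast h5

def crude8 (s : Bool) (m k u H : ℕ) : Bool :=
  ((s && decide (Nat.gcd k (m - k) = 1)) && (decide (16 ≤ u) && decide (k ≠ m - k))) &&
  ((decide (5 * (max k (m - k) - 1) + (m - 1) ≤ 5 * (m - 1)) &&
      decide (45500 * (m - k) ^ (5:ℕ) * H ^ (6:ℕ) < u ^ (5 * (m - 1) - (5 * (max k (m - k) - 1) + (m - 1))))) &&
      decide (32 * 41209 * 4 * (m - k) ^ (5:ℕ) * m ^ (3:ℕ) * H ^ (2:ℕ) < u ^ (5 * (m - 1) - (2 * (m - 1)))))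

theorem NE.of_crude8 (h : NE s e m k u q p H M N d a b c) (hdm : d ≤ m) (hH : 1 ≤ H)
    (hs : q ^ (5:ℕ) ≤ 48 * M) (hc : crude8 s m k u H = true) : False := by
  have hk := h.k3
  have hkm := h.km
  rw [crude8] at hc
  simp only [Bool.and_eq_true, decide_eq_true_eq] at hc
  obtain ⟨⟨⟨rfl, hg⟩, hu, hne⟩, ⟨h1, h2⟩, h4⟩ := hc
  have hu2 := h.u2
  have hZ : 15 * ZZ true e m u ≤ 16 * u ^ (m - 1) := YY_hi16 (n := m) hu (by omega)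
  -- `T`
  have hT : 225 * u ^ (m - 1) ≤ 289 * ((m - k) * Nat.lcm (AA e k u) (YY e (m - k) u)) := by
    have g1 : Nat.gcd (AA e k u) (YY e (m - k) u) ≤ m - k := by
      refine Nat.le_of_dvd (by omega) ((Nat.dvd_gcd ?_ (Nat.gcd_dvd_right _ _)).trans (gcd_AA1_YY (e := e) (u := u) hu2))
      have := (Nat.gcd_dvd_gcd_of_dvd_right (AA e k u) (YY_dvd (e := e) (n := m - k) hu2)).trans (gcd_AA hu2)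
      rwa [hg] at this
    have g2 : AA e k u * YY e (m - k) u ≤ (m - k) * Nat.lcm (AA e k u) (YY e (m - k) u) := by
      rw [← Nat.gcd_mul_lcm (AA e k u) (YY e (m - k) u)]
      exact Nat.mul_le_mul_right _ g1
    have ha := AA_lo16 (e := e) (n := k) hu (by omega)
    have hb := YY_lo16 (e := e) (n := m - k) hu (by omega)
    calc 225 * u ^ (m - 1) = (15 * u ^ k) * (15 * u ^ (m - k - 1)) := by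
          rw [show m - 1 = k + (m - k - 1) by (clear * - hk hkm; omega), pow_add]; ring
      _ ≤ (17 * AA e k u) * (17 * YY e (m - k) u) := Nat.mul_le_mul ha hb
      _ = 289 * (AA e k u * YY e (m - k) u) := by ring
      _ ≤ _ := Nat.mul_le_mul_left _ g2
  -- `ρ`
  have hR : 15 * (YY e k u + YY e (m - k) u) ≤ 17 * u ^ (max k (m - k) - 1) := by
    have ha := YY_hi16 (e := e) (n := k) hu (by omega)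
    have hb := YY_hi16 (e := e) (n := m - k) hu (by omega)
    rcases Nat.lt_or_ge k (m - k) with h5 | h5
    · rw [max_eq_right h5.le]
      have h6 : u ^ (k - 1) * u ≤ u ^ (m - k - 1) := by
        rw [← pow_succ]; exact Nat.pow_le_pow_right (by omega) (by omega)
      have h7 : u ^ (k - 1) * 16 ≤ u ^ (k - 1) * u := Nat.mul_le_mul_left _ hu
      omega
    · rw [max_eq_left h5]
      have h6 : u ^ (m - k - 1) * u ≤ u ^ (k - 1) := by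
        rw [← pow_succ]; exact Nat.pow_le_pow_right (by omega) (by (clear * - hk hne h5; omega))
      have h7 : u ^ (m - k - 1) * 16 ≤ u ^ (m - k - 1) * u := Nat.mul_le_mul_left _ hu
      omega
  have hz : rZ true e m k u d H 2 = true := by
    refine zc_rZ hu2 hk hkm h.d_le' hH (by simp) (z5_zc hu2 ?_)
    simp only [z5, Bool.and_eq_true, Bool.or_eq_true, decide_eq_true_eq]
    exact ⟨hne, Or.inr ⟨by omega, by omega⟩⟩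
  have h5 := h.bd 2 hz
  have hd0 := h.d_pos
  refine semi5_false (θ := 2) (by norm_num) h.q3 h.eqM hs h5 ?_
  change chk5 2 (Nat.lcm (AA e k u) (YY e (m - k) u)) (YY e k u + YY e (m - k) u) 1 d H (ZZ true e m u) = true
  obtain ⟨T, hTe⟩ : ∃ T, T = Nat.lcm (AA e k u) (YY e (m - k) u) := ⟨_, rfl⟩
  obtain ⟨ρ, hρe⟩ : ∃ ρ, ρ = YY e k u + YY e (m - k) u := ⟨_, rfl⟩
  obtain ⟨Z, hZe⟩ : ∃ Z, Z = ZZ true e m u := ⟨_, rfl⟩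
  obtain ⟨l, hl⟩ : ∃ l, l = m - k := ⟨_, rfl⟩
  obtain ⟨r, hr⟩ : ∃ r, r = max k (m - k) - 1 := ⟨_, rfl⟩
  obtain ⟨n, hn⟩ : ∃ n, n = m - 1 := ⟨_, rfl⟩
  rw [← hTe, ← hl, ← hn] at hT
  rw [← hρe, ← hr] at hR
  rw [← hZe, ← hn] at hZ
  rw [← hr, ← hn] at h1
  rw [← hr, ← hn, ← hl] at h2
  rw [← hl, ← hn] at h4
  rw [← hTe, ← hρe, ← hZe]
  have hl0 : 0 < l := by (clear * - hdm hk hkm hd0 hl hr; omega)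
  have hu0 : 0 < u := by omega
  have hT5 : 225 ^ (5:ℕ) * u ^ (5 * n) ≤ 289 ^ (5:ℕ) * (l ^ (5:ℕ) * T ^ (5:ℕ)) := by
    calc 225 ^ (5:ℕ) * u ^ (5 * n) = (225 * u ^ n) ^ (5:ℕ) := by rw [mul_pow, ← pow_mul]; congr 2; ring
      _ ≤ (289 * (l * T)) ^ (5:ℕ) := Nat.pow_le_pow_left hT 5
      _ = _ := by ring
  rw [chk5, Bool.and_eq_true, decide_eq_true_eq, decide_eq_true_eq]
  constructor
  · refine lt_of_mul_lt_mul_left ?_ (Nat.zero_le (289 ^ (5:ℕ) * l ^ (5:ℕ) * 15 ^ (6:ℕ)))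
    calc 289 ^ (5:ℕ) * l ^ (5:ℕ) * 15 ^ (6:ℕ) * ((2 * (H * ρ)) ^ (5:ℕ) * (203 * (H * Z)))
        = 289 ^ (5:ℕ) * l ^ (5:ℕ) * ((2 * (H * (15 * ρ))) ^ (5:ℕ) * (203 * (H * (15 * Z)))) := by ring
      _ ≤ 289 ^ (5:ℕ) * l ^ (5:ℕ) * ((2 * (H * (17 * u ^ r))) ^ (5:ℕ) * (203 * (H * (16 * u ^ n)))) := by gcongr
      _ = 289 ^ (5:ℕ) * 34 ^ (5:ℕ) * 3248 * (l ^ (5:ℕ) * H ^ (6:ℕ)) * u ^ (5 * r + n) := by ring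
      _ ≤ 15 ^ (6:ℕ) * 225 ^ (5:ℕ) * 45500 * (l ^ (5:ℕ) * H ^ (6:ℕ)) * u ^ (5 * r + n) := by
        refine Nat.mul_le_mul_right _ (Nat.mul_le_mul_right _ ?_)
        norm_num
      _ = 15 ^ (6:ℕ) * 225 ^ (5:ℕ) * (45500 * l ^ (5:ℕ) * H ^ (6:ℕ)) * u ^ (5 * r + n) := by ring
      _ < 15 ^ (6:ℕ) * 225 ^ (5:ℕ) * u ^ (5 * n - (5 * r + n)) * u ^ (5 * r + n) :=
        Nat.mul_lt_mul_of_pos_right (Nat.mul_lt_mul_of_pos_left h2 (by norm_num)) (Nat.pow_pos hu0)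
      _ = 15 ^ (6:ℕ) * (225 ^ (5:ℕ) * u ^ (5 * n)) := by
        rw [mul_assoc (15 ^ (6:ℕ) * 225 ^ (5:ℕ)), ← pow_add, Nat.sub_add_cancel h1, mul_assoc]
      _ ≤ 15 ^ (6:ℕ) * (289 ^ (5:ℕ) * (l ^ (5:ℕ) * T ^ (5:ℕ))) := Nat.mul_le_mul_left _ hT5
      _ = 289 ^ (5:ℕ) * l ^ (5:ℕ) * 15 ^ (6:ℕ) * (((2 - 1) * T) ^ (5:ℕ) * 1) := by
        rw [show 2 - 1 = 1 from rfl]; ring
      _ ≤ 289 ^ (5:ℕ) * l ^ (5:ℕ) * 15 ^ (6:ℕ) * (((2 - 1) * T) ^ (5:ℕ) * d) :=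
        Nat.mul_le_mul_left _ (Nat.mul_le_mul_left _ hd0)
  · refine lt_of_mul_lt_mul_left ?_ (Nat.zero_le (289 ^ (5:ℕ) * l ^ (5:ℕ) * 225))
    calc 289 ^ (5:ℕ) * l ^ (5:ℕ) * 225 * ((2 * (1 * d)) ^ (5:ℕ) * (203 ^ (2:ℕ) * (H * Z) ^ (2:ℕ)))
        = 289 ^ (5:ℕ) * l ^ (5:ℕ) * (32 * d ^ (3:ℕ) * (203 ^ (2:ℕ) * (H * (15 * Z)) ^ (2:ℕ))) * d ^ (2:ℕ) := by ring
      _ ≤ 289 ^ (5:ℕ) * l ^ (5:ℕ) * (32 * m ^ (3:ℕ) * (203 ^ (2:ℕ) * (H * (16 * u ^ n)) ^ (2:ℕ))) * d ^ (2:ℕ) := by gcongr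
      _ = 289 ^ (5:ℕ) * 32 * 203 ^ (2:ℕ) * 256 * (l ^ (5:ℕ) * m ^ (3:ℕ) * H ^ (2:ℕ)) * u ^ (2 * n) * d ^ (2:ℕ) := by ring
      _ ≤ 225 ^ (6:ℕ) * (32 * 41209 * 4) * (l ^ (5:ℕ) * m ^ (3:ℕ) * H ^ (2:ℕ)) * u ^ (2 * n) * d ^ (2:ℕ) := by
        refine Nat.mul_le_mul_right _ (Nat.mul_le_mul_right _ (Nat.mul_le_mul_right _ ?_))
        norm_num
      _ = 225 ^ (6:ℕ) * (32 * 41209 * 4 * l ^ (5:ℕ) * m ^ (3:ℕ) * H ^ (2:ℕ)) * u ^ (2 * n) * d ^ (2:ℕ) := by ring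
      _ < 225 ^ (6:ℕ) * u ^ (5 * n - (2 * n)) * u ^ (2 * n) * d ^ (2:ℕ) :=
        Nat.mul_lt_mul_of_pos_right (Nat.mul_lt_mul_of_pos_right
          (Nat.mul_lt_mul_of_pos_left h4 (by norm_num)) (Nat.pow_pos hu0)) (Nat.pow_pos hd0)
      _ = 225 * (225 ^ (5:ℕ) * u ^ (5 * n)) * d ^ (2:ℕ) := by
        rw [mul_assoc (225 ^ (6:ℕ)), ← pow_add, Nat.sub_add_cancel (show 2 * n ≤ 5 * n by omega)]
        ring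
      _ ≤ 225 * (289 ^ (5:ℕ) * (l ^ (5:ℕ) * T ^ (5:ℕ))) * d ^ (2:ℕ) := Nat.mul_le_mul_right _ (Nat.mul_le_mul_left _ hT5)
      _ = _ := by ring

end Cfsg.Agent.R2.Spec.NA5
end

private theorem dce_7fb815e0469b : _root_.True := by
  try have : _root_.True := by simp only [_root_.Cfsg.Agent.R2.Spec.NA5.crude5.eq_1]
  try have : _root_.True := by simp only [_root_.Cfsg.Agent.R2.Spec.NA5.L1.eq_1]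
  try have : _root_.True := by simp only [_root_.Cfsg.Agent.R2.Spec.NA.Yz.eq_1]
  try have : _root_.True := by simp only [_root_.Cfsg.Agent.R2.Spec.NA5.crude7.eq_1]
  try have : _root_.True := by simp only [_root_.Cfsg.Agent.R2.Spec.NA5.crudeL.eq_1]
  try have : _root_.True := by simp only [_root_.Cfsg.Agent.R2.Spec.NA5.crude8.eq_1]
  try have : _root_.True := by simp only [_root_.Cfsg.Agent.R2.Spec.NA5.chk5.eq_1]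
  try have : _root_.True := by simp only [_root_.Cfsg.Agent.R2.Spec.NA5.L1.eq_3]
  try have : _root_.True := by simp only [_root_.Cfsg.Agent.R2.Spec.NA5.z5.eq_3]
  try have : _root_.True := by simp only [_root_.Cfsg.Agent.R2.Spec.NA5.L1.eq_2]
  try have : _root_.True := by simp only [_root_.Cfsg.Agent.R2.Spec.NA5.crude16.eq_1]
  try have : _root_.True := by simp only [_root_.Cfsg.Agent.R2.Spec.NA5.z5.eq_2]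
  try have : _root_.True := by simp only [_root_.Cfsg.Agent.R2.Spec.NA5.L2.eq_3]
  try have : _root_.True := by simp only [_root_.Cfsg.Agent.R2.Spec.NA5.z5.eq_5]
  try have : _root_.True := by simp only [_root_.Cfsg.Agent.R2.Spec.NA5.z5.eq_1]
  try have : _root_.True := by simp only [_root_.Cfsg.Agent.R2.Spec.NA5.L2.eq_2]
  try have : _root_.True := by simp only [_root_.Cfsg.Agent.R2.Spec.NA5.z5.eq_4]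
  try have : _root_.True := by simp only [_root_.Cfsg.Agent.R2.Spec.NA5.L2.eq_1]
  exact _root_.True.intro
end

-- part: R2/Spec/NA5/FinDef
section
prune_inst 0x30005100740000000000001262000220600001900000800171800f460b0fb242894028004a800d101064b28018400008110000100200000000003000000200000000420043b50f0c2e0006803007580c00000000000000000000000000041000000000000
set_option linter.all false
open scoped Cfsg.Agent.FastGrp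

-- part: R2/Spec/NA5/Lvl5
section
/-!
# S3435, packet NON-A, `dimL t ≥ 5` (helper3): the levels

* `cr` : the ten crude conditions, monotone (`cr_mono`, `cr_succ`);
* `str5` : for all `u`; `str5_of_large` : `m ≥ 200`.
-/

set_option autoImplicit false

namespace Cfsg.Agent.R2.Spec.NA5

open Cfsg.Agent.R2.Spec.NA
open Cfsg.Agent.H403.NumTop hiding nu

def cr (s : Bool) (m k u H : ℕ) : ℕ → Bool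
  | 0 => crude5 s m k u H 0
  | 1 => crude5 s m k u H 1
  | 2 => crude5 s m k u H 2
  | 3 => crude5 s m k u H 3
  | 4 => crudeL m k u H
  | 5 => crude16 s m k u H 0
  | 6 => crude16 s m k u H 1
  | 7 => crude7 s m k u H 0
  | 8 => crude7 s m k u H 1
  | 9 => crude8 s m k u H
  | _ => false

theorem NE.of_cr {s e : Bool} {m k u q p H M N d : ℕ} {a b c : ℤ} (h : NE s e m k u q p H M N d a b c)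
    (hdm : d ≤ m) (hs : q ^ 5 ≤ 48 * M) (hH : 1 ≤ H) (hex : ¬ (s = false ∧ e = true ∧ u = 2 ∧ k + 2 = m)) {j : ℕ}
    (hc : cr s m k u H j = true) : False := by
  match j, hc with
  | 0, hc => exact h.of_crude5 hs hH hex hc
  | 1, hc => exact h.of_crude5 hs hH hex hc
  | 2, hc => exact h.of_crude5 hs hH hex hc
  | 3, hc => exact h.of_crude5 hs hH hex hc
  | 4, hc => exact h.of_crudeL hs hc
  | 5, hc => exact h.of_crude16 hs hex hc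
  | 6, hc => exact h.of_crude16 hs hex hc
  | 7, hc => exact h.of_crude7 hdm hs hc
  | 8, hc => exact h.of_crude7 hdm hs hc
  | 9, hc => exact h.of_crude8 hdm hH hs hc
  | n + 10, hc => simp [cr] at hc

theorem z5_mono {s : Bool} {m k u u' j : ℕ} (hu : u ≤ u') (h : z5 s m k u j = true) : z5 s m k u' j = true := by
  match j, h with
  | 0, _ => rfl
  | 1, _ => rfl
  | 2, h =>
    simp only [z5, Bool.and_eq_true, Bool.or_eq_true, decide_eq_true_eq] at h ⊢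
    exact ⟨h.1, h.2.imp id fun h1 => ⟨h1.1.trans hu, h1.2⟩⟩
  | 3, h =>
    simp only [z5, Bool.and_eq_true, Bool.or_eq_true, decide_eq_true_eq] at h ⊢
    exact ⟨h.1, h.2.1, h.2.2.imp id fun h1 => ⟨h1.1.trans hu, h1.2⟩⟩
  | n + 4, h => simp [z5] at h

theorem crude5_mono {s : Bool} {m k u u' H j : ℕ} (hu : u ≤ u') (h : crude5 s m k u H j = true) :
    crude5 s m k u' H j = true := by
  rw [crude5] at h ⊢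
  simp only [Bool.and_eq_true, decide_eq_true_eq] at h ⊢
  obtain ⟨⟨h1, h2⟩, ⟨h3, h4⟩, h5⟩ := h
  exact ⟨⟨h1, h2.trans_le (Nat.pow_le_pow_left hu _)⟩, ⟨h3, h4.trans_le (Nat.pow_le_pow_left hu _)⟩, z5_mono hu h5⟩

theorem crude16_mono {s : Bool} {m k u u' H j : ℕ} (hu : u ≤ u') (h : crude16 s m k u H j = true) :
    crude16 s m k u' H j = true := by
  rw [crude16] at h ⊢
  simp only [Bool.and_eq_true, decide_eq_true_eq] at h ⊢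
  obtain ⟨⟨h0, h0'⟩, ⟨h1, h2⟩, h3, h4⟩ := h
  exact ⟨⟨h0.trans hu, h0'⟩, ⟨h1, h2.trans_le (Nat.pow_le_pow_left hu _)⟩, h3, h4.trans_le (Nat.pow_le_pow_left hu _)⟩

theorem crudeL_mono {m k u u' H : ℕ} (hu : u ≤ u') (h : crudeL m k u H = true) : crudeL m k u' H = true := by
  rw [crudeL] at h ⊢
  simp only [Bool.and_eq_true, decide_eq_true_eq] at h ⊢
  exact ⟨h.1, h.2.trans_le (Nat.pow_le_pow_left hu _)⟩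

theorem crude7_mono {s : Bool} {m k u u' H j : ℕ} (hu : u ≤ u') (h : crude7 s m k u H j = true) :
    crude7 s m k u' H j = true := by
  rw [crude7] at h ⊢
  simp only [Bool.and_eq_true, decide_eq_true_eq] at h ⊢
  obtain ⟨⟨h0, h0'⟩, ⟨h1, h2⟩, h3, h4⟩ := h
  exact ⟨⟨h0.trans hu, h0'⟩, ⟨h1, h2.trans_le (Nat.pow_le_pow_left hu _)⟩, h3, h4.trans_le (Nat.pow_le_pow_left hu _)⟩

theorem crude8_mono {s : Bool} {m k u u' H : ℕ} (hu : u ≤ u') (h : crude8 s m k u H = true) :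
    crude8 s m k u' H = true := by
  rw [crude8] at h ⊢
  simp only [Bool.and_eq_true, decide_eq_true_eq] at h ⊢
  obtain ⟨⟨h0, h0', h0''⟩, ⟨h1, h2⟩, h4⟩ := h
  exact ⟨⟨h0, h0'.trans hu, h0''⟩, ⟨h1, h2.trans_le (Nat.pow_le_pow_left hu _)⟩,
    h4.trans_le (Nat.pow_le_pow_left hu _)⟩

theorem cr_mono {s : Bool} {m k u u' H j : ℕ} (hu : u ≤ u') (h : cr s m k u H j = true) : cr s m k u' H j = true := by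
  match j, h with
  | 0, h => exact crude5_mono hu h
  | 1, h => exact crude5_mono hu h
  | 2, h => exact crude5_mono hu h
  | 3, h => exact crude5_mono hu h
  | 4, h => exact crudeL_mono hu h
  | 5, h => exact crude16_mono hu h
  | 6, h => exact crude16_mono hu h
  | 7, h => exact crude7_mono hu h
  | 8, h => exact crude7_mono hu h
  | 9, h => exact crude8_mono hu h
  | n + 10, h => simp [cr] at h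

/-- doubling -/
theorem step {K x y H a : ℕ} (hK : 1 ≤ K) (hx : 1 ≤ x) (hy : y ≤ 2 * x) (h : K * x < (2 ^ H) ^ a) :
    K * y < (2 ^ (H + 1)) ^ a := by
  have ha : 1 ≤ a := by
    rcases Nat.eq_zero_or_pos a with h0 | h0
    · rw [h0, pow_zero] at h
      have := Nat.mul_le_mul hK hx
      omega
    · exact h0
  have h2a : 2 ^ 1 ≤ 2 ^ a := Nat.pow_le_pow_right (by norm_num) ha
  calc K * y ≤ K * (2 * x) := Nat.mul_le_mul_left _ hy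
    _ = 2 * (K * x) := by ring
    _ < 2 * (2 ^ H) ^ a := Nat.mul_lt_mul_of_pos_left h (by norm_num)
    _ ≤ 2 ^ a * (2 ^ H) ^ a := Nat.mul_le_mul_right _ (by simpa using h2a)
    _ = _ := by rw [pow_succ, mul_pow, mul_comm]

theorem six_step {H : ℕ} (h : 9 ≤ H) : (H + 1) ^ 6 ≤ 2 * H ^ 6 := by
  have h1 : 9 * (H + 1) ≤ 10 * H := by omega
  have h2 := Nat.pow_le_pow_left h1 6
  rw [mul_pow, mul_pow] at h2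
  omega

theorem two_step {H : ℕ} (h : 9 ≤ H) : (H + 1) ^ 2 ≤ 2 * H ^ 2 := by nlinarith

theorem L1_pos (j : ℕ) : 1 ≤ L1 j := by
  match j with
  | 0 => norm_num [L1]
  | 1 => norm_num [L1]
  | n + 2 => simp [L1]

theorem L2_pos (j : ℕ) : 1 ≤ L2 j := by
  match j with
  | 0 => norm_num [L2]
  | 1 => norm_num [L2]
  | n + 2 => simp [L2]

theorem cr_succ {s : Bool} {m k H j : ℕ} (hm : 2 ≤ m) (hkm : k < m) (hH : 9 ≤ H) (h : cr s m k (2 ^ H) H j = true) :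
    cr s m k (2 ^ (H + 1)) (H + 1) j = true := by
  have hle : 2 ^ H ≤ 2 ^ (H + 1) := Nat.pow_le_pow_right (by norm_num) (by omega)
  have h6 : 1 ≤ H ^ 6 := Nat.one_le_pow _ _ (by omega)
  have h2' : 1 ≤ H ^ 2 := Nat.one_le_pow _ _ (by omega)
  have k5 : ∀ {j : ℕ}, crude5 s m k (2 ^ H) H j = true → crude5 s m k (2 ^ (H + 1)) (H + 1) j = true := by
    intro j h
    rw [crude5] at h ⊢
    simp only [Bool.and_eq_true, decide_eq_true_eq] at h ⊢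
    obtain ⟨⟨h1, h2⟩, ⟨h3, h4⟩, h5⟩ := h
    exact ⟨⟨h1, step (L1_pos j) h6 (six_step hH) h2⟩, ⟨h3, step (L2_pos j) h2' (two_step hH) h4⟩, z5_mono hle h5⟩
  have k16 : ∀ {j : ℕ}, crude16 s m k (2 ^ H) H j = true → crude16 s m k (2 ^ (H + 1)) (H + 1) j = true := by
    intro j h
    rw [crude16] at h ⊢
    simp only [Bool.and_eq_true, decide_eq_true_eq] at h ⊢
    obtain ⟨⟨h0, h0'⟩, ⟨h1, h2⟩, h3, h4⟩ := h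
    exact ⟨⟨h0.trans hle, h0'⟩, ⟨h1, step (by norm_num) h6 (six_step hH) h2⟩, h3,
      step (by norm_num) h2' (two_step hH) h4⟩
  have k7 : ∀ {j : ℕ}, crude7 s m k (2 ^ H) H j = true → crude7 s m k (2 ^ (H + 1)) (H + 1) j = true := by
    intro j h
    rw [crude7] at h ⊢
    simp only [Bool.and_eq_true, decide_eq_true_eq] at h ⊢
    obtain ⟨⟨h0, h0'⟩, ⟨h1, h2⟩, h3, h4⟩ := h
    exact ⟨⟨h0.trans hle, h0'⟩, ⟨h1, step (by norm_num) h6 (six_step hH) h2⟩, h3,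
      step (Nat.mul_pos (by norm_num) (Nat.pow_pos (by omega))) h2' (two_step hH) h4⟩
  match j, h with
  | 0, h => exact k5 h
  | 1, h => exact k5 h
  | 2, h => exact k5 h
  | 3, h => exact k5 h
  | 4, h =>
    rw [cr, crudeL] at h ⊢
    simp only [Bool.and_eq_true, decide_eq_true_eq] at h ⊢
    exact ⟨h.1, step (by norm_num) (by omega) (by omega) h.2⟩
  | 5, h => exact k16 h
  | 6, h => exact k16 h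
  | 7, h => exact k7 h
  | 8, h => exact k7 h
  | 9, h =>
    rw [cr, crude8] at h ⊢
    simp only [Bool.and_eq_true, decide_eq_true_eq] at h ⊢
    obtain ⟨⟨h0, h0', h0''⟩, ⟨h1, h2⟩, h4⟩ := h
    exact ⟨⟨h0, h0'.trans hle, h0''⟩,
      ⟨h1, step (Nat.mul_pos (by norm_num) (Nat.pow_pos (by omega))) h6 (six_step hH) h2⟩,
      step (Nat.mul_pos (Nat.mul_pos (by norm_num) (Nat.pow_pos (by omega))) (Nat.pow_pos (by omega))) h2'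
        (two_step hH) h4⟩
  | n + 10, h => simp [cr] at h

/-- all `u` -/
def str5 (s : Bool) (m k : ℕ) : ℕ → Bool
  | 0 => decide (5 * rr s m k 0 + (m - 1) + 28 ≤ 5 * tau s m k 0) &&
      decide (5 * NA.nu s 0 + 3 + 2 * (m - 1) + 33 ≤ 5 * tau s m k 0)
  | 1 => decide (5 * rr s m k 1 + (m - 1) + 28 ≤ 5 * tau s m k 1) &&
      decide (5 * NA.nu s 1 + 3 + 2 * (m - 1) + 33 ≤ 5 * tau s m k 1)
  | 2 => (decide (5 * rr s m k 2 + (m - 1) + 43 ≤ 5 * tau s m k 2) &&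
      decide (5 * NA.nu s 2 + 3 + 2 * (m - 1) + 43 ≤ 5 * tau s m k 2)) && zcc s m k 6 2
  | 3 => (decide (5 * rr s m k 3 + (m - 1) + 43 ≤ 5 * tau s m k 3) &&
      decide (5 * NA.nu s 3 + 3 + 2 * (m - 1) + 43 ≤ 5 * tau s m k 3)) && zcc s m k 6 3
  | 4 => decide (11 + Nat.gcd k (m - k) + Nat.gcd k (m - k - 1) ≤ m - k)
  | _ => false

theorem H6 {u H : ℕ} (h : 2 ^ H ≤ u) : H ^ 6 ≤ u ^ 4 := by
  refine le_trans ?_ (Nat.pow_le_pow_left h 4)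
  rcases Nat.lt_or_ge H 8 with h1 | h1
  · interval_cases H <;> norm_num
  · clear h
    induction H, h1 using Nat.le_induction with
    | base => norm_num
    | succ n hn ih =>
      have h2 : 8 * (n + 1) ≤ 9 * n := by omega
      have h3 := Nat.pow_le_pow_left h2 6
      rw [mul_pow, mul_pow] at h3
      have h4 : (2 ^ (n + 1)) ^ 4 = 16 * (2 ^ n) ^ 4 := by rw [pow_succ 2 n, mul_pow]; ring
      rw [h4]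
      have h5 : (8 : ℕ) ^ 6 * (n + 1) ^ 6 ≤ 8 ^ 6 * (16 * (2 ^ n) ^ 4) := by
        calc (8 : ℕ) ^ 6 * (n + 1) ^ 6 ≤ 9 ^ 6 * n ^ 6 := h3
          _ ≤ 9 ^ 6 * (2 ^ n) ^ 4 := Nat.mul_le_mul_left _ ih
          _ ≤ (8 ^ 6 * 16) * (2 ^ n) ^ 4 := Nat.mul_le_mul_right _ (by norm_num)
          _ = _ := by ring
      exact Nat.le_of_mul_le_mul_left h5 (by norm_num)

theorem str5_cr {s : Bool} {m k j u H : ℕ} (hu : 2 ≤ u) (hH : 2 ^ H ≤ u) (h : str5 s m k j = true) :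
    cr s m k u H j = true := by
  have h6 := H6 hH
  have h2 : H ^ 2 ≤ u ^ 2 := Nat.pow_le_pow_left (Nat.lt_two_pow_self.le.trans hH) 2
  have h1 : H ^ 1 ≤ u ^ 1 := Nat.pow_le_pow_left (Nat.lt_two_pow_self.le.trans hH) 1
  have key : ∀ {K n a l x : ℕ}, K < 2 ^ n → l ≤ u ^ a → n + a ≤ x → K * l < u ^ x := by
    intro K n a l x hK hl hx
    have hp : 0 < u ^ a := Nat.pow_pos (by omega)
    calc K * l ≤ K * u ^ a := Nat.mul_le_mul_left _ hl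
      _ < 2 ^ n * u ^ a := Nat.mul_lt_mul_of_pos_right hK hp
      _ ≤ u ^ n * u ^ a := Nat.mul_le_mul_right _ (Nat.pow_le_pow_left hu n)
      _ = u ^ (n + a) := by rw [pow_add]
      _ ≤ u ^ x := Nat.pow_le_pow_right (by omega) hx
  match j, h with
  | 0, h =>
    simp only [str5, Bool.and_eq_true, decide_eq_true_eq] at h
    simp only [cr, crude5, Bool.and_eq_true, decide_eq_true_eq]
    exact ⟨⟨by omega, key (n := 24) (a := 4) (by norm_num [L1]) h6 (by omega)⟩,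
      ⟨by omega, key (n := 31) (a := 2) (by norm_num [L2]) h2 (by omega)⟩, rfl⟩
  | 1, h =>
    simp only [str5, Bool.and_eq_true, decide_eq_true_eq] at h
    simp only [cr, crude5, Bool.and_eq_true, decide_eq_true_eq]
    exact ⟨⟨by omega, key (n := 24) (a := 4) (by norm_num [L1]) h6 (by omega)⟩,
      ⟨by omega, key (n := 31) (a := 2) (by norm_num [L2]) h2 (by omega)⟩, rfl⟩
  | 2, h =>
    simp only [str5, Bool.and_eq_true, decide_eq_true_eq] at h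
    simp only [cr, crude5, Bool.and_eq_true, decide_eq_true_eq]
    refine ⟨⟨by omega, key (n := 39) (a := 4) (by norm_num [L1]) h6 (by omega)⟩,
      ⟨by omega, key (n := 41) (a := 2) (by norm_num [L2]) h2 (by omega)⟩, ?_⟩
    have h3 := h.2
    simp only [zcc, Bool.and_eq_true, decide_eq_true_eq] at h3
    simp only [z5, Bool.and_eq_true, Bool.or_eq_true, decide_eq_true_eq]
    exact ⟨h3.1, Or.inl h3.2⟩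
  | 3, h =>
    simp only [str5, Bool.and_eq_true, decide_eq_true_eq] at h
    simp only [cr, crude5, Bool.and_eq_true, decide_eq_true_eq]
    refine ⟨⟨by omega, key (n := 39) (a := 4) (by norm_num [L1]) h6 (by omega)⟩,
      ⟨by omega, key (n := 41) (a := 2) (by norm_num [L2]) h2 (by omega)⟩, ?_⟩
    have h3 := h.2
    simp only [zcc, Bool.and_eq_true, decide_eq_true_eq] at h3
    simp only [z5, Bool.and_eq_true, Bool.or_eq_true, decide_eq_true_eq]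
    exact ⟨h3.1, h3.2.1, Or.inl h3.2.2⟩
  | 4, h =>
    simp only [str5, decide_eq_true_eq] at h
    simp only [cr, crudeL, Bool.and_eq_true, decide_eq_true_eq]
    refine ⟨by omega, ?_⟩
    rw [pow_one, pow_one] at h1
    have h3 : H < u ^ 1 := by rw [pow_one]; exact (Nat.lt_two_pow_self).trans_le hH
    have h4 : 512 * H < 512 * u ^ 1 := Nat.mul_lt_mul_of_pos_left h3 (by norm_num)
    have h5 : 512 * u ^ 1 ≤ u ^ (m - k - (1 + Nat.gcd k (m - k) + Nat.gcd k (m - k - 1))) := by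
      calc 512 * u ^ 1 = 2 ^ 9 * u ^ 1 := by norm_num
        _ ≤ u ^ 9 * u ^ 1 := Nat.mul_le_mul_right _ (Nat.pow_le_pow_left hu 9)
        _ = u ^ 10 := by rw [← pow_add]
        _ ≤ _ := Nat.pow_le_pow_right (by omega) (by omega)
    exact h4.trans_le h5
  | n + 5, h => simp [str5] at h

/-- `m ≥ 200` -/
theorem str5_of_large {s : Bool} {m k : ℕ} (hm : 200 ≤ m) (hk : 3 ≤ k) (hkm : k + 2 ≤ m) (hn : ¬ k ∣ ii s m) :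
    ∃ j, str5 s m k j = true := by
  have hne : s = true → 2 * k ≠ m := by
    rintro rfl h
    exact hn (Dvd.intro_left 2 h)
  obtain ⟨δ, hδ⟩ : ∃ δ, δ = 2 * k - m + (m - 2 * k) := ⟨_, rfl⟩
  obtain ⟨g, hg0⟩ : ∃ g, g = Nat.gcd k (m - k) := ⟨_, rfl⟩
  have hgk : g ∣ k := by rw [hg0]; exact Nat.gcd_dvd_left _ _
  have hgm : g ∣ m - k := by rw [hg0]; exact Nat.gcd_dvd_right _ _
  have hgδ : g ∣ δ := by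
    rcases Nat.lt_or_ge k (m - k) with h1 | h1
    · have h2 := Nat.dvd_sub hgm hgk
      rwa [show m - k - k = δ by (clear * - hδ h1; omega)] at h2
    · have h2 := Nat.dvd_sub hgk hgm
      rwa [show k - (m - k) = δ by (clear * - hkm hδ h1; omega)] at h2
  have hg : 2 * k ≠ m → (g = δ ∨ 2 * g ≤ δ) := by
    intro h
    obtain ⟨x, hx⟩ := hgδ
    rcases Nat.lt_or_ge x 2 with h2 | h2
    · left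
      have : x = 1 := by
        rcases Nat.eq_zero_or_pos x with h3 | h3
        · rw [h3, mul_zero] at hx; omega
        · omega
      rw [hx, this, mul_one]
    · right
      rw [hx, mul_comm 2 g]
      exact Nat.mul_le_mul_left _ h2
  -- the case `m = 5 δ`
  have big : g = δ → m ≤ 5 * δ + 36 → 5 * δ ≤ m + 40 → str5 s m k 4 = true := by
    intro h1 h2 h3
    have hδ0 : 0 < δ := by omega
    obtain ⟨x, hx⟩ := hgk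
    rw [h1] at hx
    rcases Nat.lt_or_ge k (m - k) with h4 | h4
    · -- `k = 2 δ`
      have hx2 : x = 2 := by
        rcases Nat.lt_or_ge x 2 with h5 | h5
        · have : δ * x ≤ δ * 1 := Nat.mul_le_mul_left _ (by omega)
          (clear * - hm hδ h3 hx this; omega)
        rcases Nat.lt_or_ge 2 x with h6 | h6
        · have : δ * 3 ≤ δ * x := Nat.mul_le_mul_left _ (by omega)
          (clear * - hm hδ h2 hx h4 this; omega)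
        · omega
      rw [hx2] at hx
      have h5 : Nat.gcd k (m - k - 1) ≤ 2 := by
        refine Nat.le_of_dvd (by norm_num) ?_
        have e1 := (Nat.gcd_dvd_left k (m - k - 1)).mul_left 3
        have e2 := (Nat.gcd_dvd_right k (m - k - 1)).mul_left 2
        have e3 := Nat.dvd_sub e1 e2
        rwa [show 3 * k - 2 * (m - k - 1) = 2 by (clear * - hkm hδ hx h4; omega)] at e3
      simp only [str5, decide_eq_true_eq]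
      omega
    · have hx3 : x = 3 := by
        rcases Nat.lt_or_ge x 3 with h5 | h5
        · have : δ * x ≤ δ * 2 := Nat.mul_le_mul_left _ (by omega)
          omega
        rcases Nat.lt_or_ge 3 x with h6 | h6
        · have : δ * 4 ≤ δ * x := Nat.mul_le_mul_left _ (by omega)
          (clear * - hm hδ h2 hx h6 this; omega)
        · omega
      rw [hx3] at hx
      have h5 : Nat.gcd k (m - k - 1) ≤ 3 := by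
        refine Nat.le_of_dvd (by norm_num) ?_
        have e1 := (Nat.gcd_dvd_left k (m - k - 1)).mul_left 2
        have e2 := (Nat.gcd_dvd_right k (m - k - 1)).mul_left 3
        have e3 := Nat.dvd_sub e1 e2
        rwa [show 2 * k - 3 * (m - k - 1) = 3 by (clear * - hkm hδ hx h4; omega)] at e3
      simp only [str5, decide_eq_true_eq]
      (clear * - hm hδ hg0 h1 h3 h5; omega)
  cases s with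
  | true =>
    have h1 := hne rfl
    have h2 := hg h1
    by_cases c0 : 5 * (m - k - 1) + (m - 1) + 28 ≤ 5 * (k - 1)
    · refine ⟨0, ?_⟩
      simp only [str5, rr, tau, NA.nu, if_true, Bool.and_eq_true, decide_eq_true_eq]
      (clear * - hm hkm c0; omega)
    by_cases c1 : 5 * (k - 1) + (m - 1) + 28 ≤ 5 * (m - k - 1)
    · refine ⟨1, ?_⟩
      simp only [str5, rr, tau, NA.nu, Bool.and_eq_true, decide_eq_true_eq]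
      (clear * - hm hkm c1; omega)
    by_cases c2 : 5 * (max k (m - k) - 1) + (m - 1) + 43 ≤ 5 * (m - 1 - g)
    · refine ⟨2, ?_⟩
      simp only [str5, rr, tau, NA.nu, zcc, if_true, Bool.and_eq_true, decide_eq_true_eq]
      rw [← hg0]
      rcases Nat.lt_or_ge k (m - k) with h3 | h3
      · rw [max_eq_right h3.le] at c2
        rw [max_eq_right h3.le, min_eq_left h3.le]
        (clear * - c2 h3; omega)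
      · rw [max_eq_left h3] at c2
        rw [max_eq_left h3, min_eq_right h3]
        omega
    · refine ⟨4, big ?_ ?_ ?_⟩
      · rcases Nat.lt_or_ge k (m - k) with h3 | h3
        · rw [max_eq_right h3.le] at c2; (clear * - hm hδ h2 c1 c2 h3; omega)
        · rw [max_eq_left h3] at c2; (clear * - hm hδ h1 h2 c0 c2 h3; omega)
      · rcases Nat.lt_or_ge k (m - k) with h3 | h3
        · rw [max_eq_right h3.le] at c2; (clear * - hδ h2 c2 h3; omega)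
        · rw [max_eq_left h3] at c2; (clear * - hm hδ h2 c0 c2; omega)
      · rcases Nat.lt_or_ge k (m - k) with h3 | h3
        · rw [max_eq_right h3.le] at c2; (clear * - hk hδ c1 h3; omega)
        · rw [max_eq_left h3] at c2; (clear * - hkm hδ h1 c0 h3; omega)
  | false =>
    by_cases c0 : 5 * (m - k - 1) + (m - 1) + 28 ≤ 5 * k
    · refine ⟨0, ?_⟩
      simp only [str5, rr, tau, NA.nu, Bool.false_eq_true, if_false, Bool.and_eq_true, decide_eq_true_eq]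
      (clear * - hm c0; omega)
    by_cases c1 : 5 * (k - 1) + (m - 1) + 28 ≤ 5 * (m - k - 1)
    · refine ⟨1, ?_⟩
      simp only [str5, rr, tau, NA.nu, Bool.and_eq_true, decide_eq_true_eq]
      (clear * - hm hkm c1; omega)
    by_cases h1 : 2 * k = m
    · refine ⟨3, ?_⟩
      have h4 : Nat.gcd k (m - 1 - k) ≤ 1 := by
        refine Nat.le_of_dvd one_pos ?_
        have h2 := Nat.dvd_sub (Nat.gcd_dvd_left k (m - 1 - k)) (Nat.gcd_dvd_right k (m - 1 - k))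
        rwa [show k - (m - 1 - k) = 1 by omega] at h2
      simp only [str5, rr, tau, NA.nu, zcc, Bool.not_false, Bool.true_and, Bool.and_eq_true, decide_eq_true_eq]
      rw [max_eq_left (by omega), min_eq_right (by omega)]
      (clear * - hm h1 h4; omega)
    have h2 := hg h1
    by_cases c2 : 5 * (max k (m - k)) + (m - 1) + 43 ≤ 5 * (m - 1 - g)
    · refine ⟨2, ?_⟩
      simp only [str5, rr, tau, NA.nu, zcc, Bool.false_eq_true, if_false, Bool.and_eq_true, decide_eq_true_eq]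
      rw [← hg0]
      rcases Nat.lt_or_ge k (m - k) with h3 | h3
      · rw [max_eq_right h3.le] at c2
        rw [max_eq_right h3.le, min_eq_left h3.le]
        omega
      · rw [max_eq_left h3] at c2
        rw [max_eq_left h3, min_eq_right h3]
        (clear * - hm hk hkm hg0 h1 c2 h3; omega)
    · refine ⟨4, big ?_ ?_ ?_⟩
      · rcases Nat.lt_or_ge k (m - k) with h3 | h3
        · rw [max_eq_right h3.le] at c2; (clear * - hm hδ c1 h2 c2 h3; omega)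
        · rw [max_eq_left h3] at c2; (clear * - hm hδ c0 h1 h2 c2; omega)
      · rcases Nat.lt_or_ge k (m - k) with h3 | h3
        · rw [max_eq_right h3.le] at c2; (clear * - hδ h2 c2 h3; omega)
        · rw [max_eq_left h3] at c2; (clear * - hk hδ h1 h2 c2; omega)
      · rcases Nat.lt_or_ge k (m - k) with h3 | h3
        · rw [max_eq_right h3.le] at c2; (clear * - hk hδ c1 h3; omega)
        · rw [max_eq_left h3] at c2; (clear * - hkm hδ c0 h1 h3; omega)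

end Cfsg.Agent.R2.Spec.NA5
end

-- part: R2/Spec/NA5/FinDef
section
/-!
# S3435, packet NON-A, `dimL t ≥ 5` (helper3): the finite check, definitions
-/

set_option autoImplicit false

namespace Cfsg.Agent.R2.Spec.NA5

open Cfsg.Agent.R2.Spec.NA
open Cfsg.Agent.H403.NumTop hiding nu

/-- the exact condition -/
def exq (s e : Bool) (m k u H θ j : ℕ) : Bool :=
  rZ s e m k u (Nat.gcd m (AA e 1 u)) H j &&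
    chk5 θ (rT s e m k u j) (rR s e m k u j) (rMu s u j) (Nat.gcd m (AA e 1 u)) H (ZZ s e m u)

def exL (s e : Bool) (m k u H : ℕ) : Bool := decide (4 * (H * ZZ s e m u) < bigL e m k u)

def exA (s e : Bool) (m k u H : ℕ) : Bool :=
  exq s e m k u H 2 0 || (exq s e m k u H 2 1 || (exq s e m k u H 2 2 || (exq s e m k u H 2 3 ||
    (exL s e m k u H || (exq s e m k u H 16 0 || (exq s e m k u H 16 1 || (exq s e m k u H 16 2 ||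
      exq s e m k u H 16 3)))))))

/-- the leftover -/
def bad5 : List (ℕ × Bool × ℕ × Bool × ℕ × ℕ) :=
  [(5, false, 3, false, 3, 1), (5, false, 3, false, 4, 1), (5, false, 3, false, 5, 1), (5, false, 3, false, 6, 1),
    (5, false, 3, false, 7, 1), (5, false, 3, false, 9, 1), (5, false, 3, false, 14, 1), (5, false, 3, true, 2, 1),
    (5, false, 3, true, 3, 1), (5, false, 3, true, 4, 1), (5, false, 3, true, 5, 1), (5, false, 3, true, 6, 1),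
    (5, false, 3, true, 7, 1), (5, false, 3, true, 11, 1), (5, true, 3, false, 3, 1), (5, true, 3, false, 4, 1),
    (5, true, 3, false, 5, 1), (5, true, 3, false, 7, 1), (5, true, 3, true, 2, 1), (5, true, 3, true, 3, 1),
    (5, true, 3, true, 4, 1), (5, true, 3, true, 5, 1), (5, true, 3, true, 7, 1), (6, false, 4, false, 2, 1),
    (6, false, 4, false, 3, 1), (6, false, 4, false, 4, 1), (6, false, 4, false, 5, 1), (6, false, 4, true, 2, 1),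
    (6, false, 4, true, 3, 1), (6, false, 4, true, 4, 1), (6, false, 4, true, 5, 1), (6, false, 4, true, 7, 1),
    (6, true, 4, false, 2, 1), (6, true, 4, false, 3, 1), (6, true, 4, false, 4, 1), (6, true, 4, false, 5, 1),
    (6, true, 4, false, 6, 1), (6, true, 4, false, 7, 1), (6, true, 4, false, 8, 1), (6, true, 4, false, 9, 1),
    (6, true, 4, false, 10, 1), (6, true, 4, false, 11, 1), (6, true, 4, false, 12, 1), (6, true, 4, false, 13, 1),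
    (6, true, 4, false, 14, 1), (6, true, 4, false, 15, 1), (6, true, 4, false, 16, 1), (6, true, 4, false, 17, 1),
    (6, true, 4, false, 19, 1), (6, true, 4, false, 20, 1), (6, true, 4, false, 21, 1), (6, true, 4, false, 23, 1),
    (6, true, 4, false, 25, 1), (6, true, 4, false, 26, 1), (6, true, 4, false, 29, 1), (6, true, 4, false, 32, 1),
    (6, true, 4, false, 32, 5), (6, true, 4, false, 35, 1), (6, true, 4, false, 41, 1), (6, true, 4, false, 47, 1),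
    (6, true, 4, true, 2, 1), (6, true, 4, true, 3, 1), (6, true, 4, true, 4, 1), (6, true, 4, true, 5, 1),
    (6, true, 4, true, 6, 1), (6, true, 4, true, 7, 1), (6, true, 4, true, 8, 1), (6, true, 4, true, 9, 1),
    (6, true, 4, true, 10, 1), (6, true, 4, true, 11, 1), (6, true, 4, true, 12, 1), (6, true, 4, true, 13, 1),
    (6, true, 4, true, 14, 1), (6, true, 4, true, 15, 1), (6, true, 4, true, 16, 1), (6, true, 4, true, 17, 1),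
    (6, true, 4, true, 19, 1), (6, true, 4, true, 21, 1), (6, true, 4, true, 22, 1), (6, true, 4, true, 23, 1),
    (6, true, 4, true, 25, 1), (6, true, 4, true, 28, 1), (6, true, 4, true, 31, 1), (6, true, 4, true, 32, 5),
    (6, true, 4, true, 37, 1), (6, true, 4, true, 43, 1), (7, false, 4, false, 2, 1), (7, false, 4, false, 3, 1),
    (7, false, 4, false, 4, 1), (7, false, 4, false, 5, 1), (7, false, 4, false, 6, 1), (7, false, 4, false, 8, 1),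
    (7, false, 4, false, 32, 5), (7, false, 4, true, 2, 1), (7, false, 4, true, 3, 1), (7, false, 4, true, 4, 1),
    (7, false, 4, true, 5, 1), (7, false, 4, true, 6, 1), (7, false, 4, true, 7, 1), (7, false, 4, true, 32, 5),
    (7, false, 5, false, 2, 1), (7, false, 5, true, 2, 1), (7, true, 3, false, 3, 1), (7, true, 3, true, 2, 1),
    (7, true, 3, true, 3, 1), (7, true, 3, true, 5, 1), (7, true, 4, false, 2, 1), (7, true, 4, false, 5, 1),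
    (7, true, 4, true, 2, 1), (7, true, 4, true, 3, 1), (7, true, 4, true, 4, 1), (7, true, 5, false, 2, 1),
    (7, true, 5, false, 3, 1), (7, true, 5, false, 4, 1), (7, true, 5, false, 5, 1), (7, true, 5, true, 2, 1),
    (7, true, 5, true, 3, 1), (7, true, 5, true, 4, 1), (7, true, 5, true, 5, 1), (8, false, 4, false, 2, 1),
    (8, false, 4, false, 3, 1), (8, false, 4, false, 4, 1), (8, false, 4, false, 5, 1), (8, false, 4, false, 6, 1),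
    (8, false, 4, false, 7, 1), (8, false, 4, false, 8, 1), (8, false, 4, false, 32, 5),
    (8, false, 4, false, 128, 7), (8, false, 4, true, 2, 1), (8, false, 4, true, 3, 1), (8, false, 4, true, 4, 1),
    (8, false, 4, true, 5, 1), (8, false, 4, true, 6, 1), (8, false, 4, true, 32, 5), (8, false, 4, true, 128, 7),
    (8, false, 5, false, 2, 1), (8, false, 5, false, 3, 1), (8, false, 6, false, 2, 1), (8, false, 6, false, 3, 1),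
    (8, false, 6, true, 2, 1), (8, true, 5, false, 2, 1), (8, true, 5, true, 2, 1), (8, true, 5, true, 3, 1),
    (8, true, 6, false, 2, 1), (8, true, 6, false, 3, 1), (8, true, 6, true, 2, 1), (8, true, 6, true, 3, 1),
    (9, false, 5, false, 2, 1), (9, false, 6, false, 2, 1), (9, false, 6, true, 2, 1), (9, false, 7, false, 2, 1),
    (9, false, 7, true, 2, 1), (9, true, 4, false, 2, 1), (9, true, 5, false, 2, 1), (9, true, 6, false, 2, 1),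
    (9, true, 6, false, 3, 1), (9, true, 6, false, 4, 1), (9, true, 6, false, 5, 1), (9, true, 6, false, 8, 1),
    (9, true, 6, true, 2, 1), (9, true, 6, true, 3, 1), (9, true, 6, true, 4, 1), (9, true, 7, false, 2, 1),
    (9, true, 7, true, 2, 1), (10, false, 5, false, 2, 1), (10, false, 5, false, 3, 1), (10, false, 6, false, 2, 1),
    (10, false, 6, false, 3, 1), (10, false, 6, false, 4, 1), (10, false, 6, true, 2, 1), (10, false, 6, true, 3, 1),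
    (10, false, 6, true, 4, 1), (10, false, 7, false, 2, 1), (10, true, 6, false, 2, 1), (10, true, 6, false, 3, 1),
    (10, true, 6, true, 2, 1), (10, true, 6, true, 3, 1), (10, true, 6, true, 5, 1), (10, true, 7, false, 2, 1),
    (10, true, 7, true, 2, 1), (10, true, 8, false, 2, 1), (10, true, 8, true, 2, 1), (11, false, 6, false, 2, 1),
    (11, false, 7, false, 2, 1), (11, false, 8, false, 2, 1), (11, false, 8, true, 2, 1), (11, true, 7, false, 2, 1),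
    (11, true, 8, false, 2, 1), (11, true, 8, true, 2, 1), (11, true, 9, false, 2, 1), (12, false, 6, false, 2, 1),
    (12, false, 8, false, 2, 1), (12, false, 8, true, 2, 1), (12, false, 9, false, 2, 1), (12, true, 8, false, 2, 1),
    (12, true, 8, false, 3, 1), (12, true, 8, true, 2, 1), (12, true, 8, true, 3, 1), (12, true, 9, false, 2, 1),
    (12, true, 10, false, 2, 1), (13, false, 8, false, 2, 1), (13, true, 9, false, 2, 1), (13, true, 9, true, 2, 1),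
    (13, true, 10, false, 2, 1), (14, false, 9, false, 2, 1), (14, true, 10, false, 2, 1),
    (15, false, 10, false, 2, 1), (15, true, 10, false, 2, 1), (15, true, 10, true, 2, 1),
    (15, true, 11, false, 2, 1), (16, false, 10, false, 2, 1), (16, false, 10, true, 2, 1),
    (16, true, 10, true, 2, 1), (18, true, 12, false, 2, 1), (18, true, 12, true, 2, 1)]

def crA (s : Bool) (m k u H : ℕ) : Bool :=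
  cr s m k u H 0 || (cr s m k u H 1 || (cr s m k u H 2 || (cr s m k u H 3 || (cr s m k u H 4 || (cr s m k u H 5 ||
    (cr s m k u H 6 || (cr s m k u H 7 || (cr s m k u H 8 || cr s m k u H 9))))))))

def okk (s : Bool) (m k u H : ℕ) : Bool :=
  ((exA s true m k u H || bad5.contains (m, s, k, true, u, H)) || (!s && (decide (u = 2) && decide (k + 2 = m)))) &&
    ((exA s false m k u H || bad5.contains (m, s, k, false, u, H)) || (decide (u = 2) && decide (k = 3)))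

/-- all `w`, starting at the second argument -/
def scan (s : Bool) (m k H : ℕ) (fuel : ℕ) : ℕ → Bool :=
  Nat.rec (motive := fun _ => ℕ → Bool) (fun _ => false)
    (fun _ ih w => crA s m k (w ^ H) H || (okk s m k (w ^ H) H && ih (w + 1))) fuel

def str (s : Bool) (m k : ℕ) : Bool :=
  str5 s m k 0 || (str5 s m k 1 || (str5 s m k 2 || (str5 s m k 3 || str5 s m k 4)))

def HL : List ℕ := [1, 5, 7, 11, 13, 17, 19, 23, 25, 29, 31, 35, 37, 41, 43]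

def fink (s : Bool) (m k : ℕ) : Bool :=
  str s m k || ((HL.all fun H => scan s m k H 8000 2) && crA s m k (2 ^ 47) 47)

def finm (m : ℕ) : Bool :=
  (List.range (m - 1)).all fun k => decide (k < 3) ||
    ((decide (m % k = 0) || fink true m k) &&
      ((decide ((m - 1) % k = 0) || (decide (m = 6) && decide (k = 3))) || fink false m k))

end Cfsg.Agent.R2.Spec.NA5
end

private theorem dce_abc52bd5bc1f : _root_.True := by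
  try have : _root_.True := by simp only [_root_.Cfsg.Agent.R2.Spec.NA5.cr.eq_11]
  try have : _root_.True := by simp only [_root_.Cfsg.Agent.R2.Spec.NA5.cr.eq_3]
  try have : _root_.True := by simp only [_root_.Cfsg.Agent.R2.Spec.NA5.cr.eq_6]
  try have : _root_.True := by simp only [_root_.Cfsg.Agent.R2.Spec.NA5.str5.eq_4]
  try have : _root_.True := by simp only [_root_.Cfsg.Agent.R2.Spec.NA5.cr.eq_5]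
  try have : _root_.True := by simp only [_root_.Cfsg.Agent.R2.Spec.NA5.cr.eq_9]
  try have : _root_.True := by simp only [_root_.Cfsg.Agent.R2.Spec.NA5.cr.eq_7]
  try have : _root_.True := by simp only [_root_.Cfsg.Agent.R2.Spec.NA5.str5.eq_5]
  try have : _root_.True := by simp only [_root_.Cfsg.Agent.R2.Spec.NA5.str5.eq_3]
  try have : _root_.True := by simp only [_root_.Cfsg.Agent.R2.Spec.NA5.cr.eq_10]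
  try have : _root_.True := by simp only [_root_.Cfsg.Agent.R2.Spec.NA5.cr.eq_8]
  try have : _root_.True := by simp only [_root_.Cfsg.Agent.R2.Spec.NA5.cr.eq_4]
  try have : _root_.True := by simp only [_root_.Cfsg.Agent.R2.Spec.NA5.str5.eq_6]
  try have : _root_.True := by simp only [_root_.Cfsg.Agent.R2.Spec.NA5.str5.eq_1]
  try have : _root_.True := by simp only [_root_.Cfsg.Agent.R2.Spec.NA5.cr.eq_1]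
  try have : _root_.True := by simp only [_root_.Cfsg.Agent.R2.Spec.NA5.str5.eq_2]
  try have : _root_.True := by simp only [_root_.Cfsg.Agent.R2.Spec.NA5.cr.eq_2]
  exact _root_.True.intro
end

-- part: R2/Spec/X1/TI/Eq
section
prune_inst 0x30005100740000000000001202000220600001900000800170800f460b0fb202894020004a800c000020b28018000000000000100000000000003000000200000000020041b10e040e0006800006400000000000000000000000000000041000000000000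
set_option linter.all false
open scoped Cfsg.Agent.FastGrp

-- part: R2/Spec/X1/TI/Num
section
/-!
# Identification of `³D₄(q)`: number theory (helper134, statement S3478)

`mm q = q⁴ - q² + 1`, `Par p q` : `q = p ^ k > 2`, `p = 2` or `3`.  `Q = q²`, `mm q - 1 = Q (Q - 1)`.
* `mm_eq`, `mm_mod`, `mm_ge`, `prime_mm` (prime divisors are `≡ 1 mod 12`), `coprime_mm`;
* `Om.dvd_mm` : if a prime divisor of `mm q` divides an element of `Om`, this element divides `mm q`;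
* `Om.dvd_of_coprime`, `Om.le`, `Om.near` (large members of `Om`);
* equations without solutions: `ne_pow_add_one`, `ne_half`, `ne_three`, `ne_five_plus`, `ne_five_minus`, ...
-/

set_option autoImplicit false

namespace Cfsg.Agent.R2.Spec.X1.TI

open Cfsg.Agent.R2.Spec.X1.TD

variable {p q : ℕ}

theorem mm_eq (hq : 2 < q) : mm q = q ^ 2 * (q ^ 2 - 1) + 1 := by
  unfold mm
  have h1 : 1 ≤ q ^ 2 := Nat.one_le_pow _ _ (by omega)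
  rw [Nat.mul_sub, mul_one]
  congr 2
  ring

/-- `mm q = Q (Q - 1) + 1` in the form `mm q + Q = Q² + 1` -/
theorem mm_add_sq (hq : 2 < q) : mm q + q ^ 2 = q ^ 4 + 1 := by
  unfold mm
  have h1 : q ^ 2 ≤ q ^ 4 := Nat.pow_le_pow_right (by omega) (by norm_num)
  omega

theorem mm_cast (hq : 2 < q) : ((mm q : ℕ) : ℤ) = (q : ℤ) ^ 4 - (q : ℤ) ^ 2 + 1 := by
  have h1 := mm_add_sq hq
  have h2 : ((mm q + q ^ 2 : ℕ) : ℤ) = ((q ^ 4 + 1 : ℕ) : ℤ) := by rw [h1]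
  push_cast at h2
  linarith

section par

variable (h : Par p q)

include h

theorem mm_ge : 73 ≤ mm q := by
  have h1 := mm_add_sq h.hq
  have h2 := h.hq
  have h3 : 9 ≤ q ^ 2 := by nlinarith only [h2]
  have h4 : q ^ 4 = q ^ 2 * q ^ 2 := by ring
  nlinarith only [h1, h3]

theorem mm_mod : mm q % 12 = 1 := by
  have h1 := mm_add_sq h.hq
  have h2 : q % 12 < 12 := Nat.mod_lt _ (by norm_num)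
  have h3 : (mm q + q ^ 2) % 12 = (q ^ 4 + 1) % 12 := by rw [h1]
  have h4 : q ^ 2 % 12 = ((q % 12) ^ 2) % 12 := by rw [Nat.pow_mod]
  have h5 : q ^ 4 % 12 = ((q % 12) ^ 4) % 12 := by rw [Nat.pow_mod]
  generalize q % 12 = r at *
  interval_cases r <;> omega

theorem mm_odd : Odd (mm q) := by
  have h1 := mm_mod h
  rw [Nat.odd_iff]
  omega

/-- prime divisors of `mm q` -/
theorem prime_mm {s : ℕ} (hs : s.Prime) (hd : s ∣ mm q) : s % 12 = 1 := by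
  have h2 : s ≠ 2 := by
    rintro rfl
    have := (Nat.odd_iff.1 (mm_odd h))
    omega
  have h3 : s ≠ 3 := by
    rintro rfl
    have := mm_mod h
    omega
  have := Fact.mk hs
  have hz : ((q : ZMod s)) ^ 4 - (q : ZMod s) ^ 2 + 1 = 0 := by
    have h4 : ((mm q : ℕ) : ZMod s) = 0 := (ZMod.natCast_eq_zero_iff _ _).2 hd
    have h5 : ((mm q + q ^ 2 : ℕ) : ZMod s) = ((q ^ 4 + 1 : ℕ) : ZMod s) := by rw [mm_add_sq h.hq]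
    push_cast at h5
    rw [h4, zero_add] at h5
    rw [h5]
    ring
  set a : ZMod s := (q : ZMod s)
  have ha0 : a ≠ 0 := by
    intro h0
    rw [h0] at hz
    simp at hz
  have h6 : a ^ 6 = -1 := by
    have : a ^ 6 + 1 = (a ^ 2 + 1) * (a ^ 4 - a ^ 2 + 1) := by ring
    rw [hz, mul_zero] at this
    exact eq_neg_of_add_eq_zero_left this
  have h2' : (2 : ZMod s) ≠ 0 := by
    intro h0
    have : ((2 : ℕ) : ZMod s) = 0 := by exact_mod_cast h0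
    rw [ZMod.natCast_eq_zero_iff] at this
    exact h2 ((Nat.prime_dvd_prime_iff_eq hs Nat.prime_two).1 this)
  have h3' : (3 : ZMod s) ≠ 0 := by
    intro h0
    have : ((3 : ℕ) : ZMod s) = 0 := by exact_mod_cast h0
    rw [ZMod.natCast_eq_zero_iff] at this
    exact h3 ((Nat.prime_dvd_prime_iff_eq hs Nat.prime_three).1 this)
  have h12 : a ^ 12 = 1 := by
    have : a ^ 12 = (a ^ 6) ^ 2 := by ring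
    rw [this, h6]
    ring
  have hord : orderOf a = 12 := by
    refine orderOf_eq_of_pow_and_pow_div_prime (by norm_num) h12 ?_
    intro r hr hrd
    have : r ∣ 2 ^ 2 * 3 := by simpa using hrd
    rcases hr.dvd_mul.1 this with h7 | h7
    · have h8 := (Nat.prime_dvd_prime_iff_eq hr Nat.prime_two).1 (hr.dvd_of_dvd_pow h7)
      subst h8
      show a ^ 6 ≠ 1
      rw [h6]
      intro h9
      apply h2'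
      linear_combination -h9
    · have h8 := (Nat.prime_dvd_prime_iff_eq hr Nat.prime_three).1 h7
      subst h8
      show a ^ 4 ≠ 1
      intro h9
      -- `a⁴ = 1` and `a⁴ - a² + 1 = 0` give `a² = 2`, `4 = 1`
      have h10 : a ^ 2 = 2 := by linear_combination h9 - hz
      apply h3'
      have : a ^ 4 = (a ^ 2) ^ 2 := by ring
      rw [this, h10] at h9
      linear_combination h9
  have h7 : orderOf a ∣ s - 1 := ZMod.orderOf_dvd_card_sub_one ha0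
  rw [hord] at h7
  have := hs.two_le
  omega

theorem prime_mm_ge {s : ℕ} (hs : s.Prime) (hd : s ∣ mm q) : 13 ≤ s := by
  have h1 := prime_mm h hs hd
  have := hs.two_le
  omega

/-- a prime divisor of `mm q` does not divide `q⁶ - 1` -/
theorem not_dvd_six {s : ℕ} (hs : s.Prime) (hd : s ∣ mm q) : ¬ s ∣ q ^ 6 - 1 := by
  intro h1
  have h2 := h.hq
  have h3 : 1 ≤ q ^ 6 := Nat.one_le_pow _ _ (by omega)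
  have h4 : (q ^ 6 - 1) + 2 = (q ^ 2 + 1) * mm q := by
    have h5 := mm_cast h2
    zify [h3]
    rw [h5]
    ring
  have h5 : s ∣ 2 := by
    have h6 : s ∣ (q ^ 6 - 1) + 2 := h4 ▸ Dvd.dvd.mul_left hd _
    exact (Nat.dvd_add_right h1).1 h6
  have := Nat.le_of_dvd (by norm_num) h5
  have := prime_mm_ge h hs hd
  omega

theorem not_dvd_q {s : ℕ} (hs : s.Prime) (hd : s ∣ mm q) : ¬ s ∣ q := by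
  intro h1
  have h2 := mm_add_sq h.hq
  have h3 : s ∣ 1 := by
    have h4 : s ∣ q ^ 4 + 1 := by
      rw [← h2]
      exact dvd_add hd (dvd_pow h1 two_ne_zero)
    exact (Nat.dvd_add_right (dvd_pow h1 (by norm_num))).1 h4
  exact hs.one_lt.ne' (Nat.dvd_one.1 h3)

/-! ### the members of `Om` -/

/-- `Q = q²` divides no member of `Om` except `q²` -/
theorem Om.sq {m : ℕ} (ho : Om p q m) (hd : q ^ 2 ∣ m) : m ∣ q ^ 2 := by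
  have hq := h.hq
  have hp := h.prime
  have hpq := h.p_dvd
  have h1q : 1 ≤ q ^ 3 := Nat.one_le_pow _ _ (by omega)
  have hp2 : p ^ 2 ∣ m := (pow_dvd_pow_of_dvd hpq 2).trans hd
  have hpm : p ∣ m := (dvd_pow_self p two_ne_zero).trans hp2
  have hn1 : ¬ p ∣ q ^ 3 - 1 := by
    intro h1
    have h2 := Nat.dvd_sub (dvd_pow hpq (show 3 ≠ 0 by norm_num)) h1
    rw [Nat.sub_sub_self h1q] at h2
    exact hp.one_lt.ne' (Nat.dvd_one.1 h2)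
  have hn2 : ¬ p ∣ q ^ 3 + 1 := by
    intro h1
    exact hp.one_lt.ne' (Nat.dvd_one.1 ((Nat.dvd_add_right (dvd_pow hpq (show 3 ≠ 0 by norm_num))).1 h1))
  have hn3 : ¬ p ∣ q + 1 := by
    intro h1
    exact hp.one_lt.ne' (Nat.dvd_one.1 ((Nat.dvd_add_right hpq).1 h1))
  have hn4 : ¬ p ∣ q - 1 := by
    intro h1
    have h2 := Nat.dvd_sub hpq h1
    rw [Nat.sub_sub_self (by omega)] at h2
    exact hp.one_lt.ne' (Nat.dvd_one.1 h2)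
  have hn5 : ¬ p ∣ mm q := by
    intro h1
    rw [mm_eq hq] at h1
    have h2 : p ∣ q ^ 2 * (q ^ 2 - 1) := Dvd.dvd.mul_right (dvd_pow hpq two_ne_zero) _
    exact hp.one_lt.ne' (Nat.dvd_one.1 ((Nat.dvd_add_right h2).1 h1))
  have key : ∀ x : ℕ, ¬ p ∣ x → m ∣ p * x → False := fun x hx hm => by
    have h1 : p * p ∣ p * x := by rw [← pow_two]; exact hp2.trans hm
    exact hx (Nat.dvd_of_mul_dvd_mul_left hp.pos h1)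
  rcases ho with h5 | h5 | h5 | h5 | h5 | h5
  · exact absurd (hpm.trans h5) hn5
  · rcases hp.dvd_mul.1 (hpm.trans h5) with h6 | h6
    · exact absurd h6 hn1
    · exact absurd h6 hn3
  · rcases hp.dvd_mul.1 (hpm.trans h5) with h6 | h6
    · exact absurd h6 hn2
    · exact absurd h6 hn4
  · exact (key _ hn1 h5).elim
  · exact (key _ hn2 h5).elim
  · exact h5.trans (pow_dvd_pow_of_dvd hpq 2)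

/-- the members of `Om` which are not divisible by a prime divisor of `mm q` -/
theorem Om.mm_or {m : ℕ} (ho : Om p q m) : m ∣ mm q ∨ m ∣ q ^ 2 * (q ^ 6 - 1) := by
  have hq := h.hq
  have hpq := h.p_dvd
  have h1q : 1 ≤ q ^ 3 := Nat.one_le_pow _ _ (by omega)
  have h1q' : 1 ≤ q := by omega
  have hle : q ≤ q ^ 2 := Nat.le_self_pow two_ne_zero q
  have hpq2 : p ∣ q ^ 2 := hpq.trans (dvd_pow_self q two_ne_zero)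
  have e6 : q ^ 6 - 1 = (q ^ 3 - 1) * (q ^ 3 + 1) := by
    have := Nat.sq_sub_sq (q ^ 3) 1
    rw [one_pow, ← pow_mul] at this
    rw [this, mul_comm]
  have e1 : (q ^ 3 + 1) = (q + 1) * (q ^ 2 - q + 1) := by
    zify [hle]
    ring
  have e2 : (q ^ 3 - 1) = (q - 1) * (q ^ 2 + q + 1) := by
    zify [h1q, h1q']
    ring
  rcases ho with h5 | h5 | h5 | h5 | h5 | h5
  · exact Or.inl h5
  · exact Or.inr (h5.trans (Dvd.dvd.mul_left (by rw [e6, e1]; exact mul_dvd_mul_left _ (Dvd.intro _ rfl)) _))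
  · exact Or.inr (h5.trans (Dvd.dvd.mul_left (by
      rw [e6, e2, mul_comm]; exact mul_dvd_mul (Dvd.intro _ rfl) dvd_rfl) _))
  · exact Or.inr (h5.trans (mul_dvd_mul hpq2 (by rw [e6]; exact Dvd.intro _ rfl)))
  · exact Or.inr (h5.trans (mul_dvd_mul hpq2 (by rw [e6]; exact Dvd.intro_left _ rfl)))
  · exact Or.inr (h5.trans (Dvd.dvd.mul_right (pow_dvd_pow_of_dvd hpq 2) _))

/-- **A member of `Om` divisible by a prime divisor of `mm q` divides `mm q`.** -/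
theorem Om.dvd_mm {m s : ℕ} (ho : Om p q m) (hs : s.Prime) (hsm : s ∣ m) (hsq : s ∣ mm q) : m ∣ mm q := by
  rcases Om.mm_or h ho with h1 | h1
  · exact h1
  · exfalso
    rcases hs.dvd_mul.1 (hsm.trans h1) with h4 | h4
    · exact not_dvd_q h hs hsq (hs.dvd_of_dvd_pow h4)
    · exact not_dvd_six h hs hsq h4

/-- primes in `Om` -/
theorem Om.prime {t : ℕ} (ht : t.Prime) (ho : Om p q t) : t ∣ mm q ∨ t ∣ q ∨ t ∣ q ^ 6 - 1 := by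
  rcases Om.mm_or h ho with h1 | h1
  · exact Or.inl h1
  · right
    rcases ht.dvd_mul.1 h1 with h2 | h2
    · exact Or.inl (ht.dvd_of_dvd_pow h2)
    · exact Or.inr h2

end par

end Cfsg.Agent.R2.Spec.X1.TI
end

-- part: R2/Spec/X1/TI/Eq
section
/-!
# Identification of `³D₄(q)`: equations without solutions (helper134, statement S3478)

`n = mm q`, `Par p q`.
* `split` : `n = u P + 1`, `u` a prime power prime to `P` : `u = q²`, `P = q² - 1`, or `q² ∣ P`;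
* `ne_pow_add_one`, `ne_half` : `n ≠ u ^ m + 1`, `2 n ≠ w² + 1`;
* `Om.large` : the large members of `Om`;
* `dead_lin` : `d n (u - 1) + 1 = u ^ k`, `d a + 1 = u ^ (k - 1)`, `a ∈ Om`, `u ≥ 4` or `d = 1` : impossible (`PSL`);
* `dead_uni` : `d n (u + 1) = u ^ k + 1`, `d a + 1 = u ^ (k - 1)`, `a ∈ Om` : impossible (`PSU`);
* `dead_plus`, `dead_minus` : the same with `d = 1` and `c a + 1 = u ^ (k - 1)`, `c ∣ u ∓ 1` (symplectic and orthogonal groups).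
-/

set_option autoImplicit false

namespace Cfsg.Agent.R2.Spec.X1.TI

open Cfsg.Agent.R2.Spec.X1.TD

variable {p q : ℕ} (h : Par p q)

include h

/-- **The equation `n = u P + 1`.** -/
theorem split {u P : ℕ} (hu : IsPrimePow u) (hco : Nat.Coprime u P) (h1 : mm q = u * P + 1) :
    (u = q ^ 2 ∧ P = q ^ 2 - 1) ∨ q ^ 2 ∣ P := by
  obtain ⟨k, hk, hqk⟩ := h.hk
  have hp := h.prime
  have h2 : u * P = q ^ 2 * (q ^ 2 - 1) := by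
    have := mm_eq h.hq
    omega
  have hq1 : 1 ≤ q ^ 2 := Nat.one_le_pow _ _ (by have := h.hq; omega)
  have hpq1 : ¬ p ∣ q ^ 2 - 1 := by
    intro h3
    have h4 : p ∣ q ^ 2 := dvd_pow h.p_dvd two_ne_zero
    have h5 : p ∣ 1 := by
      have := Nat.dvd_sub h4 h3
      rwa [Nat.sub_sub_self hq1] at this
    exact hp.one_lt.ne' (Nat.dvd_one.1 h5)
  obtain ⟨r, f, hr, hf, rfl⟩ := hu
  have hr : r.Prime := Nat.prime_iff.2 hr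
  by_cases hrp : r = p
  · left
    subst hrp
    have h3 : Nat.Coprime (q ^ 2) P := by
      rw [hqk, ← pow_mul]
      refine Nat.Coprime.pow_left _ ?_
      exact Nat.Coprime.coprime_dvd_left (dvd_pow_self r hf.ne') hco
    have h4 : q ^ 2 ∣ r ^ f := h3.dvd_of_dvd_mul_right (h2 ▸ Dvd.intro _ rfl)
    have h5 : r ^ f ∣ q ^ 2 := by
      have h6 : Nat.Coprime (r ^ f) (q ^ 2 - 1) := Nat.Coprime.pow_left _ ((Nat.Prime.coprime_iff_not_dvd hp).2 hpq1)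
      exact h6.dvd_of_dvd_mul_right (h2 ▸ Dvd.intro _ rfl)
    have h6 := Nat.dvd_antisymm h5 h4
    refine ⟨h6, ?_⟩
    rw [h6] at h2
    exact Nat.eq_of_mul_eq_mul_left (by omega) h2
  · right
    have h3 : Nat.Coprime (q ^ 2) (r ^ f) := by
      rw [hqk, ← pow_mul]
      exact Nat.Coprime.pow _ _ ((Nat.coprime_primes hp hr).2 (Ne.symm hrp))
    exact h3.dvd_of_dvd_mul_left (h2 ▸ Dvd.intro _ rfl)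

theorem ne_pow_add_one {u m : ℕ} (hu : IsPrimePow u) (hm : m ≠ 0) : mm q ≠ u ^ m + 1 := by
  intro h1
  have hq := h.hq
  rcases split h (u := u ^ m) (P := 1) (hu.pow hm) (Nat.coprime_one_right _) (by rw [mul_one]; exact h1) with
    ⟨-, h2⟩ | h2
  · have : 9 ≤ q ^ 2 := by nlinarith only [hq]
    omega
  · have h3 := Nat.le_of_dvd one_pos h2
    have : 9 ≤ q ^ 2 := by nlinarith only [hq]
    omega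

/-- `2 n = w² + 1` is impossible. -/
theorem ne_half (w : ℕ) : 2 * mm q ≠ w ^ 2 + 1 := by
  intro h1
  have hq := h.hq
  have h2 := mm_add_sq hq
  set Q := q ^ 2 with hQ
  have h9 : 9 ≤ Q := by nlinarith only [hq, hQ]
  have h3 : w ^ 2 + 2 * Q = 2 * Q ^ 2 + 1 := by
    have : q ^ 4 = Q ^ 2 := by rw [hQ]; ring
    omega
  have h4 : Q < w := by
    by_contra hcon
    push Not at hcon
    have : w ^ 2 ≤ Q ^ 2 := Nat.pow_le_pow_left hcon 2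
    nlinarith only [h9, h3, this]
  obtain ⟨v, rfl⟩ : ∃ v, w = Q + v := ⟨w - Q, by omega⟩
  -- `2 Q v + v² = (Q - 1)²`
  have h5 : 2 * Q * v + v ^ 2 + 2 * Q = Q ^ 2 + 1 := by linarith only [h3]
  have hv0 : 0 < v := by omega
  have hv : 2 * v + 3 ≤ Q := by
    by_contra hcon
    push Not at hcon
    nlinarith only [h9, h3, hcon]
  have h6 : Q ∣ (v - 1) * (v + 1) := by
    have h7 : (v - 1) * (v + 1) + 1 = v ^ 2 := by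
      obtain ⟨t, rfl⟩ : ∃ t, v = t + 1 := ⟨v - 1, by omega⟩
      rw [Nat.add_sub_cancel]; ring
    have h8 : (v - 1) * (v + 1) + Q * (2 * v + 2) = Q * Q := by linarith only [h3, h7]
    have h10 : Q ∣ (v - 1) * (v + 1) + Q * (2 * v + 2) := by rw [h8]; exact Dvd.intro _ rfl
    exact (Nat.dvd_add_left (Dvd.intro _ rfl)).1 h10
  have hne1 : v ≠ 1 := by
    rintro rfl
    have : Q * 4 = Q * Q := by linarith only [h3]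
    have := Nat.eq_of_mul_eq_mul_left (by omega) this
    omega
  obtain ⟨k, hk, hqk⟩ := h.hk
  have hp := h.prime
  have hp5 := h.h5
  have hQ9 : Q = p ^ (2 * k) := by rw [hQ, hqk, ← pow_mul, mul_comm]
  by_cases h3v : p ∣ v - 1
  · have hco : Nat.Coprime (p ^ (2 * k)) (v + 1) := by
      refine Nat.Coprime.pow_left _ ((Nat.Prime.coprime_iff_not_dvd hp).2 ?_)
      intro h7
      have h8 := Nat.dvd_sub h7 h3v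
      have h9 : v + 1 - (v - 1) = 2 := by omega
      rw [h9] at h8
      have := Nat.le_of_dvd (by norm_num) h8
      omega
    have h7 := hco.dvd_of_dvd_mul_right (hQ9 ▸ h6)
    rw [← hQ9] at h7
    have := Nat.le_of_dvd (by omega) h7
    omega
  · have hco : Nat.Coprime (p ^ (2 * k)) (v - 1) :=
      Nat.Coprime.pow_left _ ((Nat.Prime.coprime_iff_not_dvd hp).2 h3v)
    have h7 := hco.dvd_of_dvd_mul_left (hQ9 ▸ h6)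
    rw [← hQ9] at h7
    have := Nat.le_of_dvd (by omega) h7
    omega

/-- `n = v² + v + 1` : `v + 1 = q²`. -/
theorem eq_add {v : ℕ} (h1 : mm q = v ^ 2 + v + 1) : v + 1 = q ^ 2 := by
  have h2 := mm_add_sq h.hq
  have h3 : q ^ 4 = (q ^ 2) ^ 2 := by ring
  rcases lt_trichotomy (v + 1) (q ^ 2) with h4 | h4 | h4
  · exfalso
    nlinarith
  · exact h4
  · exfalso
    have h5 : (q ^ 2) ^ 2 ≤ v ^ 2 := Nat.pow_le_pow_left (by omega) 2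
    have h6 := h.hq
    nlinarith only [h1, h2, h5, h6]

/-- `n = v² - v + 1` : `v = q²`. -/
theorem eq_sub {v : ℕ} (h1 : mm q + v = v ^ 2 + 1) (hv : 1 ≤ v) : v = q ^ 2 := by
  obtain ⟨t, rfl⟩ : ∃ t, v = t + 1 := ⟨v - 1, by omega⟩
  exact eq_add h (by linarith only [h1])

/-- `3 n = v² + v + 1` is impossible. -/
theorem ne_three (v : ℕ) : 3 * mm q ≠ v ^ 2 + v + 1 := by
  intro h1
  have hq := h.hq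
  have h2 := mm_eq hq
  have h9 : 9 ≤ q ^ 2 := by nlinarith only [hq]
  -- `v = 3 w + 1`
  have hv : v % 3 = 1 := by
    have h3 : (v ^ 2 + v + 1) % 3 = 0 := by omega
    have h4 : v ^ 2 % 3 = ((v % 3) ^ 2) % 3 := by rw [Nat.pow_mod]
    have h5 : v % 3 < 3 := Nat.mod_lt _ (by norm_num)
    interval_cases hv3 : v % 3 <;> (clear * - h3 hv3 h4; omega)
  obtain ⟨w, rfl⟩ : ∃ w, v = 3 * w + 1 := ⟨v / 3, by omega⟩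
  have h3 : 3 * (w * (w + 1)) = q ^ 2 * (q ^ 2 - 1) := by linarith only [h2, h1]
  obtain ⟨k, hk, hqk⟩ := h.hk
  have hp := h.prime
  have hp5 := h.h5
  have h4 : q ^ 2 ∣ w * (w + 1) := by
    have hco : Nat.Coprime (q ^ 2) 3 := by
      rw [hqk, ← pow_mul]
      refine Nat.Coprime.pow_left _ ((Nat.coprime_primes hp Nat.prime_three).2 (by omega))
    exact hco.dvd_of_dvd_mul_left (h3 ▸ Dvd.intro _ rfl)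
  have h5 : q ^ 2 ≤ w + 1 := by
    rw [hqk, ← pow_mul] at h4 ⊢
    have hw0 : 0 < w := by
      by_contra hcon
      have : w = 0 := by omega
      subst this
      have : 0 < q ^ 2 * (q ^ 2 - 1) := Nat.mul_pos (by omega) (by omega)
      omega
    by_cases hpw : p ∣ w
    · have : Nat.Coprime (p ^ (k * 2)) (w + 1) := by
        refine Nat.Coprime.pow_left _ ((Nat.Prime.coprime_iff_not_dvd hp).2 ?_)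
        intro h7
        exact hp.one_lt.ne' (Nat.dvd_one.1 ((Nat.dvd_add_right hpw).1 h7))
      exact (Nat.le_of_dvd hw0 (this.dvd_of_dvd_mul_right h4)).trans (Nat.le_succ _)
    · have : Nat.Coprime (p ^ (k * 2)) w := Nat.Coprime.pow_left _ ((Nat.Prime.coprime_iff_not_dvd hp).2 hpw)
      exact Nat.le_of_dvd (by omega) (this.dvd_of_dvd_mul_left h4)
  obtain ⟨Q, hQ⟩ : ∃ Q, q ^ 2 = Q + 1 := ⟨q ^ 2 - 1, by omega⟩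
  rw [hQ, Nat.add_sub_cancel] at h3
  rw [hQ] at h5 h9
  nlinarith only [h9, h5, h3]

/-- **The large members of `Om`.** -/
theorem Om.large {a : ℕ} (ho : Om p q a) (h7 : 5 * mm q ≤ 7 * a) :
    a = mm q ∨ a = (q ^ 3 - 1) * (q + 1) ∨ a = (q ^ 3 + 1) * (q - 1) ∨ a = q * (q ^ 3 - 1) ∨ a = q * (q ^ 3 + 1) := by
  have hq := h.q5
  have hp5 := h.h5
  have hpor := h.eq_or
  obtain ⟨b, rfl⟩ : ∃ b, q = b + 3 := ⟨q - 3, by omega⟩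
  have hb2 : 2 ≤ b := by omega
  have hn : mm (b + 3) = (b + 3) ^ 4 - (b + 3) ^ 2 + 1 := rfl
  have h2 := mm_add_sq h.hq
  have e1 : (b + 3) ^ 3 - 1 = b ^ 3 + 9 * b ^ 2 + 27 * b + 26 := by
    have : (b + 3) ^ 3 = b ^ 3 + 9 * b ^ 2 + 27 * b + 27 := by ring
    omega
  have e2 : (b + 3) ^ 3 + 1 = b ^ 3 + 9 * b ^ 2 + 27 * b + 28 := by ring
  have e3 : b + 3 - 1 = b + 2 := by omega
  have e5 : mm (b + 3) = b ^ 4 + 12 * b ^ 3 + 53 * b ^ 2 + 102 * b + 73 := by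
    have h3 : (b + 3) ^ 4 = b ^ 4 + 12 * b ^ 3 + 54 * b ^ 2 + 108 * b + 81 := by ring
    have h4 : (b + 3) ^ 2 = b ^ 2 + 6 * b + 9 := by ring
    (clear * - h2 h3 h4; omega)
  have ha0 : 0 < a := by (clear * - h7 hn; omega)
  -- a divisor `a` of `x < 2 a` is `x`
  have key : ∀ x : ℕ, 0 < x → a ∣ x → x < 2 * a → a = x := by
    rintro x hx ⟨c, rfl⟩ h5
    have hc1 : c = 1 := by
      have h6 : c ≠ 0 := by rintro rfl; omega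
      by_contra hcon
      have : 2 ≤ c := by omega
      nlinarith only [h5, this]
    rw [hc1, mul_one]
  have f4 : 2 * b ^ 3 ≤ b ^ 4 := by
    have : b ^ 4 = b * b ^ 3 := by ring
    rw [this]
    exact Nat.mul_le_mul_right _ hb2
  have f3 : 2 * b ^ 2 ≤ b ^ 3 := by
    have : b ^ 3 = b * b ^ 2 := by ring
    rw [this]
    exact Nat.mul_le_mul_right _ hb2
  rcases ho with h5 | h5 | h5 | h5 | h5 | h5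
  · exact Or.inl (key _ (by (clear * - hn; omega)) h5 (by (clear * - h7 hn; omega)))
  · right; left
    refine key _ (by rw [e1]; positivity) h5 ?_
    rw [e1]
    have e : (b ^ 3 + 9 * b ^ 2 + 27 * b + 26) * (b + 3 + 1) = b ^ 4 + 13 * b ^ 3 + 63 * b ^ 2 + 134 * b + 104 := by ring
    rw [e]
    (clear * - h7 e5; omega)
  · right; right; left
    refine key _ (by rw [e3]; positivity) h5 ?_
    rw [e2, e3]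
    have e : (b ^ 3 + 9 * b ^ 2 + 27 * b + 28) * (b + 2) = b ^ 4 + 11 * b ^ 3 + 45 * b ^ 2 + 82 * b + 56 := by ring
    rw [e]
    (clear * - h7 e5; omega)
  · rcases hpor with h6 | h6
    · right; right; right; left
      rw [← h6] at h5
      refine key _ (by rw [e1]; positivity) h5 ?_
      rw [e1]
      have e : (b + 3) * (b ^ 3 + 9 * b ^ 2 + 27 * b + 26) = b ^ 4 + 12 * b ^ 3 + 54 * b ^ 2 + 107 * b + 78 := by ring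
      rw [e]
      (clear * - h7 e5; omega)
    · exfalso
      -- `5 p ≤ q`
      have h8 : 5 * p ≤ b + 3 := by nlinarith only [hp5, h6]
      have h9 := Nat.le_of_dvd (by rw [e1]; positivity) h5
      rw [e1] at h9
      have h10 : 5 * (p * (b ^ 3 + 9 * b ^ 2 + 27 * b + 26)) ≤ (b + 3) * (b ^ 3 + 9 * b ^ 2 + 27 * b + 26) := by
        rw [← mul_assoc]
        exact Nat.mul_le_mul_right _ h8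
      have e : (b + 3) * (b ^ 3 + 9 * b ^ 2 + 27 * b + 26) = b ^ 4 + 12 * b ^ 3 + 54 * b ^ 2 + 107 * b + 78 := by ring
      rw [e] at h10
      (clear * - h7 e5 h9 h10; omega)
  · rcases hpor with h6 | h6
    · right; right; right; right
      rw [← h6] at h5
      refine key _ (by rw [e2]; positivity) h5 ?_
      rw [e2]
      have e : (b + 3) * (b ^ 3 + 9 * b ^ 2 + 27 * b + 28) = b ^ 4 + 12 * b ^ 3 + 54 * b ^ 2 + 109 * b + 84 := by ring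
      rw [e]
      (clear * - h7 e5; omega)
    · exfalso
      have h8 : 5 * p ≤ b + 3 := by nlinarith only [hp5, h6]
      have h9 := Nat.le_of_dvd (by rw [e2]; positivity) h5
      rw [e2] at h9
      have h10 : 5 * (p * (b ^ 3 + 9 * b ^ 2 + 27 * b + 28)) ≤ (b + 3) * (b ^ 3 + 9 * b ^ 2 + 27 * b + 28) := by
        rw [← mul_assoc]
        exact Nat.mul_le_mul_right _ h8
      have e : (b + 3) * (b ^ 3 + 9 * b ^ 2 + 27 * b + 28) = b ^ 4 + 12 * b ^ 3 + 54 * b ^ 2 + 109 * b + 84 := by ring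
      rw [e] at h10
      (clear * - h7 e5 h9 h10; omega)
  · exfalso
    have h8 : p ^ 2 ≤ (b + 3) ^ 2 := Nat.pow_le_pow_left h.p_le 2
    have h9 := Nat.le_of_dvd (by positivity) h5
    have e : (b + 3) ^ 2 = b ^ 2 + 6 * b + 9 := by ring
    rw [e] at h8
    (clear * - h7 e5 h8 h9; omega)

end Cfsg.Agent.R2.Spec.X1.TI
end
end

-- part: R2/Spec/X1/TI/Sit
section
prune_inst 0x30006104700000000000001200000220400001900000000170800d46080fb202894028004a800d021064a28000000000000000100000000000000000000000000000420043910d0c060006803007180c00000000000000000000000000041000000000000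
set_option linter.all false
open scoped Cfsg.Agent.FastGrp

-- part: R2/Spec/X1/TI/Dead
section
/-!
# Identification of `³D₄(q)`: the last step for the classical groups (helper134, statement S3478)

`n = mm q`, `Par p q`, `a ∈ Om`:
* `dead_lin` : `d n (u - 1) + 1 = u ^ k`, `d a + 1 = u ^ (k - 1)`, `u ≥ 4`, `k ≥ 3` : impossible (`PSL`);
* `dead_uni` : `d n (u + 1) = u ^ k + 1`, `d a + 1 = u ^ (k - 1)`, `k ≥ 3` odd : impossible (`PSU`);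
* `dead_plus`, `dead_minus` : the same with `d = 1` and `c a + 1 = u ^ (k - 1)`, `c = 1, 2` (symplectic, orthogonal groups);
  in `dead_minus` one solution `u = q²` is left;
* `exists_prime_sq`, `not_om_sq` : an odd prime divisor of `q² + 1` is not in `Om`.
-/

set_option autoImplicit false

namespace Cfsg.Agent.R2.Spec.X1.TI

open Cfsg.Agent.R2.Spec.X1.TD

theorem exists_geom (x m : ℕ) : ∃ P : ℕ, x * P + 1 = (x + 1) ^ m := by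
  induction m with
  | zero => exact ⟨0, by simp⟩
  | succ m ih =>
    obtain ⟨P, hP⟩ := ih
    exact ⟨(x + 1) * P + 1, by rw [pow_succ, ← hP]; ring⟩

theorem exists_geom_alt {u : ℕ} (hu : 1 ≤ u) (j : ℕ) : ∃ R : ℕ, (u + 1) * R + 1 = u ^ (2 * j) := by
  obtain ⟨t, rfl⟩ : ∃ t, u = t + 1 := ⟨u - 1, by omega⟩
  induction j with
  | zero => exact ⟨0, by simp⟩
  | succ j ih =>
    obtain ⟨R, hR⟩ := ih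
    exact ⟨(t + 1) ^ 2 * R + t, by rw [Nat.mul_succ, pow_add, ← hR]; ring⟩

/-- the core of `dead_lin` -/
theorem core_lin {Q D U : ℤ} (hQ : 3 ≤ Q) (hD : 1 ≤ D)
    (e : D * (Q ^ 4 - Q ^ 2 + 1) = U * (D * (Q ^ 3 - Q ^ 2 - Q + 2) - 1) + 1) : False := by
  have q2 : 3 * Q ≤ Q ^ 2 := by nlinarith
  have q3 : 3 * Q ^ 2 ≤ Q ^ 3 := by nlinarith only [hQ]
  have hG : 1 ≤ Q ^ 3 - Q ^ 2 - Q + 2 := by linarith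
  have hDG : 0 ≤ D * (Q ^ 3 - Q ^ 2 - Q + 2) - 1 := by nlinarith only [hD, q2, q3]
  rcases lt_or_ge Q U with h12 | h12
  · rcases lt_or_ge (Q + 1) U with h13 | h13
    · rcases lt_or_ge (Q + 2) U with h14 | h14
      · have h15 : (Q + 3) * (D * (Q ^ 3 - Q ^ 2 - Q + 2) - 1) ≤ U * (D * (Q ^ 3 - Q ^ 2 - Q + 2) - 1) :=
          mul_le_mul_of_nonneg_right (by linarith) hDG
        have h17 : 1 * (2 * Q ^ 3 - 3 * Q ^ 2 - Q + 5) ≤ D * (2 * Q ^ 3 - 3 * Q ^ 2 - Q + 5) :=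
          mul_le_mul_of_nonneg_right hD (by linarith)
        linarith
      · have h15 : U = Q + 2 := by linarith
        rw [h15] at e
        have h17 : 1 * (Q ^ 3 - 2 * Q ^ 2 + 3) ≤ D * (Q ^ 3 - 2 * Q ^ 2 + 3) :=
          mul_le_mul_of_nonneg_right hD (by linarith)
        linarith
    · have h15 : U = Q + 1 := by linarith
      rw [h15] at e
      have h17 : 1 * (Q ^ 2 - Q - 1) ≤ D * (Q ^ 2 - Q - 1) := mul_le_mul_of_nonneg_right hD (by linarith)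
      linarith
  · have h15 : U * (D * (Q ^ 3 - Q ^ 2 - Q + 2) - 1) ≤ Q * (D * (Q ^ 3 - Q ^ 2 - Q + 2) - 1) :=
      mul_le_mul_of_nonneg_right h12 hDG
    have h17 : 1 * (Q ^ 3 - 2 * Q + 1) ≤ D * (Q ^ 3 - 2 * Q + 1) := mul_le_mul_of_nonneg_right hD (by linarith)
    linarith

/-- the core of `dead_uni` -/
theorem core_uni {Q D U : ℤ} (hQ : 3 ≤ Q) (hD : 1 ≤ D)
    (e : D * (Q ^ 4 - Q ^ 2 + 1) = U * (D * (Q ^ 3 + Q ^ 2 - Q - 2) + 1) + 1) : False := by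
  have q2 : 3 * Q ≤ Q ^ 2 := by nlinarith
  have q3 : 3 * Q ^ 2 ≤ Q ^ 3 := by nlinarith only [hQ]
  have hH : 1 ≤ Q ^ 3 + Q ^ 2 - Q - 2 := by linarith
  have hDH : 0 ≤ D * (Q ^ 3 + Q ^ 2 - Q - 2) + 1 := by nlinarith only [hQ, hD, q2, q3]
  rcases lt_or_ge (Q - 1) U with h12 | h12
  · have h15 : Q * (D * (Q ^ 3 + Q ^ 2 - Q - 2) + 1) ≤ U * (D * (Q ^ 3 + Q ^ 2 - Q - 2) + 1) :=
      mul_le_mul_of_nonneg_right (by linarith) hDH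
    have h17 : 1 * (Q ^ 3 - 2 * Q - 1) ≤ D * (Q ^ 3 - 2 * Q - 1) := mul_le_mul_of_nonneg_right hD (by linarith)
    linarith
  · have h15 : U * (D * (Q ^ 3 + Q ^ 2 - Q - 2) + 1) ≤ (Q - 1) * (D * (Q ^ 3 + Q ^ 2 - Q - 2) + 1) :=
      mul_le_mul_of_nonneg_right h12 hDH
    have h17 : 1 * (Q ^ 2 + Q - 1) ≤ D * (Q ^ 2 + Q - 1) := mul_le_mul_of_nonneg_right hD (by linarith)
    linarith

/-- `a = Q⁴ - Q` -/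
theorem core_uni_sub {Q D U : ℤ} (hQ : 5 ≤ Q) (hD : 1 ≤ D)
    (e : D * (Q ^ 4 - Q ^ 2 + 1) = U * (D * (Q ^ 2 - Q - 1) + 1) + 1) : D = 1 ∧ U = Q * (Q + 1) := by
  have q2 : 5 * Q ≤ Q ^ 2 := by nlinarith
  have hG : 0 < D * (Q ^ 2 - Q - 1) + 1 := by nlinarith only [hQ, hD, q2]
  have e1 : (U - (Q ^ 2 + Q + 1)) * (D * (Q ^ 2 - Q - 1) + 1) = D * (2 * Q + 2) - (Q ^ 2 + Q + 2) := by
    linear_combination -e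
  rcases lt_trichotomy (U - (Q ^ 2 + Q + 1)) (-1) with h1 | h1 | h1
  · exfalso
    have h2 : (U - (Q ^ 2 + Q + 1)) * (D * (Q ^ 2 - Q - 1) + 1) ≤ (-2) * (D * (Q ^ 2 - Q - 1) + 1) :=
      mul_le_mul_of_nonneg_right (by linarith) hG.le
    rw [e1] at h2
    have h3 : 1 * (2 * Q ^ 2) ≤ D * (2 * Q ^ 2) := mul_le_mul_of_nonneg_right hD (by positivity)
    linarith only [hQ, q2, h2, h3]
  · rw [h1] at e1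
    -- `D (Q² + Q + 1) = Q² + Q + 1`
    have h2 : (D - 1) * (Q ^ 2 + Q + 1) = 0 := by linear_combination -e1
    rcases mul_eq_zero.1 h2 with h3 | h3
    · exact ⟨by linarith, by linear_combination h1⟩
    · exfalso; linarith only [hQ, q2, h3]
  · exfalso
    rcases lt_or_ge (U - (Q ^ 2 + Q + 1)) 1 with h2 | h2
    · have h3 : U - (Q ^ 2 + Q + 1) = 0 := by linarith
      rw [h3, zero_mul] at e1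
      -- `2 D (Q + 1) = Q (Q + 1) + 2`
      have h4 : (Q + 1) ∣ 2 := ⟨2 * D - Q, by linear_combination e1⟩
      have := Int.le_of_dvd (by norm_num) h4
      linarith
    · have h3 : 1 * (D * (Q ^ 2 - Q - 1) + 1) ≤ (U - (Q ^ 2 + Q + 1)) * (D * (Q ^ 2 - Q - 1) + 1) :=
        mul_le_mul_of_nonneg_right h2 hG.le
      rw [e1] at h3
      have h4 : 0 ≤ D * (Q ^ 2 - 3 * Q - 3) := mul_nonneg (by linarith) (by linarith only [hQ, q2])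
      linarith only [hQ, q2, h3, h4]

/-- `a = Q⁴ + Q` -/
theorem core_uni_add {Q D U : ℤ} (hQ : 5 ≤ Q) (hD : 1 ≤ D)
    (e : D * (Q ^ 4 - Q ^ 2 + 1) = U * (D * (Q ^ 2 + Q - 1) + 1) + 1) : D = 1 ∧ U = Q * (Q - 1) := by
  have q2 : 5 * Q ≤ Q ^ 2 := by nlinarith only [hQ]
  have hG : 0 < D * (Q ^ 2 + Q - 1) + 1 := by nlinarith only [hQ, hD]
  have e1 : (Q ^ 2 - Q + 1 - U) * (D * (Q ^ 2 + Q - 1) + 1) = D * (2 * Q - 2) + (Q ^ 2 - Q + 2) := by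
    linear_combination e
  have h0 : 0 < (Q ^ 2 - Q + 1 - U) * (D * (Q ^ 2 + Q - 1) + 1) := by
    rw [e1]
    have : 0 ≤ D * (2 * Q - 2) := mul_nonneg (by linarith) (by linarith)
    linarith only [hQ, q2, this]
  have h1 : 0 < Q ^ 2 - Q + 1 - U := by
    by_contra hc
    have := mul_nonpos_of_nonpos_of_nonneg (not_lt.1 hc) hG.le
    linarith
  rcases lt_or_ge (Q ^ 2 - Q + 1 - U) 2 with h2 | h2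
  · have h3 : Q ^ 2 - Q + 1 - U = 1 := by linarith
    rw [h3, one_mul] at e1
    have h4 : (D - 1) * (Q ^ 2 - Q + 1) = 0 := by linear_combination e1
    rcases mul_eq_zero.1 h4 with h5 | h5
    · exact ⟨by linarith, by linear_combination -h3⟩
    · exfalso; linarith only [hQ, q2, h5]
  · exfalso
    have h3 : 2 * (D * (Q ^ 2 + Q - 1) + 1) ≤ (Q ^ 2 - Q + 1 - U) * (D * (Q ^ 2 + Q - 1) + 1) :=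
      mul_le_mul_of_nonneg_right h2 hG.le
    rw [e1] at h3
    have h4 : 1 * (2 * Q ^ 2) ≤ D * (2 * Q ^ 2) := mul_le_mul_of_nonneg_right hD (by positivity)
    linarith only [hQ, q2, h3, h4]

/-- a product of two consecutive numbers greater than 1 is not a prime power -/
theorem not_pp_mul_succ {a : ℕ} (ha : 2 ≤ a) : ¬ IsPrimePow (a * (a + 1)) := by
  intro h
  have hco : Nat.Coprime a (a + 1) := by simp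
  rcases (Nat.Coprime.isPrimePow_dvd_mul hco h).1 dvd_rfl with h1 | h1
  · have := Nat.le_of_dvd (by omega) h1
    nlinarith
  · have := Nat.le_of_dvd (by omega) h1
    nlinarith only [ha, this]

variable {p q : ℕ} (h : Par p q)

include h

/-- **`PSL`** -/
theorem dead_lin {u k d a : ℕ} (hu : 4 ≤ u) (hk : 3 ≤ k) (hd : 1 ≤ d) (h1 : d * mm q * (u - 1) + 1 = u ^ k)
    (h2 : d * a + 1 = u ^ (k - 1)) (ho : Om p q a) : False := by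
  have hq := h.hq
  obtain ⟨x, rfl⟩ : ∃ x, u = x + 1 := ⟨u - 1, by omega⟩
  rw [Nat.add_sub_cancel] at h1
  obtain ⟨P, hP⟩ := exists_geom x (k - 1)
  have h3 : d * a = x * P := by omega
  have h4 : d * mm q = (x + 1) * P + 1 := by
    have h5 : (x + 1) ^ k = (x + 1) * (x + 1) ^ (k - 1) := by
      rw [← pow_succ', Nat.sub_add_cancel (by omega)]
    rw [h5, ← hP] at h1
    have h6 : x * (d * mm q) = x * ((x + 1) * P + 1) := by linarith only [h1]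
    exact Nat.eq_of_mul_eq_mul_left (by omega) h6
  have hP5 : x + 2 ≤ P := by
    have h5 : (x + 1) ^ 2 ≤ (x + 1) ^ (k - 1) := Nat.pow_le_pow_right (by omega) (by omega)
    rw [← hP] at h5
    by_contra hcon
    push Not at hcon
    have : x * P ≤ x * (x + 1) := Nat.mul_le_mul_left _ (by omega)
    linarith only [hu, h5, this]
  have h7 : 5 * mm q ≤ 7 * a := by
    by_contra hcon
    push Not at hcon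
    have h8 : d * (7 * a) < d * (5 * mm q) := Nat.mul_lt_mul_of_pos_left hcon (by omega)
    have h9 : 3 * P ≤ x * P := Nat.mul_le_mul_right _ (by omega)
    linarith only [hu, h2, hP, h4, hP5, h8, h9]
  have hlt : a < mm q := by
    by_contra hcon
    push Not at hcon
    have : d * mm q ≤ d * a := Nat.mul_le_mul_left _ hcon
    linarith only [h2, hP, h4, this]
  rcases Om.large h ho h7 with h8 | h8 | h8 | h8 | h8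
  · omega
  · -- `a = (q³ - 1)(q + 1) > n`
    have hn := mm_cast hq
    have h10 : (a : ℤ) = ((q : ℤ) ^ 3 - 1) * (q + 1) := by
      rw [h8]
      have : 1 ≤ q ^ 3 := Nat.one_le_pow _ _ (by omega)
      push_cast [Nat.cast_sub this]
      ring
    have h11 : (a : ℤ) < mm q := by exact_mod_cast hlt
    have hq3 : (3 : ℤ) ≤ q := by exact_mod_cast hq
    rw [h10, hn] at h11
    nlinarith only [hq, hlt, hn, h10]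
  · -- `a = (q³ + 1)(q - 1)`
    have hn := mm_cast hq
    have h10 : (a : ℤ) = ((q : ℤ) ^ 3 + 1) * (q - 1) := by
      rw [h8]
      have : 1 ≤ q := by omega
      push_cast [Nat.cast_sub this]
      ring
    have hq3 : (3 : ℤ) ≤ q := by exact_mod_cast hq
    have e3 : (d : ℤ) * a = x * P := by exact_mod_cast h3
    have e4 : (d : ℤ) * mm q = (x + 1) * P + 1 := by exact_mod_cast h4
    have hd1 : (1 : ℤ) ≤ d := by exact_mod_cast hd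
    set Q : ℤ := (q : ℤ) with hQ
    set D : ℤ := (d : ℤ) with hD
    set U : ℤ := (x : ℤ) + 1 with hU
    -- `P = D G - 1`
    have e5 : (P : ℤ) = D * (Q ^ 3 - Q ^ 2 - Q + 2) - 1 := by
      have : D * ((mm q : ℕ) : ℤ) - D * a = P + 1 := by rw [e4, e3, hU]; ring
      rw [hn, h10] at this
      linear_combination -this
    have e6 : D * (Q ^ 4 - Q ^ 2 + 1) = U * (D * (Q ^ 3 - Q ^ 2 - Q + 2) - 1) + 1 := by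
      rw [← e5, ← hn, e4]
    exact core_lin hq3 hd1 e6
  · -- `a = q (q³ - 1) > n`
    have hn := mm_cast hq
    have h10 : (a : ℤ) = (q : ℤ) * ((q : ℤ) ^ 3 - 1) := by
      rw [h8]
      have : 1 ≤ q ^ 3 := Nat.one_le_pow _ _ (by omega)
      push_cast [Nat.cast_sub this]
      ring
    have h11 : (a : ℤ) < mm q := by exact_mod_cast hlt
    have hq3 : (3 : ℤ) ≤ q := by exact_mod_cast hq
    rw [h10, hn] at h11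
    nlinarith only [hq, hlt, hn, h10]
  · have hn := mm_cast hq
    have h10 : (a : ℤ) = (q : ℤ) * ((q : ℤ) ^ 3 + 1) := by
      rw [h8]
      push_cast
      ring
    have h11 : (a : ℤ) < mm q := by exact_mod_cast hlt
    have hq3 : (3 : ℤ) ≤ q := by exact_mod_cast hq
    rw [h10, hn] at h11
    linarith only [hq, hlt, h8, hn, _root_.mul_self_nonneg (↑q : ℤ)]

/-- **`PSU`** -/
theorem dead_uni {u k d a : ℕ} (hu : IsPrimePow u) (hk : 3 ≤ k) (hko : Odd k) (hd : 1 ≤ d)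
    (h1 : d * mm q * (u + 1) = u ^ k + 1) (h2 : d * a + 1 = u ^ (k - 1)) (ho : Om p q a) : False := by
  have hq := h.hq
  have hu2 := hu.two_le
  have h73 := mm_ge h
  obtain ⟨j, hj⟩ : ∃ j, k - 1 = 2 * j := by
    obtain ⟨j, hj⟩ := hko
    exact ⟨j, by omega⟩
  obtain ⟨R, hR⟩ := exists_geom_alt (u := u) (by omega) j
  rw [← hj] at hR
  have h3 : d * a = (u + 1) * R := by omega
  have h4 : d * mm q = u * R + 1 := by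
    have h5 : u ^ k = u * u ^ (k - 1) := by
      rw [← pow_succ', Nat.sub_add_cancel (by omega)]
    rw [h5, ← hR] at h1
    have h6 : (u + 1) * (d * mm q) = (u + 1) * (u * R + 1) := by linarith only [h1]
    exact Nat.eq_of_mul_eq_mul_left (by omega) h6
  have hR2 : 2 ≤ R := by
    by_contra hcon
    have h5 : u ^ 2 ≤ u ^ (k - 1) := Nat.pow_le_pow_right (by omega) (by omega)
    rw [← hR] at h5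
    have h6 : R ≤ 1 := by omega
    have h7 : (u + 1) * R ≤ (u + 1) * 1 := Nat.mul_le_mul_left _ h6
    have h8 : u ≤ 2 := by nlinarith only [h5, h7]
    have h9 : u * R ≤ 2 * 1 := Nat.mul_le_mul h8 h6
    nlinarith only [hd, h73, h4, h7, h8]
  have hlt : mm q < a := by
    by_contra hcon
    push Not at hcon
    have : d * a ≤ d * mm q := Nat.mul_le_mul_left _ hcon
    linarith only [h2, hR, h4, hR2, this]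
  rcases Om.large h ho (by omega) with h8 | h8 | h8 | h8 | h8
  · omega
  · have hn := mm_cast hq
    have h10 : (a : ℤ) = ((q : ℤ) ^ 3 - 1) * (q + 1) := by
      rw [h8]
      have : 1 ≤ q ^ 3 := Nat.one_le_pow _ _ (by omega)
      push_cast [Nat.cast_sub this]
      ring
    have hq3 : (3 : ℤ) ≤ q := by exact_mod_cast hq
    have e3 : (d : ℤ) * a = (u + 1) * R := by exact_mod_cast h3
    have e4 : (d : ℤ) * mm q = u * R + 1 := by exact_mod_cast h4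
    have hd1 : (1 : ℤ) ≤ d := by exact_mod_cast hd
    have e5 : (R : ℤ) = (d : ℤ) * ((q : ℤ) ^ 3 + (q : ℤ) ^ 2 - q - 2) + 1 := by
      have : (d : ℤ) * a - d * ((mm q : ℕ) : ℤ) = R - 1 := by rw [e4, e3]; ring
      rw [hn, h10] at this
      linear_combination -this
    refine core_uni (Q := (q : ℤ)) (D := (d : ℤ)) (U := (u : ℤ)) hq3 hd1 ?_
    rw [← e5, ← hn, e4]
  · have hn := mm_cast hq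
    have h10 : (a : ℤ) = ((q : ℤ) ^ 3 + 1) * (q - 1) := by
      rw [h8]
      have : 1 ≤ q := by omega
      push_cast [Nat.cast_sub this]
      ring
    have h11 : ((mm q : ℕ) : ℤ) < a := by exact_mod_cast hlt
    have hq3 : (3 : ℤ) ≤ q := by exact_mod_cast hq
    rw [h10, hn] at h11
    have q2 : 3 * (q : ℤ) ≤ (q : ℤ) ^ 2 := by nlinarith only [hq]
    have q3 : 3 * (q : ℤ) ^ 2 ≤ (q : ℤ) ^ 3 := by nlinarith only [hq]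
    linarith only [hlt, hn, h10, q2, q3]
  · have hn := mm_cast hq
    have h10 : (a : ℤ) = (q : ℤ) * ((q : ℤ) ^ 3 - 1) := by
      rw [h8]
      have : 1 ≤ q ^ 3 := Nat.one_le_pow _ _ (by omega)
      push_cast [Nat.cast_sub this]
      ring
    have hq5 : (5 : ℤ) ≤ q := by exact_mod_cast h.q5
    have e3 : (d : ℤ) * a = (u + 1) * R := by exact_mod_cast h3
    have e4 : (d : ℤ) * mm q = u * R + 1 := by exact_mod_cast h4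
    have hd1 : (1 : ℤ) ≤ d := by exact_mod_cast hd
    have e5 : (R : ℤ) = (d : ℤ) * ((q : ℤ) ^ 2 - q - 1) + 1 := by
      have : (d : ℤ) * a - d * ((mm q : ℕ) : ℤ) = R - 1 := by rw [e4, e3]; ring
      rw [hn, h10] at this
      linear_combination -this
    obtain ⟨-, h11⟩ := core_uni_sub (Q := (q : ℤ)) (D := (d : ℤ)) (U := (u : ℤ)) hq5 hd1 (by rw [← e5, ← hn, e4])
    have h12 : u = q * (q + 1) := by exact_mod_cast h11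
    exact not_pp_mul_succ (a := q) (by omega) (h12 ▸ hu)
  · have hn := mm_cast hq
    have h10 : (a : ℤ) = (q : ℤ) * ((q : ℤ) ^ 3 + 1) := by
      rw [h8]
      push_cast
      ring
    have hq5 : (5 : ℤ) ≤ q := by exact_mod_cast h.q5
    have e3 : (d : ℤ) * a = (u + 1) * R := by exact_mod_cast h3
    have e4 : (d : ℤ) * mm q = u * R + 1 := by exact_mod_cast h4
    have hd1 : (1 : ℤ) ≤ d := by exact_mod_cast hd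
    have e5 : (R : ℤ) = (d : ℤ) * ((q : ℤ) ^ 2 + q - 1) + 1 := by
      have : (d : ℤ) * a - d * ((mm q : ℕ) : ℤ) = R - 1 := by rw [e4, e3]; ring
      rw [hn, h10] at this
      linear_combination -this
    obtain ⟨-, h11⟩ := core_uni_add (Q := (q : ℤ)) (D := (d : ℤ)) (U := (u : ℤ)) hq5 hd1 (by rw [← e5, ← hn, e4])
    obtain ⟨t, rfl⟩ : ∃ t, q = t + 1 := ⟨q - 1, by omega⟩
    have h12 : u = t * (t + 1) := by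
      push_cast at h11
      have : (u : ℤ) = t * (t + 1) := by rw [h11]; ring
      exact_mod_cast this
    exact not_pp_mul_succ (a := t) (by omega) (h12 ▸ hu)

/-- **Linear type, `d = 1`**: symplectic and orthogonal groups, `PSL` over small fields. -/
theorem dead_plus {u k c a : ℕ} (hu : IsPrimePow u) (hk : 3 ≤ k) (hc : c = 1 ∨ c = 2 ∧ Odd u)
    (h1 : mm q * (u - 1) + 1 = u ^ k) (h2 : c * a + 1 = u ^ (k - 1)) (ho : Om p q a) : False := by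
  have hq := h.hq
  have hu2 := hu.two_le
  have h73 := mm_ge h
  have h9 : 9 ≤ q ^ 2 := by nlinarith only [hq]
  obtain ⟨x, rfl⟩ : ∃ x, u = x + 1 := ⟨u - 1, by omega⟩
  rw [Nat.add_sub_cancel] at h1
  obtain ⟨P, hP⟩ := exists_geom x (k - 1)
  have h3 : c * a = x * P := by omega
  have h4 : mm q = (x + 1) * P + 1 := by
    have h5 : (x + 1) ^ k = (x + 1) * (x + 1) ^ (k - 1) := by
      rw [← pow_succ', Nat.sub_add_cancel (by omega)]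
    rw [h5, ← hP] at h1
    have h6 : x * mm q = x * ((x + 1) * P + 1) := by linarith only [h1]
    exact Nat.eq_of_mul_eq_mul_left (by omega) h6
  have hP5 : x + 2 ≤ P := by
    have h5 : (x + 1) ^ 2 ≤ (x + 1) ^ (k - 1) := Nat.pow_le_pow_right (by omega) (by omega)
    rw [← hP] at h5
    by_contra hcon
    push Not at hcon
    have : x * P ≤ x * (x + 1) := Nat.mul_le_mul_left _ (by omega)
    linarith only [hu2, h5, this]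
  have hco : Nat.Coprime (x + 1) P := by
    rw [Nat.coprime_comm]
    refine Nat.Coprime.coprime_dvd_right (dvd_pow_self (x + 1) (show k - 1 ≠ 0 by omega)) ?_
    rw [← hP, mul_comm]
    simp
  rcases split h hu hco h4 with ⟨h5, h6⟩ | h5
  · omega
  · have hPa : P ∣ a := by
      rcases hc with rfl | ⟨rfl, hodd⟩
      · rw [one_mul] at h3
        exact h3 ▸ Dvd.intro_left _ rfl
      · obtain ⟨y, hy⟩ := hodd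
        have hx : x = 2 * y := by omega
        subst hx
        exact ⟨y, by linarith only [hP, h2]⟩
    have ha0 : 0 < a := by
      by_contra hcon
      have : a = 0 := by omega
      subst this
      have : 0 < x * P := Nat.mul_pos (by omega) (by omega)
      omega
    have h6 := Nat.le_of_dvd (by omega) (Om.sq h ho (h5.trans hPa))
    have h7 := Nat.le_of_dvd ha0 hPa
    have h8 := Nat.le_of_dvd (by omega) h5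
    have hc2 : c ≤ 2 := by omega
    have h10 : c * a ≤ 2 * q ^ 2 := Nat.mul_le_mul hc2 h6
    have h11 : x * q ^ 2 ≤ x * P := Nat.mul_le_mul_left _ (by omega)
    have hx2 : x ≤ 2 := by
      by_contra hcon
      push Not at hcon
      have : 3 * q ^ 2 ≤ x * q ^ 2 := Nat.mul_le_mul_right _ hcon
      omega
    have h12 : (x + 1) * P ≤ 3 * q ^ 2 := Nat.mul_le_mul (by omega) (by omega)
    have h13 := mm_eq hq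
    have h14 : 8 ≤ q ^ 2 - 1 := by omega
    have h15 : q ^ 2 * 8 ≤ q ^ 2 * (q ^ 2 - 1) := Nat.mul_le_mul_left _ h14
    omega

/-- **Unitary type, `d = 1`**: symplectic and orthogonal groups. -/
theorem dead_minus {u k c a : ℕ} (hu : IsPrimePow u) (hk : 3 ≤ k) (hko : Odd k) (hc : c = 1 ∨ c = 2 ∧ Odd u)
    (h1 : mm q * (u + 1) = u ^ k + 1) (h2 : c * a + 1 = u ^ (k - 1)) (ho : Om p q a) : u = q ^ 2 := by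
  have hq := h.hq
  have hu2 := hu.two_le
  have h73 := mm_ge h
  have h9 : 9 ≤ q ^ 2 := by nlinarith only [hq]
  obtain ⟨j, hj⟩ : ∃ j, k - 1 = 2 * j := by
    obtain ⟨j, hj⟩ := hko
    exact ⟨j, by omega⟩
  obtain ⟨R, hR⟩ := exists_geom_alt (u := u) (by omega) j
  rw [← hj] at hR
  have h3 : c * a = (u + 1) * R := by omega
  have h4 : mm q = u * R + 1 := by
    have h5 : u ^ k = u * u ^ (k - 1) := by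
      rw [← pow_succ', Nat.sub_add_cancel (by omega)]
    rw [h5, ← hR] at h1
    have h6 : (u + 1) * mm q = (u + 1) * (u * R + 1) := by linarith only [h1]
    exact Nat.eq_of_mul_eq_mul_left (by omega) h6
  have hR0 : 0 < R := by
    by_contra hcon
    have : R = 0 := by omega
    subst this
    omega
  have hco : Nat.Coprime u R := by
    rw [Nat.coprime_comm]
    refine Nat.Coprime.coprime_dvd_right (dvd_pow_self u (show k - 1 ≠ 0 by omega)) ?_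
    rw [← hR, mul_comm]
    simp
  rcases split h hu hco h4 with ⟨h5, -⟩ | h5
  · exact h5
  · exfalso
    have hRa : R ∣ a := by
      rcases hc with rfl | ⟨rfl, hodd⟩
      · rw [one_mul] at h3
        exact h3 ▸ Dvd.intro_left _ rfl
      · obtain ⟨y, hy⟩ := hodd
        exact ⟨y + 1, by rw [hy] at h3; linarith only [h3]⟩
    have ha0 : 0 < a := by
      by_contra hcon
      have : a = 0 := by omega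
      subst this
      have : 0 < (u + 1) * R := Nat.mul_pos (by omega) hR0
      omega
    have h6 := Nat.le_of_dvd (by omega) (Om.sq h ho (h5.trans hRa))
    have h8 := Nat.le_of_dvd hR0 h5
    have hc2 : c ≤ 2 := by omega
    have h10 : c * a ≤ 2 * q ^ 2 := Nat.mul_le_mul hc2 h6
    have h11 : (u + 1) * q ^ 2 ≤ (u + 1) * R := Nat.mul_le_mul_left _ (by omega)
    have h12 : 3 * q ^ 2 ≤ (u + 1) * q ^ 2 := Nat.mul_le_mul_right _ (by omega)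
    omega

/-- an odd prime divisor of `q² + 1` -/
theorem exists_prime_sq : ∃ t : ℕ, t.Prime ∧ t ≠ 2 ∧ t ∣ q ^ 2 + 1 := by
  have hq := h.hq
  have h9 : 9 ≤ q ^ 2 := by nlinarith
  by_contra hcon
  push Not at hcon
  have h1 : ∀ t : ℕ, t.Prime → t ∣ q ^ 2 + 1 → t = 2 := fun t ht hd => by
    by_contra h2
    exact hcon t ht h2 hd
  have h2 := Nat.eq_prime_pow_of_unique_prime_dvd (n := q ^ 2 + 1) (p := 2) (by omega) (fun {t} ht hd => h1 t ht hd)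
  have h3 : 3 ≤ (q ^ 2 + 1).primeFactorsList.length := by
    by_contra hcon2
    push Not at hcon2
    have : 2 ^ (q ^ 2 + 1).primeFactorsList.length ≤ 2 ^ 2 := Nat.pow_le_pow_right (by norm_num) (by omega)
    omega
  have h4 : 4 ∣ q ^ 2 + 1 := by
    rw [h2]
    exact Dvd.dvd.trans (by norm_num : 4 ∣ 2 ^ 3) (pow_dvd_pow 2 h3)
  have h5 : q ^ 2 % 4 = ((q % 4) ^ 2) % 4 := by rw [Nat.pow_mod]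
  have h6 : q % 4 < 4 := Nat.mod_lt _ (by norm_num)
  interval_cases hq4 : q % 4 <;> (clear * - h2 h4 h5; omega)

/-- an odd prime divisor of `q² + 1` is not a member of `Om`. -/
theorem not_om_sq {t : ℕ} (ht : t.Prime) (ht2 : t ≠ 2) (hd : t ∣ q ^ 2 + 1) : ¬ Om p q t := by
  intro ho
  have hq := h.hq
  have h1 := Om.prime h ht ho
  have h2 := mm_add_sq hq
  rcases h1 with h3 | h3 | h3
  · -- `q⁴ - q² + 1 = (q² + 1)(q² - 2) + 3`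
    have h4 : mm q + 3 * q ^ 2 = (q ^ 2 + 1) ^ 2 := by linarith only [h2]
    have h5 : t ∣ 3 * q ^ 2 := by
      have : t ∣ mm q + 3 * q ^ 2 := by rw [h4]; exact Dvd.dvd.pow hd two_ne_zero
      exact (Nat.dvd_add_right h3).1 this
    rcases ht.dvd_mul.1 h5 with h6 | h6
    · have := Nat.le_of_dvd (by norm_num) h6
      have := prime_mm_ge h ht h3
      omega
    · exact not_dvd_q h ht h3 (ht.dvd_of_dvd_pow h6)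
  · have h4 : t ∣ 1 := (Nat.dvd_add_right (dvd_pow h3 two_ne_zero)).1 hd
    exact ht.one_lt.ne' (Nat.dvd_one.1 h4)
  · have h1q : 1 ≤ q ^ 6 := Nat.one_le_pow _ _ (by omega)
    have h4 : t ∣ q ^ 6 + 1 := by
      have : q ^ 6 + 1 = (q ^ 2 + 1) * mm q := by
        have h5 := mm_cast hq
        zify
        rw [h5]
        ring
      rw [this]
      exact Dvd.dvd.mul_right hd _
    have h5 : t ∣ 2 := by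
      have h6 : q ^ 6 + 1 = (q ^ 6 - 1) + 2 := by omega
      rw [h6] at h4
      exact (Nat.dvd_add_right h3).1 h4
    exact ht2 ((Nat.prime_dvd_prime_iff_eq ht Nat.prime_two).1 h5)

end Cfsg.Agent.R2.Spec.X1.TI
end

-- part: R2/Spec/X1/TI/Sit
section
/-!
# Identification of `³D₄(q)`: the situation (helper134, statement S3478)

`Sit p q S` : every element order of `S` is in `Om p q`, and `n = mm q = q⁴ - q² + 1` is an element order (`Par p q`).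
* `Sit.ord`, `Sit.dvd_mm`, `Sit.prime`, `Sit.mm_dvd_card`, `Sit.not_two`, `Sit.not_ord`, `Sit.not_near`;
* `Sit.card_eq` : a cyclic subgroup `T` with `s ∣ |T|`, `s ∣ n`, containing the centralizers of its elements of order `s`, has
  order `n`; `Sit.exact` : the same from `CycExact`;
* `Sit.exists_prime` : a prime `s ∣ n` (`s ≥ 13`, `s ∣ |S|`);
* `Sit.sq` : there is an odd prime divisor of `q² + 1`, which does not divide `|S|`.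
-/

set_option autoImplicit false
set_option linter.unusedSectionVars false

namespace Cfsg.Agent.R2.Spec.X1.TI

open Cfsg.Agent.R2.Spec.X1.TD Cfsg.Agent.H129.CycT Cfsg.Agent.H564.NearTwo

/-- the situation -/
structure Sit (p q : ℕ) (S : Type*) [Group S] : Prop where
  par : Par p q
  om : ∀ x : S, Om p q (orderOf x)
  mm : ∃ x : S, orderOf x = mm q

namespace Sit

variable {p q : ℕ} {S : Type*} [Group S]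

theorem congr {T : Type*} [Group T] (h : Sit p q S) (e : S ≃* T) : Sit p q T where
  par := h.par
  om x := by
    have h1 := h.om (e.symm x)
    have h2 : orderOf (e.symm x) = orderOf x := orderOf_injective e.symm.toMonoidHom e.symm.injective x
    rwa [h2] at h1
  mm := by
    obtain ⟨x, hx⟩ := h.mm
    exact ⟨e x, by rw [← hx]; exact orderOf_injective e.toMonoidHom e.injective x⟩

variable (h : Sit p q S)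

include h

/-- an element order is in `Om` -/
theorem ord {a : ℕ} (ha : ∃ x : S, orderOf x = a) : Om p q a := by
  obtain ⟨x, rfl⟩ := ha
  exact h.om x

/-- an element order divisible by a prime divisor of `n` divides `n` -/
theorem dvd_mm {a s : ℕ} (ha : ∃ x : S, orderOf x = a) (hs : s.Prime) (hsa : s ∣ a) (hsn : s ∣ R2.Spec.X1.TD.mm q) :
    a ∣ R2.Spec.X1.TD.mm q := Om.dvd_mm h.par (h.ord ha) hs hsa hsn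

/-- no element of order `t s`, `s ∣ n`, `t` not dividing `n` -/
theorem not_ord {t s : ℕ} (hs : s.Prime) (hsn : s ∣ R2.Spec.X1.TD.mm q) (ht : ¬ t ∣ R2.Spec.X1.TD.mm q) :
    ¬ ∃ x : S, orderOf x = t * s := fun hx =>
  ht ((Dvd.intro _ rfl).trans (h.dvd_mm hx hs (Dvd.intro_left _ rfl) hsn))

theorem not_two {s : ℕ} (hs : s.Prime) (hsn : s ∣ R2.Spec.X1.TD.mm q) : ¬ ∃ x : S, orderOf x = 2 * s :=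
  h.not_ord hs hsn fun h2 => by
    have := Nat.odd_iff.1 (mm_odd h.par)
    omega

theorem two_lt {s : ℕ} (hs : s.Prime) (hsn : s ∣ R2.Spec.X1.TD.mm q) : 13 ≤ s := prime_mm_ge h.par hs hsn

omit h in
theorem adj_dvd {r s : ℕ} (h : Sit p q S) (hsn : s ∣ R2.Spec.X1.TD.mm q) (ha : H94.PG.Adj S s r) : r ∣ R2.Spec.X1.TD.mm q := by
  obtain ⟨hs, hr, hne, x, y, hx, hy, hxy⟩ := ha
  have hco : (orderOf x).Coprime (orderOf y) := by rw [hx, hy]; exact (Nat.coprime_primes hs hr).2 hne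
  have h1 := hxy.orderOf_mul_eq_mul_orderOf_of_coprime hco
  rw [hx, hy] at h1
  exact (Dvd.intro_left _ rfl).trans (h.dvd_mm ⟨x * y, h1⟩ hs (Dvd.intro _ rfl) hsn)

theorem not_near {s : ℕ} (hs : s.Prime) (hsn : s ∣ R2.Spec.X1.TD.mm q) : ¬ Near S s := by
  have h2 : ¬ 2 ∣ R2.Spec.X1.TD.mm q := fun h2 => by
    have := Nat.odd_iff.1 (mm_odd h.par)
    omega
  rintro (rfl | h3 | ⟨r, h3, h4⟩)
  · exact h2 hsn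
  · exact h2 (h.adj_dvd hsn h3)
  · exact h2 (h.adj_dvd (h.adj_dvd hsn h3) h4)

section fin

variable [Finite S]

theorem mm_dvd_card : R2.Spec.X1.TD.mm q ∣ Nat.card S := by
  obtain ⟨x, hx⟩ := h.mm
  rw [← hx]
  exact orderOf_dvd_natCard x

theorem prime {t : ℕ} (ht : t.Prime) (hd : t ∣ Nat.card S) : t ∣ R2.Spec.X1.TD.mm q ∨ t ∣ q ∨ t ∣ q ^ 6 - 1 := by
  have := Fact.mk ht
  obtain ⟨x, hx⟩ := exists_prime_orderOf_dvd_card' t hd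
  exact Om.prime h.par ht (h.ord ⟨x, hx⟩)

/-- a prime divisor of `n` -/
theorem exists_prime : ∃ s : ℕ, s.Prime ∧ s ∣ R2.Spec.X1.TD.mm q ∧ 13 ≤ s ∧ s ∣ Nat.card S := by
  have h1 := mm_ge h.par
  obtain ⟨s, hs, hd⟩ := Nat.exists_prime_and_dvd (show R2.Spec.X1.TD.mm q ≠ 1 by omega)
  exact ⟨s, hs, hd, h.two_lt hs hd, hd.trans h.mm_dvd_card⟩

/-- an odd prime divisor of `q² + 1` does not divide `|S|` -/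
theorem sq : ∃ t : ℕ, t.Prime ∧ t ≠ 2 ∧ t ∣ q ^ 2 + 1 ∧ ¬ t ∣ Nat.card S := by
  obtain ⟨t, ht, ht2, hd⟩ := exists_prime_sq h.par
  refine ⟨t, ht, ht2, hd, fun h1 => ?_⟩
  have := Fact.mk ht
  obtain ⟨x, hx⟩ := exists_prime_orderOf_dvd_card' t h1
  exact not_om_sq h.par ht ht2 hd (h.ord ⟨x, hx⟩)

/-- `n` is prime to `M` if its prime divisors do not divide `M` -/
theorem coprime_of {M : ℕ} (hM : ∀ s : ℕ, s.Prime → s ∣ R2.Spec.X1.TD.mm q → ¬ s ∣ M) : Nat.Coprime (R2.Spec.X1.TD.mm q) M :=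
  Nat.Coprime.symm (Nat.coprime_of_dvd fun s hs h1 h2 => hM s hs h2 h1)

/-- **A cyclic subgroup with centralizers.** -/
theorem card_eq {T : Subgroup S} (hc : IsCyclic ↥T) {s : ℕ} (hs : s.Prime) (hsT : s ∣ Nat.card ↥T)
    (hcent : ∀ y ∈ T, orderOf y = s → Subgroup.centralizer {y} ≤ T) (hsn : s ∣ R2.Spec.X1.TD.mm q) :
    Nat.card ↥T = R2.Spec.X1.TD.mm q := by
  apply Nat.dvd_antisymm
  · obtain ⟨t, ht⟩ := hc.exists_generator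
    have h1 : orderOf (t : S) = Nat.card ↥T := by
      rw [Subgroup.orderOf_coe]
      exact orderOf_eq_card_of_forall_mem_zpowers ht
    exact h.dvd_mm ⟨_, h1⟩ hs hsT hsn
  · obtain ⟨x, hx⟩ := h.mm
    have hx0 : orderOf x ≠ 0 := (orderOf_pos x).ne'
    have ho : orderOf (x ^ (orderOf x / s)) = s := orderOf_pow_orderOf_div hx0 (by rw [hx]; exact hsn)
    obtain ⟨g, -, hg⟩ := Cfsg.Agent.H129.CycT.centralizer_conj hc hs hsT hcent ho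
    have h1 : g * x * g⁻¹ ∈ T := by
      rw [← hg, Subgroup.mem_centralizer_singleton_iff]
      exact (Commute.self_pow x _).eq
    have h2 : orderOf (g * x * g⁻¹) = orderOf x := by
      have := orderOf_injective (MulAut.conj g).toMonoidHom (MulAut.conj g).injective x
      simpa using this
    rw [← hx, ← h2, ← Subgroup.orderOf_mk _ h1]
    exact orderOf_dvd_natCard _

/-- **The isolated torus.** -/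
theorem exact {N s : ℕ} (hN : CycExact S N) (hs : s.Prime) (hsN : s ∣ N) (hsn : s ∣ R2.Spec.X1.TD.mm q) :
    N = R2.Spec.X1.TD.mm q := by
  obtain ⟨T, h1, rfl, h3⟩ := hN
  refine h.card_eq h1 hs hsN (fun y hy hyo => (h3 y hy ?_).le) hsn
  rintro rfl
  rw [orderOf_one] at hyo
  exact hs.one_lt.ne hyo

end fin

end Sit

end Cfsg.Agent.R2.Spec.X1.TI
end
end
end
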