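import Cfsg.Agent.R2.Spec.E.IsoRaw_m3
import Mathlib
import Cfsg.Agent.R2.Spec.E.Duel_m3
import Mathlib.Tactic
import Cfsg.Agent.R2.Spec.X2.NonSol_m3
import Cfsg.Agent.R2.Spec.EE.SmTFn_m3
import Cfsg.Agent.Lib.RingK
import Cfsg.Agent.H168.ExcE8_m3
import Cfsg.Agent.R2.Spec.EE.SokBase_m3
import Cfsg.Agent.R2.Spec.EE.CertSm_m3
import Cfsg.Agent.R2.Spec.X6.MovTwo_m3
import Cfsg.Agent.H168.ExcCover
import Cfsg.Agent.Prune
set_option linter.all false

section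
prune_inst 0x7fbffffeffffffffffff7e7ffff9fffe1bd7dfffffdffb43fffaebff9fff139e3bcdfbaf9de0f8ff0ed6e2b530b97853fb7eefffef6fdc7ffffdfff75ffbee7ff7ffbf8911d390240f746ffffbf17fca7f3fffffffffffffffffffffffffffbeffffffffffff

-- part: R2/Spec/E/NonCIneq
section
prune_inst 0x40000010000400004610400040000140000c121004000028000000000000000010000000000000000000000000000200000200080000002003180c00000000000000000000000000041000000000000
set_option linter.all false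
open scoped Cfsg.Agent.FastGrp

-- part: R2/Spec/E/NonCNum
section
/-!
# S3435, packet NON-C (helper10): the numeric core

* `core_size` : the final size estimate from the three inequalities;
* `pick_sign`, `pick_sign_one` : the sign of the second block, `gcd (u ^ k - ε, u ^ e - ε') ∣ 2`;
* `lnum'` : the relation of the two numbers of `L`, type II only for the families `FamII`, with the explicit values.
-/

set_option autoImplicit false

namespace Cfsg.Agent.R2.Spec.E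

open Cfsg Cfsg.Agent.H426.LieFam Cfsg.Agent.R2.Spec Cfsg.Agent.R2.Spec.P1 Cfsg.Agent.R2.Spec.F1

/-- the final size estimate -/
theorem core_size {X Y H Q : ℤ} (hX : 4 ≤ X) (hY : 2 ≤ Y) (hH : 1 ≤ H) (hQ : 4 ≤ Q)
    (h1 : X ≤ Q * H * (Y + 1) + 2 * Q ^ 2 + 1)
    (h2 : X * Y ≤ 4 * (Q * H * (X + Y)) + 7 * Q ^ 2)
    (h3 : Y ^ 2 ≤ 3 * H * (X * Y + 1) + 8 * Q + 1) : X * Y ≤ 108 * (Q * H) ^ 3 := by
  have hQH : 4 ≤ Q * H := by nlinarith only [hH, hQ]
  have hQQ : Q ≤ Q * H := by nlinarith only [hH, hQ]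
  obtain ⟨R, hR⟩ : ∃ R, R = Q * H := ⟨_, rfl⟩
  rw [← hR] at hQH hQQ h1 h2 ⊢
  have hR2 : 4 * R ≤ R ^ 2 := by nlinarith only [hQ, hQQ]
  have hR3 : 4 * R ^ 2 ≤ R ^ 3 := by
    have : 0 ≤ R ^ 2 * (R - 4) := mul_nonneg (sq_nonneg R) (by omega)
    linarith only [this]
  have hQ2 : Q ^ 2 ≤ R ^ 2 := by nlinarith only [hQ, hQQ]
  rcases le_or_gt Y X with hYX | hYX
  · by_cases hc : 7 * Q ^ 2 ≤ R * X
    · have h4 : X * Y ≤ 9 * R * X := by nlinarith only [hQ, h2, hQQ, hYX, hc]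
      have h5 : Y ≤ 9 * R := by
        by_contra hlt
        push Not at hlt
        nlinarith only [hQ, hQQ, hYX, h4, hlt]
      have h6 : X ≤ 12 * R ^ 2 := by nlinarith only [hQ, h2, h1, hQQ, hR2, hQ2]
      calc X * Y ≤ (12 * R ^ 2) * (9 * R) := mul_le_mul h6 h5 (by omega) (by positivity)
        _ = 108 * R ^ 3 := by ring
    · push Not at hc
      have h4 : X < 7 * Q := by
        by_contra hlt
        push Not at hlt
        have h5 : Q * (7 * Q) ≤ R * X := mul_le_mul hQQ hlt (by omega) (by omega)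
        linarith only [hc, h5]
      have h5 : X * Y ≤ 49 * Q ^ 2 := by nlinarith only [hX, hYX, h4]
      linarith only [hQ, hQQ, hR2, hR3, hQ2, h5]
  · by_cases hc : 7 * Q ^ 2 ≤ R * Y
    · have h4 : X * Y ≤ 9 * R * Y := by nlinarith only [hQ, h2, hQQ, hYX, hc]
      have h5 : X ≤ 9 * R := by
        by_contra hlt
        push Not at hlt
        nlinarith only [hY, h4, hlt]
      have h6 : 7 * Q ≤ H * Y := by
        have h7 : Q * (7 * Q) ≤ Q * (H * Y) := by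
          rw [hR] at hc
          linarith only [hc]
        exact le_of_mul_le_mul_left h7 (by omega)
      have h8 : Y ^ 2 ≤ 4 * H * (X * Y) := by
        have h9 : 4 * (H * Y) ≤ H * (X * Y) := by nlinarith only [hX, hQ, h6]
        have h10 : 2 * H ≤ H * Y := by nlinarith only [hY, hH]
        have h11 : 2 ≤ H * Y := by linarith only [hQ, h6]
        linarith only [hQ, h3, h6, h9, h10]
      have h12 : Y ≤ 4 * H * X := by
        by_contra hlt
        push Not at hlt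
        nlinarith only [hH, hQ, h6, h8, hlt]
      have h13 : X * Y ≤ 4 * H * X ^ 2 := by nlinarith only [hX, h12]
      have h14 : X ^ 2 ≤ 81 * R ^ 2 := by nlinarith only [hX, hQ, hQQ, hYX, h4]
      have h15 : 4 * H * X ^ 2 ≤ 4 * H * (81 * R ^ 2) := mul_le_mul_of_nonneg_left h14 (by omega)
      have h16 : 4 * H ≤ R := by rw [hR]; nlinarith only [hH, hQ]
      have h17 : (4 * H) * (81 * R ^ 2) ≤ R * (81 * R ^ 2) := mul_le_mul_of_nonneg_right h16 (by positivity)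
      have h18 : 0 ≤ R ^ 3 := by positivity
      linarith only [hQ, hQQ, hR2, hR3, h13, h15, h17]
    · push Not at hc
      have h4 : Y < 7 * Q := by
        by_contra hlt
        push Not at hlt
        have h5 : Q * (7 * Q) ≤ R * Y := mul_le_mul hQQ hlt (by omega) (by omega)
        linarith only [hc, h5]
      have h5 : X * Y ≤ 49 * Q ^ 2 := by nlinarith only [hY, hYX, h4]
      linarith only [hQ, hQQ, hR2, hR3, hQ2, h5]

/-- the sign of the second block if the first number is `u ^ k + 1` -/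
theorem pick_sign (u : ℤ) {k e : ℕ} (hk : 1 ≤ k) (he : 1 ≤ e) : ∃ s : ℤ, (s = 1 ∨ s = -1) ∧ (k = e → s = 1) ∧
    ∀ d : ℤ, d ∣ u ^ k + 1 → d ∣ u ^ e - s → d ∣ 2 := by
  obtain ⟨α, k1, hk1, hkα⟩ := Nat.exists_eq_two_pow_mul_odd (n := k) (by omega)
  obtain ⟨β, e1, he1, heβ⟩ := Nat.exists_eq_two_pow_mul_odd (n := e) (by omega)
  rcases le_or_gt β α with hβ | hβ
  · refine ⟨1, Or.inl rfl, fun _ => rfl, fun d h1 h2 => ?_⟩
    have h3 : k * e1 = e * (2 ^ (α - β) * k1) := by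
      obtain ⟨γ, rfl⟩ : ∃ γ, α = β + γ := ⟨α - β, by omega⟩
      rw [hkα, heβ, Nat.add_sub_cancel_left, pow_add]
      ring
    have h4 : d ∣ (u ^ k) ^ e1 - (-1) ^ e1 :=
      (show d ∣ u ^ k - (-1) by rw [sub_neg_eq_add]; exact h1).trans (sub_dvd_pow_sub_pow _ _ _)
    have h5 : d ∣ (u ^ e) ^ (2 ^ (α - β) * k1) - 1 ^ (2 ^ (α - β) * k1) := h2.trans (sub_dvd_pow_sub_pow _ _ _)
    rw [← pow_mul] at h4 h5
    rw [h3, he1.neg_one_pow] at h4
    rw [one_pow] at h5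
    have h6 := dvd_sub h4 h5
    have h7 : u ^ (e * (2 ^ (α - β) * k1)) - -1 - (u ^ (e * (2 ^ (α - β) * k1)) - 1) = 2 := by ring
    rwa [h7] at h6
  · refine ⟨-1, Or.inr rfl, fun h => ?_, fun d h1 h2 => ?_⟩
    · exfalso
      rw [hkα, heβ] at h
      obtain ⟨γ, rfl⟩ : ∃ γ, β = α + (γ + 1) := ⟨β - α - 1, by omega⟩
      rw [pow_add, mul_assoc] at h
      have h3 := Nat.eq_of_mul_eq_mul_left (by positivity) h
      rw [h3, pow_succ] at hk1
      exact Nat.not_even_iff_odd.2 hk1 ⟨2 ^ γ * e1, by ring⟩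
    · have h3 : e * k1 = k * (2 ^ (β - α) * e1) := by
        obtain ⟨γ, rfl⟩ : ∃ γ, β = α + γ := ⟨β - α, by omega⟩
        rw [hkα, heβ, Nat.add_sub_cancel_left, pow_add]
        ring
      have h4 : d ∣ (u ^ e) ^ k1 - (-1) ^ k1 := h2.trans (sub_dvd_pow_sub_pow _ _ _)
      have h5 : d ∣ (u ^ k) ^ (2 ^ (β - α) * e1) - (-1) ^ (2 ^ (β - α) * e1) :=
        (show d ∣ u ^ k - (-1) by rw [sub_neg_eq_add]; exact h1).trans (sub_dvd_pow_sub_pow _ _ _)
      have hev : Even (2 ^ (β - α) * e1) := by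
        obtain ⟨γ, hγ⟩ : ∃ γ, β - α = γ + 1 := ⟨β - α - 1, by omega⟩
        rw [hγ, pow_succ]
        exact ⟨2 ^ γ * e1, by ring⟩
      rw [← pow_mul] at h4 h5
      rw [h3, hk1.neg_one_pow] at h4
      rw [hev.neg_one_pow] at h5
      have h6 := dvd_sub h4 h5
      have h7 : u ^ (k * (2 ^ (β - α) * e1)) - -1 - (u ^ (k * (2 ^ (β - α) * e1)) - 1) = 2 := by ring
      rwa [h7] at h6

/-- the sign of the second block if the first number is `u ^ k - 1`, `k` odd -/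
theorem pick_sign_one (u : ℤ) {k e : ℕ} (hk : Odd k) {d : ℤ} (h1 : d ∣ u ^ k - 1) (h2 : d ∣ u ^ e + 1) : d ∣ 2 := by
  have h4 : d ∣ (u ^ e) ^ k - (-1) ^ k :=
    (show d ∣ u ^ e - (-1) by rw [sub_neg_eq_add]; exact h2).trans (sub_dvd_pow_sub_pow _ _ _)
  have h5 : d ∣ (u ^ k) ^ e - 1 ^ e := h1.trans (sub_dvd_pow_sub_pow _ _ _)
  rw [← pow_mul] at h4 h5
  rw [mul_comm e k, hk.neg_one_pow] at h4
  rw [one_pow] at h5
  have h6 := dvd_sub h4 h5
  have h7 : u ^ (k * e) - -1 - (u ^ (k * e) - 1) = 2 := by ring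
  rwa [h7] at h6

/-- `x ∣ n`, `y ∣ n`, `gcd x y ∣ g` : `x y ∣ g n` -/
theorem mul_dvd_of_gcd {x y n g : ℤ} (hx : x ∣ n) (hy : y ∣ n) (hg : ∀ d : ℤ, d ∣ x → d ∣ y → d ∣ g) :
    x * y ∣ g * n := by
  obtain ⟨γ, hγ⟩ := hg (Int.gcd x y) (Int.gcd_dvd_left _ _) (Int.gcd_dvd_right _ _)
  have h1 := Int.gcd_eq_gcd_ab x y
  obtain ⟨a, ha⟩ := hx
  obtain ⟨b, hb⟩ := hy
  refine ⟨γ * (Int.gcdA x y * b + Int.gcdB x y * a), ?_⟩
  calc g * n = γ * ((x * Int.gcdA x y + y * Int.gcdB x y) * n) := by rw [hγ, h1]; ring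
    _ = γ * (x * Int.gcdA x y * n + y * Int.gcdB x y * n) := by ring
    _ = γ * (x * Int.gcdA x y * (y * b) + y * Int.gcdB x y * (x * a)) := by rw [← hb, ← ha]
    _ = _ := by ring

end Cfsg.Agent.R2.Spec.E
end

-- part: R2/Spec/E/NonCIneq
section
/-!
# S3435, packet NON-C (helper10): the inequalities

* `zeroI` : the zero case is impossible in type I;
* `ineq_one`, `ineq_two`, `ineq_sq` : the three inequalities; `nonC_M` : the bound for `M`.
-/

set_option autoImplicit false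

namespace Cfsg.Agent.R2.Spec.E

open Cfsg Cfsg.Agent.H426.LieFam Cfsg.Agent.R2.Spec Cfsg.Agent.R2.Spec.P1 Cfsg.Agent.R2.Spec.F1

/-- the zero case is impossible in type I -/
theorem zeroI {p q : ℕ} {a b c g H M N T0 t0 ρ0 κ : ℤ} (hp : Prime (p : ℤ)) (hpq : (p : ℤ) ∣ (q : ℤ))
    (hκ : ¬ (p : ℤ) ∣ κ) (hg : ¬ (p : ℤ) ∣ g) (hI : TypI q a b c) (hM : ¬ (p : ℤ) ∣ M) (hH : H ∣ M)
    (hN : ¬ (p : ℤ) ∣ N) (ht : ¬ (p : ℤ) ∣ t0) (hT : T0 ∣ κ * N) (hz : a * H * ρ0 = g * c)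
    (hid : a * H * (t0 * T0) = g * b * N) : False := by
  obtain ⟨s, hs, hab, hc⟩ := hI
  have hqs : ¬ (p : ℤ) ∣ (q : ℤ) + s := by
    intro h
    have h1 : (p : ℤ) ∣ s := (dvd_add_right hpq).1 h
    have h2 : (p : ℤ) ∣ 1 := by
      rcases hs with rfl | rfl
      · exact h1
      · exact (dvd_neg).1 h1
    exact hp.not_isUnit (isUnit_of_dvd_one h2)
  rcases hab with ⟨ha, hb⟩ | ⟨ha, hb⟩
  · have h1 : (p : ℤ) ∣ a * H * (t0 * T0) := by
      rw [hid, hb]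
      exact ((hpq.mul_left g).mul_right N)
    rcases hp.dvd_or_dvd h1 with h2 | h2
    · rcases hp.dvd_or_dvd h2 with h3 | h3
      · rw [ha] at h3
        exact hqs h3
      · exact hM (h3.trans hH)
    · rcases hp.dvd_or_dvd h2 with h3 | h3
      · exact ht h3
      · rcases hp.dvd_or_dvd (h3.trans hT) with h4 | h4
        · exact hκ h4
        · exact hN h4
  · have h1 : (p : ℤ) ∣ g * c := by
      rw [← hz, ha]
      exact (hpq.mul_right H).mul_right ρ0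
    rcases hp.dvd_or_dvd h1 with h2 | h2
    · exact hg h2
    · exact hqs (hp.dvd_of_dvd_pow (h2.trans hc))

theorem abs_pm {x : ℤ} (h : x = 1 ∨ x = -1) : |x| = 1 := by
  rcases h with rfl | rfl <;> rfl

section

variable {X Y H Q M N g a b c ε s em : ℤ}

/-- one block -/
theorem ineq_one (hY2 : 2 ≤ Y) (hH : 1 ≤ H) (ha1 : 1 ≤ a) (haQ : a ≤ Q)
    (hcQ : |c| ≤ Q ^ 2) (hg : g = 1 ∨ g = 2) (hrel : a * M = b * N + c) (hgM : g * M = H * (X * Y - em))
    (hε : ε = 1 ∨ ε = -1) (hem : em = 1 ∨ em = -1) (hT : X - ε ∣ g * N)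
    (hz : a * H * (ε * Y - em) - g * c ≠ 0) : X ≤ Q * H * (Y + 1) + 2 * Q ^ 2 + 1 := by
  have hρ : |ε * Y - em| ≤ Y + 1 := by
    rcases hε with rfl | rfl <;> rcases hem with rfl | rfl <;> rw [abs_le] <;> constructor <;> (clear * - hY2; omega)
  have hI1 : a * H * (Y * (X - ε)) + (a * H * (ε * Y - em) - g * c) = g * b * N := by
    linear_combination g * hrel - a * hgM
  have hd1 : X - ε ∣ a * H * (ε * Y - em) - g * c := by
    have h1 : a * H * (ε * Y - em) - g * c = b * (g * N) - a * H * Y * (X - ε) := by linear_combination hI1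
    rw [h1]
    exact dvd_sub (hT.mul_left b) (Dvd.intro_left _ rfl)
  have hgc : |g * c| ≤ 2 * Q ^ 2 := by
    rw [abs_mul]
    have h0 := abs_nonneg c
    rcases hg with h | h <;> rw [h]
    · rw [abs_one]; omega
    · rw [abs_two]; omega
  have hb1 : |a * H * (ε * Y - em) - g * c| ≤ Q * H * (Y + 1) + 2 * Q ^ 2 := by
    have h1 : |a * H * (ε * Y - em)| ≤ Q * H * (Y + 1) := by
      rw [abs_mul, abs_of_pos (by positivity : (0 : ℤ) < a * H)]
      exact mul_le_mul (mul_le_mul_of_nonneg_right haQ (by omega)) hρ (abs_nonneg _) (by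
        have : 0 < Q := by omega
        positivity)
    calc _ ≤ |a * H * (ε * Y - em)| + |g * c| := abs_sub _ _
      _ ≤ _ := add_le_add h1 hgc
  have h2 := (Int.le_of_dvd (abs_pos.2 hz) ((dvd_abs _ _).2 hd1)).trans hb1
  rcases hε with rfl | rfl
  · linarith
  · linarith only [h2]

/-- two blocks -/
theorem ineq_two (hX4 : 4 ≤ X) (hY2 : 2 ≤ Y) (hH : 1 ≤ H) (ha1 : 1 ≤ a) (haQ : a ≤ Q)
    (hcQ : |c| ≤ Q ^ 2) (hg : g = 1 ∨ (g = 2 ∧ 9 ≤ X ∧ 3 ≤ Y)) (hrel : a * M = b * N + c)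
    (hgM : g * M = H * (X * Y - em)) (hε : ε = 1 ∨ ε = -1) (hs : s = 1 ∨ s = -1) (hem : em = 1 ∨ em = -1)
    (hT2 : (X - ε) * (Y - s) ∣ g * (g * N))
    (hz : a * H * (s * X + ε * Y - ε * s - em) - g * c ≠ 0) : X * Y ≤ 4 * (Q * H * (X + Y)) + 7 * Q ^ 2 := by
  have hI2 : a * H * (1 * ((X - ε) * (Y - s))) + (a * H * (s * X + ε * Y - ε * s - em) - g * c) = g * b * N := by
    linear_combination g * hrel - a * hgM
  have hρ2 : |s * X + ε * Y - ε * s - em| ≤ X + Y + 2 := by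
    rcases hs with rfl | rfl <;> rcases hε with rfl | rfl <;> rcases hem with rfl | rfl <;> rw [abs_le] <;>
      constructor <;> (clear * - hX4 hY2; omega)
  have hd2 : (X - ε) * (Y - s) ∣ g * (a * H * (s * X + ε * Y - ε * s - em) - g * c) := by
    have h2 : g * (a * H * (s * X + ε * Y - ε * s - em) - g * c) =
        b * (g * (g * N)) - g * (a * H) * ((X - ε) * (Y - s)) := by
      linear_combination g * hI2
    rw [h2]
    exact dvd_sub (hT2.mul_left b) (Dvd.intro_left _ rfl)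
  have hg0 : 0 < g := by rcases hg with h | ⟨h, -, -⟩ <;> omega
  have hQ0 : 0 < Q := by omega
  have hb2' : |a * H * (s * X + ε * Y - ε * s - em) - g * c| ≤ Q * H * (X + Y + 2) + g * Q ^ 2 := by
    have h1 : |a * H * (s * X + ε * Y - ε * s - em)| ≤ Q * H * (X + Y + 2) := by
      rw [abs_mul, abs_of_pos (by positivity : (0 : ℤ) < a * H)]
      exact mul_le_mul (mul_le_mul_of_nonneg_right haQ (by omega)) hρ2 (abs_nonneg _) (by positivity)
    have h2 : |g * c| ≤ g * Q ^ 2 := by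
      rw [abs_mul, abs_of_pos hg0]
      exact mul_le_mul_of_nonneg_left hcQ hg0.le
    calc _ ≤ |a * H * (s * X + ε * Y - ε * s - em)| + |g * c| := abs_sub _ _
      _ ≤ _ := add_le_add h1 h2
  have h2' : (X - 1) * (Y - 1) ≤ g * (Q * H * (X + Y + 2) + g * Q ^ 2) := by
    have h2 := Int.le_of_dvd (abs_pos.2 (mul_ne_zero hg0.ne' hz)) ((dvd_abs _ _).2 hd2)
    rw [abs_mul, abs_of_pos hg0] at h2
    have h3 := mul_le_mul_of_nonneg_left hb2' hg0.le
    have h4 : (X - 1) * (Y - 1) ≤ (X - ε) * (Y - s) := by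
      refine mul_le_mul ?_ ?_ (by omega) ?_
      · rcases hε with rfl | rfl <;> omega
      · rcases hs with rfl | rfl <;> omega
      · rcases hε with rfl | rfl <;> omega
    exact h4.trans (h2.trans h3)
  have hQH0 : 0 ≤ Q * H := by positivity
  rcases hg with hg1 | ⟨hg2, hX9, hY3⟩
  · rw [hg1, one_mul, one_mul] at h2'
    have h3 : 3 * (X * Y) ≤ 8 * ((X - 1) * (Y - 1)) := by
      linarith only [hX4, hY2, mul_nonneg (show 0 ≤ X - 4 by omega) (show 0 ≤ Y - 2 by omega)]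
    have h4 : Q * H * (3 * (X + Y + 2)) ≤ Q * H * (4 * (X + Y)) := mul_le_mul_of_nonneg_left (by omega) hQH0
    linarith only [hX4, hY2, h2', h3, h4, sq_nonneg Q]
  · rw [hg2] at h2'
    have h3 : 16 * (X * Y) ≤ 27 * ((X - 1) * (Y - 1)) := by
      linarith only [hX9, hY3, mul_nonneg (show 0 ≤ X - 9 by omega) (show 0 ≤ Y - 3 by omega)]
    have h4 : Q * H * (6 * (X + Y + 2)) ≤ Q * H * (7 * (X + Y)) := mul_le_mul_of_nonneg_left (by omega) hQH0
    linarith only [h2', hX9, hY3, h3, h4, sq_nonneg Q]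

/-- the square -/
theorem ineq_sq (hX4 : 4 ≤ X) (hY2 : 2 ≤ Y) (hH : 1 ≤ H) (hM0 : 0 ≤ M) (hN0 : 1 ≤ N) (hQ : 4 ≤ Q)
    (hb1 : 1 ≤ b) (hab : 2 * a ≤ 3 * b) (hcb : |c| ≤ 2 * Q * b) (hg : g = 1 ∨ g = 2)
    (hrel : a * M = b * N + c) (hgM : g * M = H * (X * Y - em)) (hem : em = 1 ∨ em = -1)
    (hT3 : (Y - 1) * (Y - -1) ∣ g * (g * N)) : Y ^ 2 ≤ 3 * H * (X * Y + 1) + 8 * Q + 1 := by
  have hg0 : 0 < g := by omega
  have h4 := Int.le_of_dvd (by positivity) hT3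
  have h5 : b * (2 * N) ≤ b * (3 * M + 4 * Q) := by
    have h6 : b * (2 * N) = 2 * a * M - 2 * c := by linear_combination -2 * hrel
    have h7 : 2 * a * M ≤ 3 * b * M := mul_le_mul_of_nonneg_right hab hM0
    have h8 := neg_abs_le c
    rw [h6]
    linarith
  have h6 : 2 * N ≤ 3 * M + 4 * Q := le_of_mul_le_mul_left h5 (by omega)
  have h7 : g * M ≤ H * (X * Y + 1) := by
    rw [hgM]
    refine mul_le_mul_of_nonneg_left ?_ (by omega)
    rcases hem with rfl | rfl <;> omega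
  have h8 : (Y - 1) * (Y - -1) = Y ^ 2 - 1 := by ring
  rw [h8] at h4
  have h9 : 0 ≤ H * (X * Y + 1) := by positivity
  rcases hg with h | h <;> rw [h] at h4 h7
  · linarith
  · linarith

/-- the bound for `M` -/
theorem nonC_M (hX4 : 4 ≤ X) (hY2 : 2 ≤ Y) (hH : 1 ≤ H) (hM0 : 0 ≤ M) (hN0 : 1 ≤ N) (hQ : 4 ≤ Q)
    (ha1 : 1 ≤ a) (haQ : a ≤ Q) (hb1 : 1 ≤ b) (hab : 2 * a ≤ 3 * b) (hcQ : |c| ≤ Q ^ 2) (hcb : |c| ≤ 2 * Q * b)
    (hg : g = 1 ∨ (g = 2 ∧ 9 ≤ X ∧ 3 ≤ Y)) (hrel : a * M = b * N + c)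
    (hgM : g * M = H * (X * Y - em)) (hε : ε = 1 ∨ ε = -1) (hs : s = 1 ∨ s = -1) (hem : em = 1 ∨ em = -1)
    (hT : X - ε ∣ g * N) (hz1 : a * H * (ε * Y - em) - g * c ≠ 0)
    (hT2 : (X - ε) * (Y - s) ∣ g * (g * N))
    (hz2 : a * H * (s * X + ε * Y - ε * s - em) - g * c ≠ 0)
    (hT3 : (Y - 1) * (Y - -1) ∣ g * (g * N)) : M ≤ 109 * (H ^ 4 * Q ^ 3) := by
  have hg' : g = 1 ∨ g = 2 := by (clear * - hg; tauto)
  have h1 := ineq_one hY2 hH ha1 haQ hcQ hg' hrel hgM hε hem hT hz1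
  have h2 := ineq_two hX4 hY2 hH ha1 haQ hcQ hg hrel hgM hε hs hem hT2 hz2
  have h3 := ineq_sq hX4 hY2 hH hM0 hN0 hQ hb1 hab hcb hg' hrel hgM hem hT3
  have hfin := core_size hX4 hY2 hH hQ h1 h2 h3
  have h4 : M ≤ g * M := by
    rcases hg' with h | h <;> rw [h] <;> omega
  have h5 : g * M ≤ H * (X * Y + 1) := by
    rw [hgM]
    refine mul_le_mul_of_nonneg_left ?_ (by omega)
    rcases hem with rfl | rfl <;> omega
  have h6 : (1 : ℤ) ≤ (Q * H) ^ 3 := one_le_pow₀ (by nlinarith only [hH, hQ])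
  calc M ≤ H * (X * Y + 1) := h4.trans h5
    _ ≤ H * (109 * (Q * H) ^ 3) := mul_le_mul_of_nonneg_left (by omega) (by omega)
    _ = _ := by ring

/-- the zero case of one block in type II -/
theorem zeroII_one (hY4 : 4 ≤ Y) (hH : 1 ≤ H) (hg : g = 1 ∨ g = 2) (hc : c = 1 ∨ c = -1)
    (hε : ε = 1 ∨ ε = -1) (hem : em = 1 ∨ em = -1) (h1 : H * (ε * Y - em) = g * c) : False := by
  have h2 : 3 ≤ |ε * Y - em| := by
    rcases hε with rfl | rfl <;> rcases hem with rfl | rfl <;> rw [le_abs] <;> omega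
  have h3 : |H * (ε * Y - em)| ≤ 2 := by
    rw [h1, abs_mul, abs_pm hc, mul_one]
    rcases hg with rfl | rfl <;> norm_num
  rw [abs_mul, abs_of_pos (by omega : (0 : ℤ) < H)] at h3
  nlinarith only [hH, h2, h3]

/-- the zero case of two blocks in type II, different blocks -/
theorem zeroII_two (hY4 : 4 ≤ Y) (hX4 : 4 ≤ X) (hXY : 4 * Y ≤ X ∨ 4 * X ≤ Y) (hH : 1 ≤ H) (hg : g = 1 ∨ g = 2)
    (hc : c = 1 ∨ c = -1) (hε : ε = 1 ∨ ε = -1) (hs : s = 1 ∨ s = -1) (hem : em = 1 ∨ em = -1)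
    (h1 : H * (s * X + ε * Y - ε * s - em) = g * c) : False := by
  have h2 : 10 ≤ |s * X + ε * Y - ε * s - em| := by
    rw [le_abs]
    rcases hXY with h3 | h3 <;> rcases hs with rfl | rfl <;> rcases hε with rfl | rfl <;>
      rcases hem with rfl | rfl <;> (clear * - hY4 h3 hX4; omega)
  have h3 : |H * (s * X + ε * Y - ε * s - em)| ≤ 2 := by
    rw [h1, abs_mul, abs_pm hc, mul_one]
    rcases hg with rfl | rfl <;> norm_num
  rw [abs_mul, abs_of_pos (by omega : (0 : ℤ) < H)] at h3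
  nlinarith only [hH, h2, h3]

/-- the zero case of two blocks in type II, equal blocks -/
theorem zeroII_eq (hH : 1 ≤ H) (hg : g = 1 ∨ g = 2)
    (hc : c = 1 ∨ c = -1) (hε : ε = 1 ∨ ε = -1) (hs : s = -ε) (hem : em = 1 ∨ em = -1) (hXY : X = Y)
    (h1 : H * (s * X + ε * Y - ε * s - em) = g * c) : em = -1 ∧ c = 1 ∧ H = 1 ∧ g = 2 := by
  have h2 : H * (1 - em) = g * c := by
    rw [← h1, hs, hXY]
    rcases hε with rfl | rfl <;> ring
  rcases hem with rfl | rfl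
  · rw [sub_self, mul_zero] at h2
    rcases hg with h3 | h3 <;> rw [h3] at h2 <;> rcases hc with h4 | h4 <;> rw [h4] at h2 <;> norm_num at h2
  · rcases hg with h3 | h3 <;> rw [h3] at h2 ⊢ <;> rcases hc with h4 | h4 <;> rw [h4] at h2 ⊢ <;>
      refine ⟨?_, ?_, ?_, ?_⟩ <;> (clear * - h2 hH; omega)

end

end Cfsg.Agent.R2.Spec.E
end
end

-- part: R2/Spec/FIN/Chk
section
set_option linter.all false
open scoped Cfsg.Agent.FastGrp

-- part: R2/Spec/FIN/Loop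
section
/-!
# S3435, packet FIN: loops for the kernel (helper7)
-/

set_option autoImplicit false

namespace Cfsg.Agent.R2.Spec.FIN

/-- strict evaluation of a number -/
noncomputable def force {α : Type} (n : ℕ) (f : ℕ → α) : α := Nat.rec (f 0) (fun k _ => f (Nat.succ k)) n

theorem force_eq {α : Type} (n : ℕ) (f : ℕ → α) : force n f = f n := by cases n <;> rfl

/-- `f` holds below `n` -/
noncomputable def allTo (f : ℕ → Bool) (n : ℕ) : Bool := Nat.rec true (fun k ih => f k && ih) n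

theorem allTo_succ (f : ℕ → Bool) (n : ℕ) : allTo f (n + 1) = (f n && allTo f n) := rfl

theorem allTo_sound {f : ℕ → Bool} {n : ℕ} (h : allTo f n = true) : ∀ k, k < n → f k = true := by
  induction n with
  | zero => intro k hk; omega
  | succ n ih =>
    rw [allTo_succ, Bool.and_eq_true] at h
    intro k hk
    by_cases hkn : k = n
    · rw [hkn]; exact h.1
    · exact ih h.2 k (by omega)

/-- `g` holds for `v, v + 1, ...` as long as `x ^ k ≤ B` -/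
noncomputable def loopV (g : ℕ → Bool) (k B : ℕ) (fuel : ℕ) : ℕ → Bool :=
  Nat.rec (fun _ => false) (fun _ ih v => Nat.blt B (v ^ k) || (g v && force (v + 1) ih)) fuel

theorem loopV_succ (g : ℕ → Bool) (k B fuel v : ℕ) :
    loopV g k B (fuel + 1) v = (Nat.blt B (v ^ k) || (g v && loopV g k B fuel (v + 1))) := by
  change (Nat.blt B (v ^ k) || (g v && force (v + 1) (loopV g k B fuel))) = _
  rw [force_eq]

theorem loopV_sound {g : ℕ → Bool} {k B fuel : ℕ} : ∀ {v : ℕ}, loopV g k B fuel v = true →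
    ∀ x, v ≤ x → x ^ k ≤ B → g x = true := by
  induction fuel with
  | zero =>
    intro v h
    exact Bool.noConfusion h
  | succ fuel ih =>
    intro v h x hvx hxB
    rw [loopV_succ, Bool.or_eq_true, Bool.and_eq_true] at h
    have h0 : ¬ (Nat.blt B (v ^ k) = true) := by
      rw [Nat.blt_eq, not_lt]
      exact (Nat.pow_le_pow_left hvx k).trans hxB
    obtain ⟨h1, h2⟩ := h.resolve_left h0
    by_cases hvx' : x = v
    · rw [hvx']; exact h1
    · exact ih h2 x (by omega) hxB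

end Cfsg.Agent.R2.Spec.FIN
end

-- part: R2/Spec/FIN/Chk
section
/-!
# S3435, packet FIN: the search (helper7)

`F q = true` : for all classical groups `L` over the field with `q` elements, rank in the range of the size bound
(`C = 2 ^ 20`), there is no isolated number `P = ttor t' u i'` of a group `S` with five classes dividing an isolated
number `M` of `L` such that `M / P` is prime to the class `i`.
-/

set_option autoImplicit false

namespace Cfsg.Agent.R2.Spec.FIN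

open Cfsg.Agent.H426.LieFam Cfsg.Agent.R2.Spec Cfsg.Agent.R2.Spec.P1 Cfsg.Agent.R2.Spec.E

/-- `|s ^ k - 1|` for `s = q`, `s = - q` -/
def ab (neg : Bool) (q k : ℕ) : ℕ := bif neg && Nat.beq (k % 2) 1 then q ^ k + 1 else q ^ k - 1

/-- remove the common factors with `B` -/
def strip (B : ℕ) : ℕ → ℕ → ℕ
  | 0, x => x
  | k + 1, x => strip B k (x / Nat.gcd x B)

/-- product of `|s ^ d - 1|`, `d` a proper divisor of `i` -/
def Bf (neg : Bool) (q i : ℕ) : ℕ → ℕ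
  | 0 => 1
  | d + 1 => Bf neg q i d * (bif Nat.blt (d + 1) i && Nat.beq (i % (d + 1)) 0 then ab neg q (d + 1) else 1)

/-- `H` is divisible by a prime of the class `i` -/
def killH (neg : Bool) (q i H : ℕ) : Bool :=
  (fun y => Nat.blt 1 y && Nat.beq (H % y) 0 && Nat.beq (ab neg q i % y) 0 && Nat.beq (Nat.gcd y (Bf neg q i i)) 1)
    (strip (Bf neg q i i) 12 (Nat.gcd H (ab neg q i)))

/-- `N` is prime to all classes of `S` -/
noncomputable def wkill (N m u : ℕ) : Bool :=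
  allTo (fun j => Nat.beq (Nat.gcd N (u ^ j - 1)) 1 && Nat.beq (Nat.gcd N (u ^ j + 1)) 1 || Nat.blt j 3) (2 * m + 1)

/-- the test for one number `P` -/
noncomputable def tstP (M N q i : ℕ) (neg : Bool) (m u P : ℕ) : Bool :=
  !(Nat.beq (M % P) 0) || killH neg q i (M / P) || wkill N m u

/-- the test for the exponent `e` and the number `u` -/
noncomputable def tstE (T : ℕ → ℕ → Bool) (e u : ℕ) : Bool :=
  (T e (ttor (.psp e) u (2 * e)) && (Nat.beq (e % 2) 0 || T e (ttor (.psp e) u e))) &&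
  ((T (e + 1) (ttor (.ominus (e + 1)) u (2 * (e + 1))) && T (e + 1) (ttor (.ominus (e + 1)) u (2 * e))) &&
    (Nat.beq (e % 2) 0 || T (e + 1) (ttor (.ominus (e + 1)) u e))) &&
  (Nat.blt e 6 || (T (e + 1) (ttor (.oplus (e + 1)) u (2 * e)) &&
    (bif Nat.beq (e % 2) 0 then T (e + 1) (ttor (.oplus (e + 1)) u (e + 1))
      else T (e + 1) (ttor (.oplus (e + 1)) u e)))) &&
  (Nat.blt e 7 || ((T (e + 2) (ttor (.psl (e + 2)) u (e + 2)) && T (e + 2) (ttor (.psl (e + 2)) u (e + 1))) &&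
    (T (e + 2) (ttor (.psu (e + 2)) u (e + 2)) && T (e + 2) (ttor (.psu (e + 2)) u (e + 1)))))

/-- not a prime, checked with a few divisors -/
def npB (v : ℕ) : Bool :=
  (Nat.beq (v % 2) 0 && !(Nat.beq v 2)) || (Nat.beq (v % 3) 0 && !(Nat.beq v 3)) ||
  (Nat.beq (v % 5) 0 && !(Nat.beq v 5)) || (Nat.beq (v % 7) 0 && !(Nat.beq v 7)) ||
  (Nat.beq (v % 11) 0 && !(Nat.beq v 11)) || (Nat.beq (v % 13) 0 && !(Nat.beq v 13))

/-- the test for `v` -/
noncomputable def tstV (M N q i : ℕ) (neg : Bool) (f' e v : ℕ) : Bool :=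
  npB v || Nat.beq (q % v) 0 || Nat.beq (M % v) 0 ||
    force (v ^ f') fun u => tstE (fun m P => force P fun P => tstP M N q i neg m u P) e u

/-- the loop over `e` -/
noncomputable def tstF (M N q i : ℕ) (neg : Bool) (f' : ℕ) : Bool :=
  allTo (fun k => force (k + 5) fun e => loopV (tstV M N q i neg f' e) (f' * e) (8 * M) 5000 2)
    (Nat.log2 (8 * M) / f' - 4)

/-- the size bound -/
def szB (C q D d f' : ℕ) : Bool := Nat.ble (q ^ D) (C * d * (f' ^ 4 * (q + 1) ^ 3))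

/-- the test for `M` -/
noncomputable def chkM (C M N q D d i : ℕ) (neg : Bool) : Bool :=
  force (Nat.log2 (8 * M) / 5) fun fm => !(szB C q D d fm) ||
    allTo (fun k => force (k + 1) fun f' => !(szB C q D d f') || tstF M N q i neg f') fm

/-- unitary -/
def ng : Fam → Bool
  | .psu _ => true
  | _ => false

/-- the pairs of isolated classes -/
def pairsL : Fam → List (ℕ × ℕ)
  | .psl n => [(n, n - 1), (n - 1, n)]
  | .psu n => [(n, n - 1), (n - 1, n)]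
  | .psp n => bif Nat.beq (n % 2) 1 then [(n, 2 * n), (2 * n, n)] else []
  | .oodd n => bif Nat.beq (n % 2) 1 then [(n, 2 * n), (2 * n, n)] else []
  | .oplus n => bif Nat.beq (n % 2) 1 then [(n, 2 * (n - 1)), (2 * (n - 1), n)]
      else [(n - 1, 2 * (n - 1)), (2 * (n - 1), n - 1)]
  | .ominus n => [(2 * n, 2 * (n - 1)), (2 * (n - 1), 2 * n)]
  | _ => []

/-- the test for one family -/
noncomputable def chkT (C X : ℕ) (t : Fam) (q : ℕ) : Bool :=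
  Nat.blt X (Nat.log2 q * (dimL t - 3)) || (pairsL t).all fun x =>
    force x.1 fun i => force (ttor t q i) fun M => force (ttor t q x.2) fun N => force (dimL t) fun D =>
      force (dgL t q) fun d => chkM C M N q D d i (ng t)

noncomputable def chkN (C X q n : ℕ) : Bool :=
  ((Nat.blt n 9 || (chkT C X (.psl n) q && chkT C X (.psu n) q)) && chkT C X (.psp n) q) &&
    (chkT C X (.oplus n) q && chkT C X (.ominus n) q)

/-- a power of a prime, checked for a few primes -/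
def ppB (q : ℕ) : Bool :=
  (!(Nat.beq (q % 3) 0) || Nat.beq (3 ^ 13 % q) 0) && (!(Nat.beq (q % 5) 0) || Nat.beq (5 ^ 13 % q) 0) &&
  (!(Nat.beq (q % 7) 0) || Nat.beq (7 ^ 13 % q) 0) && (!(Nat.beq (q % 11) 0) || Nat.beq (11 ^ 13 % q) 0) &&
  (!(Nat.beq (q % 13) 0) || Nat.beq (13 ^ 13 % q) 0) && (!(Nat.beq (q % 17) 0) || Nat.beq (17 ^ 13 % q) 0) &&
  (!(Nat.beq (q % 19) 0) || Nat.beq (19 ^ 13 % q) 0) && (!(Nat.beq (q % 23) 0) || Nat.beq (23 ^ 13 % q) 0)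

/-- the test for `q` -/
noncomputable def chkQ (C X q : ℕ) : Bool :=
  !(ppB q) || allTo (fun k => force (k + 7) fun n => chkN C X q n) (X / Nat.log2 q)

/-- the test for the odd numbers `2 k + a`, `k < b` -/
noncomputable def chkR (C X a b : ℕ) : Bool := allTo (fun k => force (2 * k + a) fun q => chkQ C X q) b

end Cfsg.Agent.R2.Spec.FIN
end
end

-- part: R2/Spec/FIN/Bnd
section
prune_inst 0x400001000000000000000000000000200000000000000800050000600020610020040000040000d021004a00008000008110000000200000000000000000000000002460042f50308a80000000003580c00000000000000000000000000041000000000000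
set_option linter.all false
open scoped Cfsg.Agent.FastGrp

-- part: R2/Spec/FIN/Sound
section
/-!
# S3435, packet FIN: soundness of the search (helper7)
-/

set_option autoImplicit false

namespace Cfsg.Agent.R2.Spec.FIN

open Cfsg.Agent.H426.LieFam Cfsg.Agent.R2.Spec Cfsg.Agent.R2.Spec.P1 Cfsg.Agent.R2.Spec.E Cfsg.Agent.R2.Spec.F1

theorem beq_iff {a b : ℕ} : Nat.beq a b = true ↔ a = b := by
  rw [Nat.beq_eq]

theorem cast_zero_iff {r k : ℕ} : (r ∣ k) ↔ ((k : ℕ) : ZMod r) = 0 := (ZMod.natCast_eq_zero_iff k r).symm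

theorem dvd_sub_one_iff {r q k : ℕ} (hq : 1 ≤ q) : r ∣ q ^ k - 1 ↔ ((q : ℕ) : ZMod r) ^ k = 1 := by
  rw [cast_zero_iff, Nat.cast_sub (Nat.one_le_pow _ _ hq), Nat.cast_pow, Nat.cast_one, sub_eq_zero]

theorem dvd_add_one_iff {r q k : ℕ} : r ∣ q ^ k + 1 ↔ -((q : ℕ) : ZMod r) ^ k = 1 := by
  rw [cast_zero_iff, Nat.cast_add, Nat.cast_pow, Nat.cast_one, neg_eq_iff_add_eq_zero]

theorem ab_dvd {t : Fam} {r q k : ℕ} (hq : 1 ≤ q) :
    r ∣ ab (ng t) q k ↔ ((sg t q : ℤ) : ZMod r) ^ k = 1 := by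
  have key : ∀ {t : Fam}, sg t q = (q : ℤ) → ng t = false →
      (r ∣ ab (ng t) q k ↔ ((sg t q : ℤ) : ZMod r) ^ k = 1) := by
    intro t h1 h2
    rw [h1, h2, ab, Bool.false_and, cond_false, Int.cast_natCast]
    exact dvd_sub_one_iff hq
  cases t with
  | psu n =>
    rw [ab, show ng (.psu n) = true from rfl, Bool.true_and, show sg (.psu n) q = -(q : ℤ) from rfl]
    push_cast
    rcases Nat.mod_two_eq_zero_or_one k with h | h
    · rw [show Nat.beq (k % 2) 1 = false by rw [h]; rfl, cond_false, (Nat.even_iff.2 h).neg_pow]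
      exact dvd_sub_one_iff hq
    · rw [show Nat.beq (k % 2) 1 = true by rw [h]; rfl, cond_true, (Nat.odd_iff.2 h).neg_pow]
      exact dvd_add_one_iff
  | _ => exact key rfl rfl

theorem ab_dvd_Bf {neg : Bool} {q i d : ℕ} (hd : 1 ≤ d) (hdi : d < i) (hdv : d ∣ i) :
    ∀ k, d ≤ k → ab neg q d ∣ Bf neg q i k := by
  intro k
  induction k with
  | zero => intro h; omega
  | succ k ih =>
    intro h
    rw [Bf]
    by_cases hk : d = k + 1
    · subst hk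
      have h1 : Nat.blt (k + 1) i = true := by rw [Nat.blt_eq]; exact hdi
      have h2 : Nat.beq (i % (k + 1)) 0 = true := by rw [beq_iff]; exact Nat.mod_eq_zero_of_dvd hdv
      rw [h1, h2, Bool.true_and, cond_true]
      exact Dvd.intro_left _ rfl
    · exact (ih (by omega)).mul_right _

theorem killH_sound {t : Fam} {q i H : ℕ} (hq : 1 ≤ q) (hi : 1 ≤ i) (h : killH (ng t) q i H = true) :
    ∃ r : ℕ, r.Prime ∧ r ∣ H ∧ cls t q r = i := by
  obtain ⟨y, hy⟩ : ∃ y, y = strip (Bf (ng t) q i i) 12 (Nat.gcd H (ab (ng t) q i)) := ⟨_, rfl⟩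
  rw [killH, ← hy, Bool.and_eq_true, Bool.and_eq_true, Bool.and_eq_true, Nat.blt_eq, beq_iff, beq_iff, beq_iff] at h
  obtain ⟨⟨⟨h1, h2⟩, h3⟩, h4⟩ := h
  have hr : (Nat.minFac y).Prime := Nat.minFac_prime (by omega)
  have hry := Nat.minFac_dvd y
  obtain ⟨r, hrr⟩ : ∃ r, r = Nat.minFac y := ⟨_, rfl⟩
  rw [← hrr] at hr hry
  refine ⟨r, hr, hry.trans (Nat.dvd_of_mod_eq_zero h2), ?_⟩
  have hs := (ab_dvd (t := t) hq).1 (hry.trans (Nat.dvd_of_mod_eq_zero h3))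
  have h5 : orderOf ((sg t q : ℤ) : ZMod r) ∣ i := orderOf_dvd_of_pow_eq_one hs
  have h6 : 1 ≤ orderOf ((sg t q : ℤ) : ZMod r) := Nat.pos_of_dvd_of_pos h5 (by omega)
  rw [cls]
  by_contra hne
  have h7 : orderOf ((sg t q : ℤ) : ZMod r) < i := lt_of_le_of_ne (Nat.le_of_dvd (by omega) h5) hne
  have h8 : r ∣ ab (ng t) q (orderOf ((sg t q : ℤ) : ZMod r)) := (ab_dvd (t := t) hq).2 (pow_orderOf_eq_one _)
  have h9 := h8.trans (ab_dvd_Bf (neg := ng t) (q := q) h6 h7 h5 i h7.le)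
  have h10 := Nat.dvd_gcd hry h9
  rw [h4, Nat.dvd_one] at h10
  exact hr.one_lt.ne' h10

theorem wkill_sound {t : Fam} {N m u w j : ℕ} (hu : 1 ≤ u) (h : wkill N m u = true) (hw : w.Prime) (hwN : w ∣ N)
    (hj3 : 3 ≤ j) (hjm : j ≤ 2 * m) (hj : cls t u w = j) : False := by
  have h1 := allTo_sound h j (by omega)
  have h3 : Nat.blt j 3 = false := by
    by_contra hcon
    rw [Bool.not_eq_false, Nat.blt_eq] at hcon
    omega
  rw [h3, Bool.or_false, Bool.and_eq_true, beq_iff, beq_iff] at h1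
  have h4 : ((sg t u : ℤ) : ZMod w) ^ j = 1 := by
    rw [← hj, cls]
    exact pow_orderOf_eq_one _
  have h5 := (ab_dvd (t := t) hu).2 h4
  have h6 : w ∣ u ^ j - 1 ∨ w ∣ u ^ j + 1 := by
    rw [ab] at h5
    cases h7 : ng t && Nat.beq (j % 2) 1 with
    | true =>
      rw [h7, cond_true] at h5
      exact Or.inr h5
    | false =>
      rw [h7, cond_false] at h5
      exact Or.inl h5
  rcases h6 with h6 | h6
  · have := Nat.dvd_gcd hwN h6
    rw [h1.1, Nat.dvd_one] at this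
    exact hw.one_lt.ne' this
  · have := Nat.dvd_gcd hwN h6
    rw [h1.2, Nat.dvd_one] at this
    exact hw.one_lt.ne' this

/-- the exponent of the size of the isolated numbers -/
def ex : Fam → ℕ
  | .psl m => m - 2
  | .psu m => m - 2
  | .psp m => m
  | .oodd m => m
  | .oplus m => m - 1
  | .ominus m => m - 1
  | _ => 0

theorem tstE_sound {T : ℕ → ℕ → Bool} {t : Fam} {u i : ℕ} (hr : RkFive t) (hi : top t i)
    (h : tstE T (ex t) u = true) : T (rk t) (ttor t u i) = true := by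
  rw [tstE, Bool.and_eq_true, Bool.and_eq_true, Bool.and_eq_true, Bool.and_eq_true, Bool.and_eq_true,
    Bool.and_eq_true] at h
  obtain ⟨⟨⟨⟨h1, h2⟩, ⟨h3, h4⟩, h5⟩, h6⟩, h7⟩ := h
  have hodd : ∀ {k : ℕ}, k % 2 = 1 → Nat.beq (k % 2) 0 = false := by
    intro k hk
    rw [hk]
    rfl
  have heven : ∀ {k : ℕ}, k % 2 = 0 → Nat.beq (k % 2) 0 = true := by
    intro k hk
    rw [hk]
    rfl
  have hlt : ∀ {a b : ℕ}, b ≤ a → Nat.blt a b = false := by
    intro a b hab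
    by_contra hcon
    rw [Bool.not_eq_false, Nat.blt_eq] at hcon
    omega
  cases t with
  | psl m =>
    have hm : 9 ≤ m := hr
    have hi' : 3 ≤ i ∧ (i = m ∨ i + 1 = m) := hi
    obtain ⟨e, rfl⟩ : ∃ e, m = e + 2 := ⟨m - 2, by omega⟩
    change _ at h7
    rw [show ex (.psl (e + 2)) = e from rfl, hlt (show 7 ≤ e by omega), Bool.false_or, Bool.and_eq_true,
      Bool.and_eq_true] at h7
    rcases hi'.2 with rfl | h8
    · exact h7.1.1
    · rw [show i = e + 1 by omega]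
      exact h7.1.2
  | psu m =>
    have hm : 9 ≤ m := hr
    have hi' : 3 ≤ i ∧ (i = m ∨ i + 1 = m) := hi
    obtain ⟨e, rfl⟩ : ∃ e, m = e + 2 := ⟨m - 2, by omega⟩
    rw [show ex (.psu (e + 2)) = e from rfl, hlt (show 7 ≤ e by omega), Bool.false_or, Bool.and_eq_true,
      Bool.and_eq_true, Bool.and_eq_true] at h7
    rcases hi'.2 with rfl | h8
    · exact h7.2.1
    · rw [show i = e + 1 by omega]
      exact h7.2.2
  | psp m =>
    have hi' : i = 2 * m ∨ (i = m ∧ m % 2 = 1) := hi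
    rcases hi' with rfl | ⟨rfl, h8⟩
    · exact h1
    · rw [show ex (.psp i) = i from rfl, hodd h8, Bool.false_or] at h2
      exact h2
  | oodd m =>
    have hi' : i = 2 * m ∨ (i = m ∧ m % 2 = 1) := hi
    rcases hi' with rfl | ⟨rfl, h8⟩
    · exact h1
    · rw [show ex (.oodd i) = i from rfl, hodd h8, Bool.false_or] at h2
      exact h2
  | oplus m =>
    have hm : 7 ≤ m := hr
    have hi' : (i = m ∧ m % 2 = 1) ∨ i = 2 * (m - 1) ∨ (i = m - 1 ∧ m % 2 = 0) := hi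
    obtain ⟨e, rfl⟩ : ∃ e, m = e + 1 := ⟨m - 1, by omega⟩
    rw [show ex (.oplus (e + 1)) = e from rfl, hlt (show 6 ≤ e by omega), Bool.false_or, Bool.and_eq_true] at h6
    rw [Nat.add_sub_cancel] at hi'
    rcases hi' with ⟨rfl, h8⟩ | rfl | ⟨rfl, h8⟩
    · have h9 := h6.2
      rw [heven (show e % 2 = 0 by omega), cond_true] at h9
      exact h9
    · exact h6.1
    · have h9 := h6.2
      rw [hodd (show i % 2 = 1 by omega), cond_false] at h9
      exact h9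
  | ominus m =>
    have hm : 6 ≤ m := hr
    have hi' : i = 2 * m ∨ i = 2 * (m - 1) ∨ (i = m - 1 ∧ m % 2 = 0) := hi
    obtain ⟨e, rfl⟩ : ∃ e, m = e + 1 := ⟨m - 1, by omega⟩
    rw [Nat.add_sub_cancel] at hi'
    rcases hi' with rfl | rfl | ⟨rfl, h8⟩
    · exact h3
    · exact h4
    · rw [show ex (.ominus (i + 1)) = i from rfl, hodd (show i % 2 = 1 by omega), Bool.false_or] at h5
      exact h5
  | _ => exact hr.elim

theorem npB_sound {v : ℕ} (hv : v.Prime) : npB v = false := by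
  have key : ∀ r : ℕ, r.Prime → (Nat.beq (v % r) 0 && !(Nat.beq v r)) = false := by
    intro r hr
    by_contra hcon
    rw [Bool.not_eq_false, Bool.and_eq_true, beq_iff, Bool.not_eq_true'] at hcon
    have h1 := (Nat.prime_dvd_prime_iff_eq hr hv).1 (Nat.dvd_of_mod_eq_zero hcon.1)
    have h2 := hcon.2
    rw [h1, show Nat.beq v v = true from beq_iff.2 rfl] at h2
    exact Bool.noConfusion h2
  rw [npB, key 2 (by norm_num), key 3 (by norm_num), key 5 (by norm_num), key 7 (by norm_num), key 11 (by norm_num),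
    key 13 (by norm_num)]
  rfl

theorem tstV_sound {M N q i : ℕ} {neg : Bool} {f' e v : ℕ} (hv : v.Prime) (hvq : ¬ v ∣ q) (hvM : ¬ v ∣ M)
    (h : tstV M N q i neg f' e v = true) :
    tstE (fun m P => tstP M N q i neg m (v ^ f') P) e (v ^ f') = true := by
  have hne : ∀ {a : ℕ}, ¬ v ∣ a → Nat.beq (a % v) 0 = false := by
    intro a ha
    by_contra hcon
    rw [Bool.not_eq_false, beq_iff] at hcon
    exact ha (Nat.dvd_of_mod_eq_zero hcon)
  rw [tstV, npB_sound hv, hne hvq, hne hvM, Bool.false_or, Bool.false_or, Bool.false_or, force_eq] at h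
  have h1 : (fun m P => force P fun P => tstP M N q i neg m (v ^ f') P) =
      fun m P => tstP M N q i neg m (v ^ f') P := by
    funext m P
    rw [force_eq]
  rw [h1] at h
  exact h

theorem le_log2_of_pow {a k : ℕ} (h : 2 ^ k ≤ a) : k ≤ Nat.log2 a := by
  have ha : a ≠ 0 := by
    have := Nat.two_pow_pos k
    omega
  exact (Nat.le_log2 ha).2 h

theorem tstF_sound {M N q i : ℕ} {neg : Bool} {f' e v : ℕ} (hf : 1 ≤ f') (he : 5 ≤ e) (hv : v.Prime)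
    (hvq : ¬ v ∣ q) (hvM : ¬ v ∣ M) (hB : (v ^ f') ^ e ≤ 8 * M) (h : tstF M N q i neg f' = true) :
    tstE (fun m P => tstP M N q i neg m (v ^ f') P) e (v ^ f') = true := by
  have h1 : f' * e ≤ Nat.log2 (8 * M) := by
    apply le_log2_of_pow
    calc 2 ^ (f' * e) ≤ v ^ (f' * e) := Nat.pow_le_pow_left hv.two_le _
      _ = (v ^ f') ^ e := pow_mul _ _ _
      _ ≤ 8 * M := hB
  have h2 : e ≤ Nat.log2 (8 * M) / f' := by
    rw [Nat.le_div_iff_mul_le (by omega), mul_comm]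
    exact h1
  have h3 := allTo_sound h (e - 5) (by omega)
  rw [force_eq, show e - 5 + 5 = e by omega] at h3
  refine tstV_sound hv hvq hvM (loopV_sound h3 v hv.two_le ?_)
  rw [pow_mul]
  exact hB

theorem szB_iff {C q D d f' : ℕ} : szB C q D d f' = true ↔ q ^ D ≤ C * d * (f' ^ 4 * (q + 1) ^ 3) := by
  rw [szB, Nat.ble_eq]

theorem chkM_sound {C M N q D d i : ℕ} {neg : Bool} {f' e v : ℕ} (hf : 1 ≤ f') (he : 5 ≤ e) (hv : v.Prime)
    (hvq : ¬ v ∣ q) (hvM : ¬ v ∣ M) (hB : (v ^ f') ^ e ≤ 8 * M)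
    (hs : q ^ D ≤ C * d * (f' ^ 4 * (q + 1) ^ 3)) (h : chkM C M N q D d i neg = true) :
    tstE (fun m P => tstP M N q i neg m (v ^ f') P) e (v ^ f') = true := by
  have h1 : f' * e ≤ Nat.log2 (8 * M) := by
    apply le_log2_of_pow
    calc 2 ^ (f' * e) ≤ v ^ (f' * e) := Nat.pow_le_pow_left hv.two_le _
      _ = (v ^ f') ^ e := pow_mul _ _ _
      _ ≤ 8 * M := hB
  have h2 : f' ≤ Nat.log2 (8 * M) / 5 := by
    rw [Nat.le_div_iff_mul_le (by norm_num)]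
    exact (Nat.mul_le_mul_left f' he).trans h1
  have h3 : szB C q D d (Nat.log2 (8 * M) / 5) = true := by
    rw [szB_iff]
    exact hs.trans (Nat.mul_le_mul_left _ (Nat.mul_le_mul_right _ (Nat.pow_le_pow_left h2 4)))
  rw [chkM, force_eq, h3, Bool.not_true, Bool.false_or] at h
  have h4 := allTo_sound h (f' - 1) (by omega)
  rw [force_eq, show f' - 1 + 1 = f' by omega, szB_iff.2 hs, Bool.not_true, Bool.false_or] at h4
  exact tstF_sound hf he hv hvq hvM hB h4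

theorem mem_pairsL {t : Fam} {i j : ℕ} (h : PairOK t i j) : (i, j) ∈ pairsL t := by
  have key : ∀ {a b c d : ℕ}, (i = a ∧ j = b) ∨ (i = c ∧ j = d) → (i, j) ∈ [(a, b), (c, d)] := by
    intro a b c d h
    rcases h with ⟨rfl, rfl⟩ | ⟨rfl, rfl⟩
    · exact List.mem_cons_self
    · exact List.mem_cons_of_mem _ List.mem_cons_self
  cases t with
  | psl n =>
    have h1 : (i = n ∧ j + 1 = n) ∨ (i + 1 = n ∧ j = n) := h
    exact key (by omega)
  | psu n =>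
    have h1 : (i = n ∧ j + 1 = n) ∨ (i + 1 = n ∧ j = n) := h
    exact key (by omega)
  | psp n =>
    obtain ⟨h1, h2⟩ : n % 2 = 1 ∧ ((i = n ∧ j = 2 * n) ∨ (i = 2 * n ∧ j = n)) := h
    rw [pairsL, show Nat.beq (n % 2) 1 = true by rw [h1]; rfl, cond_true]
    exact key h2
  | oodd n =>
    obtain ⟨h1, h2⟩ : n % 2 = 1 ∧ ((i = n ∧ j = 2 * n) ∨ (i = 2 * n ∧ j = n)) := h
    rw [pairsL, show Nat.beq (n % 2) 1 = true by rw [h1]; rfl, cond_true]
    exact key h2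
  | oplus n =>
    have h1 : (n % 2 = 1 ∧ ((i = n ∧ j = 2 * (n - 1)) ∨ (i = 2 * (n - 1) ∧ j = n))) ∨
      (n % 2 = 0 ∧ ((i = n - 1 ∧ j = 2 * (n - 1)) ∨ (i = 2 * (n - 1) ∧ j = n - 1))) := h
    rcases h1 with ⟨h1, h2⟩ | ⟨h1, h2⟩
    · rw [pairsL, show Nat.beq (n % 2) 1 = true by rw [h1]; rfl, cond_true]
      exact key h2
    · rw [pairsL, show Nat.beq (n % 2) 1 = false by rw [h1]; rfl, cond_false]
      exact key h2
  | ominus n => exact key h
  | _ => exact h.elim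

theorem chkT_sound {C X : ℕ} {t : Fam} {q i j : ℕ} (hX : Nat.log2 q * (dimL t - 3) ≤ X) (hp : PairOK t i j)
    (h : chkT C X t q = true) : chkM C (ttor t q i) (ttor t q j) q (dimL t) (dgL t q) i (ng t) = true := by
  have h1 : Nat.blt X (Nat.log2 q * (dimL t - 3)) = false := by
    by_contra hcon
    rw [Bool.not_eq_false, Nat.blt_eq] at hcon
    omega
  rw [chkT, h1, Bool.false_or, List.all_eq_true] at h
  have h2 := h (i, j) (mem_pairsL hp)
  rw [force_eq, force_eq, force_eq, force_eq, force_eq] at h2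
  exact h2

theorem chkT_oodd {C X n q : ℕ} : chkT C X (.oodd n) q = chkT C X (.psp n) q := rfl

theorem chkN_sound {C X : ℕ} {t : Fam} {q : ℕ} (h5 : Five t) (h : chkN C X q (rk t) = true) :
    chkT C X t q = true := by
  rw [chkN, Bool.and_eq_true, Bool.and_eq_true, Bool.and_eq_true] at h
  obtain ⟨⟨h1, h2⟩, h3, h4⟩ := h
  have hlt : ∀ {a b : ℕ}, b ≤ a → Nat.blt a b = false := by
    intro a b hab
    by_contra hcon
    rw [Bool.not_eq_false, Nat.blt_eq] at hcon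
    omega
  cases t with
  | psl n =>
    have hn : 9 ≤ n := h5
    rw [show rk (.psl n) = n from rfl, hlt hn, Bool.false_or, Bool.and_eq_true] at h1
    exact h1.1
  | psu n =>
    have hn : 9 ≤ n := h5
    rw [show rk (.psu n) = n from rfl, hlt hn, Bool.false_or, Bool.and_eq_true] at h1
    exact h1.2
  | psp n => exact h2
  | oodd n => exact chkT_oodd.trans h2
  | oplus n => exact h3
  | ominus n => exact h4
  | _ => exact h5.elim

theorem ppB_sound {p f : ℕ} (hp : p.Prime) (hf : f ≤ 13) : ppB (p ^ f) = true := by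
  have key : ∀ r : ℕ, r.Prime → (!(Nat.beq (p ^ f % r) 0) || Nat.beq (r ^ 13 % p ^ f) 0) = true := by
    intro r hr
    cases h : Nat.beq (p ^ f % r) 0 with
    | false => rfl
    | true =>
      rw [Bool.not_true, Bool.false_or, beq_iff]
      rw [beq_iff] at h
      have h1 := (Nat.prime_dvd_prime_iff_eq hr hp).1 (hr.dvd_of_dvd_pow (Nat.dvd_of_mod_eq_zero h))
      rw [h1]
      exact Nat.mod_eq_zero_of_dvd (pow_dvd_pow p hf)
  rw [ppB, key 3 (by norm_num), key 5 (by norm_num), key 7 (by norm_num), key 11 (by norm_num), key 13 (by norm_num),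
    key 17 (by norm_num), key 19 (by norm_num), key 23 (by norm_num)]
  rfl

theorem chkQ_sound {C X : ℕ} {t : Fam} {q : ℕ} (hpp : ppB q = true) (h7 : 7 ≤ rk t) (hk : rk t - 7 < X / Nat.log2 q)
    (h : chkQ C X q = true) : chkN C X q (rk t) = true := by
  rw [chkQ, hpp, Bool.not_true, Bool.false_or] at h
  have h1 := allTo_sound h (rk t - 7) hk
  rw [force_eq, show rk t - 7 + 7 = rk t by omega] at h1
  exact h1

theorem chkR_sound {C X a b k : ℕ} (h : chkR C X a b = true) (hk : k < b) : chkQ C X (2 * k + a) = true := by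
  have h1 := allTo_sound h k hk
  rw [force_eq] at h1
  exact h1

end Cfsg.Agent.R2.Spec.FIN
end

-- part: R2/Spec/FIN/Bnd
section
/-!
# S3435, packet FIN: the range of the search (helper7)

* `pow_ex_le` : `u ^ ex t ≤ 8 * ttor t u i`; `ttor_le` : `ttor t q i ≤ 2 * q ^ dimL t`;
* `range_le` : the size bound with `C = 2 ^ 20` gives `log2 q * (dimL t - 3) ≤ 50`.
-/

set_option autoImplicit false

namespace Cfsg.Agent.R2.Spec.FIN

open Cfsg.Agent.H426.LieFam Cfsg.Agent.R2.Spec Cfsg.Agent.R2.Spec.P1 Cfsg.Agent.R2.Spec.E Cfsg.Agent.R2.Spec.F1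

theorem ex_ge {t : Fam} (hr : RkFive t) : 5 ≤ ex t := by
  cases t with
  | psl m =>
    have h : 9 ≤ m := hr
    change 5 ≤ m - 2
    omega
  | psu m =>
    have h : 9 ≤ m := hr
    change 5 ≤ m - 2
    omega
  | psp m => exact hr
  | oodd m => exact hr
  | oplus m =>
    have h : 7 ≤ m := hr
    change 5 ≤ m - 1
    omega
  | ominus m =>
    have h : 6 ≤ m := hr
    change 5 ≤ m - 1
    omega
  | _ => exact hr.elim

theorem pow_pred_le {u e : ℕ} (hu : 2 ≤ u) (he : 1 ≤ e) : 2 ≤ u ^ e :=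
  hu.trans (Nat.le_self_pow (by omega) u)

theorem aux_sp {u e P g : ℕ} (hu : 2 ≤ u) (he : 1 ≤ e) (hg : g ≤ 4) (h : u ^ e - 1 ≤ P * g) : u ^ e ≤ 8 * P := by
  have h1 := pow_pred_le hu he
  have h2 : P * g ≤ P * 4 := Nat.mul_le_mul_left _ hg
  omega

theorem pow_ex_le {t : Fam} {u i : ℕ} (hr : RkFive t) (hi : top t i) (hu : 2 ≤ u) : u ^ ex t ≤ 8 * ttor t u i := by
  have hg2 : Nat.gcd 2 (u - 1) ≤ 4 := (Nat.gcd_le_left _ (by norm_num)).trans (by norm_num)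
  cases t with
  | psl m =>
    have hm : 9 ≤ m := hr
    have hi' : 3 ≤ i ∧ (i = m ∨ i + 1 = m) := hi
    obtain ⟨h1, h2⟩ := val_psl (n := m) (q := u) (by omega) hu
    obtain ⟨r, rfl⟩ : ∃ r, u = r + 1 := ⟨u - 1, by omega⟩
    rw [Nat.add_sub_cancel] at h1 h2
    have hg : Nat.gcd m r ≤ r := Nat.gcd_le_right _ (by omega)
    have hx : 1 ≤ (r + 1) ^ (m - 2) := Nat.one_le_pow _ _ (by omega)
    have e1 : (r + 1) ^ m = (r + 1) ^ (m - 2) * (r + 1) ^ 2 := by rw [← pow_add]; congr 1; omega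
    have e2 : (r + 1) ^ (m - 1) = (r + 1) ^ (m - 2) * (r + 1) := by rw [← pow_succ]; congr 1; omega
    change (r + 1) ^ (m - 2) ≤ _
    rw [e1] at h1
    rw [e2] at h2
    obtain ⟨x, hxx⟩ : ∃ x, x = (r + 1) ^ (m - 2) := ⟨_, rfl⟩
    rw [← hxx] at h1 h2 hx ⊢
    rcases hi'.2 with rfl | h8
    · obtain ⟨P, hP⟩ : ∃ P, P = ttor (.psl i) (r + 1) i := ⟨_, rfl⟩
      rw [← hP] at h1 ⊢
      have h3 : P * (Nat.gcd i r * r) ≤ P * (r * r) := Nat.mul_le_mul_left _ (Nat.mul_le_mul_right _ hg)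
      have h4 : x * (r * r) ≤ x * (r + 1) ^ 2 - 1 := by
        have : x * (r + 1) ^ 2 = x * (r * r) + x * (2 * r) + x := by ring
        rw [this]
        omega
      have h5 : x * (r * r) ≤ P * (r * r) := h4.trans (h1 ▸ h3)
      have h6 := Nat.le_of_mul_le_mul_right h5 (Nat.mul_pos (by omega) (by omega))
      omega
    · obtain rfl : i = m - 1 := by omega
      obtain ⟨P, hP⟩ : ∃ P, P = ttor (.psl m) (r + 1) (m - 1) := ⟨_, rfl⟩
      rw [← hP] at h2 ⊢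
      have h3 : P * Nat.gcd m r ≤ P * r := Nat.mul_le_mul_left _ hg
      have h4 : x * r ≤ x * (r + 1) - 1 := by
        rw [Nat.mul_add]
        omega
      have h5 : x * r ≤ P * r := h4.trans (h2 ▸ h3)
      have h6 := Nat.le_of_mul_le_mul_right h5 (by omega)
      omega
  | psu m =>
    have hm : 9 ≤ m := hr
    have hi' : 3 ≤ i ∧ (i = m ∨ i + 1 = m) := hi
    obtain ⟨h1, h2⟩ := val_psu (n := m) (q := u) (by omega) hu
    have hg : Nat.gcd m (u + 1) ≤ u + 1 := Nat.gcd_le_right _ (by omega)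
    have hx : 1 ≤ u ^ (m - 2) := Nat.one_le_pow _ _ (by omega)
    have e1 : u ^ m = u ^ (m - 2) * u ^ 2 := by rw [← pow_add]; congr 1; omega
    have e2 : u ^ (m - 1) = u ^ (m - 2) * u := by rw [← pow_succ]; congr 1; omega
    change u ^ (m - 2) ≤ _
    rw [e1] at h1
    rw [e2] at h2
    obtain ⟨x, hxx⟩ : ∃ x, x = u ^ (m - 2) := ⟨_, rfl⟩
    rw [← hxx] at h1 h2 hx ⊢
    rcases hi'.2 with rfl | h8
    · obtain ⟨P, hP⟩ : ∃ P, P = ttor (.psu i) u i := ⟨_, rfl⟩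
      rw [← hP] at h1 ⊢
      have h3 : P * (Nat.gcd i (u + 1) * (u + 1)) ≤ P * ((u + 1) * (u + 1)) :=
        Nat.mul_le_mul_left _ (Nat.mul_le_mul_right _ hg)
      have h4 : x * u ^ 2 - 1 ≤ P * ((u + 1) * (u + 1)) := by
        refine le_trans ?_ h3
        rw [h1]
        split_ifs <;> omega
      have h5 : x * ((u + 1) * (u + 1)) ≤ 8 * P * ((u + 1) * (u + 1)) := by
        have h6 : x * ((u + 1) * (u + 1)) + 8 ≤ 8 * (x * u ^ 2) := by
          obtain ⟨s, rfl⟩ : ∃ s, u = s + 2 := ⟨u - 2, by omega⟩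
          obtain ⟨y, hy⟩ : ∃ y, x = y + 1 := ⟨x - 1, by omega⟩
          rw [hy]
          ring_nf
          linarith only [Nat.zero_le (s * y), Nat.zero_le (s * s * y), _root_.mul_self_nonneg (↑s : ℤ), _root_.Nat.cast_nonneg (α := ℤ) (s), _root_.Nat.cast_nonneg (α := ℤ) (y)]
        have h7 : 8 * P * ((u + 1) * (u + 1)) = 8 * (P * ((u + 1) * (u + 1))) := by ring
        rw [h7]
        omega
      exact Nat.le_of_mul_le_mul_right h5 (Nat.mul_pos (by omega) (by omega))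
    · obtain rfl : i = m - 1 := by omega
      obtain ⟨P, hP⟩ : ∃ P, P = ttor (.psu m) u (m - 1) := ⟨_, rfl⟩
      rw [← hP] at h2 ⊢
      have h3 : P * Nat.gcd m (u + 1) ≤ P * (u + 1) := Nat.mul_le_mul_left _ hg
      have h4 : x * u - 1 ≤ P * (u + 1) := by
        refine le_trans ?_ h3
        rw [h2]
        split_ifs <;> omega
      have h5 : x * (u + 1) ≤ 8 * P * (u + 1) := by
        have h6 : x * (u + 1) + 8 ≤ 8 * (x * u) := by
          obtain ⟨s, rfl⟩ : ∃ s, u = s + 2 := ⟨u - 2, by omega⟩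
          obtain ⟨y, hy⟩ : ∃ y, x = y + 1 := ⟨x - 1, by omega⟩
          rw [hy]
          ring_nf
          linarith only [Nat.zero_le (s * y)]
        have h7 : 8 * P * (u + 1) = 8 * (P * (u + 1)) := by ring
        rw [h7]
        omega
      exact Nat.le_of_mul_le_mul_right h5 (by omega)
  | psp m =>
    have hm : 5 ≤ m := hr
    obtain ⟨h1, h2⟩ := val_psp (n := m) (q := u) (by omega) hu
    have hi' : i = 2 * m ∨ (i = m ∧ m % 2 = 1) := hi
    rcases hi' with rfl | ⟨rfl, -⟩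
    · exact aux_sp (e := m) hu (by omega) hg2 (by omega)
    · exact aux_sp (e := i) hu (by omega) hg2 (by omega)
  | oodd m =>
    have hm : 5 ≤ m := hr
    obtain ⟨h1, h2⟩ := val_psp (n := m) (q := u) (by omega) hu
    have hi' : i = 2 * m ∨ (i = m ∧ m % 2 = 1) := hi
    rw [ttor_oodd]
    rcases hi' with rfl | ⟨rfl, -⟩
    · exact aux_sp (e := m) hu (by omega) hg2 (by omega)
    · exact aux_sp (e := i) hu (by omega) hg2 (by omega)
  | oplus m =>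
    have hm : 7 ≤ m := hr
    have hi' : (i = m ∧ m % 2 = 1) ∨ i = 2 * (m - 1) ∨ (i = m - 1 ∧ m % 2 = 0) := hi
    have hg4 : Nat.gcd 4 (u ^ m - 1) ≤ 4 := Nat.gcd_le_left _ (by norm_num)
    have e1 : u ^ m = u ^ (m - 1) * u := by rw [← pow_succ]; congr 1; omega
    have e3 := pow_pred_le (e := m - 1) hu (by omega)
    have e2 : u ^ (m - 1) * 2 ≤ u ^ (m - 1) * u := Nat.mul_le_mul_left _ hu
    change u ^ (m - 1) ≤ _
    rcases Nat.mod_two_eq_zero_or_one m with h0 | h0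
    · obtain ⟨h1, h2⟩ := val_oplus_even (n := m) (q := u) (by omega) h0 hu
      rcases hi' with ⟨-, h8⟩ | rfl | ⟨rfl, h8⟩
      · omega
      · exact aux_sp (e := m - 1) hu (by omega) hg2 (by omega)
      · exact aux_sp (e := m - 1) hu (by omega) hg2 (by omega)
    · obtain ⟨h1, h2⟩ := val_oplus_odd (n := m) (q := u) (by omega) h0 hu
      rcases hi' with ⟨rfl, h8⟩ | rfl | ⟨rfl, h8⟩
      · exact aux_sp (e := i - 1) hu (by omega) hg4 (by omega)
      · refine aux_sp (e := m - 1) hu (by omega) hg4 ?_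
        rw [h2]
        calc u ^ (m - 1) - 1 ≤ (u ^ (m - 1) + 1) * 1 := by omega
          _ ≤ (u ^ (m - 1) + 1) * (u + 1) := Nat.mul_le_mul_left _ (by omega)
      · omega
  | ominus m =>
    have hm : 6 ≤ m := hr
    have hi' : i = 2 * m ∨ i = 2 * (m - 1) ∨ (i = m - 1 ∧ m % 2 = 0) := hi
    have hg4 : Nat.gcd 4 (u ^ m + 1) ≤ 4 := Nat.gcd_le_left _ (by norm_num)
    have e1 : u ^ m = u ^ (m - 1) * u := by rw [← pow_succ]; congr 1; omega
    have e2 : u ^ (m - 1) * 2 ≤ u ^ (m - 1) * u := Nat.mul_le_mul_left _ hu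
    obtain ⟨h1, h2, h3⟩ := val_ominus (n := m) (q := u) (by omega) hu
    change u ^ (m - 1) ≤ _
    rcases hi' with rfl | rfl | ⟨rfl, h8⟩
    · exact aux_sp (e := m - 1) hu (by omega) hg4 (by omega)
    · refine aux_sp (e := m - 1) hu (by omega) hg4 ?_
      rw [h2]
      calc u ^ (m - 1) - 1 ≤ (u ^ (m - 1) + 1) * 1 := by omega
        _ ≤ (u ^ (m - 1) + 1) * (u - 1) := Nat.mul_le_mul_left _ (by omega)
    · refine aux_sp (e := m - 1) hu (by omega) hg4 ?_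
      rw [h3]
      calc u ^ (m - 1) - 1 ≤ (u ^ (m - 1) - 1) * 1 := by omega
        _ ≤ (u ^ (m - 1) - 1) * (u + 1) := Nat.mul_le_mul_left _ (by omega)
  | _ => exact hr.elim

/-- a quotient by a positive number -/
theorem le_of_mul_pos {P g x : ℕ} (hg : 0 < g) (h : P * g = x) : P ≤ x := by
  rw [← h]
  exact Nat.le_mul_of_pos_right _ hg

/-- the upper bound of the isolated numbers of `L` -/
theorem ttor_le {t : Fam} {q i j : ℕ} (h5 : Five t) (hp : PairOK t i j) (hq : 3 ≤ q) :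
    ttor t q i ≤ 2 * q ^ dimL t := by
  have hg2 : 0 < Nat.gcd 2 (q - 1) := Nat.gcd_pos_of_pos_left _ (by norm_num)
  cases t with
  | psl n =>
    have hn : 9 ≤ n := h5
    have hp' : (i = n ∧ j + 1 = n) ∨ (i + 1 = n ∧ j = n) := hp
    obtain ⟨h1, h2⟩ := val_psl (n := n) (q := q) (by omega) (by omega)
    have e1 : q ^ n = q ^ (n - 1) * q := by rw [← pow_succ]; congr 1; omega
    have hg : 0 < Nat.gcd n (q - 1) := Nat.gcd_pos_of_pos_left _ (by omega)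
    have hx := Nat.one_le_pow (n - 1) q (by omega)
    change _ ≤ 2 * q ^ (n - 1)
    rcases hp' with ⟨rfl, -⟩ | ⟨h8, -⟩
    · obtain ⟨r, rfl⟩ : ∃ r, q = r + 1 := ⟨q - 1, by omega⟩
      rw [Nat.add_sub_cancel] at h1 hg
      have h3 : ttor (.psl i) (r + 1) i * r ≤ 2 * (r + 1) ^ (i - 1) * r := by
        calc ttor (.psl i) (r + 1) i * r = ttor (.psl i) (r + 1) i * (1 * r) := by rw [one_mul]
          _ ≤ ttor (.psl i) (r + 1) i * (Nat.gcd i r * r) := Nat.mul_le_mul_left _ (Nat.mul_le_mul_right _ hg)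
          _ = (r + 1) ^ i - 1 := h1
          _ ≤ (r + 1) ^ (i - 1) * (r + 1) := by rw [e1]; omega
          _ = (r + 1) ^ (i - 1) * r + (r + 1) ^ (i - 1) := by ring
          _ ≤ (r + 1) ^ (i - 1) * r + (r + 1) ^ (i - 1) * r := by
              apply Nat.add_le_add_left
              exact Nat.le_mul_of_pos_right _ (by omega)
          _ = 2 * (r + 1) ^ (i - 1) * r := by ring
      exact Nat.le_of_mul_le_mul_right h3 (by omega)
    · obtain rfl : i = n - 1 := by omega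
      have := le_of_mul_pos hg h2
      omega
  | psu n =>
    have hn : 9 ≤ n := h5
    have hp' : (i = n ∧ j + 1 = n) ∨ (i + 1 = n ∧ j = n) := hp
    obtain ⟨h1, h2⟩ := val_psu (n := n) (q := q) (by omega) (by omega)
    have e1 : q ^ n = q ^ (n - 1) * q := by rw [← pow_succ]; congr 1; omega
    have hg : 0 < Nat.gcd n (q + 1) := Nat.gcd_pos_of_pos_left _ (by omega)
    have hx := Nat.one_le_pow (n - 1) q (by omega)
    change _ ≤ 2 * q ^ (n - 1)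
    rcases hp' with ⟨rfl, -⟩ | ⟨h8, -⟩
    · have h3 : ttor (.psu i) q i * (q + 1) ≤ 2 * q ^ (i - 1) * (q + 1) := by
        calc ttor (.psu i) q i * (q + 1) = ttor (.psu i) q i * (1 * (q + 1)) := by rw [one_mul]
          _ ≤ ttor (.psu i) q i * (Nat.gcd i (q + 1) * (q + 1)) :=
            Nat.mul_le_mul_left _ (Nat.mul_le_mul_right _ hg)
          _ ≤ q ^ (i - 1) * q + 1 := by
              rw [h1, e1]
              split_ifs <;> omega
          _ ≤ 2 * q ^ (i - 1) * (q + 1) := by nlinarith only [hx]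
      exact Nat.le_of_mul_le_mul_right h3 (by omega)
    · obtain rfl : i = n - 1 := by omega
      have h3 := le_of_mul_pos hg h2
      split_ifs at h3 <;> omega
  | psp n =>
    have hn : 7 ≤ n := h5
    obtain ⟨-, hp'⟩ : n % 2 = 1 ∧ ((i = n ∧ j = 2 * n) ∨ (i = 2 * n ∧ j = n)) := hp
    obtain ⟨h1, h2⟩ := val_psp (n := n) (q := q) (by omega) (by omega)
    have hx := Nat.one_le_pow n q (by omega)
    change _ ≤ 2 * q ^ n
    rcases hp' with ⟨rfl, -⟩ | ⟨rfl, -⟩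
    · have := le_of_mul_pos hg2 h2
      omega
    · have := le_of_mul_pos hg2 h1
      omega
  | oodd n =>
    have hn : 7 ≤ n := h5
    obtain ⟨-, hp'⟩ : n % 2 = 1 ∧ ((i = n ∧ j = 2 * n) ∨ (i = 2 * n ∧ j = n)) := hp
    obtain ⟨h1, h2⟩ := val_psp (n := n) (q := q) (by omega) (by omega)
    have hx := Nat.one_le_pow n q (by omega)
    rw [ttor_oodd]
    change _ ≤ 2 * q ^ n
    rcases hp' with ⟨rfl, -⟩ | ⟨rfl, -⟩
    · have := le_of_mul_pos hg2 h2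
      omega
    · have := le_of_mul_pos hg2 h1
      omega
  | oplus n =>
    have hn : 7 ≤ n := h5
    have hp' : (n % 2 = 1 ∧ ((i = n ∧ j = 2 * (n - 1)) ∨ (i = 2 * (n - 1) ∧ j = n))) ∨
      (n % 2 = 0 ∧ ((i = n - 1 ∧ j = 2 * (n - 1)) ∨ (i = 2 * (n - 1) ∧ j = n - 1))) := hp
    have hg4 : 0 < Nat.gcd 4 (q ^ n - 1) := Nat.gcd_pos_of_pos_left _ (by norm_num)
    have hx := Nat.one_le_pow (n - 1) q (by omega)
    have e1 : q ^ n = q ^ (n - 1) * q := by rw [← pow_succ]; congr 1; omega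
    rcases hp' with ⟨h0, hp'⟩ | ⟨h0, hp'⟩
    · obtain ⟨h1, h2⟩ := val_oplus_odd (n := n) (q := q) (by omega) h0 (by omega)
      have hD : dimL (.oplus n) = n := by
        rw [dimL, if_neg (by omega)]
      rw [hD]
      rcases hp' with ⟨rfl, -⟩ | ⟨rfl, -⟩
      · have := le_of_mul_pos hg4 h1
        omega
      · have h3 := le_of_mul_pos hg4 h2
        have h4 : 9 ≤ q ^ (n - 1) := by
          calc 9 = 3 ^ 2 := by norm_num
            _ ≤ q ^ 2 := Nat.pow_le_pow_left hq 2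
            _ ≤ q ^ (n - 1) := Nat.pow_le_pow_right (by omega) (by omega)
        rw [e1]
        nlinarith only [hq, h3, h4]
    · obtain ⟨h1, h2⟩ := val_oplus_even (n := n) (q := q) (by omega) h0 (by omega)
      have hD : dimL (.oplus n) = n - 1 := by
        rw [dimL, if_pos h0]
      rw [hD]
      rcases hp' with ⟨rfl, -⟩ | ⟨rfl, -⟩
      · have := le_of_mul_pos hg2 h2
        omega
      · have := le_of_mul_pos hg2 h1
        omega
  | ominus n =>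
    have hn : 7 ≤ n := h5
    have hp' : (i = 2 * n ∧ j = 2 * (n - 1)) ∨ (i = 2 * (n - 1) ∧ j = 2 * n) := hp
    have hg4 : 0 < Nat.gcd 4 (q ^ n + 1) := Nat.gcd_pos_of_pos_left _ (by norm_num)
    have hx := Nat.one_le_pow (n - 1) q (by omega)
    have e1 : q ^ n = q ^ (n - 1) * q := by rw [← pow_succ]; congr 1; omega
    obtain ⟨h1, h2, -⟩ := val_ominus (n := n) (q := q) (by omega) (by omega)
    change _ ≤ 2 * q ^ n
    rcases hp' with ⟨rfl, -⟩ | ⟨rfl, -⟩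
    · have := le_of_mul_pos hg4 h1
      have hy := Nat.one_le_pow n q (by omega)
      omega
    · have h3 := le_of_mul_pos hg4 h2
      obtain ⟨r, rfl⟩ : ∃ r, q = r + 1 := ⟨q - 1, by omega⟩
      rw [Nat.add_sub_cancel] at h3
      rw [e1]
      nlinarith only [hx, h3]
  | _ => exact h5.elim

/-- the diagonal number -/
theorem dgL_le {t : Fam} {q : ℕ} (h5 : Five t) : dgL t q ≤ dimL t + 1 := by
  cases t with
  | psl n =>
    have hn : 9 ≤ n := h5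
    change Nat.gcd n (q - 1) ≤ n - 1 + 1
    have := Nat.gcd_le_left (n := q - 1) (m := n) (by omega)
    omega
  | psu n =>
    have hn : 9 ≤ n := h5
    change Nat.gcd n (q + 1) ≤ n - 1 + 1
    have := Nat.gcd_le_left (n := q + 1) (m := n) (by omega)
    omega
  | _ => exact Nat.le_add_left 1 _

theorem dimL_ge {t : Fam} (h5 : Five t) : 7 ≤ dimL t ∧ rk t ≤ dimL t + 1 ∧ 7 ≤ rk t := by
  cases t with
  | psl n =>
    have hn : 9 ≤ n := h5
    change 7 ≤ n - 1 ∧ n ≤ n - 1 + 1 ∧ 7 ≤ n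
    omega
  | psu n =>
    have hn : 9 ≤ n := h5
    change 7 ≤ n - 1 ∧ n ≤ n - 1 + 1 ∧ 7 ≤ n
    omega
  | psp n =>
    have hn : 7 ≤ n := h5
    change 7 ≤ n ∧ n ≤ n + 1 ∧ 7 ≤ n
    omega
  | oodd n =>
    have hn : 7 ≤ n := h5
    change 7 ≤ n ∧ n ≤ n + 1 ∧ 7 ≤ n
    omega
  | oplus n =>
    have hn : 7 ≤ n := h5
    change 7 ≤ dimL (.oplus n) ∧ n ≤ dimL (.oplus n) + 1 ∧ 7 ≤ n
    rw [dimL]
    split_ifs <;> omega
  | ominus n =>
    have hn : 7 ≤ n := h5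
    change 7 ≤ n ∧ n ≤ n + 1 ∧ 7 ≤ n
    omega
  | _ => exact h5.elim

theorem big_pow {X : ℕ} (h : 51 ≤ X) : 128 * 2 ^ 20 * X ^ 5 < 27 * 2 ^ X := by
  induction X, h using Nat.le_induction with
  | base => norm_num
  | succ X hX ih =>
    have h1 : (X + 1) ^ 5 ≤ 2 * X ^ 5 := by
      obtain ⟨y, rfl⟩ : ∃ y, X = y + 51 := ⟨X - 51, by omega⟩
      ring_nf
      linarith only [Nat.zero_le (y ^ 5), Nat.zero_le (y ^ 4), Nat.zero_le (y ^ 3), _root_.sq_nonneg (↑y : ℤ), _root_.Nat.cast_nonneg (α := ℤ) (y)]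
    rw [pow_succ 2 X]
    omega

/-- **The range of the search.** -/
theorem range_le {D d q f' M : ℕ} (hD : 7 ≤ D) (hd : d ≤ D + 1) (hq : 3 ≤ q) (hM : M ≤ 2 * q ^ D)
    (hf : 2 ^ (5 * f') ≤ 8 * M) (hs : q ^ D ≤ 2 ^ 20 * d * (f' ^ 4 * (q + 1) ^ 3)) :
    Nat.log2 q * (D - 3) ≤ 50 := by
  by_contra hcon
  obtain ⟨l, hl⟩ : ∃ l, l = Nat.log2 q := ⟨_, rfl⟩
  rw [← hl] at hcon
  have hl1 : 2 ^ l ≤ q := by rw [hl]; exact Nat.log2_self_le (by omega)
  have hl2 : q < 2 ^ (l + 1) := by rw [hl]; exact Nat.lt_log2_self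
  have hl0 : 1 ≤ l := by
    by_contra h0
    have : l = 0 := by omega
    rw [this] at hl2
    omega
  obtain ⟨X, hX⟩ : ∃ X, X = l * (D - 3) := ⟨_, rfl⟩
  rw [← hX] at hcon
  -- `f' ≤ X`
  have h1 : 2 ^ (5 * f') < 2 ^ (4 + D * (l + 1)) := by
    calc 2 ^ (5 * f') ≤ 8 * M := hf
      _ ≤ 16 * q ^ D := by omega
      _ < 16 * (2 ^ (l + 1)) ^ D := by
          apply Nat.mul_lt_mul_of_pos_left _ (by norm_num)
          exact Nat.pow_lt_pow_left hl2 (by omega)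
      _ = 2 ^ (4 + D * (l + 1)) := by rw [← pow_mul, pow_add, mul_comm D]; norm_num
  have h2 : 5 * f' < 4 + D * (l + 1) := (Nat.pow_lt_pow_iff_right (by norm_num)).1 h1
  have h3 : 4 * (D * (l + 1)) ≤ 14 * X := by
    rw [hX]
    calc 4 * (D * (l + 1)) = (4 * D) * (l + 1) := by ring
      _ ≤ (7 * (D - 3)) * (2 * l) := Nat.mul_le_mul (by omega) (by omega)
      _ = 14 * (l * (D - 3)) := by ring
  have h4 : f' ≤ X := by omega
  have h5 : D + 1 ≤ 2 * X := by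
    rw [hX]
    calc D + 1 ≤ 2 * (1 * (D - 3)) := by omega
      _ ≤ 2 * (l * (D - 3)) := Nat.mul_le_mul_left _ (Nat.mul_le_mul_right _ hl0)
  have h6 : 2 ^ X ≤ q ^ (D - 3) := by
    rw [hX, pow_mul]
    exact Nat.pow_le_pow_left hl1 _
  have h7 : 27 * (q + 1) ^ 3 ≤ 64 * q ^ 3 := by
    have h8 : 3 * (q + 1) ≤ 4 * q := by omega
    calc 27 * (q + 1) ^ 3 = (3 * (q + 1)) ^ 3 := by ring
      _ ≤ (4 * q) ^ 3 := Nat.pow_le_pow_left h8 3
      _ = 64 * q ^ 3 := by ring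
  have h8 : q ^ D = q ^ (D - 3) * q ^ 3 := by rw [← pow_add]; congr 1; omega
  have h9 : 27 * q ^ (D - 3) * q ^ 3 ≤ (2 ^ 20 * d * f' ^ 4 * 64) * q ^ 3 := by
    calc 27 * q ^ (D - 3) * q ^ 3 = 27 * q ^ D := by rw [h8]; ring
      _ ≤ 27 * (2 ^ 20 * d * (f' ^ 4 * (q + 1) ^ 3)) := Nat.mul_le_mul_left _ hs
      _ = (2 ^ 20 * d * f' ^ 4) * (27 * (q + 1) ^ 3) := by ring
      _ ≤ (2 ^ 20 * d * f' ^ 4) * (64 * q ^ 3) := Nat.mul_le_mul_left _ h7
      _ = (2 ^ 20 * d * f' ^ 4 * 64) * q ^ 3 := by ring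
  have h10 := Nat.le_of_mul_le_mul_right h9 (Nat.pow_pos (by omega))
  have h11 : 2 ^ 20 * d * f' ^ 4 * 64 ≤ 128 * 2 ^ 20 * X ^ 5 := by
    calc 2 ^ 20 * d * f' ^ 4 * 64 = 64 * 2 ^ 20 * (d * f' ^ 4) := by ring
      _ ≤ 64 * 2 ^ 20 * ((2 * X) * X ^ 4) :=
        Nat.mul_le_mul_left _ (Nat.mul_le_mul (by omega) (Nat.pow_le_pow_left h4 4))
      _ = 128 * 2 ^ 20 * X ^ 5 := by ring
  have h12 := big_pow (X := X) (by omega)
  have h13 : 27 * 2 ^ X ≤ 27 * q ^ (D - 3) := Nat.mul_le_mul_left _ h6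
  omega

end Cfsg.Agent.R2.Spec.FIN
end

private theorem dce_e5618a7b0147 : _root_.True := by
  try have : _root_.True := by simp only [_root_.Cfsg.Agent.R2.Spec.FIN.pairsL.eq_3]
  try have : _root_.True := by simp only [_root_.Cfsg.Agent.R2.Spec.FIN.pairsL.eq_6]
  try have : _root_.True := by simp only [_root_.Cfsg.Agent.R2.Spec.FIN.tstV.eq_1]
  try have : _root_.True := by simp only [_root_.Cfsg.Agent.R2.Spec.FIN.pairsL.eq_5]
  try have : _root_.True := by simp only [_root_.Cfsg.Agent.R2.Spec.FIN.Bf.eq_1]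
  try have : _root_.True := by simp only [_root_.Cfsg.Agent.R2.Spec.FIN.pairsL.eq_7]
  try have : _root_.True := by simp only [_root_.Cfsg.Agent.R2.Spec.FIN.chkT.eq_1]
  try have : _root_.True := by simp only [_root_.Cfsg.Agent.R2.Spec.FIN.ppB.eq_1]
  try have : _root_.True := by simp only [_root_.Cfsg.Agent.R2.Spec.FIN.killH.eq_1]
  try have : _root_.True := by simp only [_root_.Cfsg.Agent.R2.Spec.FIN.szB.eq_1]
  try have : _root_.True := by simp only [_root_.Cfsg.Agent.R2.Spec.FIN.pairsL._sparseCasesOn_1.else_eq]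
  try have : _root_.True := by simp only [_root_.Cfsg.Agent.R2.Spec.FIN.chkM.eq_1]
  try have : _root_.True := by simp only [_root_.Cfsg.Agent.R2.Spec.FIN.Bf.eq_2]
  try have : _root_.True := by simp only [_root_.Cfsg.Agent.R2.Spec.FIN.chkQ.eq_1]
  try have : _root_.True := by simp only [_root_.Cfsg.Agent.R2.Spec.FIN.chkN.eq_1]
  try have : _root_.True := by simp only [_root_.Cfsg.Agent.R2.Spec.FIN.npB.eq_1]
  try have : _root_.True := by simp only [_root_.Cfsg.Agent.R2.Spec.FIN.ab.eq_1]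
  try have : _root_.True := by simp only [_root_.Cfsg.Agent.R2.Spec.FIN.tstE.eq_1]
  try have : _root_.True := by simp only [_root_.Cfsg.Agent.R2.Spec.FIN.pairsL.eq_4]
  try have : _root_.True := by simp only [_root_.Cfsg.Agent.R2.Spec.FIN.Bf.eq_def]
  try have : _root_.True := by simp only [_root_.Cfsg.Agent.R2.Spec.FIN.pairsL.eq_1]
  try have : _root_.True := by simp only [_root_.Cfsg.Agent.R2.Spec.FIN.pairsL.eq_2]
  exact _root_.True.intro
end

-- part: R2/Spec/FIN/NumA_mg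
section
set_option linter.all false
open scoped Cfsg.Agent.FastGrp

-- part: R2/Spec/FIN/NumA
section
/-! # S3435, packet FIN: the search, part 1 (helper7) -/

set_option autoImplicit false

namespace Cfsg.Agent.R2.Spec.FIN

/-- the logarithm by halving -/
private noncomputable def lgK (k : ℕ) : ℕ → ℕ :=
  Nat.rec (fun n => Bool.rec 0 (Nat.log2 n) (Nat.ble 2 n)) (fun k ih n => force (Nat.pow 2 k) fun s =>
    force (Nat.shiftRight n s) fun m => Bool.rec (Nat.add s (ih m)) (ih n) (Nat.beq m 0)) k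

private theorem lgK_eq : ∀ k n : ℕ, lgK k n = Nat.log2 n
  | 0, n => by
    change (Bool.rec 0 (Nat.log2 n) (Nat.ble 2 n) : ℕ) = _
    cases h : Nat.ble 2 n with
    | true => rfl
    | false =>
      have h1 : n < 2 := Nat.lt_of_not_le fun h3 => by rw [Nat.ble_eq_true_of_le h3] at h; exact Bool.noConfusion h
      obtain rfl | rfl : n = 0 ∨ n = 1 := by omega
      · rfl
      · exact (Nat.log2_two_pow (n := 0)).symm
  | k + 1, n => by
    change (force (2 ^ k) fun s => force (n >>> s) fun m =>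
      (Bool.rec (s + lgK k m) (lgK k n) (Nat.beq m 0) : ℕ)) = _
    rw [force_eq, force_eq, lgK_eq, lgK_eq]
    cases h : Nat.beq (n >>> 2 ^ k) 0 with
    | true => rfl
    | false =>
      obtain ⟨s, hs⟩ : ∃ s, s = 2 ^ k := ⟨_, rfl⟩
      rw [← hs] at h ⊢
      have h0 : n >>> s ≠ 0 := fun h1 => by rw [h1] at h; exact Bool.noConfusion h
      change s + Nat.log2 (n >>> s) = _
      rw [Nat.shiftRight_eq_div_pow] at h0 ⊢
      have h1 := Nat.log2_self_le h0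
      have h2 := Nat.lt_log2_self (n := n / 2 ^ s)
      rw [Nat.le_div_iff_mul_le (Nat.two_pow_pos s), ← pow_add] at h1
      rw [Nat.div_lt_iff_lt_mul (Nat.two_pow_pos s), ← pow_add] at h2
      have hn : n ≠ 0 := fun h3 => h0 (by rw [h3, Nat.zero_div])
      have h3 := (Nat.le_log2 hn).2 h1
      have h4 := (Nat.log2_lt hn).2 h2
      omega

private theorem lg_eq : Nat.log2 = lgK 7 := funext fun n => (lgK_eq 7 n).symm

private noncomputable def _root_.Cfsg.Agent.KO7af9f87.k0 : (by first | exact type_of% @Cfsg.Agent.R2.Spec.FIN.force | exact Unit : Sort _) := by first | (refine @Subtype.val _ (fun g => @Cfsg.Agent.R2.Spec.FIN.force = @g) (@Subtype.mk _ _ (@(fun x0 x1 x2 => @Nat.rec.{1} @(fun x3 => @x0) (@x2 (nat_lit 0)) @(fun x3 x4 => @x2 (@Nat.succ @x3)) @x1)) ?_); rfl') | exact @Cfsg.Agent.R2.Spec.FIN.force | exact ()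
private theorem _root_.Cfsg.Agent.KO7af9f87.e0 : (by first | exact @Cfsg.Agent.R2.Spec.FIN.force = @_root_.Cfsg.Agent.KO7af9f87.k0 | exact True : Prop) := by first | (delta _root_.Cfsg.Agent.KO7af9f87.k0; exact @Subtype.property _ (fun g => @Cfsg.Agent.R2.Spec.FIN.force = @g) _) | rfl | trivial
private theorem _root_.Cfsg.Agent.KO7af9f87.e1.{ku, kv} {α : Type kv} {M : List α → Sort ku} (φ : ∀ l, M l) {z : M List.nil} {s : ∀ a l, M l → M (List.cons a l)} (h0 : φ List.nil = z) (hs : ∀ a l, φ (List.cons a l) = s a l (φ l)) (l : List α) : φ l = @List.rec α M z s l := List.rec h0 (fun a l ih => (hs a l).trans (congrArg (s a l) ih)) l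
private noncomputable def _root_.Cfsg.Agent.KO7af9f87.k2.{ku0} : type_of% @List.all.{ku0} := @(fun x0 x1 x2 => @List.rec.{(ku0+1), ku0} @x0 @(fun x3 => (@x0 → @Bool) → @Bool) @(fun x3 => @Bool.true) @(fun x3 x4 x5 x6 => @Bool.rec.{1} @(fun x7 => @Bool) @Bool.false (@x5 @x6) (@x6 @x3)) @x1 @x2)
private theorem _root_.Cfsg.Agent.KO7af9f87.e2.{ku0} : @List.all.{ku0} = @_root_.Cfsg.Agent.KO7af9f87.k2.{ku0} := by delta _root_.Cfsg.Agent.KO7af9f87.k2; funext a0 a1 a2; refine (congrFun (_root_.Cfsg.Agent.KO7af9f87.e1 (fun a1 a2 => @List.all.{ku0} a0 a1 a2) ?_ (fun c0 c1 => ?_) a1) a2 :) <;> (rfl')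
private noncomputable def _root_.Cfsg.Agent.KO7af9f87.k3 : (by first | exact type_of% @Cfsg.Agent.R2.Spec.FIN.pairsL | exact Unit : Sort _) := by first | (refine @Subtype.val _ (fun g => @Cfsg.Agent.R2.Spec.FIN.pairsL = @g) (@Subtype.mk _ _ (@(fun x0 => @Cfsg.Agent.H426.LieFam.Fam.rec.{1} @(fun x1 => ((@Nat.hasNotBit (nat_lit 63) (@Cfsg.Agent.H426.LieFam.Fam.ctorIdx @x1)) → @List.{0} (ℕ × ℕ)) → @List.{0} (ℕ × ℕ)) @(fun x1 x2 => ((@x1, @Nat.sub @x1 (nat_lit 1))) :: (((@Nat.sub @x1 (nat_lit 1), @x1)) :: [])) @(fun x1 x2 => @Bool.rec.{1} @(fun x3 => @List.{0} (ℕ × ℕ)) [] (((@x1, @Nat.mul (nat_lit 2) @x1)) :: (((@Nat.mul (nat_lit 2) @x1, @x1)) :: [])) (@Nat.beq (@Nat.mod @x1 (nat_lit 2)) (nat_lit 1))) @(fun x1 x2 => ((@x1, @Nat.sub @x1 (nat_lit 1))) :: (((@Nat.sub @x1 (nat_lit 1), @x1)) :: [])) @(fun x1 x2 => @Bool.rec.{1} @(fun x3 => @List.{0} (ℕ × ℕ)) [] (((@x1, @Nat.mul (nat_lit 2) @x1)) :: (((@Nat.mul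 (nat_lit 2) @x1, @x1)) :: [])) (@Nat.beq (@Nat.mod @x1 (nat_lit 2)) (nat_lit 1))) @(fun x1 x2 => @Bool.rec.{1} @(fun x3 => @List.{0} (ℕ × ℕ)) (((@Nat.sub @x1 (nat_lit 1), @Nat.mul (nat_lit 2) (@Nat.sub @x1 (nat_lit 1)))) :: (((@Nat.mul (nat_lit 2) (@Nat.sub @x1 (nat_lit 1)), @Nat.sub @x1 (nat_lit 1))) :: [])) (((@x1, @Nat.mul (nat_lit 2) (@Nat.sub @x1 (nat_lit 1)))) :: (((@Nat.mul (nat_lit 2) (@Nat.sub @x1 (nat_lit 1)), @x1)) :: [])) (@Nat.beq (@Nat.mod @x1 (nat_lit 2)) (nat_lit 1))) @(fun x1 x2 => ((@Nat.mul (nat_lit 2) @x1, @Nat.mul (nat_lit 2) (@Nat.sub @x1 (nat_lit 1)))) :: (((@Nat.mul (nat_lit 2) (@Nat.sub @x1 (nat_lit 1)), @Nat.mul (nat_lit 2) @x1)) :: [])) @(fun x1 => @x1 (@Nat.ne_of_beq_eq_false _ _ (@Eq.refl.{1} _ @Bool.false))) @(fun x1 => @x1 (@Nat.ne_of_beq_eq_false _ _ (@Eq.refl.{1} _ @Bool.false))) @(fun x1 => @x1 (@Nat.ne_of_beq_eq_false _ _ (@Eq.refl.{1} _ @Bool.false))) @(fun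 x1 => @x1 (@Nat.ne_of_beq_eq_false _ _ (@Eq.refl.{1} _ @Bool.false))) @(fun x1 => @x1 (@Nat.ne_of_beq_eq_false _ _ (@Eq.refl.{1} _ @Bool.false))) @(fun x1 => @x1 (@Nat.ne_of_beq_eq_false _ _ (@Eq.refl.{1} _ @Bool.false))) @(fun x1 => @x1 (@Nat.ne_of_beq_eq_false _ _ (@Eq.refl.{1} _ @Bool.false))) @(fun x1 => @x1 (@Nat.ne_of_beq_eq_false _ _ (@Eq.refl.{1} _ @Bool.false))) @(fun x1 => @x1 (@Nat.ne_of_beq_eq_false _ _ (@Eq.refl.{1} _ @Bool.false))) @(fun x1 => @x1 (@Nat.ne_of_beq_eq_false _ _ (@Eq.refl.{1} _ @Bool.false))) @x0 @(fun x1 => []))) ?_); (try delta Cfsg.Agent.R2.Spec.FIN.pairsL); (try generalize @Cfsg.Agent.H426.LieFam.Fam.ctorIdx = g0); rfl') | exact @Cfsg.Agent.R2.Spec.FIN.pairsL | exact ()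
private theorem _root_.Cfsg.Agent.KO7af9f87.e3 : (by first | exact @Cfsg.Agent.R2.Spec.FIN.pairsL = @_root_.Cfsg.Agent.KO7af9f87.k3 | exact True : Prop) := by first | (delta _root_.Cfsg.Agent.KO7af9f87.k3; exact @Subtype.property _ (fun g => @Cfsg.Agent.R2.Spec.FIN.pairsL = @g) _) | rfl | trivial
private noncomputable def _root_.Cfsg.Agent.KO7af9f87.oEq.{ku} (α : Sort ku) (a b : Nat) (f t : α) : α := @Decidable.rec (a = b) (fun _ => α) (fun _ => f) (fun _ => t) (Nat.decEq a b)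
private noncomputable def _root_.Cfsg.Agent.KO7af9f87.k4.{ku} (α : Sort ku) (a b : Nat) (f t : α) : α := @Bool.rec (fun _ => α) f t (Nat.beq a b)
private theorem _root_.Cfsg.Agent.KO7af9f87.e4.{ku} : @_root_.Cfsg.Agent.KO7af9f87.oEq.{ku} = @_root_.Cfsg.Agent.KO7af9f87.k4.{ku} := funext fun α => funext fun a => funext fun b => funext fun f => funext fun t => by delta _root_.Cfsg.Agent.KO7af9f87.oEq _root_.Cfsg.Agent.KO7af9f87.k4; cases h : Nat.beq a b <;> cases Nat.decEq a b <;> rename_i g <;> first | rfl | exact absurd g (Nat.ne_of_beq_eq_false h) | exact absurd (Nat.eq_of_beq_eq_true h) g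
private noncomputable def _root_.Cfsg.Agent.KO7af9f87.k5 : (by first | exact type_of% @Cfsg.Agent.R2.Spec.E.dimL | exact Unit : Sort _) := by first | (refine @Subtype.val _ (fun g => @Cfsg.Agent.R2.Spec.E.dimL = @g) (@Subtype.mk _ _ (@(fun x0 => @Cfsg.Agent.H426.LieFam.Fam.rec.{1} @(fun x1 => ((@Nat.hasNotBit (nat_lit 63) (@Cfsg.Agent.H426.LieFam.Fam.ctorIdx @x1)) → ℕ) → ℕ) @(fun x1 x2 => @Nat.sub @x1 (nat_lit 1)) @(fun x1 x2 => @x1) @(fun x1 x2 => @Nat.sub @x1 (nat_lit 1)) @(fun x1 x2 => @x1) @(fun x1 x2 => @Cfsg.Agent.KO7af9f87.k4.{1} ℕ (@Nat.mod @x1 (nat_lit 2)) (nat_lit 0) @x1 (@Nat.sub @x1 (nat_lit 1))) @(fun x1 x2 => @x1) @(fun x1 => @x1 (@Nat.ne_of_beq_eq_false _ _ (@Eq.refl.{1} _ @Bool.false))) @(fun x1 => @x1 (@Nat.ne_of_beq_eq_false _ _ (@Eq.refl.{1} _ @Bool.false))) @(fun x1 => @x1 (@Nat.ne_of_beq_eq_false _ _ (@Eq.refl.{1} _ @Bool.false))) @(fun x1 => @x1 (@Nat.ne_of_beq_eq_false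 _ _ (@Eq.refl.{1} _ @Bool.false))) @(fun x1 => @x1 (@Nat.ne_of_beq_eq_false _ _ (@Eq.refl.{1} _ @Bool.false))) @(fun x1 => @x1 (@Nat.ne_of_beq_eq_false _ _ (@Eq.refl.{1} _ @Bool.false))) @(fun x1 => @x1 (@Nat.ne_of_beq_eq_false _ _ (@Eq.refl.{1} _ @Bool.false))) @(fun x1 => @x1 (@Nat.ne_of_beq_eq_false _ _ (@Eq.refl.{1} _ @Bool.false))) @(fun x1 => @x1 (@Nat.ne_of_beq_eq_false _ _ (@Eq.refl.{1} _ @Bool.false))) @(fun x1 => @x1 (@Nat.ne_of_beq_eq_false _ _ (@Eq.refl.{1} _ @Bool.false))) @x0 @(fun x1 => nat_lit 0))) ?_); rewrite [← Cfsg.Agent.KO7af9f87.e4.{1}]; (try delta Cfsg.Agent.R2.Spec.E.dimL); (try generalize @Cfsg.Agent.H426.LieFam.Fam.ctorIdx = g0); rfl') | exact @Cfsg.Agent.R2.Spec.E.dimL | exact ()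
private theorem _root_.Cfsg.Agent.KO7af9f87.e5 : (by first | exact @Cfsg.Agent.R2.Spec.E.dimL = @_root_.Cfsg.Agent.KO7af9f87.k5 | exact True : Prop) := by first | (delta _root_.Cfsg.Agent.KO7af9f87.k5; exact @Subtype.property _ (fun g => @Cfsg.Agent.R2.Spec.E.dimL = @g) _) | rfl | trivial
private noncomputable def _root_.Cfsg.Agent.KO7af9f87.k6 : (by first | exact type_of% @Cfsg.Agent.R2.Spec.E.dgL | exact Unit : Sort _) := by first | (refine @Subtype.val _ (fun g => @Cfsg.Agent.R2.Spec.E.dgL = @g) (@Subtype.mk _ _ (@(fun (x0 : @Cfsg.Agent.H426.LieFam.Fam) (x1 : @Nat) => @Cfsg.Agent.H426.LieFam.Fam.rec.{1} @(fun (x2 : @Cfsg.Agent.H426.LieFam.Fam) => (((@Nat.hasNotBit (nat_lit 5) (@Cfsg.Agent.H426.LieFam.Fam.ctorIdx @x2)) → @Nat) → @Nat)) @(fun (x2 : @Nat) (x3 : ((@Nat.hasNotBit (nat_lit 5) (@Cfsg.Agent.H426.LieFam.Fam.ctorIdx (@Cfsg.Agent.H426.LieFam.Fam.psl @x2))) → @Nat)) => @Nat.gcd @x2 (@Nat.sub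 @x1 (nat_lit 1))) @(fun (x2 : @Nat) (x3 : ((@Nat.hasNotBit (nat_lit 5) (@Cfsg.Agent.H426.LieFam.Fam.ctorIdx (@Cfsg.Agent.H426.LieFam.Fam.psp @x2))) → @Nat)) => @x3 (@Nat.ne_of_beq_eq_false (@Nat.land (@OfNat.ofNat.{0} @Nat (nat_lit 1) (@instOfNatNat (nat_lit 1))) (@Nat.shiftRight (nat_lit 5) (nat_lit 1))) (@OfNat.ofNat.{0} @Nat (nat_lit 1) (@instOfNatNat (nat_lit 1))) (@Eq.refl.{1} @Bool @Bool.false))) @(fun (x2 : @Nat) (x3 : ((@Nat.hasNotBit (nat_lit 5) (@Cfsg.Agent.H426.LieFam.Fam.ctorIdx (@Cfsg.Agent.H426.LieFam.Fam.psu @x2))) → @Nat)) => @Nat.gcd @x2 (@Nat.add @x1 (nat_lit 1))) @(fun (x2 : @Nat) (x3 : ((@Nat.hasNotBit (nat_lit 5) (@Cfsg.Agent.H426.LieFam.Fam.ctorIdx (@Cfsg.Agent.H426.LieFam.Fam.oodd @x2))) → @Nat)) => @x3 (@Nat.ne_of_beq_eq_false (@Nat.land (@OfNat.ofNat.{0} @Nat (nat_lit 1) (@instOfNatNat (nat_lit 1))) (@Nat.shiftRight (nat_lit 5) (nat_lit 3))) (@OfNat.ofNat.{0} @Nat (nat_lit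 1) (@instOfNatNat (nat_lit 1))) (@Eq.refl.{1} @Bool @Bool.false))) @(fun (x2 : @Nat) (x3 : ((@Nat.hasNotBit (nat_lit 5) (@Cfsg.Agent.H426.LieFam.Fam.ctorIdx (@Cfsg.Agent.H426.LieFam.Fam.oplus @x2))) → @Nat)) => @x3 (@Nat.ne_of_beq_eq_false (@Nat.land (@OfNat.ofNat.{0} @Nat (nat_lit 1) (@instOfNatNat (nat_lit 1))) (@Nat.shiftRight (nat_lit 5) (nat_lit 4))) (@OfNat.ofNat.{0} @Nat (nat_lit 1) (@instOfNatNat (nat_lit 1))) (@Eq.refl.{1} @Bool @Bool.false))) @(fun (x2 : @Nat) (x3 : ((@Nat.hasNotBit (nat_lit 5) (@Cfsg.Agent.H426.LieFam.Fam.ctorIdx (@Cfsg.Agent.H426.LieFam.Fam.ominus @x2))) → @Nat)) => @x3 (@Nat.ne_of_beq_eq_false (@Nat.land (@OfNat.ofNat.{0} @Nat (nat_lit 1) (@instOfNatNat (nat_lit 1))) (@Nat.shiftRight (nat_lit 5) (nat_lit 5))) (@OfNat.ofNat.{0} @Nat (nat_lit 1) (@instOfNatNat (nat_lit 1))) (@Eq.refl.{1} @Bool @Bool.false))) @(fun (x2 : ((@Nat.hasNotBit (nat_lit 5) (@Cfsg.Agent.H426.LieFam.Fam.ctorIdx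 @Cfsg.Agent.H426.LieFam.Fam.g2)) → @Nat)) => @x2 (@Nat.ne_of_beq_eq_false (@Nat.land (@OfNat.ofNat.{0} @Nat (nat_lit 1) (@instOfNatNat (nat_lit 1))) (@Nat.shiftRight (nat_lit 5) (nat_lit 6))) (@OfNat.ofNat.{0} @Nat (nat_lit 1) (@instOfNatNat (nat_lit 1))) (@Eq.refl.{1} @Bool @Bool.false))) @(fun (x2 : ((@Nat.hasNotBit (nat_lit 5) (@Cfsg.Agent.H426.LieFam.Fam.ctorIdx @Cfsg.Agent.H426.LieFam.Fam.f4)) → @Nat)) => @x2 (@Nat.ne_of_beq_eq_false (@Nat.land (@OfNat.ofNat.{0} @Nat (nat_lit 1) (@instOfNatNat (nat_lit 1))) (@Nat.shiftRight (nat_lit 5) (nat_lit 7))) (@OfNat.ofNat.{0} @Nat (nat_lit 1) (@instOfNatNat (nat_lit 1))) (@Eq.refl.{1} @Bool @Bool.false))) @(fun (x2 : ((@Nat.hasNotBit (nat_lit 5) (@Cfsg.Agent.H426.LieFam.Fam.ctorIdx @Cfsg.Agent.H426.LieFam.Fam.e6)) → @Nat)) => @x2 (@Nat.ne_of_beq_eq_false (@Nat.land (@OfNat.ofNat.{0} @Nat (nat_lit 1) (@instOfNatNat (nat_lit 1))) (@Nat.shiftRight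 (nat_lit 5) (nat_lit 8))) (@OfNat.ofNat.{0} @Nat (nat_lit 1) (@instOfNatNat (nat_lit 1))) (@Eq.refl.{1} @Bool @Bool.false))) @(fun (x2 : ((@Nat.hasNotBit (nat_lit 5) (@Cfsg.Agent.H426.LieFam.Fam.ctorIdx @Cfsg.Agent.H426.LieFam.Fam.e7)) → @Nat)) => @x2 (@Nat.ne_of_beq_eq_false (@Nat.land (@OfNat.ofNat.{0} @Nat (nat_lit 1) (@instOfNatNat (nat_lit 1))) (@Nat.shiftRight (nat_lit 5) (nat_lit 9))) (@OfNat.ofNat.{0} @Nat (nat_lit 1) (@instOfNatNat (nat_lit 1))) (@Eq.refl.{1} @Bool @Bool.false))) @(fun (x2 : ((@Nat.hasNotBit (nat_lit 5) (@Cfsg.Agent.H426.LieFam.Fam.ctorIdx @Cfsg.Agent.H426.LieFam.Fam.e8)) → @Nat)) => @x2 (@Nat.ne_of_beq_eq_false (@Nat.land (@OfNat.ofNat.{0} @Nat (nat_lit 1) (@instOfNatNat (nat_lit 1))) (@Nat.shiftRight (nat_lit 5) (nat_lit 10))) (@OfNat.ofNat.{0} @Nat (nat_lit 1) (@instOfNatNat (nat_lit 1))) (@Eq.refl.{1} @Bool @Bool.false))) @(fun (x2 : ((@Nat.hasNotBit (nat_lit 5)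 (@Cfsg.Agent.H426.LieFam.Fam.ctorIdx @Cfsg.Agent.H426.LieFam.Fam.te6)) → @Nat)) => @x2 (@Nat.ne_of_beq_eq_false (@Nat.land (@OfNat.ofNat.{0} @Nat (nat_lit 1) (@instOfNatNat (nat_lit 1))) (@Nat.shiftRight (nat_lit 5) (nat_lit 11))) (@OfNat.ofNat.{0} @Nat (nat_lit 1) (@instOfNatNat (nat_lit 1))) (@Eq.refl.{1} @Bool @Bool.false))) @(fun (x2 : ((@Nat.hasNotBit (nat_lit 5) (@Cfsg.Agent.H426.LieFam.Fam.ctorIdx @Cfsg.Agent.H426.LieFam.Fam.td4)) → @Nat)) => @x2 (@Nat.ne_of_beq_eq_false (@Nat.land (@OfNat.ofNat.{0} @Nat (nat_lit 1) (@instOfNatNat (nat_lit 1))) (@Nat.shiftRight (nat_lit 5) (nat_lit 12))) (@OfNat.ofNat.{0} @Nat (nat_lit 1) (@instOfNatNat (nat_lit 1))) (@Eq.refl.{1} @Bool @Bool.false))) @(fun (x2 : ((@Nat.hasNotBit (nat_lit 5) (@Cfsg.Agent.H426.LieFam.Fam.ctorIdx @Cfsg.Agent.H426.LieFam.Fam.sz)) → @Nat)) => @x2 (@Nat.ne_of_beq_eq_false (@Nat.land (@OfNat.ofNat.{0} @Nat (nat_lit 1) (@instOfNatNat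 (nat_lit 1))) (@Nat.shiftRight (nat_lit 5) (nat_lit 13))) (@OfNat.ofNat.{0} @Nat (nat_lit 1) (@instOfNatNat (nat_lit 1))) (@Eq.refl.{1} @Bool @Bool.false))) @(fun (x2 : ((@Nat.hasNotBit (nat_lit 5) (@Cfsg.Agent.H426.LieFam.Fam.ctorIdx @Cfsg.Agent.H426.LieFam.Fam.tf4)) → @Nat)) => @x2 (@Nat.ne_of_beq_eq_false (@Nat.land (@OfNat.ofNat.{0} @Nat (nat_lit 1) (@instOfNatNat (nat_lit 1))) (@Nat.shiftRight (nat_lit 5) (nat_lit 14))) (@OfNat.ofNat.{0} @Nat (nat_lit 1) (@instOfNatNat (nat_lit 1))) (@Eq.refl.{1} @Bool @Bool.false))) @(fun (x2 : ((@Nat.hasNotBit (nat_lit 5) (@Cfsg.Agent.H426.LieFam.Fam.ctorIdx @Cfsg.Agent.H426.LieFam.Fam.ree)) → @Nat)) => @x2 (@Nat.ne_of_beq_eq_false (@Nat.land (@OfNat.ofNat.{0} @Nat (nat_lit 1) (@instOfNatNat (nat_lit 1))) (@Nat.shiftRight (nat_lit 5) (nat_lit 15))) (@OfNat.ofNat.{0} @Nat (nat_lit 1) (@instOfNatNat (nat_lit 1))) (@Eq.refl.{1} @Bool @Bool.false))) @x0 @(fun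 (x2 : @Nat.hasNotBit (nat_lit 5) (@Cfsg.Agent.H426.LieFam.Fam.ctorIdx @x0)) => nat_lit 1))) ?_); (try delta Cfsg.Agent.R2.Spec.E.dgL); (try generalize @Cfsg.Agent.H426.LieFam.Fam.ctorIdx = g0); rfl') | exact @Cfsg.Agent.R2.Spec.E.dgL | exact ()
private theorem _root_.Cfsg.Agent.KO7af9f87.e6 : (by first | exact @Cfsg.Agent.R2.Spec.E.dgL = @_root_.Cfsg.Agent.KO7af9f87.k6 | exact True : Prop) := by first | (delta _root_.Cfsg.Agent.KO7af9f87.k6; exact @Subtype.property _ (fun g => @Cfsg.Agent.R2.Spec.E.dgL = @g) _) | rfl | trivial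
private noncomputable def _root_.Cfsg.Agent.KO7af9f87.k7 : (by first | exact type_of% @Cfsg.Agent.R2.Spec.FIN.loopV | exact Unit : Sort _) := by first | (refine @Subtype.val _ (fun g => @Cfsg.Agent.R2.Spec.FIN.loopV = @g) (@Subtype.mk _ _ (@(fun x0 x1 x2 x3 => @Nat.rec.{1} @(fun x4 => ℕ → @Bool) @(fun x4 => @Bool.false) @(fun x4 x5 x6 => @Bool.rec.{1} @(fun x7 => @Bool) (@Bool.rec.{1} @(fun x7 => @Bool) @Bool.false (@Cfsg.Agent.KO7af9f87.k0 _ (@Nat.add @x6 (nat_lit 1)) @x5) (@x0 @x6)) @Bool.true (@Nat.ble (@Nat.succ @x2) (@Nat.pow @x6 @x1))) @x3)) ?_); rewrite [← Cfsg.Agent.KO7af9f87.e0]; (try delta Cfsg.Agent.R2.Spec.FIN.loopV); (try generalize @Cfsg.Agent.R2.Spec.FIN.force = g0); rfl') | exact @Cfsg.Agent.R2.Spec.FIN.loopV | exact ()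
private theorem _root_.Cfsg.Agent.KO7af9f87.e7 : (by first | exact @Cfsg.Agent.R2.Spec.FIN.loopV = @_root_.Cfsg.Agent.KO7af9f87.k7 | exact True : Prop) := by first | (delta _root_.Cfsg.Agent.KO7af9f87.k7; exact @Subtype.property _ (fun g => @Cfsg.Agent.R2.Spec.FIN.loopV = @g) _) | rfl | trivial
private noncomputable def _root_.Cfsg.Agent.KO7af9f87.k8 : (by first | exact type_of% @Cfsg.Agent.R2.Spec.FIN.tstE | exact Unit : Sort _) := by first | (refine @Subtype.val _ (fun g => @Cfsg.Agent.R2.Spec.FIN.tstE = @g) (@Subtype.mk _ _ (@(fun x0 x1 x2 => @Bool.rec.{1} @(fun x3 => @Bool) @Bool.false (@Bool.rec.{1} @(fun x3 => @Bool) (@Bool.rec.{1} @(fun x3 => @Bool) @Bool.false (@Bool.rec.{1} @(fun x3 => @Bool) @Bool.false (@x0 (@Nat.add @x1 (nat_lit 2)) (@Cfsg.Agent.R2.Spec.P1.ttor (@Cfsg.Agent.H426.LieFam.Fam.psu (@Nat.add @x1 (nat_lit 2))) @x2 (@Nat.add @x1 (nat_lit 1)))) (@x0 (@Nat.add @x1 (nat_lit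 2)) (@Cfsg.Agent.R2.Spec.P1.ttor (@Cfsg.Agent.H426.LieFam.Fam.psu (@Nat.add @x1 (nat_lit 2))) @x2 (@Nat.add @x1 (nat_lit 2))))) (@Bool.rec.{1} @(fun x3 => @Bool) @Bool.false (@x0 (@Nat.add @x1 (nat_lit 2)) (@Cfsg.Agent.R2.Spec.P1.ttor (@Cfsg.Agent.H426.LieFam.Fam.psl (@Nat.add @x1 (nat_lit 2))) @x2 (@Nat.add @x1 (nat_lit 1)))) (@x0 (@Nat.add @x1 (nat_lit 2)) (@Cfsg.Agent.R2.Spec.P1.ttor (@Cfsg.Agent.H426.LieFam.Fam.psl (@Nat.add @x1 (nat_lit 2))) @x2 (@Nat.add @x1 (nat_lit 2)))))) @Bool.true (@Nat.ble (@Nat.succ @x1) (nat_lit 7))) (@Bool.rec.{1} @(fun x3 => @Bool) @Bool.false (@Bool.rec.{1} @(fun x3 => @Bool) (@Bool.rec.{1} @(fun x3 => @Bool) @Bool.false (@Bool.rec.{1} @(fun x3 => @Bool) (@x0 (@Nat.add @x1 (nat_lit 1)) (@Cfsg.Agent.R2.Spec.P1.ttor (@Cfsg.Agent.H426.LieFam.Fam.oplus (@Nat.add @x1 (nat_lit 1))) @x2 @x1)) (@x0 (@Nat.add @x1 (nat_lit 1)) (@Cfsg.Agent.R2.Spec.P1.ttor (@Cfsg.Agent.H426.LieFam.Fam.oplus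 (@Nat.add @x1 (nat_lit 1))) @x2 (@Nat.add @x1 (nat_lit 1)))) (@Nat.beq (@Nat.mod @x1 (nat_lit 2)) (nat_lit 0))) (@x0 (@Nat.add @x1 (nat_lit 1)) (@Cfsg.Agent.R2.Spec.P1.ttor (@Cfsg.Agent.H426.LieFam.Fam.oplus (@Nat.add @x1 (nat_lit 1))) @x2 (@Nat.mul (nat_lit 2) @x1)))) @Bool.true (@Nat.ble (@Nat.succ @x1) (nat_lit 6))) (@Bool.rec.{1} @(fun x3 => @Bool) @Bool.false (@Bool.rec.{1} @(fun x3 => @Bool) @Bool.false (@Bool.rec.{1} @(fun x3 => @Bool) (@x0 (@Nat.add @x1 (nat_lit 1)) (@Cfsg.Agent.R2.Spec.P1.ttor (@Cfsg.Agent.H426.LieFam.Fam.ominus (@Nat.add @x1 (nat_lit 1))) @x2 @x1)) @Bool.true (@Nat.beq (@Nat.mod @x1 (nat_lit 2)) (nat_lit 0))) (@Bool.rec.{1} @(fun x3 => @Bool) @Bool.false (@x0 (@Nat.add @x1 (nat_lit 1)) (@Cfsg.Agent.R2.Spec.P1.ttor (@Cfsg.Agent.H426.LieFam.Fam.ominus (@Nat.add @x1 (nat_lit 1))) @x2 (@Nat.mul (nat_lit 2) @x1))) (@x0 (@Nat.add @x1 (nat_lit 1)) (@Cfsg.Agent.R2.Spec.P1.ttor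 (@Cfsg.Agent.H426.LieFam.Fam.ominus (@Nat.add @x1 (nat_lit 1))) @x2 (@Nat.mul (nat_lit 2) (@Nat.add @x1 (nat_lit 1))))))) (@Bool.rec.{1} @(fun x3 => @Bool) @Bool.false (@Bool.rec.{1} @(fun x3 => @Bool) (@x0 @x1 (@Cfsg.Agent.R2.Spec.P1.ttor (@Cfsg.Agent.H426.LieFam.Fam.psp @x1) @x2 @x1)) @Bool.true (@Nat.beq (@Nat.mod @x1 (nat_lit 2)) (nat_lit 0))) (@x0 @x1 (@Cfsg.Agent.R2.Spec.P1.ttor (@Cfsg.Agent.H426.LieFam.Fam.psp @x1) @x2 (@Nat.mul (nat_lit 2) @x1)))))))) ?_); (try delta Cfsg.Agent.R2.Spec.FIN.tstE); (try generalize @Cfsg.Agent.R2.Spec.P1.ttor = g0); rfl') | exact @Cfsg.Agent.R2.Spec.FIN.tstE | exact ()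
private theorem _root_.Cfsg.Agent.KO7af9f87.e8 : (by first | exact @Cfsg.Agent.R2.Spec.FIN.tstE = @_root_.Cfsg.Agent.KO7af9f87.k8 | exact True : Prop) := by first | (delta _root_.Cfsg.Agent.KO7af9f87.k8; exact @Subtype.property _ (fun g => @Cfsg.Agent.R2.Spec.FIN.tstE = @g) _) | rfl | trivial
private noncomputable def _root_.Cfsg.Agent.KO7af9f87.k9 : (by first | exact type_of% @Cfsg.Agent.R2.Spec.FIN.wkill | exact Unit : Sort _) := by first | (refine @Subtype.val _ (fun g => @Cfsg.Agent.R2.Spec.FIN.wkill = @g) (@Subtype.mk _ _ (@(fun x0 x1 x2 => @Nat.rec.{1} @(fun x3 => @Bool) @Bool.true @(fun x3 x4 => @Bool.rec.{1} @(fun x5 => @Bool) @Bool.false @x4 (@Bool.rec.{1} @(fun x5 => @Bool) (@Nat.ble (@Nat.succ @x3) (nat_lit 3)) @Bool.true (@Bool.rec.{1} @(fun x5 => @Bool) @Bool.false (@Nat.beq (@Nat.gcd @x0 (@Nat.add (@Nat.pow @x2 @x3) (nat_lit 1))) (nat_lit 1)) (@Nat.beq (@Nat.gcd @x0 (@Nat.sub (@Nat.pow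 @x2 @x3) (nat_lit 1))) (nat_lit 1))))) (@Nat.add (@Nat.mul (nat_lit 2) @x1) (nat_lit 1)))) ?_); rfl') | exact @Cfsg.Agent.R2.Spec.FIN.wkill | exact ()
private theorem _root_.Cfsg.Agent.KO7af9f87.e9 : (by first | exact @Cfsg.Agent.R2.Spec.FIN.wkill = @_root_.Cfsg.Agent.KO7af9f87.k9 | exact True : Prop) := by first | (delta _root_.Cfsg.Agent.KO7af9f87.k9; exact @Subtype.property _ (fun g => @Cfsg.Agent.R2.Spec.FIN.wkill = @g) _) | rfl | trivial
private theorem _root_.Cfsg.Agent.KO7af9f87.e10.{ku} {M : Nat → Sort ku} (φ : ∀ n, M n) {z : M Nat.zero} {s : ∀ n, M n → M (Nat.succ n)} (h0 : φ Nat.zero = z) (hs : ∀ n, φ (Nat.succ n) = s n (φ n)) (n : Nat) : φ n = @Nat.rec M z s n := Nat.rec h0 (fun n ih => (hs n).trans (congrArg (s n) ih)) n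
private noncomputable def _root_.Cfsg.Agent.KO7af9f87.k11 : (by first | exact type_of% @Cfsg.Agent.R2.Spec.FIN.strip | exact Unit : Sort _) := by first | (refine @Subtype.val _ (fun g => @Cfsg.Agent.R2.Spec.FIN.strip = @g) (@Subtype.mk _ _ (@(fun x0 x1 x2 => @Nat.rec.{1} @(fun x3 => ℕ → ℕ) @(fun x3 => @x3) @(fun x3 x4 x5 => @x4 (@Nat.div @x5 (@Nat.gcd @x5 @x0))) @x1 @x2)) ?_); funext a0 a1 a2; refine (congrFun (_root_.Cfsg.Agent.KO7af9f87.e10 (fun a1 a2 => @Cfsg.Agent.R2.Spec.FIN.strip a0 a1 a2) ?_ (fun c0 => ?_) a1) a2 :) <;> (rfl')) | exact @Cfsg.Agent.R2.Spec.FIN.strip | exact ()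
private theorem _root_.Cfsg.Agent.KO7af9f87.e11 : (by first | exact @Cfsg.Agent.R2.Spec.FIN.strip = @_root_.Cfsg.Agent.KO7af9f87.k11 | exact True : Prop) := by first | (delta _root_.Cfsg.Agent.KO7af9f87.k11; exact @Subtype.property _ (fun g => @Cfsg.Agent.R2.Spec.FIN.strip = @g) _) | rfl | trivial
private noncomputable def _root_.Cfsg.Agent.KO7af9f87.k12 : (by first | exact type_of% @Cfsg.Agent.R2.Spec.FIN.ab | exact Unit : Sort _) := by first | (refine @Subtype.val _ (fun g => @Cfsg.Agent.R2.Spec.FIN.ab = @g) (@Subtype.mk _ _ (@(fun x0 x1 x2 => @Bool.rec.{1} @(fun x3 => ℕ) (@Nat.sub (@Nat.pow @x1 @x2) (nat_lit 1)) (@Nat.add (@Nat.pow @x1 @x2) (nat_lit 1)) (@Bool.rec.{1} @(fun x3 => @Bool) @Bool.false (@Nat.beq (@Nat.mod @x2 (nat_lit 2)) (nat_lit 1)) @x0))) ?_); rfl') | exact @Cfsg.Agent.R2.Spec.FIN.ab | exact ()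
private theorem _root_.Cfsg.Agent.KO7af9f87.e12 : (by first | exact @Cfsg.Agent.R2.Spec.FIN.ab = @_root_.Cfsg.Agent.KO7af9f87.k12 | exact True : Prop) := by first | (delta _root_.Cfsg.Agent.KO7af9f87.k12; exact @Subtype.property _ (fun g => @Cfsg.Agent.R2.Spec.FIN.ab = @g) _) | rfl | trivial
private noncomputable def _root_.Cfsg.Agent.KO7af9f87.k13 : (by first | exact type_of% @Cfsg.Agent.R2.Spec.FIN.Bf | exact Unit : Sort _) := by first | (refine @Subtype.val _ (fun g => @Cfsg.Agent.R2.Spec.FIN.Bf = @g) (@Subtype.mk _ _ (@(fun x0 x1 x2 x3 => @Nat.rec.{1} @(fun x4 => ℕ) (nat_lit 1) @(fun x4 x5 => @Nat.mul @x5 (@Bool.rec.{1} @(fun x6 => ℕ) (nat_lit 1) (@Cfsg.Agent.KO7af9f87.k12 @x0 @x1 (@Nat.add @x4 (nat_lit 1))) (@Bool.rec.{1} @(fun x6 => @Bool) @Bool.false (@Nat.beq (@Nat.mod @x2 (@Nat.add @x4 (nat_lit 1))) (nat_lit 0)) (@Nat.ble (@Nat.succ (@Nat.add @x4 (nat_lit 1))) @x2)))) @x3)) ?_); rewrite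 [← Cfsg.Agent.KO7af9f87.e12]; funext a0 a1 a2 a3; refine (_root_.Cfsg.Agent.KO7af9f87.e10 (fun a3 => @Cfsg.Agent.R2.Spec.FIN.Bf a0 a1 a2 a3) ?_ (fun c0 => ?_) a3 :) <;> ((try delta Cfsg.Agent.R2.Spec.FIN.Bf Cfsg.Agent.R2.Spec.FIN.Bf._f); (try generalize @Cfsg.Agent.R2.Spec.FIN.ab = g0); rfl')) | exact @Cfsg.Agent.R2.Spec.FIN.Bf | exact ()
private theorem _root_.Cfsg.Agent.KO7af9f87.e13 : (by first | exact @Cfsg.Agent.R2.Spec.FIN.Bf = @_root_.Cfsg.Agent.KO7af9f87.k13 | exact True : Prop) := by first | (delta _root_.Cfsg.Agent.KO7af9f87.k13; exact @Subtype.property _ (fun g => @Cfsg.Agent.R2.Spec.FIN.Bf = @g) _) | rfl | trivial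
private noncomputable def _root_.Cfsg.Agent.KO7af9f87.k14 : (by first | exact type_of% @Cfsg.Agent.R2.Spec.FIN.killH | exact Unit : Sort _) := by first | (refine @Subtype.val _ (fun g => @Cfsg.Agent.R2.Spec.FIN.killH = @g) (@Subtype.mk _ _ (@(fun x0 x1 x2 x3 => @Bool.rec.{1} @(fun x4 => @Bool) @Bool.false (@Nat.beq (@Nat.gcd (@Cfsg.Agent.KO7af9f87.k11 (@Cfsg.Agent.KO7af9f87.k13 @x0 @x1 @x2 @x2) (nat_lit 12) (@Nat.gcd @x3 (@Cfsg.Agent.KO7af9f87.k12 @x0 @x1 @x2))) (@Cfsg.Agent.KO7af9f87.k13 @x0 @x1 @x2 @x2)) (nat_lit 1)) (@Bool.rec.{1} @(fun x4 => @Bool) @Bool.false (@Nat.beq (@Nat.mod (@Cfsg.Agent.KO7af9f87.k12 @x0 @x1 @x2) (@Cfsg.Agent.KO7af9f87.k11 (@Cfsg.Agent.KO7af9f87.k13 @x0 @x1 @x2 @x2) (nat_lit 12) (@Nat.gcd @x3 (@Cfsg.Agent.KO7af9f87.k12 @x0 @x1 @x2)))) (nat_lit 0)) (@Bool.rec.{1} @(fun x4 => @Bool) @Bool.false (@Nat.beq (@Nat.mod @x3 (@Cfsg.Agent.KO7af9f87.k11 (@Cfsg.Agent.KO7af9f87.k13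 @x0 @x1 @x2 @x2) (nat_lit 12) (@Nat.gcd @x3 (@Cfsg.Agent.KO7af9f87.k12 @x0 @x1 @x2)))) (nat_lit 0)) (@Nat.ble (@Nat.succ (nat_lit 1)) (@Cfsg.Agent.KO7af9f87.k11 (@Cfsg.Agent.KO7af9f87.k13 @x0 @x1 @x2 @x2) (nat_lit 12) (@Nat.gcd @x3 (@Cfsg.Agent.KO7af9f87.k12 @x0 @x1 @x2)))))))) ?_); rewrite [← Cfsg.Agent.KO7af9f87.e12, ← Cfsg.Agent.KO7af9f87.e13, ← Cfsg.Agent.KO7af9f87.e11]; (try delta Cfsg.Agent.R2.Spec.FIN.killH); (try generalize @Cfsg.Agent.R2.Spec.FIN.strip = g0); (try generalize @Cfsg.Agent.R2.Spec.FIN.Bf = g1); (try generalize @Cfsg.Agent.R2.Spec.FIN.ab = g2); rfl') | exact @Cfsg.Agent.R2.Spec.FIN.killH | exact ()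
private theorem _root_.Cfsg.Agent.KO7af9f87.e14 : (by first | exact @Cfsg.Agent.R2.Spec.FIN.killH = @_root_.Cfsg.Agent.KO7af9f87.k14 | exact True : Prop) := by first | (delta _root_.Cfsg.Agent.KO7af9f87.k14; exact @Subtype.property _ (fun g => @Cfsg.Agent.R2.Spec.FIN.killH = @g) _) | rfl | trivial
private noncomputable def _root_.Cfsg.Agent.KO7af9f87.k15 : (by first | exact type_of% @Cfsg.Agent.R2.Spec.FIN.tstP | exact Unit : Sort _) := by first | (refine @Subtype.val _ (fun g => @Cfsg.Agent.R2.Spec.FIN.tstP = @g) (@Subtype.mk _ _ (@(fun x0 x1 x2 x3 x4 x5 x6 x7 => @Bool.rec.{1} @(fun x8 => @Bool) (@Cfsg.Agent.KO7af9f87.k9 @x1 @x5 @x6) @Bool.true (@Bool.rec.{1} @(fun x8 => @Bool) (@Cfsg.Agent.KO7af9f87.k14 @x4 @x2 @x3 (@Nat.div @x0 @x7)) @Bool.true (@Bool.rec.{1} @(fun x8 => @Bool) @Bool.true @Bool.false (@Nat.beq (@Nat.mod @x0 @x7) (nat_lit 0)))))) ?_); rewrite [← Cfsg.Agent.KO7af9f87.e14, ←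 Cfsg.Agent.KO7af9f87.e9]; (try delta Cfsg.Agent.R2.Spec.FIN.tstP); (try generalize @Cfsg.Agent.R2.Spec.FIN.wkill = g0); (try generalize @Cfsg.Agent.R2.Spec.FIN.killH = g1); rfl') | exact @Cfsg.Agent.R2.Spec.FIN.tstP | exact ()
private theorem _root_.Cfsg.Agent.KO7af9f87.e15 : (by first | exact @Cfsg.Agent.R2.Spec.FIN.tstP = @_root_.Cfsg.Agent.KO7af9f87.k15 | exact True : Prop) := by first | (delta _root_.Cfsg.Agent.KO7af9f87.k15; exact @Subtype.property _ (fun g => @Cfsg.Agent.R2.Spec.FIN.tstP = @g) _) | rfl | trivial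
private noncomputable def _root_.Cfsg.Agent.KO7af9f87.k16 : (by first | exact type_of% @Cfsg.Agent.R2.Spec.FIN.npB | exact Unit : Sort _) := by first | (refine @Subtype.val _ (fun g => @Cfsg.Agent.R2.Spec.FIN.npB = @g) (@Subtype.mk _ _ (@(fun x0 => @Bool.rec.{1} @(fun x1 => @Bool) (@Bool.rec.{1} @(fun x1 => @Bool) @Bool.false (@Bool.rec.{1} @(fun x1 => @Bool) @Bool.true @Bool.false (@Nat.beq @x0 (nat_lit 13))) (@Nat.beq (@Nat.mod @x0 (nat_lit 13)) (nat_lit 0))) @Bool.true (@Bool.rec.{1} @(fun x1 => @Bool) (@Bool.rec.{1} @(fun x1 => @Bool) @Bool.false (@Bool.rec.{1} @(fun x1 => @Bool) @Bool.true @Bool.false (@Nat.beq @x0 (nat_lit 11))) (@Nat.beq (@Nat.mod @x0 (nat_lit 11)) (nat_lit 0))) @Bool.true (@Bool.rec.{1} @(fun x1 => @Bool) (@Bool.rec.{1} @(fun x1 => @Bool) @Bool.false (@Bool.rec.{1} @(fun x1 => @Bool) @Bool.true @Bool.false (@Nat.beq @x0 (nat_lit 7))) (@Nat.beq (@Nat.mod @x0 (nat_lit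 7)) (nat_lit 0))) @Bool.true (@Bool.rec.{1} @(fun x1 => @Bool) (@Bool.rec.{1} @(fun x1 => @Bool) @Bool.false (@Bool.rec.{1} @(fun x1 => @Bool) @Bool.true @Bool.false (@Nat.beq @x0 (nat_lit 5))) (@Nat.beq (@Nat.mod @x0 (nat_lit 5)) (nat_lit 0))) @Bool.true (@Bool.rec.{1} @(fun x1 => @Bool) (@Bool.rec.{1} @(fun x1 => @Bool) @Bool.false (@Bool.rec.{1} @(fun x1 => @Bool) @Bool.true @Bool.false (@Nat.beq @x0 (nat_lit 3))) (@Nat.beq (@Nat.mod @x0 (nat_lit 3)) (nat_lit 0))) @Bool.true (@Bool.rec.{1} @(fun x1 => @Bool) @Bool.false (@Bool.rec.{1} @(fun x1 => @Bool) @Bool.true @Bool.false (@Nat.beq @x0 (nat_lit 2))) (@Nat.beq (@Nat.mod @x0 (nat_lit 2)) (nat_lit 0))))))))) ?_); rfl') | exact @Cfsg.Agent.R2.Spec.FIN.npB | exact ()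
private theorem _root_.Cfsg.Agent.KO7af9f87.e16 : (by first | exact @Cfsg.Agent.R2.Spec.FIN.npB = @_root_.Cfsg.Agent.KO7af9f87.k16 | exact True : Prop) := by first | (delta _root_.Cfsg.Agent.KO7af9f87.k16; exact @Subtype.property _ (fun g => @Cfsg.Agent.R2.Spec.FIN.npB = @g) _) | rfl | trivial
private noncomputable def _root_.Cfsg.Agent.KO7af9f87.k17 : (by first | exact type_of% @Cfsg.Agent.R2.Spec.FIN.tstV | exact Unit : Sort _) := by first | (refine @Subtype.val _ (fun g => @Cfsg.Agent.R2.Spec.FIN.tstV = @g) (@Subtype.mk _ _ (@(fun x0 x1 x2 x3 x4 x5 x6 x7 => @Bool.rec.{1} @(fun x8 => @Bool) (@Cfsg.Agent.KO7af9f87.k0 _ (@Nat.pow @x7 @x5) @(fun x8 => @Cfsg.Agent.KO7af9f87.k8 @(fun x9 x10 => @Cfsg.Agent.KO7af9f87.k0 _ @x10 @(fun x11 => @Cfsg.Agent.KO7af9f87.k15 @x0 @x1 @x2 @x3 @x4 @x9 @x8 @x11)) @x6 @x8)) @Bool.true (@Bool.rec.{1} @(fun x8 => @Bool) (@Nat.beq (@Nat.mod @x0 @x7) (nat_lit 0)) @Bool.true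 (@Bool.rec.{1} @(fun x8 => @Bool) (@Nat.beq (@Nat.mod @x2 @x7) (nat_lit 0)) @Bool.true (@Cfsg.Agent.KO7af9f87.k16 @x7))))) ?_); rewrite [← Cfsg.Agent.KO7af9f87.e16, ← Cfsg.Agent.KO7af9f87.e15, ← Cfsg.Agent.KO7af9f87.e8, ← Cfsg.Agent.KO7af9f87.e0]; (try delta Cfsg.Agent.R2.Spec.FIN.tstV); (try generalize @Cfsg.Agent.R2.Spec.FIN.force = g0); (try generalize @Cfsg.Agent.R2.Spec.FIN.tstE = g1); (try generalize @Cfsg.Agent.R2.Spec.FIN.tstP = g2); (try generalize @Cfsg.Agent.R2.Spec.FIN.npB = g3); rfl') | exact @Cfsg.Agent.R2.Spec.FIN.tstV | exact ()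
private theorem _root_.Cfsg.Agent.KO7af9f87.e17 : (by first | exact @Cfsg.Agent.R2.Spec.FIN.tstV = @_root_.Cfsg.Agent.KO7af9f87.k17 | exact True : Prop) := by first | (delta _root_.Cfsg.Agent.KO7af9f87.k17; exact @Subtype.property _ (fun g => @Cfsg.Agent.R2.Spec.FIN.tstV = @g) _) | rfl | trivial
private noncomputable def _root_.Cfsg.Agent.KO7af9f87.k18 : (by first | exact type_of% @Cfsg.Agent.R2.Spec.FIN.tstF | exact Unit : Sort _) := by first | (refine @Subtype.val _ (fun g => @Cfsg.Agent.R2.Spec.FIN.tstF = @g) (@Subtype.mk _ _ (@(fun x0 x1 x2 x3 x4 x5 => @Nat.rec.{1} @(fun x6 => @Bool) @Bool.true @(fun x6 x7 => @Bool.rec.{1} @(fun x8 => @Bool) @Bool.false @x7 (@Cfsg.Agent.KO7af9f87.k0 _ (@Nat.add @x6 (nat_lit 5)) @(fun x8 => @Cfsg.Agent.KO7af9f87.k7 (@Cfsg.Agent.KO7af9f87.k17 @x0 @x1 @x2 @x3 @x4 @x5 @x8) (@Nat.mul @x5 @x8) (@Nat.mul (nat_lit 8) @x0) (nat_lit 5000) (nat_lit 2)))) (@Nat.sub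 (@Nat.div (@Nat.log2 (@Nat.mul (nat_lit 8) @x0)) @x5) (nat_lit 4)))) ?_); rewrite [← Cfsg.Agent.KO7af9f87.e17, ← Cfsg.Agent.KO7af9f87.e7, ← Cfsg.Agent.KO7af9f87.e0]; (try delta Cfsg.Agent.R2.Spec.FIN.tstF Cfsg.Agent.R2.Spec.FIN.allTo); (try generalize @Cfsg.Agent.R2.Spec.FIN.force = g0); (try generalize @Cfsg.Agent.R2.Spec.FIN.loopV = g1); (try generalize @Cfsg.Agent.R2.Spec.FIN.tstV = g2); rfl') | exact @Cfsg.Agent.R2.Spec.FIN.tstF | exact ()
private theorem _root_.Cfsg.Agent.KO7af9f87.e18 : (by first | exact @Cfsg.Agent.R2.Spec.FIN.tstF = @_root_.Cfsg.Agent.KO7af9f87.k18 | exact True : Prop) := by first | (delta _root_.Cfsg.Agent.KO7af9f87.k18; exact @Subtype.property _ (fun g => @Cfsg.Agent.R2.Spec.FIN.tstF = @g) _) | rfl | trivial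
private noncomputable def _root_.Cfsg.Agent.KO7af9f87.k19 : (by first | exact type_of% @Cfsg.Agent.R2.Spec.FIN.szB | exact Unit : Sort _) := by first | (refine @Subtype.val _ (fun g => @Cfsg.Agent.R2.Spec.FIN.szB = @g) (@Subtype.mk _ _ (@(fun x0 x1 x2 x3 x4 => @Nat.ble (@Nat.pow @x1 @x2) (@Nat.mul (@Nat.mul @x0 @x3) (@Nat.mul (@Nat.pow @x4 (nat_lit 4)) (@Nat.pow (@Nat.add @x1 (nat_lit 1)) (nat_lit 3)))))) ?_); rfl') | exact @Cfsg.Agent.R2.Spec.FIN.szB | exact ()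
private theorem _root_.Cfsg.Agent.KO7af9f87.e19 : (by first | exact @Cfsg.Agent.R2.Spec.FIN.szB = @_root_.Cfsg.Agent.KO7af9f87.k19 | exact True : Prop) := by first | (delta _root_.Cfsg.Agent.KO7af9f87.k19; exact @Subtype.property _ (fun g => @Cfsg.Agent.R2.Spec.FIN.szB = @g) _) | rfl | trivial
private noncomputable def _root_.Cfsg.Agent.KO7af9f87.k20 : (by first | exact type_of% @Cfsg.Agent.R2.Spec.FIN.chkM | exact Unit : Sort _) := by first | (refine @Subtype.val _ (fun g => @Cfsg.Agent.R2.Spec.FIN.chkM = @g) (@Subtype.mk _ _ (@(fun x0 x1 x2 x3 x4 x5 x6 x7 => @Cfsg.Agent.KO7af9f87.k0 _ (@Nat.div (@Nat.log2 (@Nat.mul (nat_lit 8) @x1)) (nat_lit 5)) @(fun x8 => @Bool.rec.{1} @(fun x9 => @Bool) (@Nat.rec.{1} @(fun x9 => @Bool) @Bool.true @(fun x9 x10 => @Bool.rec.{1} @(fun x11 => @Bool) @Bool.false @x10 (@Cfsg.Agent.KO7af9f87.k0 _ (@Nat.add @x9 (nat_lit 1)) @(fun x11 => @Bool.rec.{1} @(fun x12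 => @Bool) (@Cfsg.Agent.KO7af9f87.k18 @x1 @x2 @x3 @x6 @x7 @x11) @Bool.true (@Bool.rec.{1} @(fun x12 => @Bool) @Bool.true @Bool.false (@Cfsg.Agent.KO7af9f87.k19 @x0 @x3 @x4 @x5 @x11))))) @x8) @Bool.true (@Bool.rec.{1} @(fun x9 => @Bool) @Bool.true @Bool.false (@Cfsg.Agent.KO7af9f87.k19 @x0 @x3 @x4 @x5 @x8))))) ?_); rewrite [← Cfsg.Agent.KO7af9f87.e19, ← Cfsg.Agent.KO7af9f87.e18, ← Cfsg.Agent.KO7af9f87.e0]; (try delta Cfsg.Agent.R2.Spec.FIN.chkM Cfsg.Agent.R2.Spec.FIN.allTo); (try generalize @Cfsg.Agent.R2.Spec.FIN.force = g0); (try generalize @Cfsg.Agent.R2.Spec.FIN.tstF = g1); (try generalize @Cfsg.Agent.R2.Spec.FIN.szB = g2); rfl') | exact @Cfsg.Agent.R2.Spec.FIN.chkM | exact ()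
private theorem _root_.Cfsg.Agent.KO7af9f87.e20 : (by first | exact @Cfsg.Agent.R2.Spec.FIN.chkM = @_root_.Cfsg.Agent.KO7af9f87.k20 | exact True : Prop) := by first | (delta _root_.Cfsg.Agent.KO7af9f87.k20; exact @Subtype.property _ (fun g => @Cfsg.Agent.R2.Spec.FIN.chkM = @g) _) | rfl | trivial
private noncomputable def _root_.Cfsg.Agent.KO7af9f87.k21 : (by first | exact type_of% @Cfsg.Agent.R2.Spec.FIN.chkT | exact Unit : Sort _) := by first | (refine @Subtype.val _ (fun g => @Cfsg.Agent.R2.Spec.FIN.chkT = @g) (@Subtype.mk _ _ (@(fun (x0 : @Nat) (x1 : @Nat) (x2 : @Cfsg.Agent.H426.LieFam.Fam) (x3 : @Nat) => @Bool.rec.{1} @(fun (x4 : @Bool) => @Bool) (@Cfsg.Agent.KO7af9f87.k2.{0} (@Prod.{0, 0} @Nat @Nat) (@Cfsg.Agent.KO7af9f87.k3 @x2) @(fun (x4 : @Prod.{0, 0} @Nat @Nat) => @Cfsg.Agent.KO7af9f87.k0 @Bool (@Prod.fst.{0, 0} @Nat @Nat @x4) @(fun (x5 : @Nat) => @Cfsg.Agent.KO7af9f87.k0 @Bool (@Cfsg.Agent.R2.Spec.P1.ttor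 @x2 @x3 @x5) @(fun (x6 : @Nat) => @Cfsg.Agent.KO7af9f87.k0 @Bool (@Cfsg.Agent.R2.Spec.P1.ttor @x2 @x3 (@Prod.snd.{0, 0} @Nat @Nat @x4)) @(fun (x7 : @Nat) => @Cfsg.Agent.KO7af9f87.k0 @Bool (@Cfsg.Agent.KO7af9f87.k5 @x2) @(fun (x8 : @Nat) => @Cfsg.Agent.KO7af9f87.k0 @Bool (@Cfsg.Agent.KO7af9f87.k6 @x2 @x3) @(fun (x9 : @Nat) => @Cfsg.Agent.KO7af9f87.k20 @x0 @x6 @x7 @x3 @x8 @x9 @x5 (@Cfsg.Agent.H426.LieFam.Fam.rec.{1} @(fun (x10 : @Cfsg.Agent.H426.LieFam.Fam) => (((@Nat.hasNotBit (nat_lit 4) (@Cfsg.Agent.H426.LieFam.Fam.ctorIdx @x10)) → @Bool) → @Bool)) @(fun (x10 : @Nat) (x11 : ((@Nat.hasNotBit (nat_lit 4) (@Cfsg.Agent.H426.LieFam.Fam.ctorIdx (@Cfsg.Agent.H426.LieFam.Fam.psl @x10))) → @Bool)) => @x11 (@Nat.ne_of_beq_eq_false (@Nat.land (@OfNat.ofNat.{0} @Nat (nat_lit 1) (@instOfNatNat (nat_lit 1))) (@Nat.shiftRight (nat_lit 4) (nat_lit 0))) (@OfNat.ofNat.{0} @Nat (nat_lit 1) (@instOfNatNat (nat_lit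 1))) (@Eq.refl.{1} @Bool @Bool.false))) @(fun (x10 : @Nat) (x11 : ((@Nat.hasNotBit (nat_lit 4) (@Cfsg.Agent.H426.LieFam.Fam.ctorIdx (@Cfsg.Agent.H426.LieFam.Fam.psp @x10))) → @Bool)) => @x11 (@Nat.ne_of_beq_eq_false (@Nat.land (@OfNat.ofNat.{0} @Nat (nat_lit 1) (@instOfNatNat (nat_lit 1))) (@Nat.shiftRight (nat_lit 4) (nat_lit 1))) (@OfNat.ofNat.{0} @Nat (nat_lit 1) (@instOfNatNat (nat_lit 1))) (@Eq.refl.{1} @Bool @Bool.false))) @(fun (x10 : @Nat) (x11 : ((@Nat.hasNotBit (nat_lit 4) (@Cfsg.Agent.H426.LieFam.Fam.ctorIdx (@Cfsg.Agent.H426.LieFam.Fam.psu @x10))) → @Bool)) => @Bool.true) @(fun (x10 : @Nat) (x11 : ((@Nat.hasNotBit (nat_lit 4) (@Cfsg.Agent.H426.LieFam.Fam.ctorIdx (@Cfsg.Agent.H426.LieFam.Fam.oodd @x10))) → @Bool)) => @x11 (@Nat.ne_of_beq_eq_false (@Nat.land (@OfNat.ofNat.{0} @Nat (nat_lit 1) (@instOfNatNat (nat_lit 1))) (@Nat.shiftRight (nat_lit 4) (nat_lit 3))) (@OfNat.ofNat.{0}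 @Nat (nat_lit 1) (@instOfNatNat (nat_lit 1))) (@Eq.refl.{1} @Bool @Bool.false))) @(fun (x10 : @Nat) (x11 : ((@Nat.hasNotBit (nat_lit 4) (@Cfsg.Agent.H426.LieFam.Fam.ctorIdx (@Cfsg.Agent.H426.LieFam.Fam.oplus @x10))) → @Bool)) => @x11 (@Nat.ne_of_beq_eq_false (@Nat.land (@OfNat.ofNat.{0} @Nat (nat_lit 1) (@instOfNatNat (nat_lit 1))) (@Nat.shiftRight (nat_lit 4) (nat_lit 4))) (@OfNat.ofNat.{0} @Nat (nat_lit 1) (@instOfNatNat (nat_lit 1))) (@Eq.refl.{1} @Bool @Bool.false))) @(fun (x10 : @Nat) (x11 : ((@Nat.hasNotBit (nat_lit 4) (@Cfsg.Agent.H426.LieFam.Fam.ctorIdx (@Cfsg.Agent.H426.LieFam.Fam.ominus @x10))) → @Bool)) => @x11 (@Nat.ne_of_beq_eq_false (@Nat.land (@OfNat.ofNat.{0} @Nat (nat_lit 1) (@instOfNatNat (nat_lit 1))) (@Nat.shiftRight (nat_lit 4) (nat_lit 5))) (@OfNat.ofNat.{0} @Nat (nat_lit 1) (@instOfNatNat (nat_lit 1))) (@Eq.refl.{1} @Bool @Bool.false))) @(fun (x10 : ((@Nat.hasNotBit (nat_lit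 4) (@Cfsg.Agent.H426.LieFam.Fam.ctorIdx @Cfsg.Agent.H426.LieFam.Fam.g2)) → @Bool)) => @x10 (@Nat.ne_of_beq_eq_false (@Nat.land (@OfNat.ofNat.{0} @Nat (nat_lit 1) (@instOfNatNat (nat_lit 1))) (@Nat.shiftRight (nat_lit 4) (nat_lit 6))) (@OfNat.ofNat.{0} @Nat (nat_lit 1) (@instOfNatNat (nat_lit 1))) (@Eq.refl.{1} @Bool @Bool.false))) @(fun (x10 : ((@Nat.hasNotBit (nat_lit 4) (@Cfsg.Agent.H426.LieFam.Fam.ctorIdx @Cfsg.Agent.H426.LieFam.Fam.f4)) → @Bool)) => @x10 (@Nat.ne_of_beq_eq_false (@Nat.land (@OfNat.ofNat.{0} @Nat (nat_lit 1) (@instOfNatNat (nat_lit 1))) (@Nat.shiftRight (nat_lit 4) (nat_lit 7))) (@OfNat.ofNat.{0} @Nat (nat_lit 1) (@instOfNatNat (nat_lit 1))) (@Eq.refl.{1} @Bool @Bool.false))) @(fun (x10 : ((@Nat.hasNotBit (nat_lit 4) (@Cfsg.Agent.H426.LieFam.Fam.ctorIdx @Cfsg.Agent.H426.LieFam.Fam.e6)) → @Bool)) => @x10 (@Nat.ne_of_beq_eq_false (@Nat.land (@OfNat.ofNat.{0} @Nat (nat_lit 1)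 (@instOfNatNat (nat_lit 1))) (@Nat.shiftRight (nat_lit 4) (nat_lit 8))) (@OfNat.ofNat.{0} @Nat (nat_lit 1) (@instOfNatNat (nat_lit 1))) (@Eq.refl.{1} @Bool @Bool.false))) @(fun (x10 : ((@Nat.hasNotBit (nat_lit 4) (@Cfsg.Agent.H426.LieFam.Fam.ctorIdx @Cfsg.Agent.H426.LieFam.Fam.e7)) → @Bool)) => @x10 (@Nat.ne_of_beq_eq_false (@Nat.land (@OfNat.ofNat.{0} @Nat (nat_lit 1) (@instOfNatNat (nat_lit 1))) (@Nat.shiftRight (nat_lit 4) (nat_lit 9))) (@OfNat.ofNat.{0} @Nat (nat_lit 1) (@instOfNatNat (nat_lit 1))) (@Eq.refl.{1} @Bool @Bool.false))) @(fun (x10 : ((@Nat.hasNotBit (nat_lit 4) (@Cfsg.Agent.H426.LieFam.Fam.ctorIdx @Cfsg.Agent.H426.LieFam.Fam.e8)) → @Bool)) => @x10 (@Nat.ne_of_beq_eq_false (@Nat.land (@OfNat.ofNat.{0} @Nat (nat_lit 1) (@instOfNatNat (nat_lit 1))) (@Nat.shiftRight (nat_lit 4) (nat_lit 10))) (@OfNat.ofNat.{0} @Nat (nat_lit 1) (@instOfNatNat (nat_lit 1))) (@Eq.refl.{1} @Bool @Bool.false)))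 @(fun (x10 : ((@Nat.hasNotBit (nat_lit 4) (@Cfsg.Agent.H426.LieFam.Fam.ctorIdx @Cfsg.Agent.H426.LieFam.Fam.te6)) → @Bool)) => @x10 (@Nat.ne_of_beq_eq_false (@Nat.land (@OfNat.ofNat.{0} @Nat (nat_lit 1) (@instOfNatNat (nat_lit 1))) (@Nat.shiftRight (nat_lit 4) (nat_lit 11))) (@OfNat.ofNat.{0} @Nat (nat_lit 1) (@instOfNatNat (nat_lit 1))) (@Eq.refl.{1} @Bool @Bool.false))) @(fun (x10 : ((@Nat.hasNotBit (nat_lit 4) (@Cfsg.Agent.H426.LieFam.Fam.ctorIdx @Cfsg.Agent.H426.LieFam.Fam.td4)) → @Bool)) => @x10 (@Nat.ne_of_beq_eq_false (@Nat.land (@OfNat.ofNat.{0} @Nat (nat_lit 1) (@instOfNatNat (nat_lit 1))) (@Nat.shiftRight (nat_lit 4) (nat_lit 12))) (@OfNat.ofNat.{0} @Nat (nat_lit 1) (@instOfNatNat (nat_lit 1))) (@Eq.refl.{1} @Bool @Bool.false))) @(fun (x10 : ((@Nat.hasNotBit (nat_lit 4) (@Cfsg.Agent.H426.LieFam.Fam.ctorIdx @Cfsg.Agent.H426.LieFam.Fam.sz)) → @Bool)) => @x10 (@Nat.ne_of_beq_eq_false (@Nat.land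 (@OfNat.ofNat.{0} @Nat (nat_lit 1) (@instOfNatNat (nat_lit 1))) (@Nat.shiftRight (nat_lit 4) (nat_lit 13))) (@OfNat.ofNat.{0} @Nat (nat_lit 1) (@instOfNatNat (nat_lit 1))) (@Eq.refl.{1} @Bool @Bool.false))) @(fun (x10 : ((@Nat.hasNotBit (nat_lit 4) (@Cfsg.Agent.H426.LieFam.Fam.ctorIdx @Cfsg.Agent.H426.LieFam.Fam.tf4)) → @Bool)) => @x10 (@Nat.ne_of_beq_eq_false (@Nat.land (@OfNat.ofNat.{0} @Nat (nat_lit 1) (@instOfNatNat (nat_lit 1))) (@Nat.shiftRight (nat_lit 4) (nat_lit 14))) (@OfNat.ofNat.{0} @Nat (nat_lit 1) (@instOfNatNat (nat_lit 1))) (@Eq.refl.{1} @Bool @Bool.false))) @(fun (x10 : ((@Nat.hasNotBit (nat_lit 4) (@Cfsg.Agent.H426.LieFam.Fam.ctorIdx @Cfsg.Agent.H426.LieFam.Fam.ree)) → @Bool)) => @x10 (@Nat.ne_of_beq_eq_false (@Nat.land (@OfNat.ofNat.{0} @Nat (nat_lit 1) (@instOfNatNat (nat_lit 1))) (@Nat.shiftRight (nat_lit 4) (nat_lit 15))) (@OfNat.ofNat.{0} @Nat (nat_lit 1) (@instOfNatNat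 (nat_lit 1))) (@Eq.refl.{1} @Bool @Bool.false))) @x2 @(fun (x10 : @Nat.hasNotBit (nat_lit 4) (@Cfsg.Agent.H426.LieFam.Fam.ctorIdx @x2)) => @Bool.false))))))))) @Bool.true (@Nat.ble (@Nat.succ @x1) (@Nat.mul (@Nat.log2 @x3) (@Nat.sub (@Cfsg.Agent.KO7af9f87.k5 @x2) (nat_lit 3)))))) ?_); rewrite [← Cfsg.Agent.KO7af9f87.e20, ← Cfsg.Agent.KO7af9f87.e6, ← Cfsg.Agent.KO7af9f87.e5, ← Cfsg.Agent.KO7af9f87.e0, ← Cfsg.Agent.KO7af9f87.e3, ← Cfsg.Agent.KO7af9f87.e2.{0}]; (try delta Cfsg.Agent.R2.Spec.FIN.chkT Cfsg.Agent.R2.Spec.FIN.ng); (try generalize @Cfsg.Agent.R2.Spec.FIN.pairsL = g0); (try generalize @Cfsg.Agent.R2.Spec.FIN.force = g1); (try generalize @Cfsg.Agent.R2.Spec.P1.ttor = g2); (try generalize @Cfsg.Agent.R2.Spec.E.dimL = g3); (try generalize @Cfsg.Agent.R2.Spec.E.dgL = g4); (try generalize @Cfsg.Agent.R2.Spec.FIN.chkM = g5); (try generalize @Cfsg.Agent.H426.LieFam.Fam.ctorIdx = g6); rfl')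 | exact @Cfsg.Agent.R2.Spec.FIN.chkT | exact ()
private theorem _root_.Cfsg.Agent.KO7af9f87.e21 : (by first | exact @Cfsg.Agent.R2.Spec.FIN.chkT = @_root_.Cfsg.Agent.KO7af9f87.k21 | exact True : Prop) := by first | (delta _root_.Cfsg.Agent.KO7af9f87.k21; exact @Subtype.property _ (fun g => @Cfsg.Agent.R2.Spec.FIN.chkT = @g) _) | rfl | trivial
private noncomputable def _root_.Cfsg.Agent.KO7af9f87.k22 : (by first | exact type_of% @Cfsg.Agent.R2.Spec.FIN.chkN | exact Unit : Sort _) := by first | (refine @Subtype.val _ (fun g => @Cfsg.Agent.R2.Spec.FIN.chkN = @g) (@Subtype.mk _ _ (@(fun x0 x1 x2 x3 => @Bool.rec.{1} @(fun x4 => @Bool) @Bool.false (@Bool.rec.{1} @(fun x4 => @Bool) @Bool.false (@Cfsg.Agent.KO7af9f87.k21 @x0 @x1 (@Cfsg.Agent.H426.LieFam.Fam.ominus @x3) @x2) (@Cfsg.Agent.KO7af9f87.k21 @x0 @x1 (@Cfsg.Agent.H426.LieFam.Fam.oplus @x3) @x2)) (@Bool.rec.{1} @(fun x4 => @Bool) @Bool.false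 (@Cfsg.Agent.KO7af9f87.k21 @x0 @x1 (@Cfsg.Agent.H426.LieFam.Fam.psp @x3) @x2) (@Bool.rec.{1} @(fun x4 => @Bool) (@Bool.rec.{1} @(fun x4 => @Bool) @Bool.false (@Cfsg.Agent.KO7af9f87.k21 @x0 @x1 (@Cfsg.Agent.H426.LieFam.Fam.psu @x3) @x2) (@Cfsg.Agent.KO7af9f87.k21 @x0 @x1 (@Cfsg.Agent.H426.LieFam.Fam.psl @x3) @x2)) @Bool.true (@Nat.ble (@Nat.succ @x3) (nat_lit 9)))))) ?_); rewrite [← Cfsg.Agent.KO7af9f87.e21]; (try delta Cfsg.Agent.R2.Spec.FIN.chkN); (try generalize @Cfsg.Agent.R2.Spec.FIN.chkT = g0); rfl') | exact @Cfsg.Agent.R2.Spec.FIN.chkN | exact ()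
private theorem _root_.Cfsg.Agent.KO7af9f87.e22 : (by first | exact @Cfsg.Agent.R2.Spec.FIN.chkN = @_root_.Cfsg.Agent.KO7af9f87.k22 | exact True : Prop) := by first | (delta _root_.Cfsg.Agent.KO7af9f87.k22; exact @Subtype.property _ (fun g => @Cfsg.Agent.R2.Spec.FIN.chkN = @g) _) | rfl | trivial
private noncomputable def _root_.Cfsg.Agent.KO7af9f87.k23 : (by first | exact type_of% @Cfsg.Agent.R2.Spec.FIN.ppB | exact Unit : Sort _) := by first | (refine @Subtype.val _ (fun g => @Cfsg.Agent.R2.Spec.FIN.ppB = @g) (@Subtype.mk _ _ (@(fun x0 => @Bool.rec.{1} @(fun x1 => @Bool) @Bool.false (@Bool.rec.{1} @(fun x1 => @Bool) (@Nat.beq (@Nat.mod (@Nat.pow (nat_lit 23) (nat_lit 13)) @x0) (nat_lit 0)) @Bool.true (@Bool.rec.{1} @(fun x1 => @Bool) @Bool.true @Bool.false (@Nat.beq (@Nat.mod @x0 (nat_lit 23)) (nat_lit 0)))) (@Bool.rec.{1} @(fun x1 => @Bool) @Bool.false (@Bool.rec.{1} @(fun x1 => @Bool) (@Nat.beq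 (@Nat.mod (@Nat.pow (nat_lit 19) (nat_lit 13)) @x0) (nat_lit 0)) @Bool.true (@Bool.rec.{1} @(fun x1 => @Bool) @Bool.true @Bool.false (@Nat.beq (@Nat.mod @x0 (nat_lit 19)) (nat_lit 0)))) (@Bool.rec.{1} @(fun x1 => @Bool) @Bool.false (@Bool.rec.{1} @(fun x1 => @Bool) (@Nat.beq (@Nat.mod (@Nat.pow (nat_lit 17) (nat_lit 13)) @x0) (nat_lit 0)) @Bool.true (@Bool.rec.{1} @(fun x1 => @Bool) @Bool.true @Bool.false (@Nat.beq (@Nat.mod @x0 (nat_lit 17)) (nat_lit 0)))) (@Bool.rec.{1} @(fun x1 => @Bool) @Bool.false (@Bool.rec.{1} @(fun x1 => @Bool) (@Nat.beq (@Nat.mod (@Nat.pow (nat_lit 13) (nat_lit 13)) @x0) (nat_lit 0)) @Bool.true (@Bool.rec.{1} @(fun x1 => @Bool) @Bool.true @Bool.false (@Nat.beq (@Nat.mod @x0 (nat_lit 13)) (nat_lit 0)))) (@Bool.rec.{1} @(fun x1 => @Bool) @Bool.false (@Bool.rec.{1} @(fun x1 => @Bool) (@Nat.beq (@Nat.mod (@Nat.pow (nat_lit 11) (nat_lit 13)) @x0) (nat_lit 0)) @Bool.true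 (@Bool.rec.{1} @(fun x1 => @Bool) @Bool.true @Bool.false (@Nat.beq (@Nat.mod @x0 (nat_lit 11)) (nat_lit 0)))) (@Bool.rec.{1} @(fun x1 => @Bool) @Bool.false (@Bool.rec.{1} @(fun x1 => @Bool) (@Nat.beq (@Nat.mod (@Nat.pow (nat_lit 7) (nat_lit 13)) @x0) (nat_lit 0)) @Bool.true (@Bool.rec.{1} @(fun x1 => @Bool) @Bool.true @Bool.false (@Nat.beq (@Nat.mod @x0 (nat_lit 7)) (nat_lit 0)))) (@Bool.rec.{1} @(fun x1 => @Bool) @Bool.false (@Bool.rec.{1} @(fun x1 => @Bool) (@Nat.beq (@Nat.mod (@Nat.pow (nat_lit 5) (nat_lit 13)) @x0) (nat_lit 0)) @Bool.true (@Bool.rec.{1} @(fun x1 => @Bool) @Bool.true @Bool.false (@Nat.beq (@Nat.mod @x0 (nat_lit 5)) (nat_lit 0)))) (@Bool.rec.{1} @(fun x1 => @Bool) (@Nat.beq (@Nat.mod (@Nat.pow (nat_lit 3) (nat_lit 13)) @x0) (nat_lit 0)) @Bool.true (@Bool.rec.{1} @(fun x1 => @Bool) @Bool.true @Bool.false (@Nat.beq (@Nat.mod @x0 (nat_lit 3)) (nat_lit 0)))))))))))) ?_); rfl')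 | exact @Cfsg.Agent.R2.Spec.FIN.ppB | exact ()
private theorem _root_.Cfsg.Agent.KO7af9f87.e23 : (by first | exact @Cfsg.Agent.R2.Spec.FIN.ppB = @_root_.Cfsg.Agent.KO7af9f87.k23 | exact True : Prop) := by first | (delta _root_.Cfsg.Agent.KO7af9f87.k23; exact @Subtype.property _ (fun g => @Cfsg.Agent.R2.Spec.FIN.ppB = @g) _) | rfl | trivial
private noncomputable def _root_.Cfsg.Agent.KO7af9f87.k24 : (by first | exact type_of% @Cfsg.Agent.R2.Spec.FIN.chkQ | exact Unit : Sort _) := by first | (refine @Subtype.val _ (fun g => @Cfsg.Agent.R2.Spec.FIN.chkQ = @g) (@Subtype.mk _ _ (@(fun x0 x1 x2 => @Bool.rec.{1} @(fun x3 => @Bool) (@Nat.rec.{1} @(fun x3 => @Bool) @Bool.true @(fun x3 x4 => @Bool.rec.{1} @(fun x5 => @Bool) @Bool.false @x4 (@Cfsg.Agent.KO7af9f87.k0 _ (@Nat.add @x3 (nat_lit 7)) @(fun x5 => @Cfsg.Agent.KO7af9f87.k22 @x0 @x1 @x2 @x5))) (@Nat.div @x1 (@Nat.log2 @x2))) @Bool.true (@Bool.rec.{1}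 @(fun x3 => @Bool) @Bool.true @Bool.false (@Cfsg.Agent.KO7af9f87.k23 @x2)))) ?_); rewrite [← Cfsg.Agent.KO7af9f87.e23, ← Cfsg.Agent.KO7af9f87.e22, ← Cfsg.Agent.KO7af9f87.e0]; (try delta Cfsg.Agent.R2.Spec.FIN.chkQ Cfsg.Agent.R2.Spec.FIN.allTo); (try generalize @Cfsg.Agent.R2.Spec.FIN.force = g0); (try generalize @Cfsg.Agent.R2.Spec.FIN.chkN = g1); (try generalize @Cfsg.Agent.R2.Spec.FIN.ppB = g2); rfl') | exact @Cfsg.Agent.R2.Spec.FIN.chkQ | exact ()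
private theorem _root_.Cfsg.Agent.KO7af9f87.e24 : (by first | exact @Cfsg.Agent.R2.Spec.FIN.chkQ = @_root_.Cfsg.Agent.KO7af9f87.k24 | exact True : Prop) := by first | (delta _root_.Cfsg.Agent.KO7af9f87.k24; exact @Subtype.property _ (fun g => @Cfsg.Agent.R2.Spec.FIN.chkQ = @g) _) | rfl | trivial
private noncomputable def _root_.Cfsg.Agent.KO7af9f87.k25 : (by first | exact type_of% @Cfsg.Agent.R2.Spec.FIN.chkR | exact Unit : Sort _) := by first | (refine @Subtype.val _ (fun g => @Cfsg.Agent.R2.Spec.FIN.chkR = @g) (@Subtype.mk _ _ (@(fun x0 x1 x2 x3 => @Nat.rec.{1} @(fun x4 => @Bool) @Bool.true @(fun x4 x5 => @Bool.rec.{1} @(fun x6 => @Bool) @Bool.false @x5 (@Cfsg.Agent.KO7af9f87.k0 _ (@Nat.add (@Nat.mul (nat_lit 2) @x4) @x2) @(fun x6 => @Cfsg.Agent.KO7af9f87.k24 @x0 @x1 @x6))) @x3)) ?_); rewrite [← Cfsg.Agent.KO7af9f87.e24, ← Cfsg.Agent.KO7af9f87.e0]; (try delta Cfsg.Agent.R2.Spec.FIN.chkR Cfsg.Agent.R2.Spec.FIN.allTo);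 (try generalize @Cfsg.Agent.R2.Spec.FIN.force = g0); (try generalize @Cfsg.Agent.R2.Spec.FIN.chkQ = g1); rfl') | exact @Cfsg.Agent.R2.Spec.FIN.chkR | exact ()
private theorem _root_.Cfsg.Agent.KO7af9f87.e25 : (by first | exact @Cfsg.Agent.R2.Spec.FIN.chkR = @_root_.Cfsg.Agent.KO7af9f87.k25 | exact True : Prop) := by first | (delta _root_.Cfsg.Agent.KO7af9f87.k25; exact @Subtype.property _ (fun g => @Cfsg.Agent.R2.Spec.FIN.chkR = @g) _) | rfl | trivial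

theorem r1 : chkR (2 ^ 20) 50 3 1 = true := by (first | (rewrite [Cfsg.Agent.KO7af9f87.e25]; decide +kernel) | decide +kernel)
theorem r2 : chkR (2 ^ 20) 50 5 3 = true := by (first | (rewrite [Cfsg.Agent.KO7af9f87.e25]; decide +kernel) | decide +kernel)
theorem r3 : chkR (2 ^ 20) 50 11 5 = true := by (first | (rewrite [Cfsg.Agent.KO7af9f87.e25]; decide +kernel) | decide +kernel)

end Cfsg.Agent.R2.Spec.FIN
end

-- part: R2/Spec/FIN/NumC
section
/-! # S3435, packet FIN: the search, part 3 (helper7) -/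

set_option autoImplicit false

namespace Cfsg.Agent.R2.Spec.FIN

private noncomputable def _root_.Cfsg.Agent.KO7af9f87.k26 : (by first | exact type_of% @Cfsg.Agent.R2.Spec.FIN.allTo | exact Unit : Sort _) := by first | (refine @Subtype.val _ (fun g => @Cfsg.Agent.R2.Spec.FIN.allTo = @g) (@Subtype.mk _ _ (@(fun x0 x1 => @Nat.rec.{1} @(fun x2 => @Bool) @Bool.true @(fun x2 x3 => @Bool.rec.{1} @(fun x4 => @Bool) @Bool.false @x3 (@x0 @x2)) @x1)) ?_); rfl') | exact @Cfsg.Agent.R2.Spec.FIN.allTo | exact ()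
private theorem _root_.Cfsg.Agent.KO7af9f87.e26 : (by first | exact @Cfsg.Agent.R2.Spec.FIN.allTo = @_root_.Cfsg.Agent.KO7af9f87.k26 | exact True : Prop) := by first | (delta _root_.Cfsg.Agent.KO7af9f87.k26; exact @Subtype.property _ (fun g => @Cfsg.Agent.R2.Spec.FIN.allTo = @g) _) | rfl | trivial
private noncomputable def _root_.Cfsg.Agent.KO7af9f87.k27 : type_of% @Bool.or := @(fun x0 x1 => @Bool.rec.{1} @(fun x2 => @Bool) @x1 @Bool.true @x0)
private theorem _root_.Cfsg.Agent.KO7af9f87.e27 : @Bool.or = @_root_.Cfsg.Agent.KO7af9f87.k27 := by delta _root_.Cfsg.Agent.KO7af9f87.k27; rfl'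
private noncomputable def _root_.Cfsg.Agent.KO7af9f87.k28 : type_of% @Bool.not := @(fun x0 => @Bool.rec.{1} @(fun x1 => @Bool) @Bool.true @Bool.false @x0)
private theorem _root_.Cfsg.Agent.KO7af9f87.e28 : @Bool.not = @_root_.Cfsg.Agent.KO7af9f87.k28 := by delta _root_.Cfsg.Agent.KO7af9f87.k28; rfl'
private noncomputable def _root_.Cfsg.Agent.KO7af9f87.k29 : type_of% @Bool.and := @(fun x0 x1 => @Bool.rec.{1} @(fun x2 => @Bool) @Bool.false @x1 @x0)
private theorem _root_.Cfsg.Agent.KO7af9f87.e29 : @Bool.and = @_root_.Cfsg.Agent.KO7af9f87.k29 := by delta _root_.Cfsg.Agent.KO7af9f87.k29; rfl'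
private noncomputable def _root_.Cfsg.Agent.KO7af9f87.k30 : (by first | exact type_of% @Cfsg.Agent.R2.Spec.FIN.lgK | exact Unit : Sort _) := by first | (refine @Subtype.val _ (fun g => @Cfsg.Agent.R2.Spec.FIN.lgK = @g) (@Subtype.mk _ _ (@(fun x0 => @Nat.rec.{1} @(fun x1 => ℕ → ℕ) @(fun x1 => @Bool.rec.{1} @(fun x2 => ℕ) (nat_lit 0) (@Nat.log2 @x1) (@Nat.ble (nat_lit 2) @x1)) @(fun x1 x2 x3 => @Cfsg.Agent.KO7af9f87.k0 _ (@Nat.pow (nat_lit 2) @x1) @(fun x4 => @Cfsg.Agent.KO7af9f87.k0 _ (@Nat.shiftRight @x3 @x4) @(fun x5 => @Bool.rec.{1} @(fun x6 => ℕ) (@Nat.add @x4 (@x2 @x5)) (@x2 @x3) (@Nat.beq @x5 (nat_lit 0))))) @x0)) ?_); rewrite [← Cfsg.Agent.KO7af9f87.e0]; (try delta Cfsg.Agent.R2.Spec.FIN.lgK); (try generalize @Cfsg.Agent.R2.Spec.FIN.force = g0); rfl') | exact @Cfsg.Agent.R2.Spec.FIN.lgK | exact ()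
private theorem _root_.Cfsg.Agent.KO7af9f87.e30 : (by first | exact @Cfsg.Agent.R2.Spec.FIN.lgK = @_root_.Cfsg.Agent.KO7af9f87.k30 | exact True : Prop) := by first | (delta _root_.Cfsg.Agent.KO7af9f87.k30; exact @Subtype.property _ (fun g => @Cfsg.Agent.R2.Spec.FIN.lgK = @g) _) | rfl | trivial
private noncomputable def _root_.Cfsg.Agent.KO7af9f87.k31 : (by first | exact type_of% @Cfsg.Agent.R2.Spec.FIN.ng | exact Unit : Sort _) := by first | (refine @Subtype.val _ (fun g => @Cfsg.Agent.R2.Spec.FIN.ng = @g) (@Subtype.mk _ _ (@(fun (x0 : @Cfsg.Agent.H426.LieFam.Fam) => @Cfsg.Agent.H426.LieFam.Fam.rec.{1} @(fun (x1 : @Cfsg.Agent.H426.LieFam.Fam) => (((@Nat.hasNotBit (nat_lit 4) (@Cfsg.Agent.H426.LieFam.Fam.ctorIdx @x1)) → @Bool) → @Bool)) @(fun (x1 : @Nat) (x2 : ((@Nat.hasNotBit (nat_lit 4) (@Cfsg.Agent.H426.LieFam.Fam.ctorIdx (@Cfsg.Agent.H426.LieFam.Fam.psl @x1))) → @Bool)) => @x2 (@Nat.ne_of_beq_eq_false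 (@Nat.land (@OfNat.ofNat.{0} @Nat (nat_lit 1) (@instOfNatNat (nat_lit 1))) (@Nat.shiftRight (nat_lit 4) (nat_lit 0))) (@OfNat.ofNat.{0} @Nat (nat_lit 1) (@instOfNatNat (nat_lit 1))) (@Eq.refl.{1} @Bool @Bool.false))) @(fun (x1 : @Nat) (x2 : ((@Nat.hasNotBit (nat_lit 4) (@Cfsg.Agent.H426.LieFam.Fam.ctorIdx (@Cfsg.Agent.H426.LieFam.Fam.psp @x1))) → @Bool)) => @x2 (@Nat.ne_of_beq_eq_false (@Nat.land (@OfNat.ofNat.{0} @Nat (nat_lit 1) (@instOfNatNat (nat_lit 1))) (@Nat.shiftRight (nat_lit 4) (nat_lit 1))) (@OfNat.ofNat.{0} @Nat (nat_lit 1) (@instOfNatNat (nat_lit 1))) (@Eq.refl.{1} @Bool @Bool.false))) @(fun (x1 : @Nat) (x2 : ((@Nat.hasNotBit (nat_lit 4) (@Cfsg.Agent.H426.LieFam.Fam.ctorIdx (@Cfsg.Agent.H426.LieFam.Fam.psu @x1))) → @Bool)) => @Bool.true) @(fun (x1 : @Nat) (x2 : ((@Nat.hasNotBit (nat_lit 4) (@Cfsg.Agent.H426.LieFam.Fam.ctorIdx (@Cfsg.Agent.H426.LieFam.Fam.oodd @x1))) → @Bool)) =>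 @x2 (@Nat.ne_of_beq_eq_false (@Nat.land (@OfNat.ofNat.{0} @Nat (nat_lit 1) (@instOfNatNat (nat_lit 1))) (@Nat.shiftRight (nat_lit 4) (nat_lit 3))) (@OfNat.ofNat.{0} @Nat (nat_lit 1) (@instOfNatNat (nat_lit 1))) (@Eq.refl.{1} @Bool @Bool.false))) @(fun (x1 : @Nat) (x2 : ((@Nat.hasNotBit (nat_lit 4) (@Cfsg.Agent.H426.LieFam.Fam.ctorIdx (@Cfsg.Agent.H426.LieFam.Fam.oplus @x1))) → @Bool)) => @x2 (@Nat.ne_of_beq_eq_false (@Nat.land (@OfNat.ofNat.{0} @Nat (nat_lit 1) (@instOfNatNat (nat_lit 1))) (@Nat.shiftRight (nat_lit 4) (nat_lit 4))) (@OfNat.ofNat.{0} @Nat (nat_lit 1) (@instOfNatNat (nat_lit 1))) (@Eq.refl.{1} @Bool @Bool.false))) @(fun (x1 : @Nat) (x2 : ((@Nat.hasNotBit (nat_lit 4) (@Cfsg.Agent.H426.LieFam.Fam.ctorIdx (@Cfsg.Agent.H426.LieFam.Fam.ominus @x1))) → @Bool)) => @x2 (@Nat.ne_of_beq_eq_false (@Nat.land (@OfNat.ofNat.{0} @Nat (nat_lit 1) (@instOfNatNat (nat_lit 1))) (@Nat.shiftRight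 (nat_lit 4) (nat_lit 5))) (@OfNat.ofNat.{0} @Nat (nat_lit 1) (@instOfNatNat (nat_lit 1))) (@Eq.refl.{1} @Bool @Bool.false))) @(fun (x1 : ((@Nat.hasNotBit (nat_lit 4) (@Cfsg.Agent.H426.LieFam.Fam.ctorIdx @Cfsg.Agent.H426.LieFam.Fam.g2)) → @Bool)) => @x1 (@Nat.ne_of_beq_eq_false (@Nat.land (@OfNat.ofNat.{0} @Nat (nat_lit 1) (@instOfNatNat (nat_lit 1))) (@Nat.shiftRight (nat_lit 4) (nat_lit 6))) (@OfNat.ofNat.{0} @Nat (nat_lit 1) (@instOfNatNat (nat_lit 1))) (@Eq.refl.{1} @Bool @Bool.false))) @(fun (x1 : ((@Nat.hasNotBit (nat_lit 4) (@Cfsg.Agent.H426.LieFam.Fam.ctorIdx @Cfsg.Agent.H426.LieFam.Fam.f4)) → @Bool)) => @x1 (@Nat.ne_of_beq_eq_false (@Nat.land (@OfNat.ofNat.{0} @Nat (nat_lit 1) (@instOfNatNat (nat_lit 1))) (@Nat.shiftRight (nat_lit 4) (nat_lit 7))) (@OfNat.ofNat.{0} @Nat (nat_lit 1) (@instOfNatNat (nat_lit 1))) (@Eq.refl.{1} @Bool @Bool.false))) @(fun (x1 : ((@Nat.hasNotBit (nat_lit 4)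 (@Cfsg.Agent.H426.LieFam.Fam.ctorIdx @Cfsg.Agent.H426.LieFam.Fam.e6)) → @Bool)) => @x1 (@Nat.ne_of_beq_eq_false (@Nat.land (@OfNat.ofNat.{0} @Nat (nat_lit 1) (@instOfNatNat (nat_lit 1))) (@Nat.shiftRight (nat_lit 4) (nat_lit 8))) (@OfNat.ofNat.{0} @Nat (nat_lit 1) (@instOfNatNat (nat_lit 1))) (@Eq.refl.{1} @Bool @Bool.false))) @(fun (x1 : ((@Nat.hasNotBit (nat_lit 4) (@Cfsg.Agent.H426.LieFam.Fam.ctorIdx @Cfsg.Agent.H426.LieFam.Fam.e7)) → @Bool)) => @x1 (@Nat.ne_of_beq_eq_false (@Nat.land (@OfNat.ofNat.{0} @Nat (nat_lit 1) (@instOfNatNat (nat_lit 1))) (@Nat.shiftRight (nat_lit 4) (nat_lit 9))) (@OfNat.ofNat.{0} @Nat (nat_lit 1) (@instOfNatNat (nat_lit 1))) (@Eq.refl.{1} @Bool @Bool.false))) @(fun (x1 : ((@Nat.hasNotBit (nat_lit 4) (@Cfsg.Agent.H426.LieFam.Fam.ctorIdx @Cfsg.Agent.H426.LieFam.Fam.e8)) → @Bool)) => @x1 (@Nat.ne_of_beq_eq_false (@Nat.land (@OfNat.ofNat.{0} @Nat (nat_lit 1) (@instOfNatNat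 (nat_lit 1))) (@Nat.shiftRight (nat_lit 4) (nat_lit 10))) (@OfNat.ofNat.{0} @Nat (nat_lit 1) (@instOfNatNat (nat_lit 1))) (@Eq.refl.{1} @Bool @Bool.false))) @(fun (x1 : ((@Nat.hasNotBit (nat_lit 4) (@Cfsg.Agent.H426.LieFam.Fam.ctorIdx @Cfsg.Agent.H426.LieFam.Fam.te6)) → @Bool)) => @x1 (@Nat.ne_of_beq_eq_false (@Nat.land (@OfNat.ofNat.{0} @Nat (nat_lit 1) (@instOfNatNat (nat_lit 1))) (@Nat.shiftRight (nat_lit 4) (nat_lit 11))) (@OfNat.ofNat.{0} @Nat (nat_lit 1) (@instOfNatNat (nat_lit 1))) (@Eq.refl.{1} @Bool @Bool.false))) @(fun (x1 : ((@Nat.hasNotBit (nat_lit 4) (@Cfsg.Agent.H426.LieFam.Fam.ctorIdx @Cfsg.Agent.H426.LieFam.Fam.td4)) → @Bool)) => @x1 (@Nat.ne_of_beq_eq_false (@Nat.land (@OfNat.ofNat.{0} @Nat (nat_lit 1) (@instOfNatNat (nat_lit 1))) (@Nat.shiftRight (nat_lit 4) (nat_lit 12))) (@OfNat.ofNat.{0} @Nat (nat_lit 1) (@instOfNatNat (nat_lit 1))) (@Eq.refl.{1} @Bool @Bool.false))) @(fun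 (x1 : ((@Nat.hasNotBit (nat_lit 4) (@Cfsg.Agent.H426.LieFam.Fam.ctorIdx @Cfsg.Agent.H426.LieFam.Fam.sz)) → @Bool)) => @x1 (@Nat.ne_of_beq_eq_false (@Nat.land (@OfNat.ofNat.{0} @Nat (nat_lit 1) (@instOfNatNat (nat_lit 1))) (@Nat.shiftRight (nat_lit 4) (nat_lit 13))) (@OfNat.ofNat.{0} @Nat (nat_lit 1) (@instOfNatNat (nat_lit 1))) (@Eq.refl.{1} @Bool @Bool.false))) @(fun (x1 : ((@Nat.hasNotBit (nat_lit 4) (@Cfsg.Agent.H426.LieFam.Fam.ctorIdx @Cfsg.Agent.H426.LieFam.Fam.tf4)) → @Bool)) => @x1 (@Nat.ne_of_beq_eq_false (@Nat.land (@OfNat.ofNat.{0} @Nat (nat_lit 1) (@instOfNatNat (nat_lit 1))) (@Nat.shiftRight (nat_lit 4) (nat_lit 14))) (@OfNat.ofNat.{0} @Nat (nat_lit 1) (@instOfNatNat (nat_lit 1))) (@Eq.refl.{1} @Bool @Bool.false))) @(fun (x1 : ((@Nat.hasNotBit (nat_lit 4) (@Cfsg.Agent.H426.LieFam.Fam.ctorIdx @Cfsg.Agent.H426.LieFam.Fam.ree)) → @Bool)) => @x1 (@Nat.ne_of_beq_eq_false (@Nat.land (@OfNat.ofNat.{0}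 @Nat (nat_lit 1) (@instOfNatNat (nat_lit 1))) (@Nat.shiftRight (nat_lit 4) (nat_lit 15))) (@OfNat.ofNat.{0} @Nat (nat_lit 1) (@instOfNatNat (nat_lit 1))) (@Eq.refl.{1} @Bool @Bool.false))) @x0 @(fun (x1 : @Nat.hasNotBit (nat_lit 4) (@Cfsg.Agent.H426.LieFam.Fam.ctorIdx @x0)) => @Bool.false))) ?_); (try delta Cfsg.Agent.R2.Spec.FIN.ng); (try generalize @Cfsg.Agent.H426.LieFam.Fam.ctorIdx = g0); rfl') | exact @Cfsg.Agent.R2.Spec.FIN.ng | exact ()
private theorem _root_.Cfsg.Agent.KO7af9f87.e31 : (by first | exact @Cfsg.Agent.R2.Spec.FIN.ng = @_root_.Cfsg.Agent.KO7af9f87.k31 | exact True : Prop) := by first | (delta _root_.Cfsg.Agent.KO7af9f87.k31; exact @Subtype.property _ (fun g => @Cfsg.Agent.R2.Spec.FIN.ng = @g) _) | rfl | trivial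

theorem r6 : chkR (2 ^ 20) 50 101 350 = true := by
  delta chkR chkQ chkN chkT chkM tstF
  rewrite [lg_eq]
  (first | (rewrite [Cfsg.Agent.KO7af9f87.e26, Cfsg.Agent.KO7af9f87.e0, Cfsg.Agent.KO7af9f87.e27, Cfsg.Agent.KO7af9f87.e28, Cfsg.Agent.KO7af9f87.e23, Cfsg.Agent.KO7af9f87.e29, Cfsg.Agent.KO7af9f87.e30, Cfsg.Agent.KO7af9f87.e5, Cfsg.Agent.KO7af9f87.e2.{0}, Cfsg.Agent.KO7af9f87.e3, Cfsg.Agent.KO7af9f87.e6, Cfsg.Agent.KO7af9f87.e19, Cfsg.Agent.KO7af9f87.e7, Cfsg.Agent.KO7af9f87.e17, Cfsg.Agent.KO7af9f87.e31]; decide +kernel) | decide +kernel)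
theorem r7 : chkR (2 ^ 20) 50 801 1600 = true := by
  delta chkR chkQ chkN chkT chkM tstF
  rewrite [lg_eq]
  (first | (rewrite [Cfsg.Agent.KO7af9f87.e26, Cfsg.Agent.KO7af9f87.e0, Cfsg.Agent.KO7af9f87.e27, Cfsg.Agent.KO7af9f87.e28, Cfsg.Agent.KO7af9f87.e23, Cfsg.Agent.KO7af9f87.e29, Cfsg.Agent.KO7af9f87.e30, Cfsg.Agent.KO7af9f87.e5, Cfsg.Agent.KO7af9f87.e2.{0}, Cfsg.Agent.KO7af9f87.e3, Cfsg.Agent.KO7af9f87.e6, Cfsg.Agent.KO7af9f87.e19, Cfsg.Agent.KO7af9f87.e7, Cfsg.Agent.KO7af9f87.e17, Cfsg.Agent.KO7af9f87.e31]; decide +kernel) | decide +kernel)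
theorem r8 : chkR (2 ^ 20) 50 4001 2096 = true := by
  delta chkR chkQ chkN chkT chkM tstF
  rewrite [lg_eq]
  (first | (rewrite [Cfsg.Agent.KO7af9f87.e26, Cfsg.Agent.KO7af9f87.e0, Cfsg.Agent.KO7af9f87.e27, Cfsg.Agent.KO7af9f87.e28, Cfsg.Agent.KO7af9f87.e23, Cfsg.Agent.KO7af9f87.e29, Cfsg.Agent.KO7af9f87.e30, Cfsg.Agent.KO7af9f87.e5, Cfsg.Agent.KO7af9f87.e2.{0}, Cfsg.Agent.KO7af9f87.e3, Cfsg.Agent.KO7af9f87.e6, Cfsg.Agent.KO7af9f87.e19, Cfsg.Agent.KO7af9f87.e7, Cfsg.Agent.KO7af9f87.e17, Cfsg.Agent.KO7af9f87.e31]; set_option maxRecDepth 200000 in decide +kernel) | decide +kernel)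

end Cfsg.Agent.R2.Spec.FIN
end
end

-- part: R2/Spec/Gamma/Tab_mg
section
prune_inst 0x4000010000000000000000000400002000000000000008000510006000a0610020040000040000d021044a08008400008110000000200000000000000000000000000460042f50f08a80000002003580c00000000000000000000000000041000000000000
set_option linter.all false
open scoped Cfsg.Agent.FastGrp

-- part: R2/Spec/Gamma/Tab
section
/-!
# Packet GAMMA (helper28): the final inequalities, up to a finite table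
-/

set_option autoImplicit false

namespace Cfsg.Agent.R2.Spec.Gamma

/-- combination of the inequality with the lower bound of `M` -/
theorem fin_ineq {q D d M W R A B cw cr : ℕ} (h1 : 256 * M ^ 3 ≤ (5832 * W) ^ 3 * R ^ 2) (h2 : q ^ D ≤ 8 * d * M)
    (hd : 1 ≤ d) (hW : cw * (d ^ 2 * W) ≤ A) (hR : cr * (d * R) ≤ B) :
    cw ^ 3 * cr ^ 2 * q ^ (3 * D) ≤ 2 * 5832 ^ 3 * (A ^ 3 * B ^ 2) := by
  have e1 : q ^ (3 * D) ≤ (8 * d * M) ^ 3 := by
    rw [mul_comm 3 D, pow_mul]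
    exact Nat.pow_le_pow_left h2 3
  have e2 : (cw * W) ^ 3 * (cr * R) ^ 2 * d ^ 3 ≤ A ^ 3 * B ^ 2 := by
    calc (cw * W) ^ 3 * (cr * R) ^ 2 * d ^ 3 ≤ (cw * W) ^ 3 * (cr * R) ^ 2 * d ^ 8 :=
          Nat.mul_le_mul_left _ (Nat.pow_le_pow_right hd (by norm_num))
      _ = (cw * (d ^ 2 * W)) ^ 3 * (cr * (d * R)) ^ 2 := by ring
      _ ≤ A ^ 3 * B ^ 2 := Nat.mul_le_mul (Nat.pow_le_pow_left hW 3) (Nat.pow_le_pow_left hR 2)
  calc cw ^ 3 * cr ^ 2 * q ^ (3 * D) ≤ cw ^ 3 * cr ^ 2 * (8 * d * M) ^ 3 := Nat.mul_le_mul_left _ e1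
    _ = (2 * (cw ^ 3 * cr ^ 2 * d ^ 3)) * (256 * M ^ 3) := by ring
    _ ≤ (2 * (cw ^ 3 * cr ^ 2 * d ^ 3)) * ((5832 * W) ^ 3 * R ^ 2) := Nat.mul_le_mul_left _ h1
    _ = 2 * 5832 ^ 3 * ((cw * W) ^ 3 * (cr * R) ^ 2 * d ^ 3) := by ring
    _ ≤ _ := Nat.mul_le_mul_left _ e2

theorem mono_q {C c e b Q q : ℕ} (hb : b ≤ e) (hQ : 1 ≤ Q) (h : C * (Q + 1) ^ b < c * Q ^ e) (hq : Q ≤ q) :
    C * (q + 1) ^ b < c * q ^ e := by
  have h1 : (q + 1) * Q ≤ (Q + 1) * q := by linarith only [hq]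
  have h2 : (q + 1) ^ b * Q ^ b ≤ (Q + 1) ^ b * q ^ b := by
    rw [← mul_pow, ← mul_pow]
    exact Nat.pow_le_pow_left h1 b
  have hqb : 0 < q ^ b := Nat.pow_pos (by omega)
  have h3 : (C * (q + 1) ^ b) * Q ^ b < (c * q ^ e) * Q ^ b := by
    calc (C * (q + 1) ^ b) * Q ^ b = C * ((q + 1) ^ b * Q ^ b) := by ring
      _ ≤ C * ((Q + 1) ^ b * q ^ b) := Nat.mul_le_mul_left _ h2
      _ = (C * (Q + 1) ^ b) * q ^ b := by ring
      _ < (c * Q ^ e) * q ^ b := Nat.mul_lt_mul_of_pos_right h hqb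
      _ = c * Q ^ (e - b) * (Q ^ b * q ^ b) := by
        rw [show Q ^ e = Q ^ (e - b) * Q ^ b by rw [← pow_add]; congr 1; omega]
        ring
      _ ≤ c * q ^ (e - b) * (Q ^ b * q ^ b) :=
        Nat.mul_le_mul_right _ (Nat.mul_le_mul_left _ (Nat.pow_le_pow_left hq _))
      _ = _ := by
        rw [show q ^ e = q ^ (e - b) * q ^ b by rw [← pow_add]; congr 1; omega]
        ring
  exact lt_of_mul_lt_mul_right h3 (Nat.zero_le _)

/-- one step in the rank -/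
theorem step_n {C c e q A B A' B' : ℕ} (hq : 3 ≤ q) (h : C * (A ^ 3 * B ^ 2) < c * q ^ e) (hA : A' ≤ 2 * A)
    (hB : B' ≤ 2 * B) : C * (A' ^ 3 * B' ^ 2) < c * q ^ (e + 6) := by
  have h6 : 32 ≤ q ^ 6 := by
    calc 32 ≤ 3 ^ 6 := by norm_num
      _ ≤ q ^ 6 := Nat.pow_le_pow_left hq 6
  calc C * (A' ^ 3 * B' ^ 2) ≤ C * ((2 * A) ^ 3 * (2 * B) ^ 2) :=
        Nat.mul_le_mul_left _ (Nat.mul_le_mul (Nat.pow_le_pow_left hA 3) (Nat.pow_le_pow_left hB 2))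
    _ = 32 * (C * (A ^ 3 * B ^ 2)) := by ring
    _ < 32 * (c * q ^ e) := Nat.mul_lt_mul_of_pos_left h (by norm_num)
    _ ≤ q ^ 6 * (c * q ^ e) := Nat.mul_le_mul_right _ h6
    _ = _ := by rw [pow_add]; ring

/-! ### type II -/

def ptII (n q : ℕ) : Prop := 2 * 5832 ^ 3 * ((17 * n ^ 2 * (q + 1) ^ 2) ^ 3 * (17 * n * (q + 1)) ^ 2) < 256 * q ^ (3 * n)

theorem caseII {n Q q : ℕ} (h : 2 * 5832 ^ 3 * ((17 * n ^ 2) ^ 3 * (17 * n) ^ 2) * (Q + 1) ^ 8 < 256 * Q ^ (3 * n))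
    (hb : 8 ≤ 3 * n) (hQ : 1 ≤ Q) (hq : Q ≤ q) : ptII n q := by
  have h1 := mono_q hb hQ h hq
  unfold ptII
  calc _ = 2 * 5832 ^ 3 * ((17 * n ^ 2) ^ 3 * (17 * n) ^ 2) * (q + 1) ^ 8 := by (set_option synthInstance.maxSize 99999 in exact Cfsg.Agent.Lib.RingK.eqN (by decide +kernel))
    _ < _ := h1

theorem stepII {n q : ℕ} (hn : 7 ≤ n) (hq : 3 ≤ q) (h : ptII n q) : ptII (n + 2) q := by
  refine step_n (e := 3 * n) hq h ?_ ?_
  · calc 17 * (n + 2) ^ 2 * (q + 1) ^ 2 ≤ (2 * (17 * n ^ 2)) * (q + 1) ^ 2 := Nat.mul_le_mul_right _ (by nlinarith)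
      _ = _ := by ring
  · calc 17 * (n + 2) * (q + 1) ≤ (2 * (17 * n)) * (q + 1) := Nat.mul_le_mul_right _ (by omega)
      _ = _ := by ring

/-- the finite table for type II -/
def tabII : List (ℕ × ℕ) := [(7, 51), (9, 17), (11, 10), (13, 7), (15, 5), (17, 5), (19, 4), (21, 4)]

theorem levII {n q : ℕ} (hn : 7 ≤ n) (hn2 : n % 2 = 1) (hq : 3 ≤ q) : (∃ x ∈ tabII, n = x.1 ∧ q < x.2) ∨ ptII n q := by
  rcases Nat.lt_or_ge n 23 with h | h
  · have key : ∀ Q : ℕ, (n, Q) ∈ tabII → (Q ≤ q → ptII n q) → (∃ x ∈ tabII, n = x.1 ∧ q < x.2) ∨ ptII n q := by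
      intro Q hQ hP
      rcases Nat.lt_or_ge q Q with h1 | h1
      · exact Or.inl ⟨_, hQ, rfl, h1⟩
      · exact Or.inr (hP h1)
    obtain ⟨r, rfl⟩ : ∃ r, n = 2 * r + 7 := ⟨(n - 7) / 2, by omega⟩
    have hr : r < 8 := by omega
    interval_cases r
    · exact key 51 (by decide) (caseII (by norm_num) (by norm_num) (by norm_num))
    · exact key 17 (by decide) (caseII (by norm_num) (by norm_num) (by norm_num))
    · exact key 10 (by decide) (caseII (by norm_num) (by norm_num) (by norm_num))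
    · exact key 7 (by decide) (caseII (by norm_num) (by norm_num) (by norm_num))
    · exact key 5 (by decide) (caseII (by norm_num) (by norm_num) (by norm_num))
    · exact key 5 (by decide) (caseII (by norm_num) (by norm_num) (by norm_num))
    · exact key 4 (by decide) (caseII (by norm_num) (by norm_num) (by norm_num))
    · exact key 4 (by decide) (caseII (by norm_num) (by norm_num) (by norm_num))
  · right
    obtain ⟨r, rfl⟩ : ∃ r, n = 2 * r + 23 := ⟨(n - 23) / 2, by omega⟩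
    clear hn hn2 h
    induction r with
    | zero => exact caseII (by norm_num) (by norm_num) (by norm_num) hq
    | succ r ih => exact stepII (by omega) hq ih

/-! ### orthogonal groups, type I -/

def ptOI (n q : ℕ) : Prop :=
  2 * 5832 ^ 3 * ((34 * n * (q + 1) ^ 3) ^ 3 * ((16 * n + 2) * (q + 1) ^ 2) ^ 2) < 256 * q ^ (3 * n)

theorem caseOI {n Q q : ℕ} (h : 2 * 5832 ^ 3 * ((34 * n) ^ 3 * (16 * n + 2) ^ 2) * (Q + 1) ^ 13 < 256 * Q ^ (3 * n))
    (hb : 13 ≤ 3 * n) (hQ : 1 ≤ Q) (hq : Q ≤ q) : ptOI n q := by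
  have h1 := mono_q hb hQ h hq
  unfold ptOI
  calc _ = 2 * 5832 ^ 3 * ((34 * n) ^ 3 * (16 * n + 2) ^ 2) * (q + 1) ^ 13 := by (set_option synthInstance.maxSize 99999 in exact Cfsg.Agent.Lib.RingK.eqN (by decide +kernel))
    _ < _ := h1

theorem stepOI {n q : ℕ} (hn : 7 ≤ n) (hq : 3 ≤ q) (h : ptOI n q) : ptOI (n + 2) q := by
  refine step_n (e := 3 * n) hq h ?_ ?_
  · calc 34 * (n + 2) * (q + 1) ^ 3 ≤ (2 * (34 * n)) * (q + 1) ^ 3 := Nat.mul_le_mul_right _ (by omega)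
      _ = _ := by ring
  · calc (16 * (n + 2) + 2) * (q + 1) ^ 2 ≤ (2 * (16 * n + 2)) * (q + 1) ^ 2 := Nat.mul_le_mul_right _ (by omega)
      _ = _ := by ring

def tabOI : List (ℕ × ℕ) := [(7, 360), (9, 33), (11, 13), (13, 8), (15, 6), (17, 5), (19, 4), (21, 4)]

theorem levOI {n q : ℕ} (hn : 7 ≤ n) (hn2 : n % 2 = 1) (hq : 3 ≤ q) : (∃ x ∈ tabOI, n = x.1 ∧ q < x.2) ∨ ptOI n q := by
  rcases Nat.lt_or_ge n 23 with h | h
  · have key : ∀ Q : ℕ, (n, Q) ∈ tabOI → (Q ≤ q → ptOI n q) → (∃ x ∈ tabOI, n = x.1 ∧ q < x.2) ∨ ptOI n q := by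
      intro Q hQ hP
      rcases Nat.lt_or_ge q Q with h1 | h1
      · exact Or.inl ⟨_, hQ, rfl, h1⟩
      · exact Or.inr (hP h1)
    obtain ⟨r, rfl⟩ : ∃ r, n = 2 * r + 7 := ⟨(n - 7) / 2, by omega⟩
    have hr : r < 8 := by omega
    interval_cases r
    · exact key 360 (by decide) (caseOI (by norm_num) (by norm_num) (by norm_num))
    · exact key 33 (by decide) (caseOI (by norm_num) (by norm_num) (by norm_num))
    · exact key 13 (by decide) (caseOI (by norm_num) (by norm_num) (by norm_num))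
    · exact key 8 (by decide) (caseOI (by norm_num) (by norm_num) (by norm_num))
    · exact key 6 (by decide) (caseOI (by norm_num) (by norm_num) (by norm_num))
    · exact key 5 (by decide) (caseOI (by norm_num) (by norm_num) (by norm_num))
    · exact key 4 (by decide) (caseOI (by norm_num) (by norm_num) (by norm_num))
    · exact key 4 (by decide) (caseOI (by norm_num) (by norm_num) (by norm_num))
  · right
    obtain ⟨r, rfl⟩ : ∃ r, n = 2 * r + 23 := ⟨(n - 23) / 2, by omega⟩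
    clear hn hn2 h
    induction r with
    | zero => exact caseOI (by norm_num) (by norm_num) (by norm_num) hq
    | succ r ih => exact stepOI (by omega) hq ih

/-! ### linear and unitary groups, `n = r + 1` odd -/

def ptLO (r q : ℕ) : Prop :=
  2 * 5832 ^ 3 * ((r * (16 * r + 17) * (q + 1) ^ 3) ^ 3 * ((8 * r + 1) * (q + 1) ^ 3) ^ 2) < 8 * q ^ (3 * r)

theorem caseLO {n Q q : ℕ} (h : 2 * 5832 ^ 3 * ((n * (16 * n + 17)) ^ 3 * (8 * n + 1) ^ 2) * (Q + 1) ^ 15 < 8 * Q ^ (3 * n))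
    (hb : 15 ≤ 3 * n) (hQ : 1 ≤ Q) (hq : Q ≤ q) : ptLO n q := by
  have h1 := mono_q hb hQ h hq
  unfold ptLO
  calc _ = 2 * 5832 ^ 3 * ((n * (16 * n + 17)) ^ 3 * (8 * n + 1) ^ 2) * (q + 1) ^ 15 := by (set_option synthInstance.maxSize 99999 in exact Cfsg.Agent.Lib.RingK.eqN (by decide +kernel))
    _ < _ := h1

theorem stepLO {n q : ℕ} (hn : 7 ≤ n) (hq : 3 ≤ q) (h : ptLO n q) : ptLO (n + 2) q := by
  refine step_n (e := 3 * n) hq h ?_ ?_
  · calc (n + 2) * (16 * (n + 2) + 17) * (q + 1) ^ 3 ≤ (2 * (n * (16 * n + 17))) * (q + 1) ^ 3 :=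
        Nat.mul_le_mul_right _ (by nlinarith)
      _ = _ := by ring
  · calc (8 * (n + 2) + 1) * (q + 1) ^ 3 ≤ (2 * (8 * n + 1)) * (q + 1) ^ 3 := Nat.mul_le_mul_right _ (by omega)
      _ = _ := by ring

def tabLO : List (ℕ × ℕ) := [(8, 412), (10, 43), (12, 16), (14, 10), (16, 7), (18, 6), (20, 5), (22, 4), (24, 4)]

theorem levLO {n q : ℕ} (hn : 8 ≤ n) (hn2 : n % 2 = 0) (hq : 3 ≤ q) : (∃ x ∈ tabLO, n = x.1 ∧ q < x.2) ∨ ptLO n q := by
  rcases Nat.lt_or_ge n 26 with h | h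
  · have key : ∀ Q : ℕ, (n, Q) ∈ tabLO → (Q ≤ q → ptLO n q) → (∃ x ∈ tabLO, n = x.1 ∧ q < x.2) ∨ ptLO n q := by
      intro Q hQ hP
      rcases Nat.lt_or_ge q Q with h1 | h1
      · exact Or.inl ⟨_, hQ, rfl, h1⟩
      · exact Or.inr (hP h1)
    obtain ⟨r, rfl⟩ : ∃ r, n = 2 * r + 8 := ⟨(n - 8) / 2, by omega⟩
    have hr : r < 9 := by omega
    interval_cases r
    · exact key 412 (by decide) (caseLO (by norm_num) (by norm_num) (by norm_num))
    · exact key 43 (by decide) (caseLO (by norm_num) (by norm_num) (by norm_num))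
    · exact key 16 (by decide) (caseLO (by norm_num) (by norm_num) (by norm_num))
    · exact key 10 (by decide) (caseLO (by norm_num) (by norm_num) (by norm_num))
    · exact key 7 (by decide) (caseLO (by norm_num) (by norm_num) (by norm_num))
    · exact key 6 (by decide) (caseLO (by norm_num) (by norm_num) (by norm_num))
    · exact key 5 (by decide) (caseLO (by norm_num) (by norm_num) (by norm_num))
    · exact key 4 (by decide) (caseLO (by norm_num) (by norm_num) (by norm_num))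
    · exact key 4 (by decide) (caseLO (by norm_num) (by norm_num) (by norm_num))
  · right
    obtain ⟨r, rfl⟩ : ∃ r, n = 2 * r + 26 := ⟨(n - 26) / 2, by omega⟩
    clear hn hn2 h
    induction r with
    | zero => exact caseLO (by norm_num) (by norm_num) (by norm_num) hq
    | succ r ih => exact stepLO (by omega) hq ih

/-! ### linear and unitary groups, `n = r + 1` even -/

def ptLE (r q : ℕ) : Prop :=
  2 * 5832 ^ 3 * (((r + 1) * (8 * r + 1) * (q + 1) ^ 3) ^ 3 * ((16 * r + 1) * (q + 1) ^ 2) ^ 2) < q ^ (3 * r)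

theorem caseLE {n Q q : ℕ}
    (h : 2 * 5832 ^ 3 * (((n + 1) * (8 * n + 1)) ^ 3 * (16 * n + 1) ^ 2) * (Q + 1) ^ 13 < 1 * Q ^ (3 * n))
    (hb : 13 ≤ 3 * n) (hQ : 1 ≤ Q) (hq : Q ≤ q) : ptLE n q := by
  have h1 := mono_q hb hQ h hq
  rw [one_mul] at h1
  unfold ptLE
  calc _ = 2 * 5832 ^ 3 * (((n + 1) * (8 * n + 1)) ^ 3 * (16 * n + 1) ^ 2) * (q + 1) ^ 13 := by (set_option synthInstance.maxSize 99999 in exact Cfsg.Agent.Lib.RingK.eqN (by decide +kernel))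
    _ < _ := h1

theorem stepLE {n q : ℕ} (hn : 7 ≤ n) (hq : 3 ≤ q) (h : ptLE n q) : ptLE (n + 2) q := by
  have h' : 2 * 5832 ^ 3 * (((n + 1) * (8 * n + 1) * (q + 1) ^ 3) ^ 3 * ((16 * n + 1) * (q + 1) ^ 2) ^ 2) <
      1 * q ^ (3 * n) := by rw [one_mul]; exact h
  have := step_n (A' := (n + 2 + 1) * (8 * (n + 2) + 1) * (q + 1) ^ 3) (B' := (16 * (n + 2) + 1) * (q + 1) ^ 2) hq h' ?_ ?_
  · rw [one_mul] at this
    exact this
  · calc (n + 2 + 1) * (8 * (n + 2) + 1) * (q + 1) ^ 3 ≤ (2 * ((n + 1) * (8 * n + 1))) * (q + 1) ^ 3 :=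
        Nat.mul_le_mul_right _ (by nlinarith only [hn])
      _ = _ := by ring
  · calc (16 * (n + 2) + 1) * (q + 1) ^ 2 ≤ (2 * (16 * n + 1)) * (q + 1) ^ 2 := Nat.mul_le_mul_right _ (by omega)
      _ = _ := by ring

def tabLE : List (ℕ × ℕ) := [(9, 58), (11, 19), (13, 11), (15, 7), (17, 6), (19, 5), (21, 4), (23, 4), (25, 4)]

theorem levLE {n q : ℕ} (hn : 9 ≤ n) (hn2 : n % 2 = 1) (hq : 3 ≤ q) : (∃ x ∈ tabLE, n = x.1 ∧ q < x.2) ∨ ptLE n q := by
  rcases Nat.lt_or_ge n 27 with h | h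
  · have key : ∀ Q : ℕ, (n, Q) ∈ tabLE → (Q ≤ q → ptLE n q) → (∃ x ∈ tabLE, n = x.1 ∧ q < x.2) ∨ ptLE n q := by
      intro Q hQ hP
      rcases Nat.lt_or_ge q Q with h1 | h1
      · exact Or.inl ⟨_, hQ, rfl, h1⟩
      · exact Or.inr (hP h1)
    obtain ⟨r, rfl⟩ : ∃ r, n = 2 * r + 9 := ⟨(n - 9) / 2, by omega⟩
    have hr : r < 9 := by omega
    interval_cases r
    · exact key 58 (by decide) (caseLE (by norm_num) (by norm_num) (by norm_num))
    · exact key 19 (by decide) (caseLE (by norm_num) (by norm_num) (by norm_num))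
    · exact key 11 (by decide) (caseLE (by norm_num) (by norm_num) (by norm_num))
    · exact key 7 (by decide) (caseLE (by norm_num) (by norm_num) (by norm_num))
    · exact key 6 (by decide) (caseLE (by norm_num) (by norm_num) (by norm_num))
    · exact key 5 (by decide) (caseLE (by norm_num) (by norm_num) (by norm_num))
    · exact key 4 (by decide) (caseLE (by norm_num) (by norm_num) (by norm_num))
    · exact key 4 (by decide) (caseLE (by norm_num) (by norm_num) (by norm_num))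
    · exact key 4 (by decide) (caseLE (by norm_num) (by norm_num) (by norm_num))
  · right
    obtain ⟨r, rfl⟩ : ∃ r, n = 2 * r + 27 := ⟨(n - 27) / 2, by omega⟩
    clear hn hn2 h
    induction r with
    | zero => exact caseLE (by norm_num) (by norm_num) (by norm_num) hq
    | succ r ih => exact stepLE (by omega) hq ih

end Cfsg.Agent.R2.Spec.Gamma
end

-- part: R2/Spec/Gamma/Fam
section
/-!
# Packet GAMMA (helper28): the smooth parts of the isolated numbers of `L`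
-/

set_option autoImplicit false

namespace Cfsg.Agent.R2.Spec.Gamma

open Cfsg Cfsg.Agent.H426.LieFam Cfsg.Agent.R2.Spec Cfsg.Agent.R2.Spec.P1 Cfsg.Agent.R2.Spec.E

theorem sub_dvd_sq {q : ℕ} : q - 1 ∣ q ^ 2 - 1 := by
  rw [sq_sub_one]
  exact Dvd.intro_left _ rfl

theorem add_dvd_sq {q : ℕ} : q + 1 ∣ q ^ 2 - 1 := by
  rw [sq_sub_one]
  exact Dvd.intro _ rfl

theorem two_dvd_sq {q : ℕ} (hq2 : q % 2 = 1) : 2 ∣ q ^ 2 - 1 := by
  rw [sq_sub_one]
  exact Dvd.dvd.mul_right (by omega) _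

/-- cancellation: `y * (d * x) ∣ x * z` -/
theorem cancel_le {y d x z : ℕ} (hx : 0 < x) (hz : 0 < z) (h : y * (d * x) ∣ x * z) : d * y ≤ z := by
  rw [show y * (d * x) = x * (d * y) by ring] at h
  exact Nat.le_of_dvd hz (Nat.dvd_of_mul_dvd_mul_left hx h)

theorem half_le {k z : ℕ} {a : ℕ} (h : a ≤ z * (k / 2)) : 2 * a ≤ z * k := by
  calc 2 * a ≤ 2 * (z * (k / 2)) := Nat.mul_le_mul_left _ h
    _ = z * (2 * (k / 2)) := by ring
    _ ≤ z * k := Nat.mul_le_mul_left _ (by omega)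

theorem sm_psl {n q y : ℕ} (hq : 3 ≤ q) (hq2 : q % 2 = 1) (hn : 3 ≤ n) (hs : Smo y (q ^ 2 - 1)) :
    (n % 2 = 1 → y ∣ ttor (.psl n) q n → Nat.gcd n (q - 1) * y ≤ n) ∧
      (n % 2 = 0 → y ∣ ttor (.psl n) q n → 2 * (Nat.gcd n (q - 1) * y) ≤ (q + 1) * n) ∧
      (n % 2 = 1 → y ∣ ttor (.psl n) q (n - 1) → 2 * (Nat.gcd n (q - 1) * y) ≤ (q ^ 2 - 1) * (n - 1)) ∧
      (n % 2 = 0 → y ∣ ttor (.psl n) q (n - 1) → Nat.gcd n (q - 1) * y ≤ (q - 1) * (n - 1)) := by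
  obtain ⟨h1, h2⟩ := val_psl (n := n) (q := q) (by omega) (by omega)
  have hd : Nat.gcd n (q - 1) ∣ q ^ 2 - 1 := (Nat.gcd_dvd_right _ _).trans sub_dvd_sq
  have s1 : Smo (y * (Nat.gcd n (q - 1) * (q - 1))) (q ^ 2 - 1) :=
    hs.mul ((Smo.of_dvd hd).mul (Smo.of_dvd sub_dvd_sq))
  have s2 : Smo (y * Nat.gcd n (q - 1)) (q ^ 2 - 1) := hs.mul (Smo.of_dvd hd)
  have hq1 : 0 < q ^ 2 - 1 := by rw [sq_sub_one]; exact Nat.mul_pos (by omega) (by omega)
  refine ⟨fun ho hy => ?_, fun he hy => ?_, fun ho hy => ?_, fun he hy => ?_⟩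
  · have h3 : y * (Nat.gcd n (q - 1) * (q - 1)) ∣ q ^ n - 1 := by rw [← h1]; exact Nat.mul_dvd_mul_right hy _
    exact cancel_le (by omega) (by omega) (smo_sub_odd hq hq2 ho h3 s1)
  · have h3 : y * (Nat.gcd n (q - 1) * (q - 1)) ∣ q ^ n - 1 := by rw [← h1]; exact Nat.mul_dvd_mul_right hy _
    have h4 := smo_sub_even hq hq2 (by omega) he h3 s1
    rw [sq_sub_one, show (q + 1) * (q - 1) * (n / 2) = (q - 1) * ((q + 1) * (n / 2)) by ring] at h4
    exact half_le (cancel_le (by omega) (Nat.mul_pos (by omega) (by omega)) h4)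
  · have h3 : y * Nat.gcd n (q - 1) ∣ q ^ (n - 1) - 1 := by rw [← h2]; exact Nat.mul_dvd_mul_right hy _
    have h4 := smo_sub_even hq hq2 (by omega) (by omega) h3 s2
    rw [mul_comm y] at h4
    exact half_le (Nat.le_of_dvd (Nat.mul_pos hq1 (by omega)) h4)
  · have h3 : y * Nat.gcd n (q - 1) ∣ q ^ (n - 1) - 1 := by rw [← h2]; exact Nat.mul_dvd_mul_right hy _
    have h4 := smo_sub_odd hq hq2 (by omega) h3 s2
    rw [mul_comm y] at h4
    exact Nat.le_of_dvd (Nat.mul_pos (by omega) (by omega)) h4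

theorem sm_psu {n q y : ℕ} (hq : 3 ≤ q) (hq2 : q % 2 = 1) (hn : 3 ≤ n) (hs : Smo y (q ^ 2 - 1)) :
    (n % 2 = 1 → y ∣ ttor (.psu n) q n → Nat.gcd n (q + 1) * y ≤ n) ∧
      (n % 2 = 0 → y ∣ ttor (.psu n) q n → 2 * (Nat.gcd n (q + 1) * y) ≤ (q - 1) * n) ∧
      (n % 2 = 1 → y ∣ ttor (.psu n) q (n - 1) → 2 * (Nat.gcd n (q + 1) * y) ≤ (q ^ 2 - 1) * (n - 1)) ∧
      (n % 2 = 0 → y ∣ ttor (.psu n) q (n - 1) → Nat.gcd n (q + 1) * y ≤ (q + 1) * (n - 1)) := by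
  obtain ⟨h1, h2⟩ := val_psu (n := n) (q := q) (by omega) (by omega)
  have hd : Nat.gcd n (q + 1) ∣ q ^ 2 - 1 := (Nat.gcd_dvd_right _ _).trans add_dvd_sq
  have s1 : Smo (y * (Nat.gcd n (q + 1) * (q + 1))) (q ^ 2 - 1) :=
    hs.mul ((Smo.of_dvd hd).mul (Smo.of_dvd add_dvd_sq))
  have s2 : Smo (y * Nat.gcd n (q + 1)) (q ^ 2 - 1) := hs.mul (Smo.of_dvd hd)
  have hq1 : 0 < q ^ 2 - 1 := by rw [sq_sub_one]; exact Nat.mul_pos (by omega) (by omega)
  refine ⟨fun ho hy => ?_, fun he hy => ?_, fun ho hy => ?_, fun he hy => ?_⟩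
  · rw [if_neg (by omega)] at h1
    have h3 : y * (Nat.gcd n (q + 1) * (q + 1)) ∣ q ^ n + 1 := by rw [← h1]; exact Nat.mul_dvd_mul_right hy _
    exact cancel_le (by omega) (by omega) (smo_add_odd hq hq2 ho h3 s1)
  · rw [if_pos he] at h1
    have h3 : y * (Nat.gcd n (q + 1) * (q + 1)) ∣ q ^ n - 1 := by rw [← h1]; exact Nat.mul_dvd_mul_right hy _
    have h4 := smo_sub_even hq hq2 (by omega) he h3 s1
    rw [sq_sub_one, show (q + 1) * (q - 1) * (n / 2) = (q + 1) * ((q - 1) * (n / 2)) by ring] at h4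
    exact half_le (cancel_le (by omega) (Nat.mul_pos (by omega) (by omega)) h4)
  · rw [if_neg (by omega)] at h2
    have h3 : y * Nat.gcd n (q + 1) ∣ q ^ (n - 1) - 1 := by rw [← h2]; exact Nat.mul_dvd_mul_right hy _
    have h4 := smo_sub_even hq hq2 (by omega) (by omega) h3 s2
    rw [mul_comm y] at h4
    exact half_le (Nat.le_of_dvd (Nat.mul_pos hq1 (by omega)) h4)
  · rw [if_pos he] at h2
    have h3 : y * Nat.gcd n (q + 1) ∣ q ^ (n - 1) + 1 := by rw [← h2]; exact Nat.mul_dvd_mul_right hy _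
    have h4 := smo_add_odd hq hq2 (by omega) h3 s2
    rw [mul_comm y] at h4
    exact Nat.le_of_dvd (Nat.mul_pos (by omega) (by omega)) h4

theorem smo_two {y B : ℕ} (hB : 2 ∣ B) (hs : Smo y B) : Smo (y * 2) B := hs.mul (Smo.of_dvd hB)

/-- `(q ^ n - 1) / 2`, `(q ^ n + 1) / 2`, `n` odd -/
theorem sm_psp {n q y : ℕ} (hq : 3 ≤ q) (hq2 : q % 2 = 1) (hn : 1 ≤ n) (hn2 : n % 2 = 1) (hs : Smo y (q ^ 2 - 1)) :
    (y ∣ ttor (.psp n) q n → 2 * y ≤ (q - 1) * n) ∧ (y ∣ ttor (.psp n) q (2 * n) → 2 * y ≤ (q + 1) * n) := by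
  obtain ⟨h1, h2⟩ := val_psp (n := n) (q := q) (by omega) (by omega)
  rw [gcd_two_odd hq2] at h1 h2
  have s := smo_two (two_dvd_sq hq2) hs
  constructor
  · intro hy
    have h3 : y * 2 ∣ q ^ n - 1 := by rw [← h2]; exact Nat.mul_dvd_mul_right hy _
    have h4 := Nat.le_of_dvd (Nat.mul_pos (by omega) (by omega)) (smo_sub_odd hq hq2 hn2 h3 s)
    omega
  · intro hy
    have h3 : y * 2 ∣ q ^ n + 1 := by rw [← h1]; exact Nat.mul_dvd_mul_right hy _
    have h4 := Nat.le_of_dvd (Nat.mul_pos (by omega) (by omega)) (smo_add_odd hq hq2 hn2 h3 s)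
    omega

theorem sm_oplus_even {n q y : ℕ} (hq : 3 ≤ q) (hq2 : q % 2 = 1) (hn : 4 ≤ n) (hn2 : n % 2 = 0)
    (hs : Smo y (q ^ 2 - 1)) :
    (y ∣ ttor (.oplus n) q (n - 1) → 2 * y ≤ (q - 1) * (n - 1)) ∧
      (y ∣ ttor (.oplus n) q (2 * (n - 1)) → 2 * y ≤ (q + 1) * (n - 1)) := by
  obtain ⟨h1, h2⟩ := val_oplus_even (n := n) (q := q) hn hn2 (by omega)
  rw [gcd_two_odd hq2] at h1 h2
  have s := smo_two (two_dvd_sq hq2) hs
  constructor
  · intro hy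
    have h3 : y * 2 ∣ q ^ (n - 1) - 1 := by rw [← h2]; exact Nat.mul_dvd_mul_right hy _
    have h4 := Nat.le_of_dvd (Nat.mul_pos (by omega) (by omega)) (smo_sub_odd hq hq2 (by omega) h3 s)
    omega
  · intro hy
    have h3 : y * 2 ∣ q ^ (n - 1) + 1 := by rw [← h1]; exact Nat.mul_dvd_mul_right hy _
    have h4 := Nat.le_of_dvd (Nat.mul_pos (by omega) (by omega)) (smo_add_odd hq hq2 (by omega) h3 s)
    omega

theorem gcd_four_smo {q m : ℕ} (hq2 : q % 2 = 1) : Smo (Nat.gcd 4 m) (q ^ 2 - 1) := by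
  have h1 : Smo 4 (q ^ 2 - 1) := by
    have := (Smo.of_dvd (two_dvd_sq hq2)).mul (Smo.of_dvd (two_dvd_sq hq2))
    exact this
  exact h1.dvd (Nat.gcd_dvd_left _ _)

theorem gcd_four_ge {m : ℕ} (hm : m % 2 = 0) : 2 ≤ Nat.gcd 4 m := by
  have h1 : 2 ∣ Nat.gcd 4 m := Nat.dvd_gcd (by norm_num) (by omega)
  exact Nat.le_of_dvd (Nat.gcd_pos_of_pos_left _ (by norm_num)) h1

theorem odd_pow_mod {q n : ℕ} (hq2 : q % 2 = 1) : q ^ n % 2 = 1 := by
  rw [Nat.pow_mod, hq2, one_pow]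
  rfl

/-- `POmega+`, `n` odd: `g y ≤ (q - 1) n`, `g y ≤ 2 (q + 1)` -/
theorem sm_oplus_odd {n q y : ℕ} (hq : 3 ≤ q) (hq2 : q % 2 = 1) (hn : 4 ≤ n) (hn2 : n % 2 = 1)
    (hs : Smo y (q ^ 2 - 1)) :
    (y ∣ ttor (.oplus n) q n → Nat.gcd 4 (q ^ n - 1) * y ≤ (q - 1) * n) ∧
      (y ∣ ttor (.oplus n) q (2 * (n - 1)) → Nat.gcd 4 (q ^ n - 1) * y ≤ 2 * (q + 1)) := by
  obtain ⟨h1, h2⟩ := val_oplus_odd (n := n) (q := q) (by omega) hn2 (by omega)
  have s : Smo (y * Nat.gcd 4 (q ^ n - 1)) (q ^ 2 - 1) := hs.mul (gcd_four_smo hq2)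
  constructor
  · intro hy
    have h3 : y * Nat.gcd 4 (q ^ n - 1) ∣ q ^ n - 1 := by
      conv_rhs => rw [← h1]
      exact Nat.mul_dvd_mul_right hy _
    have h4 := Nat.le_of_dvd (Nat.mul_pos (by omega) (by omega)) (smo_sub_odd hq hq2 hn2 h3 s)
    rwa [mul_comm y] at h4
  · intro hy
    have h3 : y * Nat.gcd 4 (q ^ n - 1) ∣ (q ^ (n - 1) + 1) * (q + 1) := by
      rw [← h2]
      exact Nat.mul_dvd_mul_right hy _
    have h4 := Nat.le_of_dvd (by omega) (smo_add_even hq hq2 (by omega) h3 s)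
    rwa [mul_comm y] at h4

/-- `POmega-`, `n` odd -/
theorem sm_ominus_odd {n q y : ℕ} (hq : 3 ≤ q) (hq2 : q % 2 = 1) (hn : 4 ≤ n) (hn2 : n % 2 = 1)
    (hs : Smo y (q ^ 2 - 1)) :
    (y ∣ ttor (.ominus n) q (2 * n) → Nat.gcd 4 (q ^ n + 1) * y ≤ (q + 1) * n) ∧
      (y ∣ ttor (.ominus n) q (2 * (n - 1)) → Nat.gcd 4 (q ^ n + 1) * y ≤ 2 * (q - 1)) := by
  obtain ⟨h1, h2, -⟩ := val_ominus (n := n) (q := q) (by omega) (by omega)
  have s : Smo (y * Nat.gcd 4 (q ^ n + 1)) (q ^ 2 - 1) := hs.mul (gcd_four_smo hq2)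
  constructor
  · intro hy
    have h3 : y * Nat.gcd 4 (q ^ n + 1) ∣ q ^ n + 1 := by
      conv_rhs => rw [← h1]
      exact Nat.mul_dvd_mul_right hy _
    have h4 := Nat.le_of_dvd (Nat.mul_pos (by omega) (by omega)) (smo_add_odd hq hq2 hn2 h3 s)
    rwa [mul_comm y] at h4
  · intro hy
    have h3 : y * Nat.gcd 4 (q ^ n + 1) ∣ (q ^ (n - 1) + 1) * (q - 1) := by
      rw [← h2]
      exact Nat.mul_dvd_mul_right hy _
    have h4 := Nat.le_of_dvd (by omega) (smo_add_even hq hq2 (by omega) h3 s)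
    rwa [mul_comm y] at h4

/-- `POmega-`, `n` even: the first number is prime to `q ^ 2 - 1` -/
theorem sm_ominus_even {n q y : ℕ} (hq : 3 ≤ q) (hq2 : q % 2 = 1) (hn : 4 ≤ n) (hn2 : n % 2 = 0)
    (hs : Smo y (q ^ 2 - 1)) (hy : y ∣ ttor (.ominus n) q (2 * n)) : y = 1 := by
  obtain ⟨h1, -, -⟩ := val_ominus (n := n) (q := q) (by omega) (by omega)
  have s : Smo (y * Nat.gcd 4 (q ^ n + 1)) (q ^ 2 - 1) := hs.mul (gcd_four_smo hq2)
  have h2 := gcd_four_ge (m := q ^ n + 1) (by have := odd_pow_mod (n := n) hq2; omega)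
  have h3 : y * Nat.gcd 4 (q ^ n + 1) ∣ (q ^ n + 1) * 1 := by
    rw [mul_one]
    conv_rhs => rw [← h1]
    exact Nat.mul_dvd_mul_right hy _
  have h4 := Nat.le_of_dvd (by omega) (smo_add_even hq hq2 hn2 h3 s)
  have hy0 : y ≠ 0 := by
    rintro rfl
    have h5 := Nat.eq_zero_of_zero_dvd hy
    rw [h5, zero_mul] at h1
    omega
  have h5 : y * 2 ≤ y * Nat.gcd 4 (q ^ n + 1) := Nat.mul_le_mul_left _ h2
  omega

end Cfsg.Agent.R2.Spec.Gamma
end
end

-- part: R2/Spec/Gamma/VExc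
section
set_option linter.all false
open scoped Cfsg.Agent.FastGrp

/-!
# Packet GAMMA (helper27): the power of `v` in the isolated numbers, `v` of class `3` or `4`

* `v3_psl`, `v3_psu` : class `3`, linear and unitary groups;
* `v4_orth` : class `4`, orthogonal groups of even dimension.
-/

set_option autoImplicit false

namespace Cfsg.Agent.R2.Spec.Gamma

open Cfsg Cfsg.Agent.H426.LieFam Cfsg.Agent.R2.Spec Cfsg.Agent.R2.Spec.P1 Cfsg.Agent.R2.Spec.F1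
  Cfsg.Agent.R2.Spec.E

/-- lifting the exponent, as a divisibility -/
theorem lte_dvd {v : ℕ} (hv : v.Prime) (hodd : Odd v) {y : ℤ} {k e : ℕ} (h1 : (v : ℤ) ∣ y - 1)
    (h2 : ¬ (v : ℤ) ∣ y) (h : (v : ℤ) ^ e ∣ y ^ k - 1) : (v : ℤ) ^ e ∣ (y - 1) * k := by
  have h3 := Int.emultiplicity_pow_sub_pow hv hodd (x := y) (y := 1) h1 h2 k
  rw [one_pow] at h3
  rw [pow_dvd_iff_le_emultiplicity] at h ⊢
  rw [h3] at h
  rw [emultiplicity_mul (Nat.prime_iff_prime_int.1 hv), Int.natCast_emultiplicity]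
  exact h

theorem odd_of_three {v : ℕ} (hv : v.Prime) {x : ℤ} {m : ℕ} (hm : 3 ≤ m) (h : orderOf ((x : ℤ) : ZMod v) = m) :
    Odd v ∧ m ∣ v - 1 ∧ ¬ (v : ℤ) ∣ x := by
  have := Fact.mk hv
  have h0 : ((x : ℤ) : ZMod v) ≠ 0 := by
    intro h0
    rw [h0, orderOf_zero] at h
    omega
  have h1 : m ∣ v - 1 := by
    rw [← h]
    exact orderOf_dvd_of_pow_eq_one (ZMod.pow_card_sub_one_eq_one h0)
  have h2 := hv.two_le
  have h3 := Nat.le_of_dvd (by omega) h1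
  refine ⟨hv.odd_of_ne_two (by omega), h1, fun h4 => h0 ?_⟩
  rwa [ZMod.intCast_zmod_eq_zero_iff_dvd]

theorem core3 {v : ℕ} (hv : v.Prime) {x : ℤ} (h : orderOf ((x : ℤ) : ZMod v) = 3) {k e : ℕ}
    (hN : (v : ℤ) ^ e ∣ x ^ (3 * k) - 1) :
    v % 6 = 1 ∧ (v : ℤ) ∣ x ^ 2 + x + 1 ∧ (v : ℤ) ^ e ∣ (x ^ 2 + x + 1) * k := by
  have := Fact.mk hv
  obtain ⟨hodd, h3, hx⟩ := odd_of_three hv le_rfl h
  have hvp := Nat.prime_iff_prime_int.1 hv
  have h1 : ¬ (v : ℤ) ∣ x - 1 := by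
    intro h1
    rw [← ZMod.intCast_zmod_eq_zero_iff_dvd, Int.cast_sub, Int.cast_one, sub_eq_zero] at h1
    rw [h1, orderOf_one] at h
    omega
  have h2 : (v : ℤ) ∣ x ^ 3 - 1 := by
    rw [← ZMod.intCast_zmod_eq_zero_iff_dvd, Int.cast_sub, Int.cast_one, Int.cast_pow, ← h, pow_orderOf_eq_one,
      sub_self]
  have e1 : x ^ 3 - 1 = (x - 1) * (x ^ 2 + x + 1) := by ring
  refine ⟨?_, ?_, ?_⟩
  · have h4 := hv.two_le
    rw [Nat.odd_iff] at hodd
    omega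
  · rw [e1] at h2
    exact (hvp.dvd_or_dvd h2).resolve_left h1
  · rw [pow_mul] at hN
    have h5 := lte_dvd hv hodd h2 (fun h5 => hx (hvp.dvd_of_dvd_pow h5)) hN
    rw [e1, mul_assoc] at h5
    exact (((Int.prime_iff_natAbs_prime.2 (by simpa using hv)).coprime_iff_not_dvd.2 h1).pow_left).dvd_of_dvd_mul_left h5

theorem core4 {v : ℕ} (hv : v.Prime) {x : ℤ} (h : orderOf ((x : ℤ) : ZMod v) = 4) {k e : ℕ} (hk : k % 2 = 1)
    (hN : (v : ℤ) ^ e ∣ x ^ (2 * k) + 1) :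
    v % 4 = 1 ∧ (v : ℤ) ∣ x ^ 2 + 1 ∧ (v : ℤ) ^ e ∣ (x ^ 2 + 1) * k := by
  have := Fact.mk hv
  obtain ⟨hodd, h3, hx⟩ := odd_of_three hv (by norm_num) h
  have hvp := Nat.prime_iff_prime_int.1 hv
  have h1 : ¬ (v : ℤ) ∣ x ^ 2 - 1 := by
    intro h1
    rw [← ZMod.intCast_zmod_eq_zero_iff_dvd, Int.cast_sub, Int.cast_one, Int.cast_pow, sub_eq_zero] at h1
    have h2 := orderOf_dvd_of_pow_eq_one h1
    rw [h] at h2
    exact absurd (Nat.le_of_dvd (by norm_num) h2) (by norm_num)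
  have h2 : (v : ℤ) ∣ x ^ 4 - 1 := by
    rw [← ZMod.intCast_zmod_eq_zero_iff_dvd, Int.cast_sub, Int.cast_one, Int.cast_pow, ← h, pow_orderOf_eq_one,
      sub_self]
  have e1 : x ^ 4 - 1 = (x ^ 2 - 1) * (x ^ 2 + 1) := by ring
  have h4 : (v : ℤ) ∣ x ^ 2 + 1 := by
    rw [e1] at h2
    exact (hvp.dvd_or_dvd h2).resolve_left h1
  refine ⟨?_, h4, ?_⟩
  · have h5 := hv.two_le
    omega
  · have hko : Odd k := Nat.odd_iff.2 hk
    have e2 : x ^ (2 * k) + 1 = -((-(x ^ 2)) ^ k - 1) := by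
      rw [hko.neg_pow, ← pow_mul]
      ring
    rw [e2, dvd_neg] at hN
    have e3 : -(x ^ 2) - 1 = -(x ^ 2 + 1) := by ring
    have h5 := lte_dvd hv hodd (y := -(x ^ 2)) (by rw [e3, dvd_neg]; exact h4)
      (fun h5 => hx (hvp.dvd_of_dvd_pow (dvd_neg.1 h5))) hN
    rwa [e3, neg_mul, dvd_neg] at h5

theorem v3_psl {n q v e j : ℕ} (hq : 3 ≤ q) (hn : 9 ≤ n) (hv : v.Prime) (hc : cls (.psl n) q v = 3)
    (hj : j = n ∨ j + 1 = n) (h3 : 3 ∣ j) (hN : v ^ e ∣ ttor (.psl n) q j) :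
    v % 6 = 1 ∧ v ∣ q ^ 2 + q + 1 ∧ v ^ e ∣ (q ^ 2 + q + 1) * (j / 3) := by
  obtain ⟨k, rfl⟩ := h3
  obtain ⟨w1, w2⟩ := val_psl (n := n) (q := q) (by omega) (by omega)
  have hc' : orderOf (((q : ℤ) : ℤ) : ZMod v) = 3 := hc
  have h1 : v ^ e ∣ q ^ (3 * k) - 1 := by
    rcases hj with hj | hj
    · rw [hj] at hN ⊢
      rw [← w1]
      exact hN.mul_right _
    · have hj' : 3 * k = n - 1 := by omega
      rw [hj'] at hN ⊢
      rw [← w2]
      exact hN.mul_right _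
  have h2 : (v : ℤ) ^ e ∣ (q : ℤ) ^ (3 * k) - 1 := by
    rw [← cast_pow_sub (by omega)]
    exact_mod_cast h1
  obtain ⟨a, b, c⟩ := core3 hv hc' h2
  rw [Nat.mul_div_cancel_left k (by norm_num)]
  exact ⟨a, by exact_mod_cast b, by exact_mod_cast c⟩

theorem v3_psu {n q v e j : ℕ} (hq : 3 ≤ q) (hn : 9 ≤ n) (hv : v.Prime) (hc : cls (.psu n) q v = 3)
    (hj : j = n ∨ j + 1 = n) (h3 : 3 ∣ j) (hN : v ^ e ∣ ttor (.psu n) q j) :
    v % 6 = 1 ∧ v ∣ q ^ 2 - q + 1 ∧ v ^ e ∣ (q ^ 2 - q + 1) * (j / 3) := by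
  obtain ⟨k, rfl⟩ := h3
  obtain ⟨w1, w2⟩ := val_psu (n := n) (q := q) (by omega) (by omega)
  have hc' : orderOf (((-(q : ℤ)) : ℤ) : ZMod v) = 3 := hc
  have h1 : v ^ e ∣ (if (3 * k) % 2 = 0 then q ^ (3 * k) - 1 else q ^ (3 * k) + 1) := by
    rcases hj with hj | hj
    · rw [hj] at hN ⊢
      rw [← w1]
      exact hN.mul_right _
    · have hj' : 3 * k = n - 1 := by omega
      rw [hj'] at hN ⊢
      have h4 : v ^ e ∣ (if n % 2 = 0 then q ^ (n - 1) + 1 else q ^ (n - 1) - 1) := by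
        rw [← w2]
        exact hN.mul_right _
      by_cases h : n % 2 = 0
      · rw [if_pos h] at h4
        rwa [if_neg (by omega)]
      · rw [if_neg h] at h4
        rwa [if_pos (by omega)]
  have h2 : (v : ℤ) ^ e ∣ (-(q : ℤ)) ^ (3 * k) - 1 := by
    by_cases h : (3 * k) % 2 = 0
    · rw [if_pos h] at h1
      rw [(Nat.even_iff.2 h).neg_pow, ← cast_pow_sub (by omega)]
      exact_mod_cast h1
    · rw [if_neg h] at h1
      rw [(Nat.odd_iff.2 (by omega)).neg_pow, show -(q : ℤ) ^ (3 * k) - 1 = -((q ^ (3 * k) + 1 : ℕ) : ℤ) by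
        push_cast; ring, dvd_neg]
      exact_mod_cast h1
  obtain ⟨a, b, c⟩ := core3 hv hc' h2
  have e1 : (-(q : ℤ)) ^ 2 + -(q : ℤ) + 1 = ((q ^ 2 - q + 1 : ℕ) : ℤ) := by
    have : q ≤ q ^ 2 := Nat.le_self_pow (by norm_num) q
    rw [Nat.cast_add, Nat.cast_sub this]
    push_cast
    ring
  rw [e1] at b c
  rw [Nat.mul_div_cancel_left k (by norm_num)]
  exact ⟨a, by exact_mod_cast b, by exact_mod_cast c⟩

theorem v4_orth {t : Fam} {n q v e : ℕ} (hq : 3 ≤ q) (_hq2 : q % 2 = 1) (ht : t = .oplus n ∨ t = .ominus n)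
    (hn : 7 ≤ n) (hn4 : n % 4 = 3) (hv : v.Prime) (hc : cls t q v = 4) (hN : v ^ e ∣ ttor t q (2 * (n - 1))) :
    v % 4 = 1 ∧ v ∣ q ^ 2 + 1 ∧ v ^ e ∣ (q ^ 2 + 1) * ((n - 1) / 2) := by
  have hf := Fact.mk hv
  have hvp := Nat.prime_iff_prime_int.1 hv
  have hc' : orderOf (((q : ℤ) : ℤ) : ZMod v) = 4 := by
    rcases ht with rfl | rfl
    · exact hc
    · exact hc
  have hq1 : ∀ s : ℕ, (s = q + 1 ∨ s = q - 1) → Nat.Coprime (v ^ e) s := by
    intro s hs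
    apply Nat.Coprime.pow_left
    rw [hv.coprime_iff_not_dvd]
    intro h1
    have h2 : ((q : ℤ) : ZMod v) ^ 2 = 1 := by
      have h3 : v ∣ q ^ 2 - 1 := by
        rw [sq_sub_one]
        rcases hs with rfl | rfl
        · exact h1.mul_right _
        · exact h1.mul_left _
      have h4 : (v : ℤ) ∣ (q : ℤ) ^ 2 - 1 := by
        rw [← cast_pow_sub (by omega)]
        exact_mod_cast h3
      rw [← ZMod.intCast_zmod_eq_zero_iff_dvd, Int.cast_sub, Int.cast_one, Int.cast_pow, sub_eq_zero] at h4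
      exact h4
    have h5 := orderOf_dvd_of_pow_eq_one h2
    rw [hc'] at h5
    exact absurd (Nat.le_of_dvd (by norm_num) h5) (by norm_num)
  have h1 : v ^ e ∣ q ^ (n - 1) + 1 := by
    rcases ht with rfl | rfl
    · have w := (val_oplus_odd (n := n) (q := q) (by omega) (by omega) (by omega)).2
      have h2 : v ^ e ∣ (q ^ (n - 1) + 1) * (q + 1) := by
        rw [← w]
        exact hN.mul_right _
      exact (hq1 _ (Or.inl rfl)).dvd_of_dvd_mul_right h2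
    · have w := (val_ominus (n := n) (q := q) (by omega) (by omega)).2.1
      have h2 : v ^ e ∣ (q ^ (n - 1) + 1) * (q - 1) := by
        rw [← w]
        exact hN.mul_right _
      exact (hq1 _ (Or.inr rfl)).dvd_of_dvd_mul_right h2
  have e1 : n - 1 = 2 * ((n - 1) / 2) := by omega
  have h2 : (v : ℤ) ^ e ∣ (q : ℤ) ^ (2 * ((n - 1) / 2)) + 1 := by
    rw [← e1]
    exact_mod_cast h1
  obtain ⟨a, b, c⟩ := core4 hv hc' (by omega) h2
  exact ⟨a, by exact_mod_cast b, by exact_mod_cast c⟩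

end Cfsg.Agent.R2.Spec.Gamma
end

-- part: R2/Spec/FIN/Range4
section
prune_inst 0x4000010000000000000000000000002000000000000008000510006000a0610020040000040000d021044a08008000008110000000200000000000000000000000000060040f50c08a00000002003580c00000000000000000000000000041000000000000
set_option linter.all false
open scoped Cfsg.Agent.FastGrp

-- part: R2/Spec/FIN/Chk4
section
/-!
# S3435, packet FIN, small ranks: the search for all `S` with `RkFour` (helper7)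
-/

set_option autoImplicit false

namespace Cfsg.Agent.R2.Spec.FIN

open Cfsg.Agent.H426.LieFam Cfsg.Agent.R2.Spec Cfsg.Agent.R2.Spec.P1 Cfsg.Agent.R2.Spec.E Cfsg.Agent.R2.Spec.F1

/-- quick test: no isolated number with the exponent `e` divides `M` -/
noncomputable def pre (M e u : ℕ) : Bool :=
  force (u ^ (e - 1)) fun y => force (y * u) fun x =>
    (Nat.blt 0 ((4 * M) % (x + 1)) && Nat.blt 0 ((4 * M) % (x - 1))) &&
    ((Nat.blt 0 ((4 * M) % (y + 1)) && Nat.blt 0 ((4 * M) % (y - 1))) &&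
    (Nat.blt e 5 || force (x * u) fun z => force (z * u) fun w =>
      (Nat.blt 0 (((e + 2) * M * (u - 1)) % (w - 1)) && Nat.blt 0 (((e + 2) * M) % (z - 1))) &&
      (bif Nat.beq (e % 2) 0 then
        Nat.blt 0 (((e + 2) * M * (u + 1)) % (w - 1)) && Nat.blt 0 (((e + 2) * M) % (z + 1))
      else Nat.blt 0 (((e + 2) * M * (u + 1)) % (w + 1)) && Nat.blt 0 (((e + 2) * M) % (z - 1)))))

/-- the exponents -/
def ex4 : Fam → ℕ
  | .psl m => m - 2
  | .psu m => m - 2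
  | .psp m => m
  | .oodd m => m
  | .oplus m => if m % 2 = 1 then m else m - 1
  | .ominus m => m
  | _ => 0

/-- the test for the exponent `e` and the number `u` -/
noncomputable def tstE4 (T : ℕ → ℕ → Bool) (e u : ℕ) : Bool :=
  (T e (ttor (.psp e) u (2 * e)) && (Nat.beq (e % 2) 0 || T e (ttor (.psp e) u e))) &&
  ((T e (ttor (.ominus e) u (2 * e)) && T e (ttor (.ominus e) u (2 * (e - 1)))) &&
    (Nat.beq (e % 2) 1 || T e (ttor (.ominus e) u (e - 1)))) &&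
  (Nat.beq (e % 2) 0 || ((T e (ttor (.oplus e) u e) && T e (ttor (.oplus e) u (2 * (e - 1)))) &&
    (T (e + 1) (ttor (.oplus (e + 1)) u (2 * e)) && T (e + 1) (ttor (.oplus (e + 1)) u e)))) &&
  (Nat.blt e 5 || ((T (e + 2) (ttor (.psl (e + 2)) u (e + 2)) && T (e + 2) (ttor (.psl (e + 2)) u (e + 1))) &&
    (T (e + 2) (ttor (.psu (e + 2)) u (e + 2)) && T (e + 2) (ttor (.psu (e + 2)) u (e + 1)))))

theorem nblt_of_le {a b : ℕ} (h : b ≤ a) : Nat.blt a b = false := by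
  by_contra hcon
  rw [Bool.not_eq_false, Nat.blt_eq] at hcon
  omega

theorem beq_mod_one {e : ℕ} (h : e % 2 = 1) : Nat.beq (e % 2) 1 = true := by rw [h]; rfl
theorem beq_mod_one' {e : ℕ} (h : e % 2 = 0) : Nat.beq (e % 2) 1 = false := by rw [h]; rfl
theorem beq_mod_zero {e : ℕ} (h : e % 2 = 0) : Nat.beq (e % 2) 0 = true := by rw [h]; rfl
theorem beq_mod_zero' {e : ℕ} (h : e % 2 = 1) : Nat.beq (e % 2) 0 = false := by rw [h]; rfl

theorem tstE4_sound {T : ℕ → ℕ → Bool} {t : Fam} {u i : ℕ} (hr : RkFour t) (hi : top t i)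
    (h : tstE4 T (ex4 t) u = true) : T (rk t) (ttor t u i) = true := by
  rw [tstE4, Bool.and_eq_true, Bool.and_eq_true, Bool.and_eq_true, Bool.and_eq_true, Bool.and_eq_true,
    Bool.and_eq_true] at h
  obtain ⟨⟨⟨⟨h1, h2⟩, ⟨h3, h4⟩, h5⟩, h6⟩, h7⟩ := h
  cases t with
  | psl m =>
    have hm : 7 ≤ m := hr
    have hi' : 3 ≤ i ∧ (i = m ∨ i + 1 = m) := hi
    obtain ⟨e, rfl⟩ : ∃ e, m = e + 2 := ⟨m - 2, by omega⟩
    rw [show ex4 (.psl (e + 2)) = e from rfl, nblt_of_le (show 5 ≤ e by omega), Bool.false_or, Bool.and_eq_true,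
      Bool.and_eq_true] at h7
    rcases hi'.2 with rfl | h8
    · exact h7.1.1
    · rw [show i = e + 1 by omega]
      exact h7.1.2
  | psu m =>
    have hm : 7 ≤ m := hr
    have hi' : 3 ≤ i ∧ (i = m ∨ i + 1 = m) := hi
    obtain ⟨e, rfl⟩ : ∃ e, m = e + 2 := ⟨m - 2, by omega⟩
    rw [show ex4 (.psu (e + 2)) = e from rfl, nblt_of_le (show 5 ≤ e by omega), Bool.false_or, Bool.and_eq_true,
      Bool.and_eq_true, Bool.and_eq_true] at h7
    rcases hi'.2 with rfl | h8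
    · exact h7.2.1
    · rw [show i = e + 1 by omega]
      exact h7.2.2
  | psp m =>
    have hi' : i = 2 * m ∨ (i = m ∧ m % 2 = 1) := hi
    rcases hi' with rfl | ⟨rfl, h8⟩
    · exact h1
    · rw [show ex4 (.psp i) = i from rfl, beq_mod_zero' h8, Bool.false_or] at h2
      exact h2
  | oodd m =>
    have hi' : i = 2 * m ∨ (i = m ∧ m % 2 = 1) := hi
    rcases hi' with rfl | ⟨rfl, h8⟩
    · exact h1
    · rw [show ex4 (.oodd i) = i from rfl, beq_mod_zero' h8, Bool.false_or] at h2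
      exact h2
  | oplus m =>
    have hm : 5 ≤ m := hr
    have hi' : (i = m ∧ m % 2 = 1) ∨ i = 2 * (m - 1) ∨ (i = m - 1 ∧ m % 2 = 0) := hi
    rcases Nat.mod_two_eq_zero_or_one m with h0 | h0
    · obtain ⟨e, rfl⟩ : ∃ e, m = e + 1 := ⟨m - 1, by omega⟩
      have he : ex4 (.oplus (e + 1)) = e := by
        rw [ex4, if_neg (by omega)]
        omega
      rw [he, beq_mod_zero' (show e % 2 = 1 by omega), Bool.false_or, Bool.and_eq_true, Bool.and_eq_true,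
        Bool.and_eq_true] at h6
      rw [Nat.add_sub_cancel] at hi'
      rcases hi' with ⟨-, h8⟩ | rfl | ⟨rfl, h8⟩
      · omega
      · exact h6.2.1
      · exact h6.2.2
    · have he : ex4 (.oplus m) = m := by rw [ex4, if_pos h0]
      rw [he, beq_mod_zero' h0, Bool.false_or, Bool.and_eq_true, Bool.and_eq_true] at h6
      rcases hi' with ⟨rfl, h8⟩ | rfl | ⟨rfl, h8⟩
      · exact h6.1.1
      · exact h6.1.2
      · omega
  | ominus m =>
    have hm : 4 ≤ m := hr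
    have hi' : i = 2 * m ∨ i = 2 * (m - 1) ∨ (i = m - 1 ∧ m % 2 = 0) := hi
    rcases hi' with rfl | rfl | ⟨rfl, h8⟩
    · exact h3
    · exact h4
    · rw [show ex4 (.ominus m) = m from rfl, beq_mod_one' h8, Bool.false_or] at h5
      exact h5
  | _ => exact hr.elim

/-- the numbers `X = P * g` -/
theorem dvd_of_mul {P g X M c : ℕ} (h : P * g = X) (hg : g ∣ c) (hP : P ∣ M) : X ∣ c * M := by
  rw [← h, mul_comm c M]
  exact Nat.mul_dvd_mul hP hg

theorem blt_mod {X A : ℕ} (h : X ∣ A) : Nat.blt 0 (A % X) = false := by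
  rw [Nat.mod_eq_zero_of_dvd h]
  rfl

/-- the numbers in `pre`, unfolded -/
theorem pre_eq {M e u : ℕ} (he : 1 ≤ e) : pre M e u =
    ((Nat.blt 0 ((4 * M) % (u ^ e + 1)) && Nat.blt 0 ((4 * M) % (u ^ e - 1))) &&
    ((Nat.blt 0 ((4 * M) % (u ^ (e - 1) + 1)) && Nat.blt 0 ((4 * M) % (u ^ (e - 1) - 1))) &&
    (Nat.blt e 5 ||
      ((Nat.blt 0 (((e + 2) * M * (u - 1)) % (u ^ (e + 2) - 1)) && Nat.blt 0 (((e + 2) * M) % (u ^ (e + 1) - 1))) &&
      (bif Nat.beq (e % 2) 0 then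
        Nat.blt 0 (((e + 2) * M * (u + 1)) % (u ^ (e + 2) - 1)) && Nat.blt 0 (((e + 2) * M) % (u ^ (e + 1) + 1))
      else Nat.blt 0 (((e + 2) * M * (u + 1)) % (u ^ (e + 2) + 1)) &&
        Nat.blt 0 (((e + 2) * M) % (u ^ (e + 1) - 1))))))) := by
  have e1 : u ^ (e - 1) * u = u ^ e := by rw [← pow_succ]; congr 1; omega
  have e2 : u ^ e * u = u ^ (e + 1) := (pow_succ _ _).symm
  have e3 : u ^ (e + 1) * u = u ^ (e + 2) := (pow_succ _ _).symm
  rw [pre, force_eq, force_eq, force_eq, force_eq, e1, e2, e3]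

theorem and_false_of_left {a b : Bool} (h : a = false) : (a && b) = false := by rw [h]; rfl
theorem and_false_of_right {a b : Bool} (h : b = false) : (a && b) = false := by rw [h]; cases a <;> rfl

theorem pre_sp {M e u : ℕ} (he : 1 ≤ e) (h : u ^ e + 1 ∣ 4 * M ∨ u ^ e - 1 ∣ 4 * M ∨ u ^ (e - 1) + 1 ∣ 4 * M ∨
    u ^ (e - 1) - 1 ∣ 4 * M) : pre M e u = false := by
  rw [pre_eq he]
  rcases h with h | h | h | h
  · exact and_false_of_left (and_false_of_left (blt_mod h))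
  · exact and_false_of_left (and_false_of_right (blt_mod h))
  · exact and_false_of_right (and_false_of_left (and_false_of_left (blt_mod h)))
  · exact and_false_of_right (and_false_of_left (and_false_of_right (blt_mod h)))

theorem pre_lin {M e u : ℕ} (he : 5 ≤ e) (h : u ^ (e + 2) - 1 ∣ (e + 2) * M * (u - 1) ∨ u ^ (e + 1) - 1 ∣ (e + 2) * M ∨
    (if e % 2 = 0 then u ^ (e + 2) - 1 else u ^ (e + 2) + 1) ∣ (e + 2) * M * (u + 1) ∨
    (if e % 2 = 0 then u ^ (e + 1) + 1 else u ^ (e + 1) - 1) ∣ (e + 2) * M) : pre M e u = false := by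
  rw [pre_eq (by omega), nblt_of_le he, Bool.false_or]
  refine and_false_of_right (and_false_of_right ?_)
  rcases h with h | h | h | h
  · exact and_false_of_left (and_false_of_left (blt_mod h))
  · exact and_false_of_left (and_false_of_right (blt_mod h))
  · apply and_false_of_right
    rcases Nat.mod_two_eq_zero_or_one e with h0 | h0
    · rw [if_pos h0] at h
      rw [beq_mod_zero h0, cond_true]
      exact and_false_of_left (blt_mod h)
    · rw [if_neg (by omega)] at h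
      rw [beq_mod_zero' h0, cond_false]
      exact and_false_of_left (blt_mod h)
  · apply and_false_of_right
    rcases Nat.mod_two_eq_zero_or_one e with h0 | h0
    · rw [if_pos h0] at h
      rw [beq_mod_zero h0, cond_true]
      exact and_false_of_right (blt_mod h)
    · rw [if_neg (by omega)] at h
      rw [beq_mod_zero' h0, cond_false]
      exact and_false_of_right (blt_mod h)

theorem gcd2_dvd_four (a : ℕ) : Nat.gcd 2 a ∣ 4 := (Nat.gcd_dvd_left 2 a).trans (by norm_num)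

/-- **The quick test is sound.** -/
theorem pre_sound {t : Fam} {u i M : ℕ} (hr : RkFour t) (hi : top t i) (hu : 2 ≤ u) (hP : ttor t u i ∣ M) :
    pre M (ex4 t) u = false := by
  cases t with
  | psl m =>
    have hm : 7 ≤ m := hr
    have hi' : 3 ≤ i ∧ (i = m ∨ i + 1 = m) := hi
    obtain ⟨h1, h2⟩ := val_psl (n := m) (q := u) (by omega) hu
    obtain ⟨e, rfl⟩ : ∃ e, m = e + 2 := ⟨m - 2, by omega⟩
    change pre M e u = false
    apply pre_lin (by omega)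
    rcases hi'.2 with rfl | h8
    · left
      rw [← h1, mul_comm (e + 2) M, mul_assoc]
      exact Nat.mul_dvd_mul hP (Nat.mul_dvd_mul (Nat.gcd_dvd_left _ _) dvd_rfl)
    · right; left
      obtain rfl : i = e + 1 := by omega
      exact dvd_of_mul h2 (Nat.gcd_dvd_left _ _) hP
  | psu m =>
    have hm : 7 ≤ m := hr
    have hi' : 3 ≤ i ∧ (i = m ∨ i + 1 = m) := hi
    obtain ⟨h1, h2⟩ := val_psu (n := m) (q := u) (by omega) hu
    obtain ⟨e, rfl⟩ : ∃ e, m = e + 2 := ⟨m - 2, by omega⟩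
    rw [show (e + 2) % 2 = e % 2 by omega] at h1 h2
    change pre M e u = false
    apply pre_lin (by omega)
    rcases hi'.2 with rfl | h8
    · right; right; left
      rw [← h1, mul_comm (e + 2) M, mul_assoc]
      exact Nat.mul_dvd_mul hP (Nat.mul_dvd_mul (Nat.gcd_dvd_left _ _) dvd_rfl)
    · right; right; right
      obtain rfl : i = e + 1 := by omega
      exact dvd_of_mul h2 (Nat.gcd_dvd_left _ _) hP
  | psp m =>
    have hm : 4 ≤ m := hr
    obtain ⟨h1, h2⟩ := val_psp (n := m) (q := u) (by omega) hu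
    have hi' : i = 2 * m ∨ (i = m ∧ m % 2 = 1) := hi
    change pre M m u = false
    apply pre_sp (by omega)
    rcases hi' with rfl | ⟨rfl, -⟩
    · left; exact dvd_of_mul h1 (gcd2_dvd_four _) hP
    · right; left; exact dvd_of_mul h2 (gcd2_dvd_four _) hP
  | oodd m =>
    have hm : 4 ≤ m := hr
    obtain ⟨h1, h2⟩ := val_psp (n := m) (q := u) (by omega) hu
    have hi' : i = 2 * m ∨ (i = m ∧ m % 2 = 1) := hi
    rw [ttor_oodd] at hP
    change pre M m u = false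
    apply pre_sp (by omega)
    rcases hi' with rfl | ⟨rfl, -⟩
    · left; exact dvd_of_mul h1 (gcd2_dvd_four _) hP
    · right; left; exact dvd_of_mul h2 (gcd2_dvd_four _) hP
  | oplus m =>
    have hm : 5 ≤ m := hr
    have hi' : (i = m ∧ m % 2 = 1) ∨ i = 2 * (m - 1) ∨ (i = m - 1 ∧ m % 2 = 0) := hi
    rcases Nat.mod_two_eq_zero_or_one m with h0 | h0
    · have he : ex4 (.oplus m) = m - 1 := by
        rw [ex4, if_neg (by omega)]
      obtain ⟨h1, h2⟩ := val_oplus_even (n := m) (q := u) (by omega) h0 hu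
      rw [he]
      apply pre_sp (by omega)
      rcases hi' with ⟨-, h8⟩ | rfl | ⟨rfl, h8⟩
      · omega
      · left; exact dvd_of_mul h1 (gcd2_dvd_four _) hP
      · right; left; exact dvd_of_mul h2 (gcd2_dvd_four _) hP
    · have he : ex4 (.oplus m) = m := by rw [ex4, if_pos h0]
      obtain ⟨h1, h2⟩ := val_oplus_odd (n := m) (q := u) (by omega) h0 hu
      rw [he]
      apply pre_sp (by omega)
      rcases hi' with ⟨rfl, h8⟩ | rfl | ⟨rfl, h8⟩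
      · right; left; exact dvd_of_mul h1 (Nat.gcd_dvd_left _ _) hP
      · right; right; left
        exact (Dvd.intro _ rfl).trans (dvd_of_mul h2 (Nat.gcd_dvd_left _ _) hP)
      · omega
  | ominus m =>
    have hm : 4 ≤ m := hr
    have hi' : i = 2 * m ∨ i = 2 * (m - 1) ∨ (i = m - 1 ∧ m % 2 = 0) := hi
    obtain ⟨h1, h2, h3⟩ := val_ominus (n := m) (q := u) (by omega) hu
    change pre M m u = false
    apply pre_sp (by omega)
    rcases hi' with rfl | rfl | ⟨rfl, h8⟩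
    · left; exact dvd_of_mul h1 (Nat.gcd_dvd_left _ _) hP
    · right; right; left
      exact (Dvd.intro _ rfl).trans (dvd_of_mul h2 (Nat.gcd_dvd_left _ _) hP)
    · right; right; right
      exact (Dvd.intro _ rfl).trans (dvd_of_mul h3 (Nat.gcd_dvd_left _ _) hP)
  | _ => exact hr.elim

theorem ex4_ge {t : Fam} (hr : RkFour t) : 4 ≤ ex4 t := by
  cases t with
  | psl m =>
    have h : 7 ≤ m := hr
    change 4 ≤ m - 2
    omega
  | psu m =>
    have h : 7 ≤ m := hr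
    change 4 ≤ m - 2
    omega
  | psp m => exact hr
  | oodd m => exact hr
  | oplus m =>
    have h : 5 ≤ m := hr
    rw [ex4]
    split_ifs <;> omega
  | ominus m => exact hr
  | _ => exact hr.elim

/-- the lower bound of the isolated numbers of `S` -/
theorem pow_ex4_le {t : Fam} {u i : ℕ} (hr : RkFour t) (hi : top t i) (hu : 2 ≤ u) : u ^ ex4 t ≤ 8 * ttor t u i := by
  have hg2 : Nat.gcd 2 (u - 1) ≤ 4 := (Nat.gcd_le_left _ (by norm_num)).trans (by norm_num)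
  cases t with
  | psl m =>
    have hm : 7 ≤ m := hr
    have hi' : 3 ≤ i ∧ (i = m ∨ i + 1 = m) := hi
    obtain ⟨h1, h2⟩ := val_psl (n := m) (q := u) (by omega) hu
    obtain ⟨r, rfl⟩ : ∃ r, u = r + 1 := ⟨u - 1, by omega⟩
    rw [Nat.add_sub_cancel] at h1 h2
    have hg : Nat.gcd m r ≤ r := Nat.gcd_le_right _ (by omega)
    have hx : 1 ≤ (r + 1) ^ (m - 2) := Nat.one_le_pow _ _ (by omega)
    have e1 : (r + 1) ^ m = (r + 1) ^ (m - 2) * (r + 1) ^ 2 := by rw [← pow_add]; congr 1; omega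
    have e2 : (r + 1) ^ (m - 1) = (r + 1) ^ (m - 2) * (r + 1) := by rw [← pow_succ]; congr 1; omega
    change (r + 1) ^ (m - 2) ≤ _
    rw [e1] at h1
    rw [e2] at h2
    obtain ⟨x, hxx⟩ : ∃ x, x = (r + 1) ^ (m - 2) := ⟨_, rfl⟩
    rw [← hxx] at h1 h2 hx ⊢
    rcases hi'.2 with rfl | h8
    · obtain ⟨P, hP⟩ : ∃ P, P = ttor (.psl i) (r + 1) i := ⟨_, rfl⟩
      rw [← hP] at h1 ⊢
      have h3 : P * (Nat.gcd i r * r) ≤ P * (r * r) := Nat.mul_le_mul_left _ (Nat.mul_le_mul_right _ hg)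
      have h4 : x * (r * r) ≤ x * (r + 1) ^ 2 - 1 := by
        have : x * (r + 1) ^ 2 = x * (r * r) + x * (2 * r) + x := by ring
        rw [this]
        omega
      have h5 : x * (r * r) ≤ P * (r * r) := h4.trans (h1 ▸ h3)
      have h6 := Nat.le_of_mul_le_mul_right h5 (Nat.mul_pos (by omega) (by omega))
      omega
    · obtain rfl : i = m - 1 := by omega
      obtain ⟨P, hP⟩ : ∃ P, P = ttor (.psl m) (r + 1) (m - 1) := ⟨_, rfl⟩
      rw [← hP] at h2 ⊢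
      have h3 : P * Nat.gcd m r ≤ P * r := Nat.mul_le_mul_left _ hg
      have h4 : x * r ≤ x * (r + 1) - 1 := by
        rw [Nat.mul_add]
        omega
      have h5 : x * r ≤ P * r := h4.trans (h2 ▸ h3)
      have h6 := Nat.le_of_mul_le_mul_right h5 (by omega)
      omega
  | psu m =>
    have hm : 7 ≤ m := hr
    have hi' : 3 ≤ i ∧ (i = m ∨ i + 1 = m) := hi
    obtain ⟨h1, h2⟩ := val_psu (n := m) (q := u) (by omega) hu
    have hg : Nat.gcd m (u + 1) ≤ u + 1 := Nat.gcd_le_right _ (by omega)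
    have hx : 1 ≤ u ^ (m - 2) := Nat.one_le_pow _ _ (by omega)
    have e1 : u ^ m = u ^ (m - 2) * u ^ 2 := by rw [← pow_add]; congr 1; omega
    have e2 : u ^ (m - 1) = u ^ (m - 2) * u := by rw [← pow_succ]; congr 1; omega
    change u ^ (m - 2) ≤ _
    rw [e1] at h1
    rw [e2] at h2
    obtain ⟨x, hxx⟩ : ∃ x, x = u ^ (m - 2) := ⟨_, rfl⟩
    rw [← hxx] at h1 h2 hx ⊢
    rcases hi'.2 with rfl | h8
    · obtain ⟨P, hP⟩ : ∃ P, P = ttor (.psu i) u i := ⟨_, rfl⟩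
      rw [← hP] at h1 ⊢
      have h3 : P * (Nat.gcd i (u + 1) * (u + 1)) ≤ P * ((u + 1) * (u + 1)) :=
        Nat.mul_le_mul_left _ (Nat.mul_le_mul_right _ hg)
      have h4 : x * u ^ 2 - 1 ≤ P * ((u + 1) * (u + 1)) := by
        refine le_trans ?_ h3
        rw [h1]
        split_ifs <;> omega
      have h5 : x * ((u + 1) * (u + 1)) ≤ 8 * P * ((u + 1) * (u + 1)) := by
        have h6 : x * ((u + 1) * (u + 1)) + 8 ≤ 8 * (x * u ^ 2) := by
          obtain ⟨s, rfl⟩ : ∃ s, u = s + 2 := ⟨u - 2, by omega⟩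
          obtain ⟨y, hy⟩ : ∃ y, x = y + 1 := ⟨x - 1, by omega⟩
          rw [hy]
          ring_nf
          nlinarith [Nat.zero_le (s * y), Nat.zero_le (s * s * y)]
        have h7 : 8 * P * ((u + 1) * (u + 1)) = 8 * (P * ((u + 1) * (u + 1))) := by ring
        rw [h7]
        omega
      exact Nat.le_of_mul_le_mul_right h5 (Nat.mul_pos (by omega) (by omega))
    · obtain rfl : i = m - 1 := by omega
      obtain ⟨P, hP⟩ : ∃ P, P = ttor (.psu m) u (m - 1) := ⟨_, rfl⟩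
      rw [← hP] at h2 ⊢
      have h3 : P * Nat.gcd m (u + 1) ≤ P * (u + 1) := Nat.mul_le_mul_left _ hg
      have h4 : x * u - 1 ≤ P * (u + 1) := by
        refine le_trans ?_ h3
        rw [h2]
        split_ifs <;> omega
      have h5 : x * (u + 1) ≤ 8 * P * (u + 1) := by
        have h6 : x * (u + 1) + 8 ≤ 8 * (x * u) := by
          obtain ⟨s, rfl⟩ : ∃ s, u = s + 2 := ⟨u - 2, by omega⟩
          obtain ⟨y, hy⟩ : ∃ y, x = y + 1 := ⟨x - 1, by omega⟩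
          rw [hy]
          ring_nf
          nlinarith [Nat.zero_le (s * y)]
        have h7 : 8 * P * (u + 1) = 8 * (P * (u + 1)) := by ring
        rw [h7]
        omega
      exact Nat.le_of_mul_le_mul_right h5 (by omega)
  | psp m =>
    have hm : 4 ≤ m := hr
    obtain ⟨h1, h2⟩ := val_psp (n := m) (q := u) (by omega) hu
    have hi' : i = 2 * m ∨ (i = m ∧ m % 2 = 1) := hi
    rcases hi' with rfl | ⟨rfl, -⟩
    · exact aux_sp (e := m) hu (by omega) hg2 (by omega)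
    · exact aux_sp (e := i) hu (by omega) hg2 (by omega)
  | oodd m =>
    have hm : 4 ≤ m := hr
    obtain ⟨h1, h2⟩ := val_psp (n := m) (q := u) (by omega) hu
    have hi' : i = 2 * m ∨ (i = m ∧ m % 2 = 1) := hi
    rw [ttor_oodd]
    rcases hi' with rfl | ⟨rfl, -⟩
    · exact aux_sp (e := m) hu (by omega) hg2 (by omega)
    · exact aux_sp (e := i) hu (by omega) hg2 (by omega)
  | oplus m =>
    have hm : 5 ≤ m := hr
    have hi' : (i = m ∧ m % 2 = 1) ∨ i = 2 * (m - 1) ∨ (i = m - 1 ∧ m % 2 = 0) := hi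
    have hg4 : Nat.gcd 4 (u ^ m - 1) ≤ 4 := Nat.gcd_le_left _ (by norm_num)
    rcases Nat.mod_two_eq_zero_or_one m with h0 | h0
    · have he : ex4 (.oplus m) = m - 1 := by
        rw [ex4, if_neg (by omega)]
      rw [he]
      obtain ⟨h1, h2⟩ := val_oplus_even (n := m) (q := u) (by omega) h0 hu
      rcases hi' with ⟨-, h8⟩ | rfl | ⟨rfl, h8⟩
      · omega
      · exact aux_sp (e := m - 1) hu (by omega) hg2 (by omega)
      · exact aux_sp (e := m - 1) hu (by omega) hg2 (by omega)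
    · have he : ex4 (.oplus m) = m := by rw [ex4, if_pos h0]
      rw [he]
      obtain ⟨h1, h2⟩ := val_oplus_odd (n := m) (q := u) (by omega) h0 hu
      have e1 : u ^ m = u ^ (m - 1) * u := by rw [← pow_succ]; congr 1; omega
      rcases hi' with ⟨rfl, h8⟩ | rfl | ⟨rfl, h8⟩
      · exact aux_sp (e := i) hu (by omega) hg4 (by omega)
      · refine aux_sp (e := m) hu (by omega) hg4 ?_
        rw [h2, e1]
        have h3 : (u ^ (m - 1) + 1) * (u + 1) = u ^ (m - 1) * u + u ^ (m - 1) + u + 1 := by ring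
        omega
      · omega
  | ominus m =>
    have hm : 4 ≤ m := hr
    have hi' : i = 2 * m ∨ i = 2 * (m - 1) ∨ (i = m - 1 ∧ m % 2 = 0) := hi
    have hg4 : Nat.gcd 4 (u ^ m + 1) ≤ 4 := Nat.gcd_le_left _ (by norm_num)
    have e1 : u ^ m = u ^ (m - 1) * u := by rw [← pow_succ]; congr 1; omega
    obtain ⟨h1, h2, h3⟩ := val_ominus (n := m) (q := u) (by omega) hu
    change u ^ m ≤ _
    have hx : 8 ≤ u ^ (m - 1) := by
      calc 8 = 2 ^ 3 := by norm_num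
        _ ≤ u ^ 3 := Nat.pow_le_pow_left hu 3
        _ ≤ u ^ (m - 1) := Nat.pow_le_pow_right (by omega) (by omega)
    have h4 : ∀ P : ℕ, P * Nat.gcd 4 (u ^ m + 1) ≤ P * 4 := fun P => Nat.mul_le_mul_left _ hg4
    rcases hi' with rfl | rfl | ⟨rfl, h8⟩
    · exact aux_sp (e := m) hu (by omega) hg4 (by omega)
    · have h5 := h4 (ttor (.ominus m) u (2 * (m - 1)))
      rw [h2] at h5
      obtain ⟨r, rfl⟩ : ∃ r, u = r + 1 := ⟨u - 1, by omega⟩
      rw [Nat.add_sub_cancel] at h5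
      rw [e1]
      have h6 : (r + 1) ^ (m - 1) ≤ (r + 1) ^ (m - 1) * r := Nat.le_mul_of_pos_right _ (by omega)
      have h7 : ((r + 1) ^ (m - 1) + 1) * r = (r + 1) ^ (m - 1) * r + r := by ring
      have h8 : (r + 1) ^ (m - 1) * (r + 1) = (r + 1) ^ (m - 1) * r + (r + 1) ^ (m - 1) := by ring
      omega
    · have h5 := h4 (ttor (.ominus m) u (m - 1))
      rw [h3] at h5
      rw [e1]
      obtain ⟨x, hxx⟩ : ∃ x, u ^ (m - 1) = x + 8 := ⟨u ^ (m - 1) - 8, by omega⟩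
      rw [hxx] at h5 ⊢
      rw [show x + 8 - 1 = x + 7 by omega] at h5
      nlinarith
  | _ => exact hr.elim

/-! ### the loops -/

/-- the test for `v` -/
noncomputable def tstV4 (M N q i : ℕ) (neg : Bool) (f' e v : ℕ) : Bool :=
  npB v || Nat.beq (q % v) 0 || Nat.beq (M % v) 0 ||
    force (v ^ f') fun u => pre M e u ||
      tstE4 (fun m P => force P fun P => tstP M N q i neg m u P) e u

/-- the loop over `e` -/
noncomputable def tstF4 (e0 M N q i : ℕ) (neg : Bool) (f' : ℕ) : Bool :=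
  allTo (fun k => force (k + e0) fun e => loopV (tstV4 M N q i neg f' e) (f' * e) (8 * M) 20000 2)
    (Nat.log2 (8 * M) / f' + 1 - e0)

/-- the test for `M` -/
noncomputable def chkM4 (e0 C M N q D d i : ℕ) (neg : Bool) : Bool :=
  force (Nat.log2 (8 * M) / e0) fun fm => !(szB C q D d fm) ||
    allTo (fun k => force (k + 1) fun f' => !(szB C q D d f') || tstF4 e0 M N q i neg f') fm

/-- the test for one family -/
noncomputable def chkT4 (e0 C : ℕ) (t : Fam) (q : ℕ) : Bool :=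
  !(ppB q) || (pairsL t).all fun x =>
    force x.1 fun i => force (ttor t q i) fun M => force (ttor t q x.2) fun N => force (dimL t) fun D =>
      force (dgL t q) fun d => chkM4 e0 C M N q D d i (ng t)

theorem tstV4_sound {M N q i : ℕ} {neg : Bool} {f' e v : ℕ} (hv : v.Prime) (hvq : ¬ v ∣ q) (hvM : ¬ v ∣ M)
    (hp : pre M e (v ^ f') = false) (h : tstV4 M N q i neg f' e v = true) :
    tstE4 (fun m P => tstP M N q i neg m (v ^ f') P) e (v ^ f') = true := by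
  have hne : ∀ {a : ℕ}, ¬ v ∣ a → Nat.beq (a % v) 0 = false := by
    intro a ha
    by_contra hcon
    rw [Bool.not_eq_false, beq_iff] at hcon
    exact ha (Nat.dvd_of_mod_eq_zero hcon)
  rw [tstV4, npB_sound hv, hne hvq, hne hvM, Bool.false_or, Bool.false_or, Bool.false_or, force_eq, hp,
    Bool.false_or] at h
  have h1 : (fun m P => force P fun P => tstP M N q i neg m (v ^ f') P) =
      fun m P => tstP M N q i neg m (v ^ f') P := by
    funext m P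
    rw [force_eq]
  rw [h1] at h
  exact h

theorem chkM4_sound {e0 C M N q D d i : ℕ} {neg : Bool} {f' e v : ℕ} (he0 : 0 < e0) (hf : 1 ≤ f') (he : e0 ≤ e)
    (hv : v.Prime)
    (hvq : ¬ v ∣ q) (hvM : ¬ v ∣ M) (hB : (v ^ f') ^ e ≤ 8 * M)
    (hs : q ^ D ≤ C * d * (f' ^ 4 * (q + 1) ^ 3)) (hp : pre M e (v ^ f') = false)
    (h : chkM4 e0 C M N q D d i neg = true) :
    tstE4 (fun m P => tstP M N q i neg m (v ^ f') P) e (v ^ f') = true := by
  have h1 : f' * e ≤ Nat.log2 (8 * M) := by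
    apply le_log2_of_pow
    calc 2 ^ (f' * e) ≤ v ^ (f' * e) := Nat.pow_le_pow_left hv.two_le _
      _ = (v ^ f') ^ e := pow_mul _ _ _
      _ ≤ 8 * M := hB
  have h2 : f' ≤ Nat.log2 (8 * M) / e0 := by
    rw [Nat.le_div_iff_mul_le he0]
    exact (Nat.mul_le_mul_left f' he).trans h1
  have h3 : szB C q D d (Nat.log2 (8 * M) / e0) = true := by
    rw [szB_iff]
    exact hs.trans (Nat.mul_le_mul_left _ (Nat.mul_le_mul_right _ (Nat.pow_le_pow_left h2 4)))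
  rw [chkM4, force_eq, h3, Bool.not_true, Bool.false_or] at h
  have h4 := allTo_sound h (f' - 1) (by omega)
  rw [force_eq, show f' - 1 + 1 = f' by omega, szB_iff.2 hs, Bool.not_true, Bool.false_or] at h4
  have h5 : e ≤ Nat.log2 (8 * M) / f' := by
    rw [Nat.le_div_iff_mul_le (by omega), mul_comm]
    exact h1
  have h6 := allTo_sound h4 (e - e0) (by omega)
  rw [force_eq, show e - e0 + e0 = e by omega] at h6
  refine tstV4_sound hv hvq hvM hp (loopV_sound h6 v hv.two_le ?_)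
  rw [pow_mul]
  exact hB

theorem chkT4_sound {e0 C : ℕ} {t : Fam} {q i j : ℕ} (hpp : ppB q = true) (hp : PairOK t i j)
    (h : chkT4 e0 C t q = true) : chkM4 e0 C (ttor t q i) (ttor t q j) q (dimL t) (dgL t q) i (ng t) = true := by
  rw [chkT4, hpp, Bool.not_true, Bool.false_or, List.all_eq_true] at h
  have h2 := h (i, j) (mem_pairsL hp)
  rw [force_eq, force_eq, force_eq, force_eq, force_eq] at h2
  exact h2

/-- **The test kills the duel.** -/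
theorem kill4 {e0 C : ℕ} {t : Fam} {p f i j : ℕ} {t' : Fam} {v f' i' j' w H : ℕ} {S : Type*} [Group S] [Finite S]
    (he0 : 0 < e0) (hi1 : 1 ≤ i) (hD : Duel t p f i j t' v f' i' j' w H S) (hr : RkFour t') (hex : e0 ≤ ex4 t')
    (hf13 : f ≤ 13)
    (hs : (p ^ f) ^ dimL t ≤ C * dgL t (p ^ f) * (f' ^ 4 * (p ^ f + 1) ^ 3))
    (hT : chkT4 e0 C t (p ^ f) = true) (hmem : j' ≤ 2 * rk t') : False := by
  obtain ⟨hq3, hqodd⟩ := f_q hD.p_prime hD.p_ne hD.f_pos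
  have hu : 2 ≤ v ^ f' := hD.v_prime.two_le.trans (Nat.le_self_pow (by have := hD.f'_pos; omega) v)
  have hM0 : ttor t (p ^ f) i ≠ 0 := fun h0 => hD.vM (by rw [h0]; exact dvd_zero v)
  have hH0 : 1 ≤ H := by
    by_contra hcon
    have h0 : H = 0 := by omega
    apply hM0
    rw [hD.eqM, h0, zero_mul]
  have hPe := pow_ex4_le hr hD.topi' hu
  have hP0 : 1 ≤ ttor t' (v ^ f') i' := by
    by_contra hcon
    have h0 : ttor t' (v ^ f') i' = 0 := by omega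
    rw [h0] at hPe
    have := Nat.one_le_pow (ex4 t') (v ^ f') (by omega)
    omega
  have hPM : ttor t' (v ^ f') i' ≤ ttor t (p ^ f) i := by
    rw [hD.eqM]
    exact Nat.le_mul_of_pos_left _ hH0
  have hPd : ttor t' (v ^ f') i' ∣ ttor t (p ^ f) i := by
    rw [hD.eqM]
    exact Nat.dvd_mul_left _ _
  have hB : (v ^ f') ^ ex4 t' ≤ 8 * ttor t (p ^ f) i := by omega
  have hM := chkT4_sound (ppB_sound hD.p_prime hf13) hD.pair hT
  have hvq : ¬ v ∣ p ^ f := fun hd =>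
    hD.vp ((Nat.prime_dvd_prime_iff_eq hD.v_prime hD.p_prime).1 (hD.v_prime.dvd_of_dvd_pow hd))
  have hE := tstE4_sound hr hD.topi' (chkM4_sound he0 hD.f'_pos hex hD.v_prime hvq hD.vM hB hs
    (pre_sound hr hD.topi' hu hPd) hM)
  change tstP (ttor t (p ^ f) i) (ttor t (p ^ f) j) (p ^ f) i (ng t) (rk t') (v ^ f')
    (ttor t' (v ^ f') i') = true at hE
  rw [tstP, Bool.or_eq_true, Bool.or_eq_true] at hE
  rcases hE with (h1 | h1) | h1
  · rw [Bool.not_eq_true'] at h1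
    have h2 : ttor t (p ^ f) i % ttor t' (v ^ f') i' = 0 := by
      rw [hD.eqM]
      exact Nat.mul_mod_left _ _
    rw [h2] at h1
    exact Bool.noConfusion h1
  · have h2 : ttor t (p ^ f) i / ttor t' (v ^ f') i' = H := by
      rw [hD.eqM]
      exact Nat.mul_div_cancel _ (by omega)
    rw [h2] at h1
    obtain ⟨r, hr1, hr2, hr3⟩ := killH_sound (t := t) (by omega) hi1 h1
    exact hD.copH r hr1 hr3 hr2
  · have hw := Fact.mk hD.w_prime
    obtain ⟨x, hx⟩ := exists_prime_orderOf_dvd_card' (G := S) w hD.wS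
    have hwN := hD.ordw x (by rw [hx])
    rw [hx] at hwN
    exact wkill_sound (t := t') (by omega) h1 hD.w_prime hwN hD.j'3 hmem hD.clsw'

end Cfsg.Agent.R2.Spec.FIN
end

-- part: R2/Spec/FIN/Range4
section
/-!
# S3435, packet FIN, small ranks: the range of the search (helper7)
-/

set_option autoImplicit false

namespace Cfsg.Agent.R2.Spec.FIN

open Cfsg.Agent.H426.LieFam Cfsg.Agent.R2.Spec Cfsg.Agent.R2.Spec.P1 Cfsg.Agent.R2.Spec.E Cfsg.Agent.R2.Spec.F1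

/-- the upper bound of the isolated numbers of `L`, rank at least five -/
theorem ttor_le5 {t : Fam} {q i j : ℕ} (h5 : 5 ≤ rk t) (hp : PairOK t i j) (hq : 3 ≤ q) :
    ttor t q i ≤ 2 * q ^ dimL t := by
  have hg2 : 0 < Nat.gcd 2 (q - 1) := Nat.gcd_pos_of_pos_left _ (by norm_num)
  cases t with
  | psl n =>
    have hn : 5 ≤ n := h5
    have hp' : (i = n ∧ j + 1 = n) ∨ (i + 1 = n ∧ j = n) := hp
    obtain ⟨h1, h2⟩ := val_psl (n := n) (q := q) (by omega) (by omega)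
    have e1 : q ^ n = q ^ (n - 1) * q := by rw [← pow_succ]; congr 1; omega
    have hg : 0 < Nat.gcd n (q - 1) := Nat.gcd_pos_of_pos_left _ (by omega)
    have hx := Nat.one_le_pow (n - 1) q (by omega)
    change _ ≤ 2 * q ^ (n - 1)
    rcases hp' with ⟨rfl, -⟩ | ⟨h8, -⟩
    · obtain ⟨r, rfl⟩ : ∃ r, q = r + 1 := ⟨q - 1, by omega⟩
      rw [Nat.add_sub_cancel] at h1 hg
      have h3 : ttor (.psl i) (r + 1) i * r ≤ 2 * (r + 1) ^ (i - 1) * r := by
        calc ttor (.psl i) (r + 1) i * r = ttor (.psl i) (r + 1) i * (1 * r) := by rw [one_mul]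
          _ ≤ ttor (.psl i) (r + 1) i * (Nat.gcd i r * r) := Nat.mul_le_mul_left _ (Nat.mul_le_mul_right _ hg)
          _ = (r + 1) ^ i - 1 := h1
          _ ≤ (r + 1) ^ (i - 1) * (r + 1) := by rw [e1]; omega
          _ = (r + 1) ^ (i - 1) * r + (r + 1) ^ (i - 1) := by ring
          _ ≤ (r + 1) ^ (i - 1) * r + (r + 1) ^ (i - 1) * r := by
              apply Nat.add_le_add_left
              exact Nat.le_mul_of_pos_right _ (by omega)
          _ = 2 * (r + 1) ^ (i - 1) * r := by ring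
      exact Nat.le_of_mul_le_mul_right h3 (by omega)
    · obtain rfl : i = n - 1 := by omega
      have := le_of_mul_pos hg h2
      omega
  | psu n =>
    have hn : 5 ≤ n := h5
    have hp' : (i = n ∧ j + 1 = n) ∨ (i + 1 = n ∧ j = n) := hp
    obtain ⟨h1, h2⟩ := val_psu (n := n) (q := q) (by omega) (by omega)
    have e1 : q ^ n = q ^ (n - 1) * q := by rw [← pow_succ]; congr 1; omega
    have hg : 0 < Nat.gcd n (q + 1) := Nat.gcd_pos_of_pos_left _ (by omega)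
    have hx := Nat.one_le_pow (n - 1) q (by omega)
    change _ ≤ 2 * q ^ (n - 1)
    rcases hp' with ⟨rfl, -⟩ | ⟨h8, -⟩
    · have h3 : ttor (.psu i) q i * (q + 1) ≤ 2 * q ^ (i - 1) * (q + 1) := by
        calc ttor (.psu i) q i * (q + 1) = ttor (.psu i) q i * (1 * (q + 1)) := by rw [one_mul]
          _ ≤ ttor (.psu i) q i * (Nat.gcd i (q + 1) * (q + 1)) :=
            Nat.mul_le_mul_left _ (Nat.mul_le_mul_right _ hg)
          _ ≤ q ^ (i - 1) * q + 1 := by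
              rw [h1, e1]
              split_ifs <;> omega
          _ ≤ 2 * q ^ (i - 1) * (q + 1) := by nlinarith
      exact Nat.le_of_mul_le_mul_right h3 (by omega)
    · obtain rfl : i = n - 1 := by omega
      have h3 := le_of_mul_pos hg h2
      split_ifs at h3 <;> omega
  | psp n =>
    have hn : 5 ≤ n := h5
    obtain ⟨-, hp'⟩ : n % 2 = 1 ∧ ((i = n ∧ j = 2 * n) ∨ (i = 2 * n ∧ j = n)) := hp
    obtain ⟨h1, h2⟩ := val_psp (n := n) (q := q) (by omega) (by omega)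
    have hx := Nat.one_le_pow n q (by omega)
    change _ ≤ 2 * q ^ n
    rcases hp' with ⟨rfl, -⟩ | ⟨rfl, -⟩
    · have := le_of_mul_pos hg2 h2
      omega
    · have := le_of_mul_pos hg2 h1
      omega
  | oodd n =>
    have hn : 5 ≤ n := h5
    obtain ⟨-, hp'⟩ : n % 2 = 1 ∧ ((i = n ∧ j = 2 * n) ∨ (i = 2 * n ∧ j = n)) := hp
    obtain ⟨h1, h2⟩ := val_psp (n := n) (q := q) (by omega) (by omega)
    have hx := Nat.one_le_pow n q (by omega)
    rw [ttor_oodd]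
    change _ ≤ 2 * q ^ n
    rcases hp' with ⟨rfl, -⟩ | ⟨rfl, -⟩
    · have := le_of_mul_pos hg2 h2
      omega
    · have := le_of_mul_pos hg2 h1
      omega
  | oplus n =>
    have hn : 5 ≤ n := h5
    have hp' : (n % 2 = 1 ∧ ((i = n ∧ j = 2 * (n - 1)) ∨ (i = 2 * (n - 1) ∧ j = n))) ∨
      (n % 2 = 0 ∧ ((i = n - 1 ∧ j = 2 * (n - 1)) ∨ (i = 2 * (n - 1) ∧ j = n - 1))) := hp
    have hg4 : 0 < Nat.gcd 4 (q ^ n - 1) := Nat.gcd_pos_of_pos_left _ (by norm_num)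
    have hx := Nat.one_le_pow (n - 1) q (by omega)
    have e1 : q ^ n = q ^ (n - 1) * q := by rw [← pow_succ]; congr 1; omega
    rcases hp' with ⟨h0, hp'⟩ | ⟨h0, hp'⟩
    · obtain ⟨h1, h2⟩ := val_oplus_odd (n := n) (q := q) (by omega) h0 (by omega)
      have hD : dimL (.oplus n) = n := by
        rw [dimL, if_neg (by omega)]
      rw [hD]
      rcases hp' with ⟨rfl, -⟩ | ⟨rfl, -⟩
      · have := le_of_mul_pos hg4 h1
        omega
      · have h3 := le_of_mul_pos hg4 h2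
        have h4 : 9 ≤ q ^ (n - 1) := by
          calc 9 = 3 ^ 2 := by norm_num
            _ ≤ q ^ 2 := Nat.pow_le_pow_left hq 2
            _ ≤ q ^ (n - 1) := Nat.pow_le_pow_right (by omega) (by omega)
        rw [e1]
        nlinarith
    · obtain ⟨h1, h2⟩ := val_oplus_even (n := n) (q := q) (by omega) h0 (by omega)
      have hD : dimL (.oplus n) = n - 1 := by
        rw [dimL, if_pos h0]
      rw [hD]
      rcases hp' with ⟨rfl, -⟩ | ⟨rfl, -⟩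
      · have := le_of_mul_pos hg2 h2
        omega
      · have := le_of_mul_pos hg2 h1
        omega
  | ominus n =>
    have hn : 5 ≤ n := h5
    have hp' : (i = 2 * n ∧ j = 2 * (n - 1)) ∨ (i = 2 * (n - 1) ∧ j = 2 * n) := hp
    have hg4 : 0 < Nat.gcd 4 (q ^ n + 1) := Nat.gcd_pos_of_pos_left _ (by norm_num)
    have hx := Nat.one_le_pow (n - 1) q (by omega)
    have e1 : q ^ n = q ^ (n - 1) * q := by rw [← pow_succ]; congr 1; omega
    obtain ⟨h1, h2, -⟩ := val_ominus (n := n) (q := q) (by omega) (by omega)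
    change _ ≤ 2 * q ^ n
    rcases hp' with ⟨rfl, -⟩ | ⟨rfl, -⟩
    · have := le_of_mul_pos hg4 h1
      have hy := Nat.one_le_pow n q (by omega)
      omega
    · have h3 := le_of_mul_pos hg4 h2
      obtain ⟨r, rfl⟩ : ∃ r, q = r + 1 := ⟨q - 1, by omega⟩
      rw [Nat.add_sub_cancel] at h3
      rw [e1]
      nlinarith
  | _ => exact absurd h5 (by change ¬ 5 ≤ 0; omega)

/-- the growth -/
theorem grow {D a c k L : ℕ} (ha : 2 ≤ a) (hL : 2 ≤ L) (h0 : c * (D * L + D + 3) ^ 4 < k * 2 ^ (L * a)) :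
    ∀ l, L ≤ l → c * (D * l + D + 3) ^ 4 < k * 2 ^ (l * a) := by
  intro l hl
  induction l, hl using Nat.le_induction with
  | base => exact h0
  | succ l hl ih =>
    obtain ⟨x, hx⟩ : ∃ x, x = D * l + D + 3 := ⟨_, rfl⟩
    have h1 : D * (l + 1) + D + 3 = x + D := by rw [hx]; ring
    have h2 : 3 * D ≤ x := by
      have : 2 * D ≤ D * l := by
        rw [mul_comm 2 D]
        exact Nat.mul_le_mul_left _ (by omega)
      omega
    have h3 : (x + D) ^ 4 ≤ 4 * x ^ 4 := by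
      have h4 : (3 * (x + D)) ^ 4 ≤ (4 * x) ^ 4 := Nat.pow_le_pow_left (by omega) 4
      have e1 : (3 * (x + D)) ^ 4 = 81 * (x + D) ^ 4 := by ring
      have e2 : (4 * x) ^ 4 = 256 * x ^ 4 := by ring
      rw [e1, e2] at h4
      omega
    rw [← hx] at ih
    rw [h1]
    have h5 : 4 ≤ 2 ^ a := by
      calc 4 = 2 ^ 2 := by norm_num
        _ ≤ 2 ^ a := Nat.pow_le_pow_right (by norm_num) ha
    calc c * (x + D) ^ 4 ≤ c * (4 * x ^ 4) := Nat.mul_le_mul_left _ h3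
      _ = 4 * (c * x ^ 4) := by ring
      _ < 4 * (k * 2 ^ (l * a)) := by omega
      _ ≤ 2 ^ a * (k * 2 ^ (l * a)) := Nat.mul_le_mul_right _ h5
      _ = k * 2 ^ ((l + 1) * a) := by rw [Nat.add_mul, one_mul, pow_add]; ring

/-- **The range of the search.** -/
theorem range4 {e0 D d dm C q f' M L : ℕ} (hD : 5 ≤ D) (hd : d ≤ dm) (hq : 3 ≤ q) (hM : M ≤ 2 * q ^ D)
    (hf : 2 ^ (e0 * f') ≤ 8 * M) (hs : q ^ D ≤ C * d * (f' ^ 4 * (q + 1) ^ 3)) (hL : 2 ≤ L)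
    (h0 : (64 * C * dm) * (D * L + D + 3) ^ 4 < (27 * e0 ^ 4) * 2 ^ (L * (D - 3))) : q < 2 ^ L := by
  by_contra hcon
  obtain ⟨l, hl⟩ : ∃ l, l = Nat.log2 q := ⟨_, rfl⟩
  have hl1 : 2 ^ l ≤ q := by rw [hl]; exact Nat.log2_self_le (by omega)
  have hl2 : q < 2 ^ (l + 1) := by rw [hl]; exact Nat.lt_log2_self
  have hlL : L ≤ l := by
    by_contra h1
    have h2 : 2 ^ (l + 1) ≤ 2 ^ L := Nat.pow_le_pow_right (by norm_num) (by omega)
    omega
  have h1 : 2 ^ (e0 * f') < 2 ^ (4 + D * (l + 1)) := by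
    calc 2 ^ (e0 * f') ≤ 8 * M := hf
      _ ≤ 16 * q ^ D := by omega
      _ < 16 * (2 ^ (l + 1)) ^ D := by
          apply Nat.mul_lt_mul_of_pos_left _ (by norm_num)
          exact Nat.pow_lt_pow_left hl2 (by omega)
      _ = 2 ^ (4 + D * (l + 1)) := by rw [← pow_mul, pow_add, mul_comm D]; norm_num
  have h2 : e0 * f' < 4 + D * (l + 1) := (Nat.pow_lt_pow_iff_right (by norm_num)).1 h1
  have h3 : e0 * f' ≤ D * l + D + 3 := by
    have : D * (l + 1) = D * l + D := by ring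
    omega
  have h6 : 2 ^ (l * (D - 3)) ≤ q ^ (D - 3) := by
    rw [pow_mul]
    exact Nat.pow_le_pow_left hl1 _
  have h7 : 27 * (q + 1) ^ 3 ≤ 64 * q ^ 3 := by
    have h8 : 3 * (q + 1) ≤ 4 * q := by omega
    calc 27 * (q + 1) ^ 3 = (3 * (q + 1)) ^ 3 := by ring
      _ ≤ (4 * q) ^ 3 := Nat.pow_le_pow_left h8 3
      _ = 64 * q ^ 3 := by ring
  have h8 : q ^ D = q ^ (D - 3) * q ^ 3 := by rw [← pow_add]; congr 1; omega
  have h9 : 27 * q ^ (D - 3) * q ^ 3 ≤ (C * d * f' ^ 4 * 64) * q ^ 3 := by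
    calc 27 * q ^ (D - 3) * q ^ 3 = 27 * q ^ D := by rw [h8]; ring
      _ ≤ 27 * (C * d * (f' ^ 4 * (q + 1) ^ 3)) := Nat.mul_le_mul_left _ hs
      _ = (C * d * f' ^ 4) * (27 * (q + 1) ^ 3) := by ring
      _ ≤ (C * d * f' ^ 4) * (64 * q ^ 3) := Nat.mul_le_mul_left _ h7
      _ = (C * d * f' ^ 4 * 64) * q ^ 3 := by ring
  have h10 := Nat.le_of_mul_le_mul_right h9 (Nat.pow_pos (by omega))
  have h11 : (27 * e0 ^ 4) * 2 ^ (l * (D - 3)) ≤ (64 * C * dm) * (D * l + D + 3) ^ 4 := by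
    calc (27 * e0 ^ 4) * 2 ^ (l * (D - 3)) ≤ (27 * e0 ^ 4) * q ^ (D - 3) := Nat.mul_le_mul_left _ h6
      _ = e0 ^ 4 * (27 * q ^ (D - 3)) := by ring
      _ ≤ e0 ^ 4 * (C * d * f' ^ 4 * 64) := Nat.mul_le_mul_left _ h10
      _ = (64 * C * d) * (e0 * f') ^ 4 := by ring
      _ ≤ (64 * C * dm) * (D * l + D + 3) ^ 4 :=
        Nat.mul_le_mul (Nat.mul_le_mul_left _ hd) (Nat.pow_le_pow_left h3 4)
  have h12 := grow (k := 27 * e0 ^ 4) (a := D - 3) (by omega) hL h0 l hlL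
  omega

theorem chkT4_oodd {e0 C n q : ℕ} : chkT4 e0 C (.oodd n) q = chkT4 e0 C (.psp n) q := rfl

theorem pos_of_pair {t : Fam} {i j : ℕ} (hn : 5 ≤ rk t) (hp : PairOK t i j) : 1 ≤ i := by
  cases t with
  | psl n =>
    have h1 : (i = n ∧ j + 1 = n) ∨ (i + 1 = n ∧ j = n) := hp
    change 5 ≤ n at hn
    omega
  | psu n =>
    have h1 : (i = n ∧ j + 1 = n) ∨ (i + 1 = n ∧ j = n) := hp
    change 5 ≤ n at hn
    omega
  | psp n =>
    have h1 : n % 2 = 1 ∧ ((i = n ∧ j = 2 * n) ∨ (i = 2 * n ∧ j = n)) := hp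
    change 5 ≤ n at hn
    omega
  | oodd n =>
    have h1 : n % 2 = 1 ∧ ((i = n ∧ j = 2 * n) ∨ (i = 2 * n ∧ j = n)) := hp
    change 5 ≤ n at hn
    omega
  | oplus n =>
    have h1 : (n % 2 = 1 ∧ ((i = n ∧ j = 2 * (n - 1)) ∨ (i = 2 * (n - 1) ∧ j = n))) ∨
      (n % 2 = 0 ∧ ((i = n - 1 ∧ j = 2 * (n - 1)) ∨ (i = 2 * (n - 1) ∧ j = n - 1))) := hp
    change 5 ≤ n at hn
    omega
  | ominus n =>
    have h1 : (i = 2 * n ∧ j = 2 * (n - 1)) ∨ (i = 2 * (n - 1) ∧ j = 2 * n) := hp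
    change 5 ≤ n at hn
    omega
  | _ => exact hp.elim

/-- the general form of the search, small ranks -/
theorem small_gen {e0 C L dm : ℕ} {t : Fam} {p f i j : ℕ} {t' : Fam} {v f' i' j' w H : ℕ} {S : Type*} [Group S]
    [Finite S] (he0 : 0 < e0) (h5 : 5 ≤ rk t) (hD5 : 5 ≤ dimL t) (hdm : ∀ q, dgL t q ≤ dm)
    (hD : Duel t p f i j t' v f' i' j' w H S) (hr : RkFour t') (hex : e0 ≤ ex4 t')
    (hs : SizeB C t p f f') (hL : 2 ≤ L) (hL18 : L ≤ 18)
    (h0 : (64 * C * dm) * (dimL t * L + dimL t + 3) ^ 4 < (27 * e0 ^ 4) * 2 ^ (L * (dimL t - 3)))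
    (hT : ∀ q, 3 ≤ q → q % 2 = 1 → q < 2 ^ L → chkT4 e0 C t q = true) (hmem : j' ≤ 2 * rk t') : False := by
  obtain ⟨hq3, hqodd⟩ := f_q hD.p_prime hD.p_ne hD.f_pos
  have hu : 2 ≤ v ^ f' := hD.v_prime.two_le.trans (Nat.le_self_pow (by have := hD.f'_pos; omega) v)
  have hM0 : ttor t (p ^ f) i ≠ 0 := fun h0 => hD.vM (by rw [h0]; exact dvd_zero v)
  have hH0 : 1 ≤ H := by
    by_contra hcon
    have h0 : H = 0 := by omega
    apply hM0
    rw [hD.eqM, h0, zero_mul]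
  have hPe := pow_ex4_le hr hD.topi' hu
  have hPM : ttor t' (v ^ f') i' ≤ ttor t (p ^ f) i := by
    rw [hD.eqM]
    exact Nat.le_mul_of_pos_left _ hH0
  have hB : (v ^ f') ^ ex4 t' ≤ 8 * ttor t (p ^ f) i := by omega
  have hqL : p ^ f < 2 ^ L := by
    refine range4 (e0 := e0) (f' := f') (M := ttor t (p ^ f) i) hD5 (hdm _) hq3 (ttor_le5 h5 hD.pair hq3) ?_ hs hL h0
    calc 2 ^ (e0 * f') = (2 ^ f') ^ e0 := by rw [← pow_mul, mul_comm]
      _ ≤ (v ^ f') ^ e0 := Nat.pow_le_pow_left (Nat.pow_le_pow_left hD.v_prime.two_le _) _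
      _ ≤ (v ^ f') ^ ex4 t' := Nat.pow_le_pow_right (by omega) hex
      _ ≤ _ := hB
  have hf13 : f ≤ 13 := by
    by_contra hcon
    have hp3 : 3 ≤ p := by
      have := hD.p_prime.two_le
      have := hD.p_ne
      omega
    have h1 : 3 ^ 14 ≤ p ^ f := by
      calc 3 ^ 14 ≤ 3 ^ f := Nat.pow_le_pow_right (by norm_num) (by omega)
        _ ≤ p ^ f := Nat.pow_le_pow_left hp3 _
    have h2 : 2 ^ L ≤ 2 ^ 18 := Nat.pow_le_pow_right (by norm_num) hL18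
    norm_num at h1 h2
    omega
  exact kill4 he0 (pos_of_pair h5 hD.pair) hD hr hex hf13 hs (hT _ hq3 hqodd hqL) hmem

end Cfsg.Agent.R2.Spec.FIN
end

-- part: R2/Spec/FIN/Blocks
section
/-!
# S3435, packet FIN: the search by blocks (helper11)

The odd numbers `q` are cut into blocks; in a block one number `P` is divisible by all the numbers which are tested,
so that one greatest common divisor settles most of the numbers `M`.
-/

set_option autoImplicit false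

namespace Cfsg.Agent.R2.Spec.FIN

open Cfsg.Agent.H426.LieFam Cfsg.Agent.R2.Spec Cfsg.Agent.R2.Spec.P1 Cfsg.Agent.R2.Spec.E Cfsg.Agent.R2.Spec.F1

/-! ### faster loops -/

theorem allTo_intro {f : ℕ → Bool} : ∀ {n : ℕ}, (∀ k, k < n → f k = true) → allTo f n = true
  | 0, _ => rfl
  | n + 1, h => by
    rw [allTo_succ, h n (Nat.lt_succ_self n), allTo_intro fun k hk => h k (Nat.lt_succ_of_lt hk)]
    rfl

/-- conjunction -/
noncomputable def qAnd (a b : Bool) : Bool := Bool.rec false b a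

/-- `f` holds below `n` -/
noncomputable def qAll (f : ℕ → Bool) (n : ℕ) : Bool :=
  Nat.rec true (fun k ih => qAnd (f k) ih) n

theorem qAll_sound {f : ℕ → Bool} {n : ℕ} (h : qAll f n = true) : ∀ k, k < n → f k = true := by
  induction n with
  | zero => intro k hk; omega
  | succ n ih =>
    have h' : (Bool.rec false (qAll f n) (f n) : Bool) = true := h
    intro k hk
    cases h1 : f n with
    | false => rw [h1] at h'; exact Bool.noConfusion h'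
    | true =>
      rw [h1] at h'
      by_cases hkn : k = n
      · rw [hkn]; exact h1
      · exact ih h' k (by omega)

/-- downwards, as long as the size bound holds -/
noncomputable def qDn (X Y : ℕ) (g : ℕ → Bool) (n : ℕ) : Bool :=
  Nat.rec true (fun k ih => Bool.rec true (Bool.rec false ih (g (Nat.succ k)))
    (Nat.ble X (Nat.mul Y (Nat.pow (Nat.succ k) 4)))) n

theorem qDn_sound {X Y : ℕ} {g : ℕ → Bool} {n : ℕ} (h : qDn X Y g n = true) :
    ∀ k, k < n → X ≤ Y * (k + 1) ^ 4 → g (k + 1) = true := by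
  induction n with
  | zero => intro k hk; omega
  | succ n ih =>
    have h' : (Bool.rec true (Bool.rec false (qDn X Y g n) (g (n + 1))) (Nat.ble X (Y * (n + 1) ^ 4)) : Bool) = true := h
    intro k hk hX
    have h2 : Nat.ble X (Y * (n + 1) ^ 4) = true := by
      rw [Nat.ble_eq]
      exact hX.trans (Nat.mul_le_mul_left _ (Nat.pow_le_pow_left (by omega) 4))
    rw [h2] at h'
    cases h1 : g (n + 1) with
    | false => rw [h1] at h'; exact Bool.noConfusion h'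
    | true =>
      rw [h1] at h'
      by_cases hkn : k = n
      · rw [hkn]; exact h1
      · exact ih h' k (by omega) hX

/-- the loop `loopV`; the test also gets `v ^ k` -/
noncomputable def qLoop (g : ℕ → ℕ → Bool) (k B : ℕ) (fuel : ℕ) : ℕ → Bool :=
  Nat.rec (fun _ => false) (fun _ ih v => force (Nat.pow v k) fun x =>
    Bool.rec true (Bool.rec false (force (Nat.succ v) ih) (g v x)) (Nat.ble x B)) fuel

theorem qLoop_sound {g : ℕ → ℕ → Bool} {g' : ℕ → Bool} {k B : ℕ} (hg : ∀ v, g v (v ^ k) = true → g' v = true) :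
    ∀ (fuel v : ℕ), qLoop g k B fuel v = true → loopV g' k B fuel v = true
  | 0, _, h => h
  | fuel + 1, v, h => by
    have h' : force (v ^ k) (fun x => (Bool.rec true (Bool.rec false (force (v + 1) (qLoop g k B fuel)) (g v x))
      (Nat.ble x B) : Bool)) = true := h
    rw [force_eq, force_eq] at h'
    rw [loopV_succ]
    cases h1 : Nat.ble (v ^ k) B with
    | false =>
      have h2 : Nat.blt B (v ^ k) = true := by
        rw [Nat.blt_eq]
        exact Nat.lt_of_not_le fun h3 => by rw [Nat.ble_eq_true_of_le h3] at h1; exact Bool.noConfusion h1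
      rw [h2]
      rfl
    | true =>
      rw [h1] at h'
      cases h2 : g v (v ^ k) with
      | false => rw [h2] at h'; exact Bool.noConfusion h'
      | true =>
        rw [h2] at h'
        rw [hg v h2, qLoop_sound hg fuel (v + 1) h', Bool.and_self, Bool.or_true]

/-- the numbers with two small prime factors are left out -/
noncomputable def qPp (q : ℕ) (x : Bool) : Bool :=
  Bool.rec (Bool.rec true (Bool.rec true x (ppB q)) (Nat.beq (Nat.mod (Nat.pow 111546435 13) q) 0)) x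
    (Nat.beq (Nat.gcd q 111546435) 1)

theorem qPp_sound {q : ℕ} {x : Bool} (h : qPp q x = true) (hq : ppB q = true) : x = true := by
  have h' : (Bool.rec (Bool.rec true (Bool.rec true x (ppB q)) (Nat.beq (111546435 ^ 13 % q) 0)) x
    (Nat.beq (Nat.gcd q 111546435) 1) : Bool) = true := h
  cases h1 : Nat.beq (Nat.gcd q 111546435) 1 with
  | true => rw [h1] at h'; exact h'
  | false =>
    have key : ∀ r : ℕ, r ∣ 111546435 → (!(Nat.beq (q % r) 0) || Nat.beq (r ^ 13 % q) 0) = true →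
        r.Prime → q ∣ 111546435 ^ 13 ∨ Nat.Coprime q r := by
      intro r hr h2 hp
      by_cases h3 : r ∣ q
      · rw [Nat.mod_eq_zero_of_dvd h3] at h2
        exact Or.inl ((Nat.dvd_of_mod_eq_zero (beq_iff.1 h2)).trans (pow_dvd_pow_of_dvd hr 13))
      · exact Or.inr ((Nat.Prime.coprime_iff_not_dvd hp).2 h3).symm
    have h2 : q ∣ 111546435 ^ 13 := by
      by_contra h3
      have hq' : ((!(Nat.beq (q % 3) 0) || Nat.beq (3 ^ 13 % q) 0) && (!(Nat.beq (q % 5) 0) || Nat.beq (5 ^ 13 % q) 0) &&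
        (!(Nat.beq (q % 7) 0) || Nat.beq (7 ^ 13 % q) 0) && (!(Nat.beq (q % 11) 0) || Nat.beq (11 ^ 13 % q) 0) &&
        (!(Nat.beq (q % 13) 0) || Nat.beq (13 ^ 13 % q) 0) && (!(Nat.beq (q % 17) 0) || Nat.beq (17 ^ 13 % q) 0) &&
        (!(Nat.beq (q % 19) 0) || Nat.beq (19 ^ 13 % q) 0) &&
        (!(Nat.beq (q % 23) 0) || Nat.beq (23 ^ 13 % q) 0)) = true := hq
      simp only [Bool.and_eq_true] at hq'
      obtain ⟨⟨⟨⟨⟨⟨⟨a1, a2⟩, a3⟩, a4⟩, a5⟩, a6⟩, a7⟩, a8⟩ := hq'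
      have b1 := (key 3 (by norm_num) a1 (by norm_num)).resolve_left h3
      have b2 := (key 5 (by norm_num) a2 (by norm_num)).resolve_left h3
      have b3 := (key 7 (by norm_num) a3 (by norm_num)).resolve_left h3
      have b4 := (key 11 (by norm_num) a4 (by norm_num)).resolve_left h3
      have b5 := (key 13 (by norm_num) a5 (by norm_num)).resolve_left h3
      have b6 := (key 17 (by norm_num) a6 (by norm_num)).resolve_left h3
      have b7 := (key 19 (by norm_num) a7 (by norm_num)).resolve_left h3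
      have b8 := (key 23 (by norm_num) a8 (by norm_num)).resolve_left h3
      have b : Nat.Coprime q (3 * 5 * 7 * 11 * 13 * 17 * 19 * 23) :=
        ((((((b1.mul_right b2).mul_right b3).mul_right b4).mul_right b5).mul_right b6).mul_right b7).mul_right b8
      have b' : Nat.gcd q 111546435 = 1 := b
      rw [b'] at h1
      exact Bool.noConfusion h1
    rw [h1, Nat.mod_eq_zero_of_dvd h2, hq] at h'
    exact h'

theorem pairOK_of_mem {t : Fam} {x : ℕ × ℕ} (h5 : 5 ≤ rk t) (h : x ∈ pairsL t) : PairOK t x.1 x.2 := by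
  have key : ∀ {a b : ℕ}, x ∈ [(a, b), (b, a)] → (x.1 = a ∧ x.2 = b) ∨ (x.1 = b ∧ x.2 = a) := by
    intro a b h
    rcases List.mem_cons.1 h with rfl | h
    · exact Or.inl ⟨rfl, rfl⟩
    · rw [List.mem_singleton.1 h]
      exact Or.inr ⟨rfl, rfl⟩
  have key2 : ∀ {n : ℕ} {l l' : List (ℕ × ℕ)}, x ∈ (bif Nat.beq (n % 2) 1 then l else l') →
      (n % 2 = 1 ∧ x ∈ l) ∨ (n % 2 = 0 ∧ x ∈ l') := by
    intro n l l' h
    rcases Nat.mod_two_eq_zero_or_one n with h0 | h0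
    · rw [beq_mod_one' h0] at h
      exact Or.inr ⟨h0, h⟩
    · rw [beq_mod_one h0] at h
      exact Or.inl ⟨h0, h⟩
  cases t with
  | psl n =>
    have hn : 5 ≤ n := h5
    have := key (a := n) (b := n - 1) h
    change (x.1 = n ∧ x.2 + 1 = n) ∨ (x.1 + 1 = n ∧ x.2 = n)
    omega
  | psu n =>
    have hn : 5 ≤ n := h5
    have := key (a := n) (b := n - 1) h
    change (x.1 = n ∧ x.2 + 1 = n) ∨ (x.1 + 1 = n ∧ x.2 = n)
    omega
  | psp n =>
    rcases key2 (n := n) (l := [(n, 2 * n), (2 * n, n)]) (l' := []) h with ⟨h1, h2⟩ | ⟨-, h2⟩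
    · exact ⟨h1, key h2⟩
    · exact absurd h2 List.not_mem_nil
  | oodd n =>
    rcases key2 (n := n) (l := [(n, 2 * n), (2 * n, n)]) (l' := []) h with ⟨h1, h2⟩ | ⟨-, h2⟩
    · exact ⟨h1, key h2⟩
    · exact absurd h2 List.not_mem_nil
  | oplus n =>
    rcases key2 (n := n) (l := [(n, 2 * (n - 1)), (2 * (n - 1), n)])
      (l' := [(n - 1, 2 * (n - 1)), (2 * (n - 1), n - 1)]) h with ⟨h1, h2⟩ | ⟨h1, h2⟩
    · exact Or.inl ⟨h1, key h2⟩
    · exact Or.inr ⟨h1, key h2⟩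
  | ominus n => exact key (a := 2 * n) (b := 2 * (n - 1)) h
  | _ => exact absurd h5 (by change ¬ 5 ≤ 0; omega)

theorem loopV_mono {g g' : ℕ → Bool} {k B B' : ℕ} (hg : ∀ v, g' v = true → g v = true) (hB : B ≤ B') :
    ∀ (fuel v : ℕ), loopV g' k B' fuel v = true → loopV g k B fuel v = true
  | 0, _, h => h
  | fuel + 1, v, h => by
    rw [loopV_succ, Bool.or_eq_true, Bool.and_eq_true, Nat.blt_eq] at h ⊢
    rcases h with h | ⟨h1, h2⟩
    · exact Or.inl (lt_of_le_of_lt hB h)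
    · exact Or.inr ⟨hg v h1, loopV_mono hg hB fuel (v + 1) h2⟩

/-- `x` if `a = 0`, else `y` -/
noncomputable def qZ (a : ℕ) (x y : Bool) : Bool := Bool.rec y x (Nat.beq a 0)

theorem qZ_cases {a : ℕ} {x y : Bool} (h : qZ a x y = true) : x = true ∨ (a ≠ 0 ∧ y = true) := by
  have h' : (Bool.rec y x (Nat.beq a 0) : Bool) = true := h
  cases h1 : Nat.beq a 0 with
  | true => rw [h1] at h'; exact Or.inl h'
  | false =>
    rw [h1] at h'
    exact Or.inr ⟨fun h2 => by rw [h2] at h1; exact Bool.noConfusion h1, h'⟩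

theorem blt_two {a b : ℕ} (h : Nat.mul a b ≠ 0) : Nat.blt 0 a = true ∧ Nat.blt 0 b = true := by
  rw [Nat.blt_eq, Nat.blt_eq]
  have h' := mul_ne_zero_iff.1 (show a * b ≠ 0 from h)
  exact ⟨Nat.pos_of_ne_zero h'.1, Nat.pos_of_ne_zero h'.2⟩

theorem szB_low {C dm D F a q d f : ℕ} (h0 : C * dm * (F ^ 4 * (a + 1) ^ 3) < a ^ D) (hD : 3 ≤ D) (hd : d ≤ dm)
    (ha : a ≤ q) (h2 : f ≤ F) : szB C q D d f = false := by
  rw [← Bool.not_eq_true, szB_iff]
  intro hs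
  obtain ⟨E, rfl⟩ : ∃ E, D = E + 3 := ⟨D - 3, by omega⟩
  have h3 : ((q + 1) * a) ^ 3 ≤ ((a + 1) * q) ^ 3 := Nat.pow_le_pow_left (by
    rw [add_mul, add_mul, one_mul, one_mul, mul_comm]
    exact Nat.add_le_add_left ha _) 3
  have h4 : a ^ E ≤ q ^ E := Nat.pow_le_pow_left ha E
  have h5 : C * d * f ^ 4 ≤ C * dm * F ^ 4 := Nat.mul_le_mul (Nat.mul_le_mul_left _ hd) (Nat.pow_le_pow_left h2 4)
  have ha0 : 0 < a := Nat.pos_of_ne_zero fun h6 => by
    rw [h6, zero_pow (by omega)] at h0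
    exact Nat.not_lt_zero _ h0
  have h6 : q ^ (E + 3) * a ^ 3 < q ^ (E + 3) * a ^ 3 :=
    calc q ^ (E + 3) * a ^ 3 ≤ C * d * (f ^ 4 * (q + 1) ^ 3) * a ^ 3 := Nat.mul_le_mul_right _ hs
      _ = C * d * f ^ 4 * ((q + 1) * a) ^ 3 := by ring
      _ ≤ C * dm * F ^ 4 * ((a + 1) * q) ^ 3 := Nat.mul_le_mul h5 h3
      _ = C * dm * (F ^ 4 * (a + 1) ^ 3) * q ^ 3 := by ring
      _ < a ^ (E + 3) * q ^ 3 := Nat.mul_lt_mul_of_pos_right h0 (Nat.pow_pos (by omega))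
      _ = a ^ E * (q ^ 3 * a ^ 3) := by ring
      _ ≤ q ^ E * (q ^ 3 * a ^ 3) := Nat.mul_le_mul_right _ h4
      _ = q ^ (E + 3) * a ^ 3 := by ring
  exact lt_irrefl _ h6

theorem szB_qDn {C q D d k : ℕ} (h : szB C q D d (k + 1) = true) : q ^ D ≤ C * d * (q + 1) ^ 3 * (k + 1) ^ 4 := by
  rw [szB_iff] at h
  rw [mul_assoc, mul_comm ((q + 1) ^ 3)]
  exact h

/-- `A` divides `P` and is large -/
def qOk (P T c A : ℕ) : Bool := Nat.beq (P % A) 0 && (Nat.blt 0 c && Nat.blt (c * T) A)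

theorem qOk_sound {P T c A M : ℕ} (hP : 0 < P) (hg : Nat.gcd M P ≤ T) (h : qOk P T c A = true) :
    Nat.blt 0 (c * M % A) = true := by
  rw [qOk, Bool.and_eq_true, Bool.and_eq_true, beq_iff, Nat.blt_eq, Nat.blt_eq] at h
  rw [Nat.blt_eq]
  refine Nat.pos_of_ne_zero fun h0 => ?_
  have h1 : A ∣ c * Nat.gcd M P := by
    rw [← Nat.gcd_mul_left]
    exact Nat.dvd_gcd (Nat.dvd_of_mod_eq_zero h0) ((Nat.dvd_of_mod_eq_zero h.1).mul_left _)
  have h2 := Nat.le_of_dvd (Nat.mul_pos h.2.1 (Nat.gcd_pos_of_pos_right _ hP)) h1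
  exact absurd (h2.trans (Nat.mul_le_mul_left _ hg)) (not_le.2 h.2.2)

/-- small common factor, else `x` -/
noncomputable def qG (M P T : ℕ) (x : Bool) : Bool := Bool.rec x true (Nat.ble (Nat.gcd M P) T)

theorem qG_cases {M P T : ℕ} {x : Bool} (h : qG M P T x = true) : Nat.gcd M P ≤ T ∨ x = true := by
  have h' : (Bool.rec x true (Nat.ble (Nat.gcd M P) T) : Bool) = true := h
  cases h1 : Nat.ble (Nat.gcd M P) T with
  | true => exact Or.inl (Nat.le_of_ble_eq_true h1)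
  | false => rw [h1] at h'; exact Or.inr h'

theorem qAnd_eq {a b : Bool} (h : qAnd a b = true) : a = true ∧ b = true := by
  cases a
  · exact Bool.noConfusion h
  · exact ⟨rfl, h⟩

/-- one block of odd numbers `a + 2 k`, `k < n` -/
noncomputable def qBk (e0 C dm D i j : ℕ) (m1 m2 : ℕ → ℕ) (pc : ℕ → ℕ → ℕ → ℕ → ℕ → Bool)
    (dir : ℕ → ℕ → ℕ → ℕ → ℕ → Bool) (P T F L a n : ℕ) : Bool :=
  force (16 * (a + 2 * n) ^ D) fun Bm =>
    ((Nat.blt Bm (2 ^ (L + 1)) && Nat.blt 0 P) &&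
      (Nat.blt (C * dm * (F ^ 4 * (a + 1) ^ 3)) (a ^ D) && (Nat.beq T 0 || pc P T F L Bm))) &&
    (Nat.ble (L / e0) F || qAll (fun k => force (Nat.add (Nat.mul 2 k) a) fun q =>
      qPp q (qAnd (qG (m1 q) P T (dir L q i j (m1 q))) (qG (m2 q) P T (dir L q j i (m2 q))))) n)

/-- a chain of blocks up to `c` -/
noncomputable def qLs (f : ℕ → ℕ → ℕ → ℕ → ℕ → ℕ → Bool) (c : ℕ) (l : List (ℕ × ℕ × ℕ × ℕ × ℕ)) : ℕ → Bool :=
  List.rec (fun a => Nat.ble c a) (fun x _ ih a => force x.1 fun P => force x.2.1 fun T => force x.2.2.2.1 fun L =>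
    qAnd (f P T x.2.2.1 L a x.2.2.2.2) (force (a + 2 * x.2.2.2.2) ih)) l

theorem qLs_sound {f : ℕ → ℕ → ℕ → ℕ → ℕ → ℕ → Bool} {c : ℕ} {R : ℕ → Prop}
    (hf : ∀ P T F L a n q, f P T F L a n = true → 3 ≤ a → a % 2 = 1 → q % 2 = 1 → a ≤ q → q < a + 2 * n → R q) :
    ∀ (l : List (ℕ × ℕ × ℕ × ℕ × ℕ)) (a : ℕ), qLs f c l a = true → 3 ≤ a → a % 2 = 1 →
      ∀ q, q % 2 = 1 → a ≤ q → q < c → R q
  | [], a, h, _, _, q, _, h1, h2 => absurd ((Nat.le_of_ble_eq_true h).trans h1) (not_le.2 h2)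
  | x :: l, a, h, h3, ha, q, hq, h1, h2 => by
    have h' : (force x.1 fun P => force x.2.1 fun T => force x.2.2.2.1 fun L =>
      qAnd (f P T x.2.2.1 L a x.2.2.2.2) (force (a + 2 * x.2.2.2.2) (qLs f c l))) = true := h
    rw [force_eq, force_eq, force_eq, force_eq] at h'
    obtain ⟨k1, k2⟩ := qAnd_eq h'
    by_cases h4 : q < a + 2 * x.2.2.2.2
    · exact hf _ _ _ _ _ _ q k1 h3 ha hq h1 h4
    · exact qLs_sound hf l _ k2 (by omega) (by omega) q hq (by omega) h2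

theorem qBk_sound {e0 C dm D i j : ℕ} {t : Fam} {m1 m2 : ℕ → ℕ} {pc dir : ℕ → ℕ → ℕ → ℕ → ℕ → Bool}
    {R : ℕ → ℕ → ℕ → Prop} (h5 : 5 ≤ rk t) (hD : dimL t = D) (hD3 : 3 ≤ D) (hd : ∀ q, dgL t q ≤ dm)
    (hp : pairsL t = [(i, j), (j, i)]) (h1 : ∀ q, ttor t q i = m1 q) (h2 : ∀ q, ttor t q j = m2 q)
    (rS : ∀ q i j, szB C q D (dgL t q) (Nat.log2 (8 * ttor t q i) / e0) = false → R q i j)
    (rG : ∀ P T F L Bm q i j, pc P T F L Bm = true → 0 < P → Nat.gcd (ttor t q i) P ≤ T → 8 * ttor t q i ≤ Bm →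
      Nat.log2 (8 * ttor t q i) ≤ L → (∀ f, f ≤ F → szB C q D (dgL t q) f = false) → R q i j)
    (rD : ∀ L q i j, dir L q i j (ttor t q i) = true → Nat.log2 (8 * ttor t q i) ≤ L → R q i j)
    (P T F L a n q : ℕ) (h : qBk e0 C dm D i j m1 m2 pc dir P T F L a n = true) (h3 : 3 ≤ a) (ha : a % 2 = 1)
    (hq : q % 2 = 1) (k1 : a ≤ q) (k2 : q < a + 2 * n) (hpp : ppB q = true) : ∀ x ∈ pairsL t, R q x.1 x.2 := by
  rw [qBk, force_eq, Bool.and_eq_true, Bool.and_eq_true, Bool.and_eq_true, Bool.and_eq_true, Bool.or_eq_true,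
    Bool.or_eq_true, Nat.blt_eq, Nat.blt_eq, Nat.blt_eq, Nat.ble_eq, beq_iff] at h
  obtain ⟨⟨⟨a1, a2⟩, a3, a4⟩, a5⟩ := h
  have hF : ∀ f, f ≤ F → szB C q D (dgL t q) f = false := fun f hf => szB_low a3 hD3 (hd q) k1 hf
  have hB : ∀ x ∈ pairsL t, 8 * ttor t q x.1 ≤ 16 * (a + 2 * n) ^ D := by
    intro x hx
    have b1 := ttor_le5 h5 (pairOK_of_mem h5 hx) (h3.trans k1)
    have b2 : q ^ D ≤ (a + 2 * n) ^ D := Nat.pow_le_pow_left k2.le D
    rw [hD] at b1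
    omega
  have hL : ∀ x ∈ pairsL t, Nat.log2 (8 * ttor t q x.1) ≤ L := by
    intro x hx
    by_cases h0 : 8 * ttor t q x.1 = 0
    · rw [h0]
      exact Nat.zero_le _
    · exact Nat.le_of_lt_succ ((Nat.log2_lt h0).2 (lt_of_le_of_lt (hB x hx) a1))
  rcases a5 with a5 | a5
  · exact fun x hx => rS _ _ _ (hF _ ((Nat.div_le_div_right (hL x hx)).trans a5))
  have h4 := qAll_sound a5 ((q - a) / 2) (by omega)
  rw [force_eq, show Nat.add (Nat.mul 2 ((q - a) / 2)) a = q from by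
    change 2 * ((q - a) / 2) + a = q
    omega, ← h1, ← h2] at h4
  obtain ⟨b1, b2⟩ := qAnd_eq (qPp_sound h4 hpp)
  have key : ∀ x ∈ pairsL t, qG (ttor t q x.1) P T (dir L q x.1 x.2 (ttor t q x.1)) = true → R q x.1 x.2 := by
    intro x hx h
    rcases qG_cases h with h | h
    · rcases a4 with a4 | a4
      · rw [a4] at h
        exact absurd h (not_le.2 (Nat.gcd_pos_of_pos_right _ a2))
      · exact rG P T F L _ _ _ _ a4 a2 h (hB x hx) (hL x hx) hF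
    · exact rD L _ _ _ h (hL x hx)
  intro x hx
  refine key x hx ?_
  rw [hp] at hx
  rcases List.mem_cons.1 hx with rfl | hx
  · exact b1
  · rw [List.mem_singleton.1 hx]
    exact b2

/-! ### rank at least four -/

/-- `pre`, else `s` -/
noncomputable def qPre (M4 M e u : ℕ) (s : Bool) : Bool :=
  force (Nat.pow u (Nat.sub e 1)) fun y => force (Nat.mul y u) fun x =>
    qZ (Nat.mul (Nat.mul (Nat.mod M4 (Nat.succ x)) (Nat.mod M4 (Nat.sub x 1)))
        (Nat.mul (Nat.mod M4 (Nat.succ y)) (Nat.mod M4 (Nat.sub y 1)))) s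
      (Bool.rec true (force (Nat.mul x u) fun z => force (Nat.mul z u) fun w =>
        force (Nat.mul (Nat.add e 2) M) fun Me =>
          qZ (Nat.mul (Nat.mul (Nat.mod (Nat.mul Me (Nat.sub u 1)) (Nat.sub w 1)) (Nat.mod Me (Nat.sub z 1)))
            (Bool.rec (Nat.mul (Nat.mod (Nat.mul Me (Nat.succ u)) (Nat.succ w)) 1)
              (Nat.mul (Nat.mod (Nat.mul Me (Nat.succ u)) (Nat.sub w 1)) (Nat.mod Me (Nat.succ z)))
              (Nat.beq (Nat.mod e 2) 0))) s true) (Nat.ble 5 e))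

theorem and_five {a b c d e : Bool} (ha : a = true) (hb : b = true) (hc : c = true) (hd : d = true) (he : e = true) :
    ((a && b) && ((c && d) && e)) = true := by
  rw [ha, hb, hc, hd, he]
  rfl

theorem qPre_sound {M e u : ℕ} {s : Bool} (h : qPre (4 * M) M e u s = true) : s = true ∨ pre M e u = true := by
  rw [qPre, force_eq, force_eq] at h
  rw [pre, force_eq, force_eq]
  rcases qZ_cases h with h | ⟨a0, h⟩
  · exact Or.inl h
  have a0' := mul_ne_zero_iff.1 a0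
  obtain ⟨a1, a2⟩ := blt_two a0'.1
  obtain ⟨a3, a4⟩ := blt_two a0'.2
  cases h5 : Nat.ble 5 e with
  | false =>
    have h6 : Nat.blt e 5 = true := by
      rw [Nat.blt_eq]
      exact Nat.lt_of_not_le fun h3 => by rw [Nat.ble_eq_true_of_le h3] at h5; exact Bool.noConfusion h5
    exact Or.inr (and_five a1 a2 a3 a4 (by rw [h6]; rfl))
  | true =>
    rw [h5] at h
    have h' := h
    change force _ _ = true at h'
    rw [force_eq, force_eq, force_eq] at h'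
    rcases qZ_cases h' with h | ⟨b0, -⟩
    · exact Or.inl h
    have b0' := mul_ne_zero_iff.1 b0
    obtain ⟨a5, a6⟩ := blt_two b0'.1
    have b1 := b0'.2
    refine Or.inr (and_five a1 a2 a3 a4 ?_)
    cases h6 : Nat.beq (e % 2) 0 with
    | false =>
      rw [show Nat.beq (Nat.mod e 2) 0 = false from h6] at b1
      rw [force_eq, force_eq, Bool.or_eq_true, Bool.and_eq_true, Bool.and_eq_true, cond_false, Bool.and_eq_true]
      exact Or.inr ⟨⟨a5, a6⟩, (blt_two b1).1, a6⟩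
    | true =>
      rw [show Nat.beq (Nat.mod e 2) 0 = true from h6] at b1
      rw [force_eq, force_eq, Bool.or_eq_true, Bool.and_eq_true, Bool.and_eq_true, cond_true, Bool.and_eq_true]
      exact Or.inr ⟨⟨a5, a6⟩, blt_two b1⟩

/-- the direct test for `M` -/
noncomputable def qM4 (e0 C D : ℕ) (t : Fam) (L q i j M : ℕ) : Bool :=
  force M fun M => force (Nat.mul 8 M) fun B => force (Nat.mul 4 M) fun M4 =>
    qDn (Nat.pow q D) (Nat.mul (Nat.mul C (dgL t q)) (Nat.pow (Nat.succ q) 3))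
      (fun f' => qAll (fun k => force (Nat.add k e0) fun e => force (Nat.mul f' e) fun fe =>
        qLoop (fun v _ => force (Nat.pow v f') fun u => qPre M4 M e u (tstV4 M (ttor t q j) q i (ng t) f' e v))
          fe B 20000 2) (Nat.sub (Nat.succ (Nat.div L f')) e0)) (Nat.div L e0)

theorem qM4_sound {e0 C D : ℕ} {t : Fam} {L q i j M : ℕ} (h : qM4 e0 C D t L q i j M = true)
    (hL : Nat.log2 (8 * M) ≤ L) : chkM4 e0 C M (ttor t q j) q D (dgL t q) i (ng t) = true := by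
  rw [qM4, force_eq, force_eq, force_eq] at h
  rw [chkM4, force_eq, Bool.or_eq_true]
  refine Or.inr (allTo_intro fun k hk => ?_)
  rw [force_eq]
  cases hs : szB C q D (dgL t q) (k + 1) with
  | false => rfl
  | true =>
    have h1 := qDn_sound h k (lt_of_lt_of_le hk (Nat.div_le_div_right hL)) (szB_qDn hs)
    refine allTo_intro fun l hl => ?_
    have h2 := qAll_sound h1 l (lt_of_lt_of_le hl
      (Nat.sub_le_sub_right (Nat.succ_le_succ (Nat.div_le_div_right hL)) e0))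
    rw [force_eq, force_eq] at h2
    rw [force_eq]
    refine qLoop_sound (fun v hv => ?_) _ _ h2
    rw [force_eq] at hv
    rcases qPre_sound hv with h3 | h3
    · exact h3
    · rw [tstV4, force_eq, show pre M (l + e0) (v ^ (k + 1)) = true from h3, Bool.true_or, Bool.or_true]

/-- the numbers of `pre` divide `P` -/
noncomputable def preP (P T e u : ℕ) : Bool :=
  force (u ^ (e - 1)) fun y => force (y * u) fun x =>
    (qOk P T 4 (x + 1) && qOk P T 4 (x - 1)) && ((qOk P T 4 (y + 1) && qOk P T 4 (y - 1)) &&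
    (Nat.blt e 5 || force (x * u) fun z => force (z * u) fun w =>
      (qOk P T ((e + 2) * (u - 1)) (w - 1) && qOk P T (e + 2) (z - 1)) &&
      ((qOk P T ((e + 2) * (u + 1)) (w - 1) && qOk P T (e + 2) (z + 1)) && qOk P T ((e + 2) * (u + 1)) (w + 1))))

theorem preP_sound {P T e u M : ℕ} (hP : 0 < P) (hg : Nat.gcd M P ≤ T) (h : preP P T e u = true) :
    pre M e u = true := by
  rw [preP, force_eq, force_eq, Bool.and_eq_true, Bool.and_eq_true, Bool.and_eq_true, Bool.and_eq_true,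
    Bool.or_eq_true] at h
  obtain ⟨⟨a1, a2⟩, ⟨a3, a4⟩, a5⟩ := h
  rw [pre, force_eq, force_eq]
  refine and_five (qOk_sound hP hg a1) (qOk_sound hP hg a2) (qOk_sound hP hg a3) (qOk_sound hP hg a4) ?_
  rw [Bool.or_eq_true]
  refine a5.imp id fun h => ?_
  rw [force_eq, force_eq, Bool.and_eq_true, Bool.and_eq_true, Bool.and_eq_true, Bool.and_eq_true] at h
  obtain ⟨⟨b1, b2⟩, ⟨b3, b4⟩, b5⟩ := h
  rw [force_eq, force_eq, mul_right_comm (e + 2) M, mul_right_comm (e + 2) M, qOk_sound hP hg b1, qOk_sound hP hg b2,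
    qOk_sound hP hg b3, qOk_sound hP hg b4, qOk_sound hP hg b5]
  cases Nat.beq (e % 2) 0 <;> rfl

/-- the check of `P` -/
noncomputable def qP4 (e0 P T F L Bm : ℕ) : Bool :=
  qAll (fun k => Nat.blt k F || qAll (fun l => force (l + e0) fun e =>
    loopV (fun v => npB v || force (v ^ (k + 1)) fun u => preP P T e u) ((k + 1) * e) Bm 20000 2)
      (L / (k + 1) + 1 - e0)) (L / e0)

theorem qP4_sound {e0 C P T F L Bm M N q D d i : ℕ} {neg : Bool} (h : qP4 e0 P T F L Bm = true) (hP : 0 < P)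
    (hg : Nat.gcd M P ≤ T) (hB : 8 * M ≤ Bm) (hL : Nat.log2 (8 * M) ≤ L)
    (hF : ∀ f, f ≤ F → szB C q D d f = false) : chkM4 e0 C M N q D d i neg = true := by
  rw [chkM4, force_eq, Bool.or_eq_true]
  refine Or.inr (allTo_intro fun k hk => ?_)
  rw [force_eq]
  have h1 := qAll_sound h k (lt_of_lt_of_le hk (Nat.div_le_div_right hL))
  rw [Bool.or_eq_true, Nat.blt_eq] at h1
  rcases h1 with h1 | h1
  · rw [hF (k + 1) h1]
    rfl
  rw [Bool.or_eq_true]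
  refine Or.inr (allTo_intro fun l hl => ?_)
  have h2 := qAll_sound h1 l (lt_of_lt_of_le hl
    (Nat.sub_le_sub_right (Nat.succ_le_succ (Nat.div_le_div_right hL)) e0))
  rw [force_eq] at h2
  rw [force_eq]
  refine loopV_mono (fun v hv => ?_) hB _ _ h2
  rw [Bool.or_eq_true, force_eq] at hv
  rw [tstV4, force_eq]
  rcases hv with hv | hv
  · rw [hv]
    rfl
  · rw [preP_sound hP hg hv, Bool.true_or, Bool.or_true]

/-- **The search by blocks.** -/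
theorem all4 {e0 C dm D i j c : ℕ} {t : Fam} (m1 m2 : ℕ → ℕ) (l : List (ℕ × ℕ × ℕ × ℕ × ℕ)) (h5 : 5 ≤ rk t)
    (hD : dimL t = D) (hD3 : 3 ≤ D) (hd : ∀ q, dgL t q ≤ dm) (hp : pairsL t = [(i, j), (j, i)])
    (h1 : ∀ q, ttor t q i = m1 q) (h2 : ∀ q, ttor t q j = m2 q)
    (h : qLs (qBk e0 C dm D i j m1 m2 (qP4 e0) (qM4 e0 C D t)) c l 3 = true) {q : ℕ} (h3 : 3 ≤ q) (ho : q % 2 = 1)
    (hq : q < c) : chkT4 e0 C t q = true := by
  have key := qLs_sound (qBk_sound (e0 := e0) (C := C) (pc := qP4 e0) (dir := qM4 e0 C D t)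
    (R := fun q i j => chkM4 e0 C (ttor t q i) (ttor t q j) q D (dgL t q) i (ng t) = true) h5 hD hD3 hd hp h1 h2
    (fun q i j hs => by rw [chkM4, force_eq, hs]; rfl)
    (fun _ _ _ _ _ _ _ _ a1 a2 a3 a4 a5 a6 => qP4_sound a1 a2 a3 a4 a5 a6)
    (fun _ _ _ _ a1 a2 => qM4_sound a1 a2)) l 3 h le_rfl rfl q ho h3 hq
  rw [chkT4]
  cases hq : ppB q with
  | false => rfl
  | true =>
    rw [Bool.not_true, Bool.false_or, List.all_eq_true]
    intro x hx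
    rw [force_eq, force_eq, force_eq, force_eq, force_eq, hD]
    exact key hq x hx

/-- the blocks -/
noncomputable def bk4a : List (ℕ × ℕ × ℕ × ℕ × ℕ) :=
  [(1, 0, 0, 15, 1),
  (1, 0, 0, 18, 1),
  (1, 0, 0, 21, 2),
  (1, 0, 0, 23, 2),
  (1, 0, 0, 25, 3),
  (1, 0, 0, 28, 5),
  (1, 0, 0, 31, 7),
  (1, 0, 1, 33, 9),
  (1, 0, 1, 36, 14),
  (1, 0, 1, 39, 19),
  (1, 0, 1, 41, 27),
  (1, 0, 2, 44, 37),
  (1, 0, 2, 46, 53),
  (0x4f4c105524ac02d9bce0fd7ccadd36b5ec3d3bd740eeb53dcbd394eb6c9db8c53bbd5c4a558b5f47f26dd3010b9858193f56e903cd1b798f6be41fdfbc78a3051dd2331fc96991cf4ee9ad04092f62d6a662f556c460131e5d9124d04361fccb440b74d6234d3f545873d96d11f9aa8b5bfeea29349719ad207dd111707b2593a1099e9a9cb7a8ded407696a8bc30d8e0783d03de1fa1d83b917bfcaa0abddeccbfe1d175c02ba9dd3efb2dae1419dcf9602112df450889def965fee4b09f9f7548ef6bea1c4d1bfac35afb5e3aefdb849184b4298fdb82370e1aea154dda9f918dcc20601df30269bbf3983fe4221fea276239e4898ed9251a6c47a4bd498b3819b224c3dd0bfe7986a661056100,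 1023, 3, 49, 75),
  (0x6304c6c29d5e73dc08bf8a442da57c4efd85495b7f89789b39b1bde15a6fe96c4ef96eb522816c328a5b07d652347ab9293f1a777ec42e10c47799db68b6a93888b4ac00b59614df1ae13058f199c59b45823132f5eb7f50695a10794bc7c2025c7f93840eca0760a7313f548176df560efd9687a97735198f6a0e2d6c81e28c3bcc0ce7619527d2422d0da4670a641443c2d55800fdd8b9de4b7ce306761d953fd89055f8c05b89d7eeb0e42313dd7ea7245fa72b03dea850d5e11f216c0b4bd3313f65e95bd5c34834f51bc56e083f7ad68a0a4b697ecfcdd61715ff232db8c80580b27417c7bcfa3125a6ea601dfcb4e06056f73c709bb96ee71c23d41b093b0b746fb79ee0f1a0fd52550cdf536081046e500, 1023, 3, 51, 107),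
  (0x331c9e74de73a249e9cff936d943b2601e95b02edf51d8cdbfb2f18f9b3d2f99f77132b296d625ef8985c122ea0bd48b81d008a7a1861a48f4ab3a78a536b172738f751bc69f2691dc286a8fb4186de5baec2acb7ca46fbf6184519026655ce452aed59317b67347ff7c6e46bd8c8d8cc18eddbc9695ee86e80ad6b2d2702e334027b2c4ebe0dd12cc53d8d9853f89970a47941fd89dabdab6f83e972a59c24ff634cdb15f9d1a73e4a46c409f1095dacf401df724934e9667eb5491f366827587005e70b15f5d8baafd8e296c6e86a7b60bc6c022b0558a3581fcfc42e976ffc06aa3c48f68f57a4f2e64924268d35fe4f827486c26b207b38e50895df0dc3f00, 8191, 4, 54, 149),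
  (0x2ceda96400cc9a3070b5e7d1cbe91a2054b5daae54fcbd34ecff8eb15e9e5bd6874d6cb04d262cd85b152a96c91c50ee6339c9137ac8d86db03ac51163749588ee6e4c6084fe30dee44d138147614cf77a4b99420bf880a86b6f2209fbb1d7c6473ce19553b747b26f9e4bfb0898eff7bbf74a87a5a393e630c19dfc9d5ca01326bd688e8cd747a1d9318a69280b0229769b1b01c0c94c4b631c1d49bd144838395eb24a1da5eaed04fd2f244ca5a96dac3f97ec1c088c16f167a90d71ead958422b85f5cfd89b8375a2a6e6d0d7108ec25e2737f18216b91f8d880508c735189f26e30d03f177e42ccfba9fc07a5cc805f9d07736e5e0994ccbe74f12102813a79678f1d4750089656029927006571e53af8d00, 65535, 5, 56, 212),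
  (0x1d842c297811064146d9567d7ba389010ba51f2ff29975edcfb51b5e11d994961203f3dd9d072348f7e95136ab290f897bc3153efc4aaa7248ffbabf0f3868ad5940d86d2e1f6583d789f5b462fea6a8fe0ab97c6a9a44a298a58b88e061d6236418b72b56d720c9993db306f92862ed6b82b9c77c1ee0eed357a62d10602a3816f1c556e11192bb5e2dbcbe4c16c0f7317c20eac7f6cbb8da70d351dc322834d8aa19702c2ec3f57f2d6fd3a181ca872f162824c020cb71386c53bfbe1bd16f9b5949fc49761276352e8a83462de91da2fdc3130f148ab431aa1caaf6ab522e8e272d8ad9cede09b19fb1d9b2209756ecfd463cc8a2a127c312fb11f458087a187f00, 524287, 6, 59, 300),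
  (0x4b770240559c4200b087f1f6c7b0b73a5b9072f36a6784de635187c074d2dd3858bffb06595516e7a808095bb7cfe411912678fd253f60c36f83031a5cee646b0609634bd1079899b64863331a25977bb1cd114b3bb35f43506384c77b1893700626f1560cd9e4f6b201e4daa4befe9effe06268b06d3a3c92a545d43a4106c10950b43022f00804a177f42c20a7fdbf70f336c1711f582d350e64df4e88c4c394a4dfdeb16435df7eced818fa2943b7102bcd5efe9e261a6e71e2b9392e9bd65b47d6aecaa3372e464bc34d85cd5240a39eda2020e5bc054bef54d98dac3fd41c7a848862e3025dbd294db06a5c288fdcfc0bd6d5e83c551dd3abe9ed9002f089c275158effbc535849418a2c91931f100, 4194303, 7, 64, 1024),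
  (0x65c7891819d9fbc4b3ff798c11b6f126d73da7f9de272ea1b690ec54ab009846906c24e011bd436f190c31bf9fabd6b6934c2b427d2a9a081cf6f80091661e7845fa914dfe65580652feb5bc7dfb271f2f8c232731bb4d468a54c04b96d667206f232da7bc8df5bab8dca3cd98ce6a9585eff00dafc00a6f0d81d4adeaa272a20cea3858d995280c4f32fc7079f415ec27be744803132a9f6c87856b, 17179869183, 11, 69, 2577),
  (1, 1, 17, 71, 1582),
  (1, 1, 19, 79, 10177)]

end Cfsg.Agent.R2.Spec.FIN
end

private theorem dce_73fe748b57a7 : _root_.True := by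
  try have : _root_.True := by simp only [_root_.Cfsg.Agent.R2.Spec.FIN.tstE4.eq_1]
  try have : _root_.True := by simp only [_root_.Cfsg.Agent.R2.Spec.FIN.chkM4.eq_1]
  try have : _root_.True := by simp only [_root_.Cfsg.Agent.R2.Spec.FIN.chkT4.eq_1]
  try have : _root_.True := by simp only [_root_.Cfsg.Agent.R2.Spec.FIN.ex4.eq_4]
  try have : _root_.True := by simp only [_root_.Cfsg.Agent.R2.Spec.FIN.ex4.eq_6]
  try have : _root_.True := by simp only [_root_.Cfsg.Agent.R2.Spec.FIN.ex4.eq_5]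
  try have : _root_.True := by simp only [_root_.Cfsg.Agent.R2.Spec.FIN.ex4.eq_2]
  try have : _root_.True := by simp only [_root_.Cfsg.Agent.R2.Spec.FIN.ex4.eq_3]
  try have : _root_.True := by simp only [_root_.Cfsg.Agent.R2.Spec.FIN.ex4.eq_7]
  try have : _root_.True := by simp only [_root_.Cfsg.Agent.R2.Spec.FIN.tstP.eq_1]
  try have : _root_.True := by simp only [_root_.Cfsg.Agent.R2.Spec.FIN.ex4._sparseCasesOn_1.else_eq]
  try have : _root_.True := by simp only [_root_.Cfsg.Agent.R2.Spec.FIN.tstV4.eq_1]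
  try have : _root_.True := by simp only [_root_.Cfsg.Agent.R2.Spec.FIN.pre.eq_1]
  try have : _root_.True := by simp only [_root_.Cfsg.Agent.R2.Spec.FIN.ex4.eq_1]
  exact _root_.True.intro
end

-- part: R2/Spec/FIN/S4b_mg
section
set_option linter.all false

-- part: R2/Spec/FIN/S4b
section
/-! # S3435, packet FIN, small ranks: the search (helper7) -/

set_option autoImplicit false

namespace Cfsg.Agent.R2.Spec.FIN


theorem oplus5_all {q : ℕ} (h3 : 3 ≤ q) (ho : q % 2 = 1) (hq : q < 2 ^ 15) : chkT4 4 (2 ^ 10) (.oplus 5) q = true :=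
  all4 (C := 1024) (dm := 1) (D := 5) (i := 5) (j := 8) (c := 32768) (t := .oplus 5)
    (fun q => Nat.div (Nat.sub (Nat.pow q 5) 1) (Nat.gcd 4 (Nat.sub (Nat.pow q 5) 1)))
    (fun q => Nat.div (Nat.mul (Nat.add (Nat.pow q 4) 1) (Nat.add q 1)) (Nat.gcd 4 (Nat.sub (Nat.pow q 5) 1)))
    bk4a (by decide) rfl (by decide) (fun _ => Nat.le_refl 1) rfl (fun _ => rfl) (fun _ => rfl) (by decide +kernel) h3 ho hq

end Cfsg.Agent.R2.Spec.FIN
end

-- part: R2/Spec/FIN/S4c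
section
/-! # S3435, packet FIN, small ranks: the search (helper7) -/

set_option autoImplicit false

namespace Cfsg.Agent.R2.Spec.FIN


theorem oplus6_all {q : ℕ} (h3 : 3 ≤ q) (ho : q % 2 = 1) (hq : q < 2 ^ 15) : chkT4 4 (2 ^ 10) (.oplus 6) q = true :=
  all4 (C := 1024) (dm := 1) (D := 5) (i := 5) (j := 10) (c := 32768) (t := .oplus 6)
    (fun q => Nat.div (Nat.sub (Nat.pow q 5) 1) (Nat.gcd 2 (Nat.sub q 1)))
    (fun q => Nat.div (Nat.add (Nat.pow q 5) 1) (Nat.gcd 2 (Nat.sub q 1)))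
    bk4a (by decide) rfl (by decide) (fun _ => Nat.le_refl 1) rfl (fun _ => rfl) (fun _ => rfl) (by decide +kernel) h3 ho hq

end Cfsg.Agent.R2.Spec.FIN
end
end

-- part: R2/Spec/FIN/S4d_mg
section
set_option linter.all false

-- part: R2/Spec/FIN/S4d
section
/-! # S3435, packet FIN, small ranks: the search (helper7) -/

set_option autoImplicit false

namespace Cfsg.Agent.R2.Spec.FIN


theorem ominus5_all {q : ℕ} (h3 : 3 ≤ q) (ho : q % 2 = 1) (hq : q < 2 ^ 15) : chkT4 4 (2 ^ 10) (.ominus 5) q = true :=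
  all4 (C := 1024) (dm := 1) (D := 5) (i := 10) (j := 8) (c := 32768) (t := .ominus 5)
    (fun q => Nat.div (Nat.add (Nat.pow q 5) 1) (Nat.gcd 4 (Nat.add (Nat.pow q 5) 1)))
    (fun q => Nat.div (Nat.mul (Nat.add (Nat.pow q 4) 1) (Nat.sub q 1)) (Nat.gcd 4 (Nat.add (Nat.pow q 5) 1)))
    bk4a (by decide) rfl (by decide) (fun _ => Nat.le_refl 1) rfl (fun _ => rfl) (fun _ => rfl) (by decide +kernel) h3 ho hq

end Cfsg.Agent.R2.Spec.FIN
end

-- part: R2/Spec/FIN/S4e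
section
/-! # S3435, packet FIN, small ranks: the search (helper7) -/

set_option autoImplicit false

namespace Cfsg.Agent.R2.Spec.FIN


/-- the blocks -/
noncomputable def bk4b : List (ℕ × ℕ × ℕ × ℕ × ℕ) :=
  [(1, 0, 0, 17, 1),
  (1, 0, 0, 20, 1),
  (1, 0, 0, 24, 2),
  (1, 0, 0, 27, 2),
  (1, 0, 0, 30, 3),
  (1, 0, 0, 33, 5),
  (1, 0, 0, 36, 7),
  (1, 0, 1, 39, 9),
  (1, 0, 1, 43, 14),
  (1, 0, 2, 46, 19),
  (1, 0, 2, 49, 27),
  (0x4b715a8ec1f3efc5d8fa69fd28352f296d5be7964386aa2731413a67e66871cdbc0d9e0c17f6c1d76ef4e07aaa7506d1d4763b59357ec1eaf945048cca47c044b6d8e823471be5c8fc4e0ed620ea843523ca056c26b8004dbc6b7ce96956054548bcb1675d9190e4d1765bbf2f6b3c1f9efbf6f5f901b0b9bbe779439a29ecd9e57372da3f0d104ec959803ba220b7dc11af55fb1e711aa34566fc81e0ab64bfae9d10cd3153a24d62517c1d0f98eaaf7f5cf4f57b64578a2a7ffe64409d987b158aae0d4e00529f02621bd1f3d4f6a1a2caec616ee79930cfe055249bdff3dff587da8b2aea49caedda1573026597e354c4cdd700eae8e12fab0a47d442c143e67cee76a7c06e24c3098de0ef70020ee6174ea94df50930f9100,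 1023, 3, 52, 37),
  (0x1cc7be8dc377231cf0fc2fc3a1bb7fc643c04663608e6964c9dde3e41a59011d5378dbb745cc2e454e026aa5bd1fb0073d5842fb0508ee295b443dbb0f51b9b31c8523865e1a7fe01138280b8a1821d0176bfaefcb45c643d3aba08055a11ab0dd008b695c1ccf5050d130230205e484c4ae993eee749b85398bf48ccba46a3172fea95cb90716f4063cbdf4a251b28ebc949d7e4424e8fedb278af5e2dee125ae9349f43d2e6144212b989e01f6eab325df224d267f7749babdf1a056a2fc2fa42db5723a94ca3ac29ea4d4d869de445593fd658cbf1ef4e2a2e3915ffc5263f0e82bdd70facaf2fbefe39c741ff3b381b1fea20440b74303f61af7a77a0544b805e4e9c507b35f9bcec598984be5f3109f23e0bac2aed02e5a3700, 8191, 4, 55, 53),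
  (0x1d842c297811064146d9567d7ba389010ba51f2ff29975edcfb51b5e11d994961203f3dd9d072348f7e95136ab290f897bc3153efc4aaa7248ffbabf0f3868ad5940d86d2e1f6583d789f5b462fea6a8fe0ab97c6a9a44a298a58b88e061d6236418b72b56d720c9993db306f92862ed6b82b9c77c1ee0eed357a62d10602a3816f1c556e11192bb5e2dbcbe4c16c0f7317c20eac7f6cbb8da70d351dc322834d8aa19702c2ec3f57f2d6fd3a181ca872f162824c020cb71386c53bfbe1bd16f9b5949fc49761276352e8a83462de91da2fdc3130f148ab431aa1caaf6ab522e8e272d8ad9cede09b19fb1d9b2209756ecfd463cc8a2a127c312fb11f458087a187f00, 524287, 6, 58, 75),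
  (0x14937b2d5c6f8d6098959cd55325840ac9c7584cf1d7d2bd399e27ff466c8cbad5889242bb619dd7b6cbdb41b260a270eecb3e0d3c0752081eceec9a61423622923be9b0089446180dc2788043eaf8930b310d313610abbb05650e83829fbe9bc0b291b1a2beb82e04895d0c92ba6918a486bc3d27e8d986ee1516b7c338951391e9b0d0a06d644ca1782869dc6df02a30e8b6d36d29d3939f009eafe6d65accb5c35d68b2572421cd4ac9ae91d6c6f38733363eb3507707444345aec5208c9b951cda6120, 33554431, 8, 61, 107),
  (0x4642ee0a9857dcbb783751ada6ffce41ce12818f4a40da86c3831cd26a484544e20b7aed9ef45e659e2f914495da6e38a762f4c3b29dd628250080e9dfdd2d34f0c359ec77eaecfe8a5f880ba69aa49cc7cf2a30ae6aaa32cf346e668bdac3d2c112631bb68335e0ccc0a36f59cfe96b020c980a0c0af825ccf2838898cd601864a6f1ff9a2365eb8a6ef0e6f690b51e44bbe0486c83aca8dae831e30d7a872dd25e4ab45b5795ad9b1a301d4fe262cc6ac9847580f2a6b60d5d0f, 2147483647, 10, 66, 283),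
  (1, 1, 16, 67, 166),
  (1, 1, 19, 76, 1236)]

theorem ominus6_all {q : ℕ} (h3 : 3 ≤ q) (ho : q % 2 = 1) (hq : q < 2 ^ 12) : chkT4 4 (2 ^ 15) (.ominus 6) q = true :=
  all4 (C := 32768) (dm := 1) (D := 6) (i := 12) (j := 10) (c := 4096) (t := .ominus 6)
    (fun q => Nat.div (Nat.add (Nat.pow q 6) 1) (Nat.gcd 4 (Nat.add (Nat.pow q 6) 1)))
    (fun q => Nat.div (Nat.mul (Nat.add (Nat.pow q 5) 1) (Nat.sub q 1)) (Nat.gcd 4 (Nat.add (Nat.pow q 6) 1)))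
    bk4b (by decide) rfl (by decide) (fun _ => Nat.le_refl 1) rfl (fun _ => rfl) (fun _ => rfl) (by decide +kernel) h3 ho hq


/-- the blocks -/
noncomputable def bk4c : List (ℕ × ℕ × ℕ × ℕ × ℕ) :=
  [(1, 0, 0, 17, 1),
  (1, 0, 0, 20, 1),
  (1, 0, 0, 24, 2),
  (1, 0, 0, 27, 2),
  (1, 0, 0, 30, 3),
  (1, 0, 0, 33, 5),
  (1, 0, 0, 36, 7),
  (1, 0, 0, 39, 9),
  (1, 0, 1, 43, 14),
  (1, 0, 1, 46, 19),
  (1, 0, 1, 49, 27),
  (1, 0, 2, 52, 37),
  (0x64ece3048bb878946cd7d95381e51df89eade0129817ad519fcebf046a6b771b3a510bef3276f072cbfb8fcbcf70c18c442c44473f296de7206908a2d7eb79aa894e9ec96667bb3f896dabcbc44b3f46f42829c47f77c07e3917179366c218e0f4ecbecf1f6da1689e27db8e2c4f28dc8374878ea2fd6399bb8cbd9e6850518b60a525b9cd0785a62f3d443f307879a04215c2d84605749184d3a5ad01a234b699529ff8d899834d56ac0ec292df4b4dd06ae2ff8bfce537213cdf68e9c459c5873fcab6d5ac1e4abb0535611a52981a15a96a602527c86200283fc91ad115d406008b1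47b28ebb52e2c0186ce1258ba704ea657a2b19f7e324b10d97f8087f66f58d03870f895072cbc07e5df70ba3b9f0da5f19e5ba40490d4ac6735ca90e6400a22b0e19df47b2d11336d7d3ed6c8edbc9b2eb832f75869e9125c9e3820aabd72b2e4a2c9e0f131faef737a78b1777c01b8afbb96b1e0d44a79f6b7108e279e475bb9f1dd20d34a6be92aa93ddab93bf8a978ce20ff061184c97e12cf10bb23eee814533cee5d6f21258b606e75742f0bf88ea4eb011b29d3e57e03384d95afcf7ac9b04015de795bea1d4228e870ef7f500d1d6c5eda371dd3cea0d20f00520a8bc135e8648aff51949a8eea5cbf2dfe4fc8fbabed7d85b0cc7a20f6312838dd8b64b066eff7429ad2d76666c5106d4d547fc29fa8a7db500, 127, 2, 55, 53),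
  (0x5e8666a8bb2553eefe3b4811ae8a73e7b2c8360bb1b42089132b4851ffeed46cac7514aced572d58dbf22016a37e4af92fdff1f6ae80ac956e2faef6cda9916cf5c6b45cee476cef2e0e0887b2504a6516c6a945332b81d4753455cd72c417ccacd1a110d099783858698aa47642316bd7209ab95c3d4297750296f8d056b41676743eb5d4b4b8603281b30d08ef9823dd5104b9c887c6cef9997dde8b62601976ae145dbf2e5b024ae50e667138aa6c4908876ecd872854040d570fb014f67e1d59510c6f965a22510af8ef8b90c00d5a9f0f3a28f0e4c1e5f8f32caf39cbd593655eb5276c441d3b628af2db174ddb9c1df273097717857007f54253a493a7b089bb0501b2c83b972bbf40df0ef4ccd346ba47665456d89e683f464c54aa4e860787dd662d6ebe2dbac7b1404d3137d74ee700b5361d9a8e5a1ee44251a1a7242f08d149f4aa3d35cfb2e50517198db3484e0d8626bf04df0ef904c63d6f6381d2581e916d331350c35804168a55a6c38410bc2ad4578d2baf8a31e1cf36c066d303aea2df60bb42b5d03f8290ac1557f0b1ce20a4b253a2aba871367b7d100a2cd92fe25cb89b6df131fc2acedc8b00, 1023, 3, 58, 75),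
  (0x4614746fbc2739b24223bae95761d649cb035078342f5f04820bbd7b90225e4d42a3625686b46972a425b5a9fb49e2edd726fced5e0fd3afcce1b2f5f56117bd94e4c345b0e9c1072e016c87d049f3c0f80fd3367be8c12e89775907fc2112b138f5c40385c8b145e005b8b06d1c31fe9f0d4631090aed03e5ea23d97aad76bd49ededfed543438575384926de04a9b4dbedc7712f62fd436a69ed974b357ab79fa575c0a823161c4df7142c3b88a925aafdf1c4719776304c7ee32c67ecfef6812e8d35ebf03a5385b6bba8c593477ceab5890f1c83fc8fc50a7356eb28158c0403c4b2086e2783986f147e9e877293a9e32b229f81963bb84bf5821579a951ac18ac388162dcf43e81d678576b4c7870331af0782ca58fa3113e62acca6ea31f542bfe52659c051352da28728b4fc10be4cd0b82d70c2f4754cfddc3feed8ca3fd30741bb78f9c8a60f85d243fcf73141b87c9e1d9c2f6386bf15fa9d4259f3aba302fb3280f953871059310342de0e5b3219a600285f7515367992927c0bbc5d14dd9c0f23517af00, 8191, 4, 61, 107),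
  (0x1f1f5ba63b8132e4c0625595455420944c13874e2dd9d41303f5b3ec04798294fde50eccc3edb56298ec05f8d2783f9f6a01e7bcc129419d16dc687e800535501f93780c8959c55c66b6c4ed96566e99089b438ec690b463b1600b7bc9006f3707b3e14d049af457915c22a99d11a2ba3445330876e25d2d4343b2249280634e0ece1e7360ef8070ac99adcb7ff51f72bcc5d6fd7f71eb6d0916adc8b93b35324af8ec66715b899eeaa66181c1a64a582303fa93a00b32655556fe797a6964352f5eee47862ad40777e18501e797a3990ef740622bdfdbd849ce12c792bfc9c2611002f40bf25bdc982c0b53a37944554d8573fba26468f15e3e5bb606a9648d5a18913f36c617d83a99d5cb329c64ae5ca5991c73c44e1c7255a9df0e159db2bea7651badd6f90edd0dc5abdd5fe83d2cdc45159b9b3b306763e3171d00, 524287, 6, 64, 149),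
  (0x1ca930888a51fafd6c8b6af2f9c5969c63f1dfb7e27d178f68af3e0b77745fc170993ed786b04dff53b377040fc00adec3b2ea68dd7328cc5d2937f09b008497fff9762660ef627337957e32b0dd4b8fe9c0aa509fcfdeba24ee1e16444d34afe469f4536534676cf929f8b35eb98d179f57ae3a7a8f24923c1815d023611aa203f05432a06484d3163752af6011ed4bccd8d47b17e1259d0176bd7845d67e701d4e644fbeb90b7ea4b4a74b6bd601fa7be2da36705f6314ae6c14ad805460eca6d53f27e5907b456f3cc9d2efdfb198fde7ea614e0eade2a36ad616cdf8bb24eca640b34ee128958e5f6c69d6f4ee9e6841e7e9e172e01762b5524d0282d23c70811974033d2d8488f38cd7835d55f6097c30abfffc311df0a445a7c0, 33554431, 8, 67, 212),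
  (0xc4593b7f16f35e6b018429b15aef044f0667f41bb951e4693ced67a4ad9671e961add7717fce984b6fb4fc8d6adb4b48390789265ff7d20fc16ff902d4c01f0473faa5b1151ce152831f63b04b734e18420d7578c8c9dacf56ac6a95db6b64287b6e10f60995a147de53c5ebff87b2949a24ac4989b61d7c742bfdeb85865f78290c6f5127651b6892f1936d4c8be8392396fb09d44bdcb1d1859d1e66087ab9131d174461acf99735a81c09e7edf75f5b5571c14e1fbb8f4f3362a59868e672a3e46bd7e57c857aaa876b9b9f94fdd229b15dee196737ed36b3c3f2bcb57193e0ffe04363f684ef9907ecff05eda0f968c9f2c7132636f317e81b3376cf0a08fc790732bd43b15ee8a0, 2147483647, 10, 70, 300),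
  (0xb400edc33942f7c3d2ca0cb27b4ba96995ac0039fd4c5f6abefbf1111177df2a02838870c39417630bb58cd7223d1b3db768526b3dfdc2ac2dcaf5e794059a5f8a857dadca48abd094818aef73b52f167f7c2c16ab6bb526289fafd47474520e013b5b4db87a8d7a37eac13e041dc3c5e49176b4185253e53c1187ff0e637d110c98bb60815d8c6c039bfb7cc24effd3, 1099511627775, 13, 72, 420),
  (1, 1, 18, 75, 603),
  (1, 1, 23, 82, 2049)]

theorem psl7_all {q : ℕ} (h3 : 3 ≤ q) (ho : q % 2 = 1) (hq : q < 2 ^ 13) : chkT4 4 (2 ^ 15) (.psl 7) q = true :=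
  all4 (C := 32768) (dm := 7) (D := 6) (i := 7) (j := 6) (c := 8192) (t := .psl 7)
    (fun q => Nat.div (Nat.sub (Nat.pow q 7) 1) (Nat.mul (Nat.sub q 1) (Nat.gcd 7 (Nat.sub q 1))))
    (fun q => Nat.div (Nat.sub (Nat.pow q 6) 1) (Nat.gcd 7 (Nat.sub q 1)))
    bk4c (by decide) rfl (by decide) (fun _ => Nat.gcd_le_left _ (by decide)) rfl (fun _ => rfl) (fun _ => rfl) (by decide +kernel) h3 ho hq


theorem psu7_all {q : ℕ} (h3 : 3 ≤ q) (ho : q % 2 = 1) (hq : q < 2 ^ 13) : chkT4 4 (2 ^ 15) (.psu 7) q = true :=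
  all4 (C := 32768) (dm := 7) (D := 6) (i := 7) (j := 6) (c := 8192) (t := .psu 7)
    (fun q => Nat.div (Nat.add (Nat.pow q 7) 1) (Nat.mul (Nat.add q 1) (Nat.gcd 7 (Nat.add q 1))))
    (fun q => Nat.div (Nat.sub (Nat.pow q 6) 1) (Nat.gcd 7 (Nat.add q 1)))
    bk4c (by decide) rfl (by decide) (fun _ => Nat.gcd_le_left _ (by decide)) rfl (fun _ => rfl) (fun _ => rfl) (by decide +kernel) h3 ho hq


/-- the blocks -/
noncomputable def bk4d : List (ℕ × ℕ × ℕ × ℕ × ℕ) :=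
  [(1, 0, 0, 20, 1),
  (1, 0, 0, 23, 1),
  (1, 0, 0, 28, 2),
  (1, 0, 0, 31, 2),
  (1, 0, 0, 34, 3),
  (1, 0, 0, 38, 5),
  (1, 0, 1, 42, 7),
  (1, 0, 1, 45, 9),
  (1, 0, 2, 49, 14),
  (1, 0, 3, 53, 19),
  (0x2ceda96400cc9a3070b5e7d1cbe91a2054b5daae54fcbd34ecff8eb15e9e5bd6874d6cb04d262cd85b152a96c91c50ee6339c9137ac8d86db03ac51163749588ee6e4c6084fe30dee44d138147614cf77a4b99420bf880a86b6f2209fbb1d7c6473ce19553b747b26f9e4bfb0898eff7bbf74a87a5a393e630c19dfc9d5ca01326bd688e8cd747a1d9318a69280b0229769b1b01c0c94c4b631c1d49bd144838395eb24a1da5eaed04fd2f244ca5a96dac3f97ec1c088c16f167a90d71ead958422b85f5cfd89b8375a2a6e6d0d7108ec25e2737f18216b91f8d880508c735189f26e30d03f177e42ccfba9fc07a5cc805f9d07736e5e0994ccbe74f12102813a79678f1d4750089656029927006571e53af8d00, 65535, 5, 56, 27),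
  (0x14937b2d5c6f8d6098959cd55325840ac9c7584cf1d7d2bd399e27ff466c8cbad5889242bb619dd7b6cbdb41b260a270eecb3e0d3c0752081eceec9a61423622923be9b0089446180dc2788043eaf8930b310d313610abbb05650e83829fbe9bc0b291b1a2beb82e04895d0c92ba6918a486bc3d27e8d986ee1516b7c338951391e9b0d0a06d644ca1782869dc6df02a30e8b6d36d29d3939f009eafe6d65accb5c35d68b2572421cd4ac9ae91d6c6f38733363eb3507707444345aec5208c9b951cda6120, 33554431, 8, 60, 37),
  (0xc000f1b3fe2434cc47ddcaa993a61a8e849c95a72c2cd86a9f009d40575aab5cfcb5413a9d0097307b9fe71618a6cd6dbac917ec26e282a5d3ba3afa2add302c108b0633d0d013458ab1773472d71a3fd20f0003, 17179869183, 11, 63, 53),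
  (1, 1, 16, 67, 101),
  (1, 1, 24, 74, 230)]

theorem psl8_all {q : ℕ} (h3 : 3 ≤ q) (ho : q % 2 = 1) (hq : q < 2 ^ 10) : chkT4 4 (2 ^ 15) (.psl 8) q = true :=
  all4 (C := 32768) (dm := 8) (D := 7) (i := 8) (j := 7) (c := 1024) (t := .psl 8)
    (fun q => Nat.div (Nat.sub (Nat.pow q 8) 1) (Nat.mul (Nat.sub q 1) (Nat.gcd 8 (Nat.sub q 1))))
    (fun q => Nat.div (Nat.sub (Nat.pow q 7) 1) (Nat.gcd 8 (Nat.sub q 1)))
    bk4d (by decide) rfl (by decide) (fun _ => Nat.gcd_le_left _ (by decide)) rfl (fun _ => rfl) (fun _ => rfl) (by decide +kernel) h3 ho hq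


theorem psu8_all {q : ℕ} (h3 : 3 ≤ q) (ho : q % 2 = 1) (hq : q < 2 ^ 10) : chkT4 4 (2 ^ 15) (.psu 8) q = true :=
  all4 (C := 32768) (dm := 8) (D := 7) (i := 8) (j := 7) (c := 1024) (t := .psu 8)
    (fun q => Nat.div (Nat.sub (Nat.pow q 8) 1) (Nat.mul (Nat.add q 1) (Nat.gcd 8 (Nat.add q 1))))
    (fun q => Nat.div (Nat.add (Nat.pow q 7) 1) (Nat.gcd 8 (Nat.add q 1)))
    bk4d (by decide) rfl (by decide) (fun _ => Nat.gcd_le_left _ (by decide)) rfl (fun _ => rfl) (fun _ => rfl) (by decide +kernel) h3 ho hq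

end Cfsg.Agent.R2.Spec.FIN
end
end

-- part: R2/Spec/FIN/Chk3
section
set_option linter.all false
open scoped Cfsg.Agent.FastGrp

/-!
# S3435, packet FIN, small ranks: the search for `S = PSp_6(u)`, `Omega_7(u)`, `POmega^+_8(u)` (helper7)
-/

set_option autoImplicit false

namespace Cfsg.Agent.R2.Spec.FIN

open Cfsg.Agent.H426.LieFam Cfsg.Agent.R2.Spec Cfsg.Agent.R2.Spec.P1 Cfsg.Agent.R2.Spec.E Cfsg.Agent.R2.Spec.F1

/-- the test for `v` -/
noncomputable def tstV3 (M N q i : ℕ) (neg : Bool) (f' v : ℕ) : Bool :=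
  npB v || Nat.beq (q % v) 0 || Nat.beq (M % v) 0 ||
    force (v ^ f') fun u => force (u ^ 3) fun x =>
      (Nat.blt 0 ((2 * M) % (x + 1)) || tstP M N q i neg 4 u (ttor (.psp 3) u 6)) &&
      (Nat.blt 0 ((2 * M) % (x - 1)) || tstP M N q i neg 4 u (ttor (.psp 3) u 3))

/-- the test for `M` -/
noncomputable def chkM3 (C M N q D d i : ℕ) (neg : Bool) : Bool :=
  force (Nat.log2 (8 * M) / 3) fun fm => !(szB C q D d fm) ||
    allTo (fun k => force (k + 1) fun f' => !(szB C q D d f') ||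
      loopV (tstV3 M N q i neg f') (3 * f') (8 * M) 50000 2) fm

/-- the test for one family -/
noncomputable def chkT3 (C : ℕ) (t : Fam) (q : ℕ) : Bool :=
  !(ppB q) || (pairsL t).all fun x =>
    force x.1 fun i => force (ttor t q i) fun M => force (ttor t q x.2) fun N => force (dimL t) fun D =>
      force (dgL t q) fun d => chkM3 C M N q D d i (ng t)

theorem chkM3_sound {C M N q D d i : ℕ} {neg : Bool} {f' v : ℕ} (hf : 1 ≤ f') (hv : v.Prime)
    (hvq : ¬ v ∣ q) (hvM : ¬ v ∣ M) (hB : (v ^ f') ^ 3 ≤ 8 * M)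
    (hs : q ^ D ≤ C * d * (f' ^ 4 * (q + 1) ^ 3)) (h : chkM3 C M N q D d i neg = true) :
    (Nat.blt 0 ((2 * M) % ((v ^ f') ^ 3 + 1)) = true ∨
      tstP M N q i neg 4 (v ^ f') (ttor (.psp 3) (v ^ f') 6) = true) ∧
    (Nat.blt 0 ((2 * M) % ((v ^ f') ^ 3 - 1)) = true ∨
      tstP M N q i neg 4 (v ^ f') (ttor (.psp 3) (v ^ f') 3) = true) := by
  have h1 : f' * 3 ≤ Nat.log2 (8 * M) := by
    apply le_log2_of_pow
    calc 2 ^ (f' * 3) ≤ v ^ (f' * 3) := Nat.pow_le_pow_left hv.two_le _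
      _ = (v ^ f') ^ 3 := pow_mul _ _ _
      _ ≤ 8 * M := hB
  have h2 : f' ≤ Nat.log2 (8 * M) / 3 := by
    rw [Nat.le_div_iff_mul_le (by norm_num)]
    exact h1
  have h3 : szB C q D d (Nat.log2 (8 * M) / 3) = true := by
    rw [szB_iff]
    exact hs.trans (Nat.mul_le_mul_left _ (Nat.mul_le_mul_right _ (Nat.pow_le_pow_left h2 4)))
  rw [chkM3, force_eq, h3, Bool.not_true, Bool.false_or] at h
  have h4 := allTo_sound h (f' - 1) (by omega)
  rw [force_eq, show f' - 1 + 1 = f' by omega, szB_iff.2 hs, Bool.not_true, Bool.false_or] at h4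
  have h5 := loopV_sound h4 v hv.two_le (by rw [mul_comm, pow_mul]; exact hB)
  have hne : ∀ {a : ℕ}, ¬ v ∣ a → Nat.beq (a % v) 0 = false := by
    intro a ha
    by_contra hcon
    rw [Bool.not_eq_false, beq_iff] at hcon
    exact ha (Nat.dvd_of_mod_eq_zero hcon)
  rw [tstV3, npB_sound hv, hne hvq, hne hvM, Bool.false_or, Bool.false_or, Bool.false_or, force_eq, force_eq,
    Bool.and_eq_true, Bool.or_eq_true, Bool.or_eq_true] at h5
  exact h5

theorem chkT3_sound {C : ℕ} {t : Fam} {q i j : ℕ} (hpp : ppB q = true) (hp : PairOK t i j)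
    (h : chkT3 C t q = true) : chkM3 C (ttor t q i) (ttor t q j) q (dimL t) (dgL t q) i (ng t) = true := by
  rw [chkT3, hpp, Bool.not_true, Bool.false_or, List.all_eq_true] at h
  have h2 := h (i, j) (mem_pairsL hp)
  rw [force_eq, force_eq, force_eq, force_eq, force_eq] at h2
  exact h2

theorem chkT3_oodd {C n q : ℕ} : chkT3 C (.oodd n) q = chkT3 C (.psp n) q := rfl

/-- the groups `S` -/
def S3 (t : Fam) : Prop := t = .psp 3 ∨ t = .oodd 3 ∨ t = .oplus 4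

theorem ttor_s3 {t : Fam} {u i : ℕ} (ht : S3 t) (hi : top t i) :
    (i = 6 ∧ ttor t u i = ttor (.psp 3) u 6) ∨ (i = 3 ∧ ttor t u i = ttor (.psp 3) u 3) := by
  rcases ht with rfl | rfl | rfl
  · rcases (show i = 2 * 3 ∨ (i = 3 ∧ 3 % 2 = 1) from hi) with rfl | ⟨rfl, -⟩
    · exact Or.inl ⟨rfl, rfl⟩
    · exact Or.inr ⟨rfl, rfl⟩
  · rcases (show i = 2 * 3 ∨ (i = 3 ∧ 3 % 2 = 1) from hi) with rfl | ⟨rfl, -⟩
    · exact Or.inl ⟨rfl, rfl⟩
    · exact Or.inr ⟨rfl, rfl⟩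
  · rcases (show (i = 4 ∧ 4 % 2 = 1) ∨ i = 2 * (4 - 1) ∨ (i = 4 - 1 ∧ 4 % 2 = 0) from hi) with ⟨-, h⟩ | rfl | ⟨rfl, -⟩
    · omega
    · exact Or.inl ⟨rfl, rfl⟩
    · exact Or.inr ⟨rfl, rfl⟩

theorem rk_s3 {t : Fam} (ht : S3 t) : rk t ≤ 4 := by
  rcases ht with rfl | rfl | rfl
  · change 3 ≤ 4; norm_num
  · change 3 ≤ 4; norm_num
  · exact le_refl 4

/-- **`S = PSp_6(u)`, `Omega_7(u)`, `POmega^+_8(u)`.** -/
theorem three_gen {C L : ℕ} {t : Fam} {p f i j : ℕ} {t' : Fam} {v f' i' j' w H : ℕ} {S : Type*} [Group S]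
    [Finite S] (h5 : 5 ≤ rk t) (hD5 : 5 ≤ dimL t) (hdm : ∀ q, dgL t q ≤ 1)
    (hD : Duel t p f i j t' v f' i' j' w H S) (hr : S3 t')
    (hs : SizeB C t p f f') (hL : 2 ≤ L) (hL18 : L ≤ 18)
    (h0 : (64 * C * 1) * (dimL t * L + dimL t + 3) ^ 4 < (27 * 3 ^ 4) * 2 ^ (L * (dimL t - 3)))
    (hT : ∀ q, 3 ≤ q → q % 2 = 1 → q < 2 ^ L → chkT3 C t q = true) (hmem : j' ≤ 2 * rk t') : False := by
  obtain ⟨hq3, hqodd⟩ := f_q hD.p_prime hD.p_ne hD.f_pos
  have hu : 2 ≤ v ^ f' := hD.v_prime.two_le.trans (Nat.le_self_pow (by have := hD.f'_pos; omega) v)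
  have hM0 : ttor t (p ^ f) i ≠ 0 := fun h0 => hD.vM (by rw [h0]; exact dvd_zero v)
  have hH0 : 1 ≤ H := by
    by_contra hcon
    have h0 : H = 0 := by omega
    apply hM0
    rw [hD.eqM, h0, zero_mul]
  obtain ⟨e1, e2⟩ := val_psp (n := 3) (q := v ^ f') (by norm_num) hu
  have hg4 : Nat.gcd 2 (v ^ f' - 1) ≤ 4 := (Nat.gcd_le_left _ (by norm_num)).trans (by norm_num)
  have hg2 : Nat.gcd 2 (v ^ f' - 1) ∣ 2 := Nat.gcd_dvd_left _ _
  have hPe : (v ^ f') ^ 3 ≤ 8 * ttor t' (v ^ f') i' := by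
    rcases ttor_s3 (u := v ^ f') hr hD.topi' with ⟨-, h⟩ | ⟨-, h⟩
    · rw [h]
      exact aux_sp (e := 3) hu (by norm_num) hg4 (by rw [show (6 : ℕ) = 2 * 3 from rfl, e1]; omega)
    · rw [h]
      exact aux_sp (e := 3) hu (by norm_num) hg4 (by rw [e2])
  have hPM : ttor t' (v ^ f') i' ≤ ttor t (p ^ f) i := by
    rw [hD.eqM]
    exact Nat.le_mul_of_pos_left _ hH0
  have hPd : ttor t' (v ^ f') i' ∣ ttor t (p ^ f) i := by
    rw [hD.eqM]
    exact Nat.dvd_mul_left _ _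
  have hP0 : 1 ≤ ttor t' (v ^ f') i' := by
    by_contra hcon
    have h0 : ttor t' (v ^ f') i' = 0 := by omega
    rw [h0] at hPe
    have := Nat.one_le_pow 3 (v ^ f') (by omega)
    omega
  have hB : (v ^ f') ^ 3 ≤ 8 * ttor t (p ^ f) i := by omega
  have hqL : p ^ f < 2 ^ L := by
    refine range4 (e0 := 3) (f' := f') (M := ttor t (p ^ f) i) hD5 (hdm _) hq3 (ttor_le5 h5 hD.pair hq3) ?_ hs hL h0
    calc 2 ^ (3 * f') = (2 ^ f') ^ 3 := by rw [← pow_mul, mul_comm]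
      _ ≤ (v ^ f') ^ 3 := Nat.pow_le_pow_left (Nat.pow_le_pow_left hD.v_prime.two_le _) _
      _ ≤ _ := hB
  have hf13 : f ≤ 13 := by
    by_contra hcon
    have hp3 : 3 ≤ p := by
      have := hD.p_prime.two_le
      have := hD.p_ne
      omega
    have h1 : 3 ^ 14 ≤ p ^ f := by
      calc 3 ^ 14 ≤ 3 ^ f := Nat.pow_le_pow_right (by norm_num) (by omega)
        _ ≤ p ^ f := Nat.pow_le_pow_left hp3 _
    have h2 : 2 ^ L ≤ 2 ^ 18 := Nat.pow_le_pow_right (by norm_num) hL18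
    norm_num at h1 h2
    omega
  have hM := chkT3_sound (ppB_sound hD.p_prime hf13) hD.pair (hT _ hq3 hqodd hqL)
  have hvq : ¬ v ∣ p ^ f := fun hd =>
    hD.vp ((Nat.prime_dvd_prime_iff_eq hD.v_prime hD.p_prime).1 (hD.v_prime.dvd_of_dvd_pow hd))
  obtain ⟨k1, k2⟩ := chkM3_sound hD.f'_pos hD.v_prime hvq hD.vM hB hs hM
  have hE : tstP (ttor t (p ^ f) i) (ttor t (p ^ f) j) (p ^ f) i (ng t) 4 (v ^ f')
      (ttor t' (v ^ f') i') = true := by
    rcases ttor_s3 (u := v ^ f') hr hD.topi' with ⟨-, h⟩ | ⟨-, h⟩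
    · rw [h] at hPd ⊢
      refine k1.resolve_left fun hb => ?_
      rw [blt_mod (dvd_of_mul e1 hg2 hPd)] at hb
      exact Bool.noConfusion hb
    · rw [h] at hPd ⊢
      refine k2.resolve_left fun hb => ?_
      rw [blt_mod (dvd_of_mul e2 hg2 hPd)] at hb
      exact Bool.noConfusion hb
  rw [tstP, Bool.or_eq_true, Bool.or_eq_true] at hE
  rcases hE with (h1 | h1) | h1
  · rw [Bool.not_eq_true'] at h1
    have h2 : ttor t (p ^ f) i % ttor t' (v ^ f') i' = 0 := by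
      rw [hD.eqM]
      exact Nat.mul_mod_left _ _
    rw [h2] at h1
    exact Bool.noConfusion h1
  · have h2 : ttor t (p ^ f) i / ttor t' (v ^ f') i' = H := by
      rw [hD.eqM]
      exact Nat.mul_div_cancel _ (by omega)
    rw [h2] at h1
    obtain ⟨r, hr1, hr2, hr3⟩ := killH_sound (t := t) (by omega) (pos_of_pair h5 hD.pair) h1
    exact hD.copH r hr1 hr3 hr2
  · have hw := Fact.mk hD.w_prime
    obtain ⟨x, hx⟩ := exists_prime_orderOf_dvd_card' (G := S) w hD.wS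
    have hwN := hD.ordw x (by rw [hx])
    rw [hx] at hwN
    have := rk_s3 hr
    exact wkill_sound (t := t') (by omega) h1 hD.w_prime hwN hD.j'3 (by omega) hD.clsw'

/-! ### the search by blocks -/

/-- the direct test for `M` -/
noncomputable def qM3 (C D : ℕ) (t : Fam) (L q i j M : ℕ) : Bool :=
  force M fun M => force (Nat.mul 8 M) fun B => force (Nat.mul 2 M) fun M2 =>
    qDn (Nat.pow q D) (Nat.mul (Nat.mul C (dgL t q)) (Nat.pow (Nat.succ q) 3))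
      (fun f' => force (Nat.mul 3 f') fun fe =>
        qLoop (fun v x => qZ (Nat.mul (Nat.mod M2 (Nat.succ x)) (Nat.mod M2 (Nat.sub x 1)))
          (tstV3 M (ttor t q j) q i (ng t) f' v) true) fe B 50000 2) (Nat.div L 3)

theorem tstV3_of {M N q i : ℕ} {neg : Bool} {f' v : ℕ} (a1 : Nat.blt 0 (2 * M % (v ^ (3 * f') + 1)) = true)
    (a2 : Nat.blt 0 (2 * M % (v ^ (3 * f') - 1)) = true) : tstV3 M N q i neg f' v = true := by
  rw [mul_comm 3, pow_mul] at a1 a2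
  rw [tstV3, force_eq, force_eq, a1, a2, Bool.true_or, Bool.true_or, Bool.and_self, Bool.or_true]

theorem qM3_sound {C D : ℕ} {t : Fam} {L q i j M : ℕ} (h : qM3 C D t L q i j M = true)
    (hL : Nat.log2 (8 * M) ≤ L) : chkM3 C M (ttor t q j) q D (dgL t q) i (ng t) = true := by
  rw [qM3, force_eq, force_eq, force_eq] at h
  rw [chkM3, force_eq, Bool.or_eq_true]
  refine Or.inr (allTo_intro fun k hk => ?_)
  rw [force_eq]
  cases hs : szB C q D (dgL t q) (k + 1) with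
  | false => rfl
  | true =>
    have h2 := qDn_sound h k (lt_of_lt_of_le hk (Nat.div_le_div_right hL)) (szB_qDn hs)
    rw [force_eq] at h2
    refine qLoop_sound (g' := tstV3 M (ttor t q j) q i (ng t) (k + 1)) (k := 3 * (k + 1)) (B := 8 * M)
      (fun v hv => ?_) 50000 2 h2
    rcases qZ_cases hv with h3 | ⟨a0, -⟩
    · exact h3
    · exact tstV3_of (blt_two a0).1 (blt_two a0).2

/-- the check of `P` -/
noncomputable def qP3 (P T F L Bm : ℕ) : Bool :=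
  qAll (fun k => Nat.blt k F || loopV (fun v => npB v || force (v ^ (3 * (k + 1))) fun x =>
    qOk P T 2 (x + 1) && qOk P T 2 (x - 1)) (3 * (k + 1)) Bm 50000 2) (L / 3)

theorem qP3_sound {C P T F L Bm M N q D d i : ℕ} {neg : Bool} (h : qP3 P T F L Bm = true) (hP : 0 < P)
    (hg : Nat.gcd M P ≤ T) (hB : 8 * M ≤ Bm) (hL : Nat.log2 (8 * M) ≤ L)
    (hF : ∀ f, f ≤ F → szB C q D d f = false) : chkM3 C M N q D d i neg = true := by
  rw [chkM3, force_eq, Bool.or_eq_true]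
  refine Or.inr (allTo_intro fun k hk => ?_)
  rw [force_eq]
  have h1 := qAll_sound h k (lt_of_lt_of_le hk (Nat.div_le_div_right hL))
  rw [Bool.or_eq_true, Nat.blt_eq] at h1
  rcases h1 with h1 | h1
  · rw [hF (k + 1) h1]
    rfl
  rw [Bool.or_eq_true]
  refine Or.inr (loopV_mono (fun v hv => ?_) hB _ _ h1)
  rw [Bool.or_eq_true, force_eq, Bool.and_eq_true] at hv
  rcases hv with hv | hv
  · rw [tstV3, hv]
    rfl
  · exact tstV3_of (qOk_sound hP hg hv.1) (qOk_sound hP hg hv.2)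

/-- **The search by blocks.** -/
theorem all3 {C dm D i j c : ℕ} {t : Fam} (m1 m2 : ℕ → ℕ) (l : List (ℕ × ℕ × ℕ × ℕ × ℕ)) (h5 : 5 ≤ rk t)
    (hD : dimL t = D) (hD3 : 3 ≤ D) (hd : ∀ q, dgL t q ≤ dm) (hp : pairsL t = [(i, j), (j, i)])
    (h1 : ∀ q, ttor t q i = m1 q) (h2 : ∀ q, ttor t q j = m2 q)
    (h : qLs (qBk 3 C dm D i j m1 m2 qP3 (qM3 C D t)) c l 3 = true) {q : ℕ} (h3 : 3 ≤ q) (ho : q % 2 = 1)
    (hq : q < c) : chkT3 C t q = true := by
  have key := qLs_sound (qBk_sound (e0 := 3) (C := C) (pc := qP3) (dir := qM3 C D t)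
    (R := fun q i j => chkM3 C (ttor t q i) (ttor t q j) q D (dgL t q) i (ng t) = true) h5 hD hD3 hd hp h1 h2
    (fun q i j hs => by rw [chkM3, force_eq, hs]; rfl)
    (fun _ _ _ _ _ _ _ _ a1 a2 a3 a4 a5 a6 => qP3_sound a1 a2 a3 a4 a5 a6)
    (fun _ _ _ _ a1 a2 => qM3_sound a1 a2)) l 3 h le_rfl rfl q ho h3 hq
  rw [chkT3]
  cases hq : ppB q with
  | false => rfl
  | true =>
    rw [Bool.not_true, Bool.false_or, List.all_eq_true]
    intro x hx
    rw [force_eq, force_eq, force_eq, force_eq, force_eq, hD]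
    exact key hq x hx

/-- the blocks -/
noncomputable def bk3a : List (ℕ × ℕ × ℕ × ℕ × ℕ) :=
  [(1, 0, 0, 15, 1),
  (1, 0, 0, 18, 1),
  (1, 0, 0, 21, 2),
  (1, 0, 0, 23, 2),
  (1, 0, 0, 25, 3),
  (1, 0, 0, 28, 5),
  (1, 0, 0, 31, 7),
  (1, 0, 1, 33, 9),
  (1, 0, 1, 36, 14),
  (1, 0, 1, 39, 19),
  (1, 0, 1, 41, 27),
  (1, 0, 2, 44, 37),
  (0x1d632dc1966ef3f8d6d53180437586381c5e5bbe93a1a0c9e4a02b4f7b66b9b54b1081bec20e69887cab85b860e7ff50442d84afc44695b7b72a97f6c999c8b0b83a40e1d95c3b0b3daae182af4076f9db45fed01f0808b822fc78c53315b6f9fae5d265b8d51ae173f3b308b7598a1ab8170ddbf9279adad1efa043c7513502c7bb991078508d0cb5f90cee5daa731360b4a4a0b7d7315ac78e2a283f4341c0, 255, 2, 46, 53),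
  (0x156f6a8efcea52120d088aad4062065881282456f14ab4d47204953e1ef753255c90d1b7252da8a2549c91fe1ddfaa06fbfa28eae20c7dd6694de3252c9c830727f397bf39a712ed24f920a88bb16e906c8d8ffde751a0c5c2dd05c6b020d41c2e5a79e7ade4a4d429d43c8ed7951801a668983787a0ac1193a7c5ee617ddd7b162401f344838c0, 2047, 3, 49, 75),
  (0x4c9b0a2833aaba941bfbd33470109ac7113067cd5fb4a26ca50c302d564215a18af3b4ef471b3440eaca1b582caf51014991b5c2e00f999ed9d690b503d1a2ea6d723c1f4c73ffbd9f9c1eabdc94971d75a66714fd42635dfb8a4dd0b5eea7a6ec6b93ca671b931eecf065cbc7181996a0229117b8ecd2588f5b812c9570965e33e8ca6ecb7606942c857972f7608e299a7e01296cc633d5c046ac82c417e5a01e7d8a1ae95fa80, 2047, 3, 51, 107),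
  (0xa749ba09d192ed93de7dcd11b1045c7d68016176a958d78990c3cd3ac8d953261cb60d1717414027b5d8473c59564af53f1b34302b45305fcda1367acf60f361ab9c5f5741a0ac7c65cf6ff63a043f5a8aeb80799431fe335eceb9d1c1eec02cfe1307313ac8c94220d71a49bc9d6c5d9efd211523e3576dbfb008df9d2428f654c8d5439b1d4fe65cd68f3b0297e0e06db5ba060444eb2709e5b7de73fbc0, 16383, 4, 54, 149),
  (0xa1dd7eed68ae2ab935e5d90e517938a981e4191e6435b06c91bf44938510bc8652003c579da53e2d3adefe4f841b0b0c3c526644851064b1569bd4ce685af56b4a4b726fbbcd48c9de43f0b8e4f572aae186bc036c61e97b8a2851589efc9219d236581ba372cfd141239db6d03a7d0530b64bb4ecec3d2acef7b36e589c946a64db057d91574734ea3eb63d69f1e30beb31c0, 131071, 5, 56, 212),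
  (0x40f2bb6c73af7f824337542d676ce1534e19876dfedee4c77b34697e3028213c59cc3e752441aeb3a1dcdadcef37fff7d36ea163824bfc2e8de5ea8f1c96650064f10c98177c930a8b4d2b909c1c9a9bb3164eea10b6256631860ab427225e55fa71a71adb2cd7ae1214941de34cd0063599def7c669bcfb0686a33bf572ae3257819be99543f582f8ba29883346e8aee05d718cf0b2c07f92038812d23b7246c7ac0, 1048575, 6, 59, 300),
  (0x1fac8bbd84c6225dd099bd7ae2bbd899fcb361712c7dcfb77f565e66197b393d326e83c4ab2e1c5a06d423976274925e665efd0a6be75ecc6823374415251dd510cdd135e53a491c1bc58ba910e9f65ef8be6373497d048cc8026cf94707483d513451e74cefc8743d0770bbfab8a41c88127127f67dce73040754a8c8b7588db2c22f465158e060acb093eddc7907179ea99a2e97dcaa0f13ca97007aeca136c503019b0a57240c37690f60614bba40, 8388607, 7, 64, 1024),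
  (0x339f07e7fe7f69977b9594658a888a97d5a265d2a20f12474100ce1ebb1eabc023f706430b495f179463ebd5e444c2ef5a3861489e8be6a8593f9523e2a24c5d8f23a3b79818bc7e4ca2daf6255aa34e32344decd722833325fb79313ed62973239383ab92b3aeb47f1f58fcf1edd956355d34ffbc38d8cef81046bcb5b46de9eb8a1b968dd95327b0bf95eef79522d01af00cde83d6b2f5594556ebde9330b5b0fa579e0, 34359738367, 11, 69, 2048),
  (0x10c739ab8ce7c69e486274765b61b8debe880ca3f39385726929ccd9332c63d4221444888163656f6ab9f3125526211dec0c257fa8ac7d5fbbfc50b3993150033958166efe115fc23a90837bab5a44f7e5d46bec78ea531fe1d8cf58f8ffc4ac2acc4f59de2114e1dbf1cc8895426d4a8331d430106cb3d9b082d26a461f44a5c78f3f, 140737488355327, 15, 75, 5905),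
  (1, 1, 25, 77, 4261),
  (1, 1, 29, 84, 18506)]

end Cfsg.Agent.R2.Spec.FIN

private theorem dce_bcb82d9a5757 : _root_.True := by
  try have : _root_.True := by simp only [_root_.Cfsg.Agent.R2.Spec.FIN.chkM3.eq_1]
  try have : _root_.True := by simp only [_root_.Cfsg.Agent.R2.Spec.FIN.chkT3.eq_1]
  try have : _root_.True := by simp only [_root_.Cfsg.Agent.R2.Spec.FIN.tstV3.eq_1]
  exact _root_.True.intro
end

-- part: R2/Spec/FIN/T3a
section
set_option linter.all false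

/-! # S3435, packet FIN, small ranks, `S = PSp_6(u)`, `Omega_7(u)`, `POmega^+_8(u)`: the search (helper7) -/

set_option autoImplicit false

namespace Cfsg.Agent.R2.Spec.FIN


theorem psp5_three {q : ℕ} (h3 : 3 ≤ q) (ho : q % 2 = 1) (hq : q < 2 ^ 16) : chkT3 (2 ^ 10) (.psp 5) q = true :=
  all3 (C := 1024) (dm := 1) (D := 5) (i := 5) (j := 10) (c := 65536) (t := .psp 5)
    (fun q => Nat.div (Nat.sub (Nat.pow q 5) 1) (Nat.gcd 2 (Nat.sub q 1)))
    (fun q => Nat.div (Nat.add (Nat.pow q 5) 1) (Nat.gcd 2 (Nat.sub q 1)))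
    bk3a (by decide) rfl (by decide) (fun _ => Nat.le_refl 1) rfl (fun _ => rfl) (fun _ => rfl) (by decide +kernel) h3 ho hq

end Cfsg.Agent.R2.Spec.FIN
end

-- part: R2/Spec/X7/N6/SChar
section
prune_inst 0x400001000000000000000000000000000000000000000800050400600020610420040000040200c0210040000080000000000000000000000000000000000000000024400c0880308880000002003180c00000000000000000000000000041000000000000
set_option linter.all false
open scoped Cfsg.Agent.FastGrp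

/-!
# S3435, box X7, `n = 6`, packet N6-S (helper8): `v ∣ M`

* `SixN.up_le` : all orders are at most `2 q ^ 5`;
* `SixN.l2_char` : `S = L₂(M ^ j)`;
* `SixN.psp_char` : `S = PSp₄(u)`, `v ∣ M`.
-/

set_option autoImplicit false
set_option maxHeartbeats 1000000

namespace Cfsg.Agent.R2.Spec.X7.N6

variable {p q : ℕ} {s : ℤ} {c c5 M : ℕ}

lemma le_abs_of_dvd {a b : ℤ} (hb : b ≠ 0) (h : a ∣ b) : a ≤ |b| := Int.le_of_dvd (abs_pos.2 hb) ((dvd_abs _ _).2 h)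

lemma SixN.pow_ne (h : SixN p q s c c5 M) {k : ℕ} (hk : k ≠ 0) : s ^ k - 1 ≠ 0 := by
  intro h0
  have h1 : |s| ^ k = 1 := by rw [← abs_pow, show s ^ k = 1 by linarith only [h0], abs_one]
  have h2 : (3 : ℤ) ≤ |s| := by rw [h.abs_s]; exact_mod_cast h.q3
  have h3 : |s| ^ 1 ≤ |s| ^ k := pow_le_pow_right₀ (by linarith) (by omega)
  rw [h1, pow_one] at h3
  linarith only [h2, h3]

lemma SixN.pow_le (h : SixN p q s c c5 M) (k : ℕ) : |s ^ k - 1| ≤ (q : ℤ) ^ k + 1 := by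
  have := abs_sub (s ^ k) 1
  rw [abs_pow, h.abs_s] at this
  simpa using this

theorem SixN.up_le (h : SixN p q s c c5 M) {E : ℕ} (hu : Up p s c E) : (E : ℤ) ≤ 2 * (q : ℤ) ^ 5 := by
  have hq : (3 : ℤ) ≤ q := by exact_mod_cast h.q3
  have hq0 : (0 : ℤ) ≤ q := by linarith only [hq]
  have hp0 : (p : ℤ) ≠ 0 := by exact_mod_cast h.hp.ne_zero
  have hp : (p : ℤ) ≤ q := by exact_mod_cast h.p_le
  have hpp : (0 : ℤ) ≤ p := by positivity
  have m2 : 3 * (q : ℤ) ≤ (q : ℤ) ^ 2 := by nlinarith only [hq]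
  have m3 : 3 * (q : ℤ) ^ 2 ≤ (q : ℤ) ^ 3 := by nlinarith only [hq, sq_nonneg (q : ℤ)]
  have m4 : 3 * (q : ℤ) ^ 3 ≤ (q : ℤ) ^ 4 := by nlinarith only [m2]
  have m5 : 3 * (q : ℤ) ^ 4 ≤ (q : ℤ) ^ 5 := by nlinarith only [m3]
  have b1 : |s + 1| ≤ q + 1 := by
    have := abs_add_le s 1
    rw [h.abs_s] at this
    simpa using this
  have s1 : s + 1 ≠ 0 := by rcases h.s_cases with h1 | h1 <;> omega
  rcases hu with h1 | h1 | h1 | h1 | h1 | h1 | h1 | h1 | h1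
  · have h2 := le_abs_of_dvd (h.pow_ne (k := 5) (by norm_num)) ((dvd_mul_left (E : ℤ) c).trans h1)
    have h3 := h.pow_le 5
    linarith only [hq, m2, m3, m4, m5, h2, h3]
  · have h2 : (E : ℤ) * (s - 1) ∣ (s + 1) * (s ^ 4 + s ^ 2 + 1) * (s - 1) := by
      rw [show (s + 1) * (s ^ 4 + s ^ 2 + 1) * (s - 1) = s ^ 6 - 1 by ring]
      exact (dvd_mul_left _ (c : ℤ)).trans (by rw [← mul_assoc]; exact h1)
    have h3 := Int.dvd_of_mul_dvd_mul_right h.s_ne h2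
    have h5 : (0 : ℤ) < s ^ 4 + s ^ 2 + 1 := by positivity
    have h4 := le_abs_of_dvd (mul_ne_zero s1 h5.ne') h3
    rw [abs_mul, abs_of_pos h5] at h4
    have h6 : s ^ 4 + s ^ 2 + 1 = (q : ℤ) ^ 4 + (q : ℤ) ^ 2 + 1 := by
      rw [show s ^ 4 = (s ^ 2) ^ 2 by ring, h.sq_s]; ring
    rw [h6] at h4
    have h7 : |s + 1| * ((q : ℤ) ^ 4 + (q : ℤ) ^ 2 + 1) ≤ (q + 1) * ((q : ℤ) ^ 4 + (q : ℤ) ^ 2 + 1) := by gcongr
    have h8 : ((q : ℤ) + 1) * ((q : ℤ) ^ 4 + (q : ℤ) ^ 2 + 1) =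
      (q : ℤ) ^ 5 + (q : ℤ) ^ 4 + (q : ℤ) ^ 3 + (q : ℤ) ^ 2 + q + 1 := by ring
    linarith only [hq, m2, m3, m4, m5, h4, h7]
  · have h2 := le_abs_of_dvd (h.pow_ne (k := 4) (by norm_num)) h1
    have h3 := h.pow_le 4
    linarith
  · have h2 := le_abs_of_dvd (mul_ne_zero hp0 (h.pow_ne (k := 4) (by norm_num))) ((dvd_mul_left (E : ℤ) c).trans h1)
    rw [abs_mul, abs_of_nonneg hpp] at h2
    have h3 := h.pow_le 4
    have h4 : (p : ℤ) * |s ^ 4 - 1| ≤ q * ((q : ℤ) ^ 4 + 1) := by gcongr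
    have h5 : (q : ℤ) * ((q : ℤ) ^ 4 + 1) = (q : ℤ) ^ 5 + q := by ring
    linarith only [hq, m2, m3, m4, m5, h2, h4]
  · have h2 := le_abs_of_dvd (mul_ne_zero (h.pow_ne (k := 3) (by norm_num)) s1) h1
    rw [abs_mul] at h2
    have h3 := h.pow_le 3
    have h4 : |s ^ 3 - 1| * |s + 1| ≤ ((q : ℤ) ^ 3 + 1) * (q + 1) := by gcongr
    have h5 : ((q : ℤ) ^ 3 + 1) * (q + 1) = (q : ℤ) ^ 4 + (q : ℤ) ^ 3 + q + 1 := by ring
    linarith only [hq, m2, m3, m4, m5, h2, h4]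
  · have h2 := le_abs_of_dvd (mul_ne_zero hp0 (h.pow_ne (k := 3) (by norm_num))) h1
    rw [abs_mul, abs_of_nonneg hpp] at h2
    have h3 := h.pow_le 3
    have h4 : (p : ℤ) * |s ^ 3 - 1| ≤ q * ((q : ℤ) ^ 3 + 1) := by gcongr
    have h5 : (q : ℤ) * ((q : ℤ) ^ 3 + 1) = (q : ℤ) ^ 4 + q := by ring
    linarith only [hq, m2, m3, m4, m5, h2, h4]
  · have h2 := le_abs_of_dvd (mul_ne_zero hp0 (h.pow_ne (k := 2) (by norm_num))) h1
    rw [abs_mul, abs_of_nonneg hpp] at h2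
    have h3 := h.pow_le 2
    have h4 : (p : ℤ) * |s ^ 2 - 1| ≤ q * ((q : ℤ) ^ 2 + 1) := by gcongr
    have h5 : (q : ℤ) * ((q : ℤ) ^ 2 + 1) = (q : ℤ) ^ 3 + q := by ring
    linarith only [hq, m2, m3, m4, m5, h2, h4]
  · have h2 := le_abs_of_dvd (mul_ne_zero (by norm_num : (9 : ℤ) ≠ 0) (h.pow_ne (k := 2) (by norm_num))) h1.2
    rw [abs_mul, abs_of_nonneg (by norm_num : (0 : ℤ) ≤ 9)] at h2
    have h3 := h.pow_le 2
    linarith only [hq, m2, m3, m4, m5, h2, h3]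
  · have h2 : (E : ℤ) ≤ 25 := by exact_mod_cast Nat.le_of_dvd (by norm_num) h1.2
    linarith only [hp, m2, m3, m4, m5, h1, h2]

/-- `Up` for `q = 9`, `s = - 9` -/
lemma not_up_nine (hu : Up 3 (-9) 2 591) : False := by
  rcases hu with h1 | h1 | h1 | h1 | h1 | h1 | h1 | h1 | h1 <;> norm_num at h1

lemma SixN.nine (h : SixN p q s c c5 M) (hq : q = 9) (h5 : c5 = 5) : p = 3 ∧ c = 2 ∧ s = -9 := by
  obtain ⟨f, hf, hqf⟩ := h.hq
  have hs : s = -9 := by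
    have h1 := (h.five h5).1
    rcases h.hs with h2 | h2 <;> omega
  refine ⟨?_, ?_, hs⟩
  · have h1 : p ∣ 3 ^ 2 := by
      rw [show 3 ^ 2 = q by rw [hq]; norm_num, hqf]
      exact dvd_pow_self p (by omega)
    exact (Nat.prime_dvd_prime_iff_eq h.hp Nat.prime_three).1 (h.hp.dvd_of_dvd_pow h1)
  · rw [h.hc, hs]
    rfl

/-- `S = L₂(M ^ j)` -/
theorem SixN.l2_char (h : SixN p q s c c5 M) (hM : M.Prime) {u N j : ℕ} (hj : 1 ≤ j) (hu : u = M ^ j)
    (hN : 2 * N = u + 1) (uN : Up p s c N) : False := by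
  have hq3 := h.q3
  have hcube : q * (3 * 3) ≤ q ^ 3 := by
    rw [show q ^ 3 = q * (q * q) by ring]
    exact Nat.mul_le_mul le_rfl (Nat.mul_le_mul hq3 hq3)
  rcases Nat.lt_or_ge 1 j with hj2 | hj2
  · -- `j ≥ 2`
    have h1 := h.up_le uN
    have h2 : M ^ 2 ≤ u := by rw [hu]; exact Nat.pow_le_pow_right hM.pos hj2
    have h3 : (M : ℤ) ^ 2 ≤ 4 * (q : ℤ) ^ 5 := by
      have h4 : (M : ℤ) ^ 2 ≤ u := by exact_mod_cast h2
      have h5 : 2 * (N : ℤ) = u + 1 := by exact_mod_cast hN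
      linarith only [hN, h1, h2]
    have hq : (3 : ℤ) ≤ q := by exact_mod_cast hq3
    have hq5 : (0 : ℤ) < (q : ℤ) ^ 5 := by positivity
    rcases h.lo_lin with h4 | ⟨h4, h9⟩
    · have h5 : 2 * (q : ℤ) ^ 3 ≤ M := by
        have : 2 * q ^ 3 ≤ M := by omega
        exact_mod_cast this
      have h6 : (2 * (q : ℤ) ^ 3) ^ 2 ≤ (M : ℤ) ^ 2 := pow_le_pow_left₀ (by positivity) h5 2
      have h7 : (2 * (q : ℤ) ^ 3) ^ 2 = 4 * ((q : ℤ) ^ 5 * q) := by ring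
      nlinarith only [hN, hq3, h1, h2, h6]
    · have h5 : 8 * (q : ℤ) ^ 3 ≤ 5 * M := by
        have : 8 * q ^ 3 ≤ 5 * M := by omega
        exact_mod_cast this
      have h6 : (8 * (q : ℤ) ^ 3) ^ 2 ≤ (5 * (M : ℤ)) ^ 2 := pow_le_pow_left₀ (by positivity) h5 2
      have h7 : (8 * (q : ℤ) ^ 3) ^ 2 = 64 * ((q : ℤ) ^ 5 * q) := by ring
      have h8 : (5 * (M : ℤ)) ^ 2 = 25 * (M : ℤ) ^ 2 := by ring
      nlinarith only [hN, h1, h2, h9, h6]
  · have hj1 : j = 1 := by omega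
    rw [hj1, pow_one] at hu
    rw [hu] at hN
    have hMN : (1 : ℤ) * (M * 1 : ℕ) + (-2) * N = -1 := by
      have h5 : 2 * (N : ℤ) = M + 1 := by exact_mod_cast hN
      push_cast
      linarith only [hN]
    have hcop : Nat.Coprime N M := by
      refine Nat.coprime_of_dvd fun r hr h1 h2 => ?_
      have h3 : r ∣ 2 * N - M := Nat.dvd_sub (h1.mul_left 2) h2
      rw [show 2 * N - M = 1 by omega] at h3
      exact hr.one_lt.ne' (Nat.dvd_one.1 h3)
    by_cases h3 : q = 3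
    · obtain ⟨hp3, hc2⟩ := h.three_c h3
      rcases h.three h3 with ⟨h4, h5⟩ | ⟨h4, h5⟩
      · rw [h5] at hM
        norm_num at hM
      · rw [h4, hc2, hp3] at uN
        have := (not_up_three uN).2.2.2.2.2
        omega
    by_cases h9 : q = 9 ∧ c5 = 5
    · obtain ⟨hp3, hc2, hs⟩ := h.nine h9.1 h9.2
      have hM9 : M = 1181 := by
        rcases h.five_small h9.2 (by omega) with h4 | h4 | h4 | h4 | h4 | h4 | h4 | h4 <;> omega
      have hN9 : N = 591 := by omega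
      rw [hs, hc2, hp3, hN9] at uN
      exact not_up_nine uN
    -- now `M > 2 (q ^ 3 + q)`
    have hlo : (c5 = 1 ∧ (q ^ 3 + q) * 4 < M) ∨ (c5 = 5 ∧ (q ^ 3 + q) * 2 < M ∧ 11 ≤ q) := by
      have hodd := h.odd_q
      rw [Nat.odd_iff] at hodd
      rcases h.lo_nat with ⟨h5, h6⟩ | ⟨h5, h6, h10⟩
      · left
        have : (q ^ 3 + q) * 4 ≤ (q ^ 3 + q) * (q - 1) := Nat.mul_le_mul le_rfl (by omega)
        exact ⟨h5, by omega⟩
      · right
        have h11 : 11 ≤ q := by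
          have : q ≠ 9 := fun h12 => h9 ⟨h12, h5⟩
          omega
        have : (q ^ 3 + q) * 10 ≤ (q ^ 3 + q) * (q - 1) := Nat.mul_le_mul le_rfl (by omega)
        exact ⟨h5, by omega, h11⟩
    have hbig : q ^ 3 < N := by rcases hlo with h5 | h5 <;> omega
    rcases h.bracket' uN hcop hbig (fun h4 => absurd h4 h3) hMN with h1 | h1 | h1 | h1
    · have h2 : N ≤ 2 * (c5 * (q + 1) + 1) := by
        have h4 : (N : ℤ) ≤ 2 * (c5 * (q + 1) + 1) := by simpa using h1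
        exact_mod_cast h4
      rcases hlo with ⟨h5, -⟩ | ⟨h5, -, h9⟩ <;> rw [h5] at h2
      · omega
      · have h10 : q * (11 * 11) ≤ q ^ 3 := by
          rw [show q ^ 3 = q * (q * q) by ring]
          exact Nat.mul_le_mul le_rfl (Nat.mul_le_mul h9 h9)
        omega
    · have h2 : M < 2 * 2 * (q + 1) := by
        have h4 : (M : ℤ) < 2 * 2 * (q + 1) := by simpa using h1
        exact_mod_cast h4
      rcases hlo with ⟨h5, -⟩ | ⟨h5, -, h9⟩ <;> omega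
    · have h2 : M < 2 * 2 * ((q + 1) ^ 2 + 1) := by
        have h4 : (M : ℤ) < 2 * 2 * ((q + 1) ^ 2 + 1) := by simpa using h1.1
        exact_mod_cast h4
      have h6 : (q + 1) ^ 2 = q ^ 2 + 2 * q + 1 := by ring
      have h7 : q ^ 3 = q * q ^ 2 := by ring
      have h8 : 3 * q ^ 2 ≤ q * q ^ 2 := Nat.mul_le_mul hq3 le_rfl
      have h10 : 3 * q ≤ q ^ 2 := by rw [sq]; exact Nat.mul_le_mul hq3 le_rfl
      rcases hlo with ⟨h5, h11⟩ | ⟨h5, h11, h9⟩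
      · rw [h7] at h11
        omega
      · have h12 : 11 * q ^ 2 ≤ q * q ^ 2 := Nat.mul_le_mul h9 le_rfl
        rw [h7] at h11
        omega
    · have hs := h.s_cases
      have hso := h.odd_s
      rw [Int.odd_iff] at hso
      have hc5 := h.c5_or
      rcases h1 with ⟨h1, -⟩ | ⟨h1, -⟩ | ⟨h1, -⟩ | ⟨h1, -⟩ | ⟨h1, -⟩
      · rcases hc5 with h2 | h2 <;> rw [h2] at h1 <;> push_cast at h1 <;> omega
      · rcases hc5 with h2 | h2 <;> rw [h2] at h1 <;> push_cast at h1 <;> omega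
      · rcases hc5 with h2 | h2 <;> rw [h2] at h1 <;> push_cast at h1 <;> omega
      · have hG := h.G_ge
        rcases hc5 with h2 | h2 <;> rw [h2] at h1 <;> push_cast at h1 <;> linarith only [h1, hG.1]
      · rcases hc5 with h2 | h2 <;> rw [h2] at h1 <;> push_cast at h1 <;> omega

/-- `S = PSp₄(u)`, `v ∣ M` -/
theorem SixN.psp_char (h : SixN p q s c c5 M) {u v E : ℕ} {ε : ℤ} (hv : v.Prime) (hvM : v ∣ M) (hvu : v ∣ u)
    (hu : 2 ≤ u) (hε : ε = 1 ∨ ε = -1) (hM : (M : ℤ) ∣ (u + ε) * v) (hE : 2 * (E : ℤ) = v * (u - ε))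
    (uE : Up p s c E) : False := by
  have hv7 := h.prime_ge hv hvM
  have hvE : v ∣ E := by
    have h1 : (v : ℤ) ∣ 2 * E := ⟨_, hE⟩
    have h2 : v ∣ 2 * E := by exact_mod_cast h1
    exact (Nat.Coprime.dvd_mul_left ((Nat.coprime_primes hv Nat.prime_two).2 (by omega))).1 h2
  have h5 := h.up_prime hv hvM hvE uE
  obtain ⟨m, hm⟩ := hvM
  obtain ⟨k, hk⟩ := hvE
  have hv0 : (v : ℤ) ≠ 0 := by exact_mod_cast hv.ne_zero
  have hk2 : 2 * (k : ℤ) = u - ε := by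
    refine mul_left_cancel₀ hv0 ?_
    rw [hk] at hE
    push_cast at hE
    linarith only [hE]
  have hmu : (m : ℤ) ∣ u + ε := by
    rw [hm] at hM
    push_cast at hM
    obtain ⟨t, ht⟩ := hM
    refine ⟨t, mul_left_cancel₀ hv0 ?_⟩
    linarith only [ht]
  -- `c k ∣ m c₅ (s - 1)`
  have h6 : (c * k : ℤ) ∣ m * (c5 * (s - 1)) := by
    have h7 : (v : ℤ) * (c * k) ∣ v * (m * (c5 * (s - 1))) := by
      have h8 := h.hM
      rw [hm] at h8
      push_cast at h8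
      have h9 : (v : ℤ) * (m * (c5 * (s - 1))) = s ^ 5 - 1 := by linarith only [h8]
      rw [h9, show (v : ℤ) * (c * k) = c * E by rw [hk]; push_cast; ring]
      exact h5
    exact Int.dvd_of_mul_dvd_mul_left hv0 h7
  have hmM : m ∣ M := ⟨v, by rw [hm]; ring⟩
  have hcop : Nat.Coprime (c * k) m := by
    refine Nat.coprime_of_dvd fun r hr h1 h2 => ?_
    have h7 := h.prime_ge hr (h2.trans hmM)
    rcases hr.dvd_mul.1 h1 with h8 | h8
    · have h9 : r ≤ 6 := by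
        rcases h.c_or with h10 | h10 <;> rw [h10] at h8 <;> exact (Nat.le_of_dvd (by norm_num) h8).trans (by norm_num)
      omega
    · have h9 : (r : ℤ) ∣ 2 * ε := by
        have h10 : 2 * ε = (u + ε) - 2 * k := by linarith only [hk2]
        rw [h10]
        exact dvd_sub ((Int.natCast_dvd_natCast.2 h2).trans hmu) (dvd_mul_of_dvd_right (Int.natCast_dvd_natCast.2 h8) _)
      have h10 : (r : ℤ) ∣ 2 := by
        rcases hε with h11 | h11 <;> rw [h11] at h9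
        · simpa using h9
        · simpa using h9
      have := Int.le_of_dvd (by norm_num) h10
      omega
  have h7 : (c * k : ℤ) ∣ c5 * (s - 1) := by
    have h8 : IsCoprime ((c * k : ℕ) : ℤ) (m : ℤ) := Nat.isCoprime_iff_coprime.2 hcop
    push_cast at h8
    exact h8.dvd_of_dvd_mul_left h6
  have h8 := h.e_le h7
  have hc2 : (2 : ℤ) ≤ c := by rcases h.c_or with h1 | h1 <;> rw [h1] <;> norm_num
  have h9 : (u : ℤ) ≤ c5 * (q + 1) + 1 := by
    have h10 : (u : ℤ) ≤ 2 * k + 1 := by rcases hε with h1 | h1 <;> rw [h1] at hk2 <;> linarith only [hk2]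
    have h11 : 2 * (k : ℤ) ≤ c * k := by
      have : (0 : ℤ) ≤ k := by positivity
      nlinarith only [hc2]
    linarith only [h8, h10, h11]
  have h9' : u ≤ c5 * (q + 1) + 1 := by exact_mod_cast h9
  have hvle : v ≤ u := Nat.le_of_dvd (by omega) hvu
  have hMle : M ≤ (u + 1) * u := by
    have h10 : (0 : ℤ) < (u + ε) * v := by
      have h11 : (0 : ℤ) < u + ε := by rcases hε with h1 | h1 <;> rw [h1] <;> omega
      have h12 : (0 : ℤ) < v := by exact_mod_cast hv.pos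
      positivity
    have h11 := Int.le_of_dvd h10 hM
    have h12 : ((u : ℤ) + ε) * v ≤ (u + 1) * u := by
      have h13 : (u : ℤ) + ε ≤ u + 1 := by rcases hε with h1 | h1 <;> rw [h1] <;> linarith only []
      have h14 : (v : ℤ) ≤ u := by exact_mod_cast hvle
      gcongr
    exact_mod_cast h11.trans h12
  have hmono : ∀ b : ℕ, u ≤ b → (u + 1) * u ≤ (b + 1) * b := fun b hb => Nat.mul_le_mul (by omega) hb
  have hq3 := h.q3
  rcases h.lo_nat with ⟨h10, h11⟩ | ⟨h10, h11, h12⟩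
  · have h13 := hmono (q + 2) (by rw [h10] at h9'; omega)
    obtain ⟨l, hl⟩ : ∃ l, q = l + 3 := ⟨q - 3, by omega⟩
    rw [hl] at h11 h13
    rw [show l + 3 - 1 = l + 2 by omega] at h11
    have h14 : ((l + 3) ^ 3 + (l + 3)) * (l + 2) = (l + 3 + 2 + 1) * (l + 3 + 2) +
        (l ^ 4 + 11 * l ^ 3 + 45 * l ^ 2 + 75 * l + 30) := by ring
    omega
  · rcases Nat.lt_or_ge q 13 with h13 | h13
    · have h14 : M = 1181 ∨ M = 3221 := by
        rcases h.five_small h10 (by omega) with h1 | h1 | h1 | h1 | h1 | h1 | h1 | h1 <;> omega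
      have hMp : M.Prime := by rcases h14 with h1 | h1 <;> rw [h1] <;> norm_num
      have h15 : v = M := (Nat.prime_dvd_prime_iff_eq hv hMp).1 ⟨m, hm⟩
      rw [h10] at h9'
      omega
    · have h14 := hmono (5 * q + 6) (by rw [h10] at h9'; omega)
      obtain ⟨l, hl⟩ : ∃ l, q = l + 13 := ⟨q - 13, by omega⟩
      rw [hl] at h11 h14
      rw [show l + 13 - 1 = l + 12 by omega] at h11
      have h15 : ((l + 13) ^ 3 + (l + 13)) * (l + 12) = 5 * ((5 * (l + 13) + 6 + 1) * (5 * (l + 13) + 6)) +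
        (l ^ 4 + 51 * l ^ 3 + 851 * l ^ 2 + 4731 * l + 960) := by ring
      omega

end Cfsg.Agent.R2.Spec.X7.N6
end

-- part: R2/Spec/E/IsoNum
section
prune_inst 0x4000010000000000000180000200002000000000200408000504006000a4610422041000140200d121044a080284000081000000000100000000000000000000000014602c0d90e08880000002003580c00000000000000000000000000041000000000000
set_option linter.all false
open scoped Cfsg.Agent.FastGrp

/-!
# The engine (helper29): both classes isolated in `S`, the size bound (clean case)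
-/

set_option autoImplicit false
set_option linter.unusedSectionVars false

namespace Cfsg.Agent.R2.Spec.E

open Cfsg Cfsg.Agent.H426.LieFam Cfsg.Agent.R2.Spec Cfsg.Agent.R2.Spec.P1 Cfsg.Agent.R2.Spec.F1

universe u

theorem P_le {a' b' c' P Q : ℤ} (ha : 1 ≤ a') (hab : b' ≤ 3 * a') (hQ : 0 ≤ Q) (he : a' * P = b' * Q + c') :
    P ≤ 3 * Q + |c'| := by
  have h1 := le_abs_self c'
  have h2 : b' * Q ≤ 3 * a' * Q := mul_le_mul_of_nonneg_right hab hQ
  have h3 : a' * P ≤ a' * (3 * Q + |c'|) := by nlinarith only [ha, he, h1, h2, abs_nonneg c']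
  exact le_of_mul_le_mul_left h3 (by omega)

/-- linear and unitary `S` -/
theorem num_lin {u q f d : ℤ} {E : ℕ} {a c a' b' c' H P Q : ℤ} (hu : 2 ≤ u) (hq : 3 ≤ q) (hf : 1 ≤ f)
    (hd : d * |c'| ≤ u + 1) (hc0 : 1 ≤ |c'|) (hd1 : 0 ≤ d) (hH : H ≤ 2 * d * f) (hH1 : 1 ≤ H) (ha1 : 1 ≤ a)
    (ha : a ≤ q + 1)
    (hc : |c| ≤ (q + 1) ^ 2) (ha1' : 1 ≤ a') (ha' : a' ≤ u + 1) (hab : b' ≤ 3 * a') (hP1 : 1 ≤ P) (hQ1 : 1 ≤ Q)
    (he : a' * P = b' * Q + c') (hQ : Q ≤ a' * |c| + a * H * |c'|) (hE : 5 ≤ E) (hlow : u ^ E ≤ 8 * Q) :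
    H * P ≤ 113 * (f ^ 3 * (q + 1) ^ 3) := by
  have hc0' := abs_nonneg c
  obtain ⟨A, hA⟩ : ∃ A, A = u + 1 := ⟨_, rfl⟩
  obtain ⟨B, hB⟩ : ∃ B, B = q + 1 := ⟨_, rfl⟩
  rw [← hA] at hd ha'
  rw [← hB] at hc ha ⊢
  have hA3 : 3 ≤ A := by omega
  have hB4 : 4 ≤ B := by omega
  have hdA : d ≤ A := by nlinarith only [hc0, hd1, hd]
  have h1 : H * |c'| ≤ 2 * f * A := by
    calc H * |c'| ≤ (2 * d * f) * |c'| := mul_le_mul_of_nonneg_right hH (by omega)
      _ = 2 * f * (d * |c'|) := by ring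
      _ ≤ 2 * f * A := mul_le_mul_of_nonneg_left hd (by omega)
  have h2 : a * H * |c'| ≤ B * (2 * f * A) := by
    calc a * H * |c'| = a * (H * |c'|) := by ring
      _ ≤ B * (2 * f * A) := mul_le_mul ha h1 (by positivity) (by omega)
  have h3 : a' * |c| ≤ A * B ^ 2 := mul_le_mul ha' hc hc0' (by omega)
  have hfA : 0 < f * A := by positivity
  have h4 : 2 * Q ≤ 3 * (f * A * B ^ 2) := by
    have e1 : A * B ^ 2 ≤ f * A * B ^ 2 := by
      have : A ≤ f * A := by nlinarith only [hf, ha1', ha']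
      exact mul_le_mul_of_nonneg_right this (by positivity)
    have e2 : 4 * (B * (f * A)) ≤ f * A * B ^ 2 := by
      have : 0 ≤ f * A * B * (B - 4) := mul_nonneg (by positivity) (by omega)
      linarith only [this]
    linarith only [hQ, h2, h3, e1, e2]
  have h5 : u ^ (E - 1) ≤ 18 * (f * B ^ 2) := by
    have e1 : u ^ E = u * u ^ (E - 1) := by rw [← pow_succ']; congr 1; omega
    have e2 : 2 * A ≤ 3 * u := by omega
    have e3 : u * u ^ (E - 1) ≤ u * (18 * (f * B ^ 2)) := by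
      rw [← e1]
      have e4 : 8 * Q ≤ 12 * (f * A * B ^ 2) := by omega
      have e5 : 2 * A * (f * B ^ 2) ≤ 3 * u * (f * B ^ 2) := mul_le_mul_of_nonneg_right e2 (by positivity)
      linarith only [hlow, h4, e5]
    exact le_of_mul_le_mul_left e3 (by omega)
  have h6 : u ^ 4 ≤ 18 * (f * B ^ 2) := (pow_le_pow_right₀ (by omega) (by omega)).trans h5
  have h7 : u ^ 2 ≤ 5 * (f * B) := by
    refine (sq_le_sq₀ (by positivity) (by positivity)).1 ?_
    have e1 : f * B ^ 2 ≤ f ^ 2 * B ^ 2 := by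
      have : f ≤ f ^ 2 := by nlinarith only [hf]
      exact mul_le_mul_of_nonneg_right this (by positivity)
    have e2 : (u ^ 2) ^ 2 = u ^ 4 := by ring
    have e3 : 0 ≤ f ^ 2 * B ^ 2 := by positivity
    rw [e2]
    nlinarith only [h6, e1]
  have h8 := P_le ha1' hab (by omega) he
  have h9 : H * P ≤ 9 * (f ^ 2 * A ^ 2 * B ^ 2) + 2 * f * A := by
    have e1 : H * P ≤ H * (3 * Q + |c'|) := mul_le_mul_of_nonneg_left h8 (by omega)
    have e2 : H ≤ 2 * (f * A) := by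
      have : d * f ≤ A * f := mul_le_mul_of_nonneg_right hdA (by omega)
      linarith only [hH, this]
    have e3 : H * (3 * Q) ≤ 2 * (f * A) * (3 * Q) := mul_le_mul_of_nonneg_right e2 (by omega)
    have e4 : 3 * (f * A) * (2 * Q) ≤ 3 * (f * A) * (3 * (f * A * B ^ 2)) :=
      mul_le_mul_of_nonneg_left h4 (by positivity)
    linarith only [h1, e1, e3, e4]
  have h10 : f * A ≤ f ^ 2 * A ^ 2 * B ^ 2 := by
    have e1 : 1 ≤ f * A := by linarith only [hfA]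
    have e2 : 1 ≤ B ^ 2 := by nlinarith only [hq, ha1, ha, hB]
    have e3 : f * A ≤ (f * A) ^ 2 := by nlinarith only [hfA]
    have e4 : (f * A) ^ 2 ≤ (f * A) ^ 2 * B ^ 2 := le_mul_of_one_le_right (by positivity) e2
    have e5 : f ^ 2 * A ^ 2 * B ^ 2 = (f * A) ^ 2 * B ^ 2 := by ring
    rw [e5]
    exact e3.trans e4
  have h10' : 16 * (f * A) ≤ f ^ 2 * A ^ 2 * B ^ 2 := by
    have e1 : 1 ≤ f * A := by linarith only [hfA]
    have e2 : 16 ≤ B ^ 2 := by nlinarith only [hq, ha1, ha, hB]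
    have e3 : f * A ≤ (f * A) ^ 2 := by nlinarith only [hfA]
    have e4 : 16 * (f * A) ^ 2 ≤ (f * A) ^ 2 * B ^ 2 := by nlinarith only [e2, sq_nonneg (f * A)]
    have e5 : f ^ 2 * A ^ 2 * B ^ 2 = (f * A) ^ 2 * B ^ 2 := by ring
    rw [e5]
    linarith only [e3, e4]
  have h11 : 4 * A ^ 2 ≤ 9 * u ^ 2 := by nlinarith only [hu, ha1', ha', hA]
  have h12 : 4 * (f ^ 2 * A ^ 2 * B ^ 2) ≤ 45 * (f ^ 3 * B ^ 3) := by
    have e1 : 4 * (f ^ 2 * A ^ 2 * B ^ 2) = f ^ 2 * B ^ 2 * (4 * A ^ 2) := by ring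
    have e2 : f ^ 2 * B ^ 2 * (4 * A ^ 2) ≤ f ^ 2 * B ^ 2 * (9 * (5 * (f * B))) :=
      mul_le_mul_of_nonneg_left (by omega) (by positivity)
    have e3 : f ^ 2 * B ^ 2 * (9 * (5 * (f * B))) = 45 * (f ^ 3 * B ^ 3) := by ring
    omega
  have h13 : 0 ≤ f ^ 3 * B ^ 3 := by positivity
  linarith

/-- symplectic `S` -/
theorem num_sp {q f : ℤ} {a c c' H P Q : ℤ} (hq : 3 ≤ q) (hf : 1 ≤ f)
    (hc2 : |c'| ≤ 2) (hH : H ≤ 8 * f) (hH1 : 1 ≤ H) (ha1 : 1 ≤ a) (ha : a ≤ q + 1)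
    (hc : |c| ≤ (q + 1) ^ 2) (hP1 : 1 ≤ P) (hQ1 : 1 ≤ Q)
    (he : P = Q + c') (hQ : Q ≤ |c| + a * H * |c'|) :
    H * P ≤ 41 * (f ^ 2 * (q + 1) ^ 2) := by
  have hc0' := abs_nonneg c
  have hc0 := abs_nonneg c'
  obtain ⟨B, hB⟩ : ∃ B, B = q + 1 := ⟨_, rfl⟩
  rw [← hB] at hc ha ⊢
  have hB4 : 4 ≤ B := by omega
  have h1 : H * |c'| ≤ 16 * f := by nlinarith only [hc2, hH, hH1]
  have h2 : a * H * |c'| ≤ B * (16 * f) := by
    calc a * H * |c'| = a * (H * |c'|) := by ring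
      _ ≤ B * (16 * f) := mul_le_mul ha h1 (by positivity) (by omega)
  have h3 : Q ≤ 5 * (f * B ^ 2) := by
    have e1 : B ^ 2 ≤ f * B ^ 2 := le_mul_of_one_le_left (by positivity) hf
    have e2 : 4 * (B * f) ≤ f * B ^ 2 := by linarith only [mul_nonneg (by positivity : 0 ≤ f * B) (by omega : 0 ≤ B - 4)]
    linarith only [hQ, hc, h2, e1, e2]
  have h4 : P ≤ Q + 2 := by have := le_abs_self c'; omega
  have h5 : 16 ≤ B ^ 2 := by nlinarith only [hq, ha1, ha, hB]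
  have h6 : 16 * f ≤ f ^ 2 * B ^ 2 := by nlinarith only [hf, mul_nonneg (by positivity : 0 ≤ f ^ 2) (by omega : 0 ≤ B ^ 2 - 16)]
  calc H * P ≤ 8 * f * P := mul_le_mul_of_nonneg_right hH (by omega)
    _ ≤ 8 * f * (5 * (f * B ^ 2) + 2) := mul_le_mul_of_nonneg_left (by omega) (by omega)
    _ = 40 * (f ^ 2 * B ^ 2) + 16 * f := by ring
    _ ≤ 41 * (f ^ 2 * B ^ 2) := by omega

/-- orthogonal `S`, general bound -/
theorem num_orth {u q f : ℤ} {a c a' b' c' H P Q : ℤ} (hu : 2 ≤ u) (hq : 3 ≤ q) (hf : 1 ≤ f)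
    (hc2 : |c'| ≤ 2 * (u + 1) ^ 2) (hH : H ≤ 8 * f) (hH1 : 1 ≤ H) (ha1 : 1 ≤ a) (ha : a ≤ q + 1)
    (hc : |c| ≤ (q + 1) ^ 2) (ha1' : 1 ≤ a') (ha' : a' ≤ u + 1) (hab : b' ≤ 3 * a') (hP1 : 1 ≤ P) (hQ1 : 1 ≤ Q)
    (he : a' * P = b' * Q + c') (hQ : Q ≤ a' * |c| + a * H * |c'|) :
    Q ≤ 10 * (f * u ^ 2 * (q + 1) ^ 2) ∧ H * P ≤ 237 * (f ^ 2 * u ^ 2 * (q + 1) ^ 2) := by
  have hc0' := abs_nonneg c
  have hc0 := abs_nonneg c'
  obtain ⟨A, hA⟩ : ∃ A, A = u + 1 := ⟨_, rfl⟩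
  obtain ⟨B, hB⟩ : ∃ B, B = q + 1 := ⟨_, rfl⟩
  rw [← hA] at hc2 ha'
  rw [← hB] at hc ha ⊢
  have hA3 : 3 ≤ A := by omega
  have hB4 : 4 ≤ B := by omega
  have h1 : H * |c'| ≤ 16 * (f * A ^ 2) := by
    calc H * |c'| ≤ 8 * f * (2 * A ^ 2) := mul_le_mul hH hc2 hc0 (by omega)
      _ = 16 * (f * A ^ 2) := by ring
  have h2 : a * H * |c'| ≤ B * (16 * (f * A ^ 2)) := by
    calc a * H * |c'| = a * (H * |c'|) := by ring
      _ ≤ B * (16 * (f * A ^ 2)) := mul_le_mul ha h1 (by positivity) (by omega)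
  have h3 : a' * |c| ≤ A * B ^ 2 := mul_le_mul ha' hc hc0' (by omega)
  have h4 : 3 * Q ≤ 13 * (f * A ^ 2 * B ^ 2) := by
    have e1 : 3 * (A * B ^ 2) ≤ f * A ^ 2 * B ^ 2 := by
      have e3 : 3 * A ≤ f * A ^ 2 := by nlinarith only [hf, ha1', ha', mul_nonneg (by positivity : 0 ≤ f * A) (by omega : 0 ≤ A - 3)]
      linarith only [mul_nonneg (sub_nonneg.2 e3) (by positivity : 0 ≤ B ^ 2)]
    have e2 : 4 * (B * (f * A ^ 2)) ≤ f * A ^ 2 * B ^ 2 := by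
      linarith only [mul_nonneg (by positivity : 0 ≤ f * A ^ 2 * B) (by omega : 0 ≤ B - 4)]
    linarith only [hQ, h2, h3, e1, e2]
  have h11 : 4 * A ^ 2 ≤ 9 * u ^ 2 := by nlinarith only [hu, ha1', ha', hA]
  have h12 : 4 * (f * A ^ 2 * B ^ 2) ≤ 9 * (f * u ^ 2 * B ^ 2) := by
    have e1 : f * B ^ 2 * (4 * A ^ 2) ≤ f * B ^ 2 * (9 * u ^ 2) := mul_le_mul_of_nonneg_left h11 (by positivity)
    linarith only [e1]
  have hpos : 0 ≤ f * u ^ 2 * B ^ 2 := by positivity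
  refine ⟨by omega, ?_⟩
  have h8 := P_le ha1' hab (by omega) he
  have h9 : H * P ≤ 8 * f * (13 * (f * A ^ 2 * B ^ 2) + 2 * A ^ 2) :=
    mul_le_mul hH (by omega) (by omega) (by omega)
  have h13 : 16 * (f * A ^ 2) ≤ f ^ 2 * A ^ 2 * B ^ 2 := by
    have e2 : 16 ≤ B ^ 2 := by nlinarith only [hq, ha1, ha, hB]
    have e3 : 16 * f ≤ f ^ 2 * B ^ 2 := by
      nlinarith only [hf, mul_nonneg (by positivity : 0 ≤ f ^ 2) (by omega : 0 ≤ B ^ 2 - 16)]
    linarith only [mul_nonneg (sub_nonneg.2 e3) (by positivity : 0 ≤ A ^ 2)]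
  have h14 : 4 * (f ^ 2 * A ^ 2 * B ^ 2) ≤ 9 * (f ^ 2 * u ^ 2 * B ^ 2) := by
    have e1 : f ^ 2 * B ^ 2 * (4 * A ^ 2) ≤ f ^ 2 * B ^ 2 * (9 * u ^ 2) :=
      mul_le_mul_of_nonneg_left h11 (by positivity)
    linarith only [e1]
  have h15 : 8 * f * (13 * (f * A ^ 2 * B ^ 2) + 2 * A ^ 2) =
      104 * (f ^ 2 * A ^ 2 * B ^ 2) + 16 * (f * A ^ 2) := by ring
  have h16 : 0 ≤ f ^ 2 * u ^ 2 * B ^ 2 := by positivity
  linarith


end Cfsg.Agent.R2.Spec.E
end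

-- part: R2/Spec/E/IsoOne
section
set_option linter.all false
open scoped Cfsg.Agent.FastGrp

/-!
# The engine (helper29): both classes isolated in `S`, clean cofactor
-/

set_option autoImplicit false
set_option linter.unusedSectionVars false

namespace Cfsg.Agent.R2.Spec.E

open Cfsg Cfsg.Agent.H426.LieFam Cfsg.Agent.R2.Spec Cfsg.Agent.R2.Spec.P1 Cfsg.Agent.R2.Spec.F1

universe u

theorem rk_of_four {t' : Fam} (h : RkFour t') : 4 ≤ rk t' := by
  cases t' with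
  | psl m => exact le_trans (by norm_num) (show 7 ≤ m from h)
  | psu m => exact le_trans (by norm_num) (show 7 ≤ m from h)
  | psp m => exact h
  | oodd m => exact h
  | oplus m => exact le_trans (by norm_num) (show 5 ≤ m from h)
  | ominus m => exact h
  | _ => exact h.elim

variable {t t' : Fam} {p f i j v f' i' j' w H : ℕ} {S : Type u} [Group S]

/-- **Both classes isolated, clean cofactor**: exotic or small. -/
theorem Duel.iso_one (h : Duel t p f i j t' v f' i' j' w H S) (hr : 4 ≤ rk t) (hR : RkFour t') (ht : top t' j')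
    (hH : H ∣ outB t' v f') :
    (∃ H' : ℕ, ttor t (p ^ f) j = H' * ttor t' (v ^ f') j' ∧ Exo t (p ^ f) t' (v ^ f') i j i' j' H H') ∨
      (∃ B : ℕ, ttor t (p ^ f) i ≤ B ∧ (p ^ f) ^ dimL t ≤ 8 * dgL t (p ^ f) * ttor t (p ^ f) i ∧
        (B = 113 * (f' ^ 3 * (p ^ f + 1) ^ 3) ∨
          ((∃ m, (t' = .oplus m ∧ m % 2 = 1) ∨ t' = .ominus m) ∧
            B = 237 * (f' ^ 2 * (v ^ f') ^ 2 * (p ^ f + 1) ^ 2) ∧
            (v ^ f') ^ (szE t' - 2) ≤ 80 * (f' * (p ^ f + 1) ^ 2)))) := by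
  obtain ⟨H', k, d, s', a, b, c, a', b', c', hN, hL, hk, hS, hH1, hH1', hP1, hQ1, h1⟩ :=
    h.iso_raw hr (Or.inl (rk_of_four hR)) ht
  rcases h1 with h1 | ⟨hQ, -⟩
  · exact Or.inl ⟨H', hN, h1⟩
  right
  obtain ⟨hq3, hq2⟩ := f_q h.p_prime h.p_ne h.f_pos
  obtain ⟨ha1, ha2, hb1, hb2, hc, hM1, hN1⟩ := hL.sz hq3
  have hu : 2 ≤ v ^ f' := h.v_prime.two_le.trans (Nat.le_self_pow (by have := h.f'_pos; omega) v)
  obtain ⟨ha1', ha2', hb1', hb2', hab', hba', hd0, -, hk1, hc', hk3, hc0'⟩ := hS.rel.sz hu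
  have hM := h.eqM
  obtain ⟨hB0, hB1⟩ := outB_le hR h.f'_pos hS hH
  have hlow := lowS hu (rk_of_four hR) ht
  have hcp : 1 ≤ |c'| := Int.one_le_abs hc0'
  have hlow' : (((v ^ f' : ℕ) : ℤ)) ^ szE t' ≤ 8 * (ttor t' (v ^ f') j' : ℤ) := by exact_mod_cast hlow
  have hf : (1 : ℤ) ≤ f' := by exact_mod_cast h.f'_pos
  have hu' : (2 : ℤ) ≤ ((v ^ f' : ℕ) : ℤ) := by exact_mod_cast hu
  have hq' : (3 : ℤ) ≤ ((p ^ f : ℕ) : ℤ) := by exact_mod_cast hq3
  have hMz : ((ttor t (p ^ f) i : ℕ) : ℤ) = (H : ℤ) * (ttor t' (v ^ f') i' : ℤ) := by exact_mod_cast hM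
  rcases Nat.eq_zero_or_pos k with hk0 | hkpos
  · refine ⟨_, ?_, hL.lowM, Or.inl rfl⟩
    have hE : 5 ≤ szE t' := by
      rcases hS.lin hk0 with ⟨m, rfl, -⟩ | ⟨m, rfl, -⟩
      · have : 7 ≤ m := hR
        change 5 ≤ m - 2
        omega
      · have : 7 ≤ m := hR
        change 5 ≤ m - 2
        omega
    have key := num_lin (u := ((v ^ f' : ℕ) : ℤ)) (q := ((p ^ f : ℕ) : ℤ)) (f := f') (d := d) (E := szE t')
      (H := H) (P := ttor t' (v ^ f') i') (Q := ttor t' (v ^ f') j') hu' hq' hf (hd0 hk0) hcp (by positivity)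
      (by exact_mod_cast hB0 hk0) (by exact_mod_cast hH1) ha1 ha2 hc ha1' ha2' hab' (by exact_mod_cast hP1)
      (by exact_mod_cast hQ1) hS.eq hQ hE hlow'
    rw [← hMz] at key
    exact_mod_cast key
  have hHk := hB1 (by omega)
  rcases Nat.lt_or_ge k 2 with hk2 | hk2
  · refine ⟨_, ?_, hL.lowM, Or.inl rfl⟩
    obtain ⟨hc2, ea, eb⟩ := hk1 (by omega)
    have heq := hS.eq
    rw [ea, eb, one_mul, one_mul] at heq
    rw [ea, one_mul] at hQ
    have key := num_sp (q := ((p ^ f : ℕ) : ℤ)) (f := f')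
      (H := H) (P := ttor t' (v ^ f') i') (Q := ttor t' (v ^ f') j') hq' hf hc2
      (by exact_mod_cast hHk) (by exact_mod_cast hH1) ha1 ha2 hc (by exact_mod_cast hP1)
      (by exact_mod_cast hQ1) heq hQ
    rw [← hMz] at key
    have key' : ttor t (p ^ f) i ≤ 41 * (f' ^ 2 * (p ^ f + 1) ^ 2) := by exact_mod_cast key
    refine key'.trans ?_
    have e1 : f' ^ 2 ≤ f' ^ 3 := Nat.pow_le_pow_right h.f'_pos (by norm_num)
    have e2 : (p ^ f + 1) ^ 2 ≤ (p ^ f + 1) ^ 3 := Nat.pow_le_pow_right (by omega) (by norm_num)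
    have := Nat.mul_le_mul e1 e2
    omega
  · obtain ⟨k1, k2⟩ := num_orth (u := ((v ^ f' : ℕ) : ℤ)) (q := ((p ^ f : ℕ) : ℤ)) (f := f')
      (H := H) (P := ttor t' (v ^ f') i') (Q := ttor t' (v ^ f') j') hu' hq' hf hc'
      (by exact_mod_cast hHk) (by exact_mod_cast hH1) ha1 ha2 hc ha1' ha2' hab' (by exact_mod_cast hP1)
      (by exact_mod_cast hQ1) hS.eq hQ
    rw [← hMz] at k2
    refine ⟨237 * (f' ^ 2 * (v ^ f') ^ 2 * (p ^ f + 1) ^ 2), by exact_mod_cast k2, hL.lowM, Or.inr ⟨?_, rfl, ?_⟩⟩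
    · cases t' with
      | psl m => exact absurd (hS.lk ⟨m, Or.inl rfl⟩) (by omega)
      | psu m => exact absurd (hS.lk ⟨m, Or.inr rfl⟩) (by omega)
      | psp m => exact absurd (hS.sp ⟨m, Or.inl rfl⟩) (by omega)
      | oodd m => exact absurd (hS.sp ⟨m, Or.inr (Or.inl rfl)⟩) (by omega)
      | oplus m =>
        rcases Nat.mod_two_eq_zero_or_one m with hm | hm
        · exact absurd (hS.sp ⟨m, Or.inr (Or.inr ⟨rfl, hm⟩)⟩) (by omega)
        · exact ⟨m, Or.inl ⟨rfl, hm⟩⟩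
      | ominus m => exact ⟨m, Or.inr rfl⟩
      | _ => exact hR.elim
    · have k1' : ttor t' (v ^ f') j' ≤ 10 * (f' * (v ^ f') ^ 2 * (p ^ f + 1) ^ 2) := by exact_mod_cast k1
      have hE : 2 ≤ szE t' := by
        cases t' with
        | psl m => exact absurd (hS.lk ⟨m, Or.inl rfl⟩) (by omega)
        | psu m => exact absurd (hS.lk ⟨m, Or.inr rfl⟩) (by omega)
        | psp m => exact le_trans (by norm_num) (show 4 ≤ m from hR)
        | oodd m => exact le_trans (by norm_num) (show 4 ≤ m from hR)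
        | oplus m =>
          have : 5 ≤ m := hR
          rw [szE]
          split_ifs <;> omega
        | ominus m => exact le_trans (by norm_num) (show 4 ≤ m from hR)
        | _ => exact hR.elim
      have e1 : (v ^ f') ^ szE t' = (v ^ f') ^ 2 * (v ^ f') ^ (szE t' - 2) := by
        rw [← pow_add]
        congr 1
        omega
      rw [e1] at hlow
      have e2 : (v ^ f') ^ 2 * (v ^ f') ^ (szE t' - 2) ≤ (v ^ f') ^ 2 * (80 * (f' * (p ^ f + 1) ^ 2)) := by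
        calc (v ^ f') ^ 2 * (v ^ f') ^ (szE t' - 2) ≤ 8 * (10 * (f' * (v ^ f') ^ 2 * (p ^ f + 1) ^ 2)) :=
              hlow.trans (Nat.mul_le_mul_left _ k1')
          _ = _ := by ring
      exact Nat.le_of_mul_le_mul_left e2 (by positivity)

/-- the size bound from `iso_one` -/
theorem size_of_one {t t' : Fam} {p f v f' M B : ℕ} (hR5 : RkFive t') (hf : 1 ≤ f') (hu : 2 ≤ v ^ f') (hM : M ≤ B)
    (h1 : (p ^ f) ^ dimL t ≤ 8 * dgL t (p ^ f) * M)
    (h2 : B = 113 * (f' ^ 3 * (p ^ f + 1) ^ 3) ∨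
          ((∃ m, (t' = .oplus m ∧ m % 2 = 1) ∨ t' = .ominus m) ∧
            B = 237 * (f' ^ 2 * (v ^ f') ^ 2 * (p ^ f + 1) ^ 2) ∧
            (v ^ f') ^ (szE t' - 2) ≤ 80 * (f' * (p ^ f + 1) ^ 2))) : SizeB 17064 t p f f' := by
  have hB : B ≤ 2133 * (f' ^ 4 * (p ^ f + 1) ^ 3) := by
    rcases h2 with rfl | ⟨hm, rfl, h3⟩
    · have e1 : f' ^ 3 ≤ f' ^ 4 := Nat.pow_le_pow_right hf (by norm_num)
      have := Nat.mul_le_mul_right ((p ^ f + 1) ^ 3) e1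
      omega
    · have hE : 4 ≤ szE t' - 2 := by
        obtain ⟨m, ⟨rfl, hm2⟩ | rfl⟩ := hm
        · have : 7 ≤ m := hR5
          rw [szE, if_neg (by omega)]
          omega
        · have : 6 ≤ m := hR5
          change 4 ≤ m - 2
          omega
      have e1 : (v ^ f') ^ 4 ≤ 80 * (f' * (p ^ f + 1) ^ 2) := (Nat.pow_le_pow_right (by omega) hE).trans h3
      have e2 : (v ^ f') ^ 2 ≤ 9 * (f' * (p ^ f + 1)) := by
        refine (Nat.pow_le_pow_iff_left (n := 2) (by norm_num)).1 ?_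
        have e3 : ((v ^ f') ^ 2) ^ 2 = (v ^ f') ^ 4 := by ring
        have e4 : f' ≤ f' ^ 2 := Nat.le_self_pow (by norm_num) f'
        have e5 : f' * (p ^ f + 1) ^ 2 ≤ f' ^ 2 * (p ^ f + 1) ^ 2 := Nat.mul_le_mul_right _ e4
        have e6 : (9 * (f' * (p ^ f + 1))) ^ 2 = 81 * (f' ^ 2 * (p ^ f + 1) ^ 2) := by ring
        omega
      have e7 : 237 * (f' ^ 2 * (v ^ f') ^ 2 * (p ^ f + 1) ^ 2) ≤ 2133 * (f' ^ 3 * (p ^ f + 1) ^ 3) := by
        calc 237 * (f' ^ 2 * (v ^ f') ^ 2 * (p ^ f + 1) ^ 2)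
            = 237 * (f' ^ 2 * (p ^ f + 1) ^ 2 * (v ^ f') ^ 2) := by ring
          _ ≤ 237 * (f' ^ 2 * (p ^ f + 1) ^ 2 * (9 * (f' * (p ^ f + 1)))) :=
            Nat.mul_le_mul_left _ (Nat.mul_le_mul_left _ e2)
          _ = 2133 * (f' ^ 3 * (p ^ f + 1) ^ 3) := by ring
      refine e7.trans (Nat.mul_le_mul_left _ (Nat.mul_le_mul_right _ ?_))
      exact Nat.pow_le_pow_right hf (by norm_num)
  unfold SizeB
  calc (p ^ f) ^ dimL t ≤ 8 * dgL t (p ^ f) * M := h1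
    _ ≤ 8 * dgL t (p ^ f) * (2133 * (f' ^ 4 * (p ^ f + 1) ^ 3)) := Nat.mul_le_mul_left _ (hM.trans hB)
    _ = 17064 * dgL t (p ^ f) * (f' ^ 4 * (p ^ f + 1) ^ 3) := by ring

end Cfsg.Agent.R2.Spec.E
end

-- part: R2/Spec/EE/SokF4
section
set_option linter.all false
open scoped Cfsg.Agent.FastGrp

-- part: R2/Spec/EE/CertF4
section
/-!
# More adjacency of the prime divisors of two cyclotomic values through one torus, type F4 (helper1)
-/

set_option autoImplicit false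

namespace Cfsg.Agent.R2.Spec.EE.CertF4

open Cfsg.Agent.H129.WData Cfsg.Agent.ChevalleyStructure.CoxeterGeomTypes Cfsg.Agent.Nodes.RGDChev
open Cfsg.Lie Cfsg.Lie.ChevalleyDatum
open Cfsg.Agent Cfsg.Agent.H493 Cfsg.Agent.H493.PGTorus Cfsg.Agent.H493.PGCyc Cfsg.Agent.H493.PGF4
open Cfsg.Agent.H168.ExcAdj

universe u

/-- partial products of an element with eigenvalues of orders [4, 1, 2] -/
def kc4_1_2 : List (Fin 4 × Mat 4) := [
    (3, ![![-1, 0, 0, 0], ![0, -1, -1, -1], ![0, 0, 1, 1], ![2, 4, 2, 1]]),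
    (1, ![![-1, 0, 0, 0], ![0, -1, -1, 0], ![0, 0, 1, 0], ![2, 4, 2, 1]]),
    (2, ![![-1, -1, 0, 0], ![0, -1, -1, 0], ![0, 2, 1, 0], ![2, 2, 2, 1]]),
    (0, ![![-1, -1, -1, 0], ![0, -1, 0, 0], ![0, 2, 1, 0], ![2, 2, 1, 1]]),
    (1, ![![0, -1, -1, 0], ![-1, -1, 0, 0], ![2, 2, 1, 0], ![0, 2, 1, 1]]),
    (2, ![![0, -1, -1, 0], ![-1, 0, 0, 0], ![2, 2, 1, 0], ![0, 0, 1, 1]]),
    (0, ![![0, -1, 0, 0], ![-1, 0, 0, 0], ![2, 2, 1, 0], ![0, 0, 0, 1]]),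
    (1, ![![-1, -1, 0, 0], ![1, 0, 0, 0], ![0, 2, 1, 0], ![0, 0, 0, 1]]),
    (0, ![![-1, 0, 0, 0], ![1, 1, 0, 0], ![0, 0, 1, 0], ![0, 0, 0, 1]])]

theorem kc4_1_2_ok : ChainOK Am kc4_1_2 := by decide +kernel

/-- coefficients of the eigenvector -/
def kV4_1_2_at4 : Fin 2 → Fin 4 → ℤ := ![![-1, -2, -1, 0], ![-1, -2, -1, -1]]

/-- the functional -/
def kU4_1_2_at4 : Fin 4 → ℤ := ![-2, 0, 1, 1]

theorem keig4_1_2_at4 : EigOK (hd kc4_1_2) c4 kV4_1_2_at4 kU4_1_2_at4 := by decide +kernel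

/-- coefficients of the eigenvector -/
def kV4_1_2_at1 : Fin 1 → Fin 4 → ℤ := ![![1, 2, 2, 1]]

/-- the functional -/
def kU4_1_2_at1 : Fin 4 → ℤ := ![-2, -1, 2, 1]

theorem keig4_1_2_at1 : EigOK (hd kc4_1_2) c1 kV4_1_2_at1 kU4_1_2_at1 := by decide +kernel

/-- coefficients of the eigenvector -/
def kV4_1_2_at2 : Fin 1 → Fin 4 → ℤ := ![![-1, 0, 0, 0]]

/-- the functional -/
def kU4_1_2_at2 : Fin 4 → ℤ := ![-1, -2, -2, -2]

theorem keig4_1_2_at2 : EigOK (hd kc4_1_2) c2 kV4_1_2_at2 kU4_1_2_at2 := by decide +kernel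

theorem relA_4_1 {F : Type u} [Field F] [Finite F] {r s : ℕ} (hr : r.Prime) (hs : s.Prime) (hrs : r ≠ s)
    (h1 : phiC c4 (Nat.card F) 1 r) (h2 : phiC c1 (Nat.card F) 1 s) :
    PG.Rel ↥(chevF4.group F) r s := by
  have := finW
  exact rel_of_eig hp CoxeterMatrix.F₄.toCoxeterSystem H129.TorusChar.invC_F4 one_ne_zero
    (chain_rep hp CoxeterMatrix.F₄.toCoxeterSystem hA kc4_1_2_ok) keig4_1_2_at4 keig4_1_2_at1 hr hs hrs h1.1 h2.1 h1.2 h2.2

theorem relA_4_2 {F : Type u} [Field F] [Finite F] {r s : ℕ} (hr : r.Prime) (hs : s.Prime) (hrs : r ≠ s)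
    (h1 : phiC c4 (Nat.card F) 1 r) (h2 : phiC c2 (Nat.card F) 1 s) :
    PG.Rel ↥(chevF4.group F) r s := by
  have := finW
  exact rel_of_eig hp CoxeterMatrix.F₄.toCoxeterSystem H129.TorusChar.invC_F4 one_ne_zero
    (chain_rep hp CoxeterMatrix.F₄.toCoxeterSystem hA kc4_1_2_ok) keig4_1_2_at4 keig4_1_2_at2 hr hs hrs h1.1 h2.1 h1.2 h2.2

/-- partial products of an element with eigenvalues of orders [6, 1, 2] -/
def kc6_1_2 : List (Fin 4 × Mat 4) := [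
    (3, ![![-1, -2, -1, -1], ![1, 1, 0, 0], ![0, 0, 1, 1], ![0, 2, 1, 0]]),
    (1, ![![-1, -2, -1, 0], ![1, 1, 0, 0], ![0, 0, 1, 0], ![0, 2, 1, 1]]),
    (2, ![![-1, -1, -1, 0], ![1, 0, 0, 0], ![0, 2, 1, 0], ![0, 0, 1, 1]]),
    (1, ![![-1, -1, 0, 0], ![1, 0, 0, 0], ![0, 2, 1, 0], ![0, 0, 0, 1]]),
    (0, ![![-1, 0, 0, 0], ![1, 1, 0, 0], ![0, 0, 1, 0], ![0, 0, 0, 1]])]

theorem kc6_1_2_ok : ChainOK Am kc6_1_2 := by decide +kernel

/-- coefficients of the eigenvector -/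
def kV6_1_2_at6 : Fin 2 → Fin 4 → ℤ := ![![2, 2, 1, 0], ![0, 2, 1, 1]]

/-- the functional -/
def kU6_1_2_at6 : Fin 4 → ℤ := ![0, 0, 1, -1]

theorem keig6_1_2_at6 : EigOK (hd kc6_1_2) c6 kV6_1_2_at6 kU6_1_2_at6 := by decide +kernel

/-- coefficients of the eigenvector -/
def kV6_1_2_at1 : Fin 1 → Fin 4 → ℤ := ![![1, 2, 2, 1]]

/-- the functional -/
def kU6_1_2_at1 : Fin 4 → ℤ := ![-2, -1, 2, 1]

theorem keig6_1_2_at1 : EigOK (hd kc6_1_2) c1 kV6_1_2_at1 kU6_1_2_at1 := by decide +kernel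

/-- coefficients of the eigenvector -/
def kV6_1_2_at2 : Fin 1 → Fin 4 → ℤ := ![![-1, 0, 0, -1]]

/-- the functional -/
def kU6_1_2_at2 : Fin 4 → ℤ := ![-2, -2, -2, 1]

theorem keig6_1_2_at2 : EigOK (hd kc6_1_2) c2 kV6_1_2_at2 kU6_1_2_at2 := by decide +kernel

theorem relA_6_1 {F : Type u} [Field F] [Finite F] {r s : ℕ} (hr : r.Prime) (hs : s.Prime) (hrs : r ≠ s)
    (h1 : phiC c6 (Nat.card F) 1 r) (h2 : phiC c1 (Nat.card F) 1 s) :
    PG.Rel ↥(chevF4.group F) r s := by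
  have := finW
  exact rel_of_eig hp CoxeterMatrix.F₄.toCoxeterSystem H129.TorusChar.invC_F4 one_ne_zero
    (chain_rep hp CoxeterMatrix.F₄.toCoxeterSystem hA kc6_1_2_ok) keig6_1_2_at6 keig6_1_2_at1 hr hs hrs h1.1 h2.1 h1.2 h2.2

theorem relA_6_2 {F : Type u} [Field F] [Finite F] {r s : ℕ} (hr : r.Prime) (hs : s.Prime) (hrs : r ≠ s)
    (h1 : phiC c6 (Nat.card F) 1 r) (h2 : phiC c2 (Nat.card F) 1 s) :
    PG.Rel ↥(chevF4.group F) r s := by
  have := finW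
  exact rel_of_eig hp CoxeterMatrix.F₄.toCoxeterSystem H129.TorusChar.invC_F4 one_ne_zero
    (chain_rep hp CoxeterMatrix.F₄.toCoxeterSystem hA kc6_1_2_ok) keig6_1_2_at6 keig6_1_2_at2 hr hs hrs h1.1 h2.1 h1.2 h2.2

end Cfsg.Agent.R2.Spec.EE.CertF4
end

-- part: R2/Spec/EE/SokF4
section
/-!
# The table of `F₄(q)` (helper1)
-/

set_option autoImplicit false

namespace Cfsg.Agent.R2.Spec.EE

open Cfsg Cfsg.Lie Cfsg.Agent.H426.LieFam
open Cfsg.Agent.H378.ExcAdj Cfsg.Agent.H371.CycEval Cfsg.Agent.H371.Core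
open Cfsg.Agent.H168

universe u w

namespace F4Tab

/-- the adjacent pairs -/
def L : List (ℕ × ℕ) := [(1, 1), (2, 2), (3, 3), (4, 4), (6, 6), (8, 8), (12, 12), (3, 1), (3, 2), (1, 2), (1, 3), (2, 3), (2, 1), (4, 1), (1, 4), (4, 2), (2, 4), (6, 1), (1, 6), (6, 2), (2, 6)]

theorem L_ok : ∀ a ∈ clF4, ∀ b ∈ clF4, (tabF4.adj.getD (clF4.idxOf a) 0).testBit (clF4.idxOf b) = true →
    (a, b) ∈ L := by decide +kernel

theorem N_ok : ∀ a ∈ clF4, ∀ b ∈ clF4, (tabF4.na.getD (clF4.idxOf a) 0).testBit (clF4.idxOf b) = true →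
    (a = 8 ∧ b ≠ 8) ∨ (b = 8 ∧ a ≠ 8) ∨ (a = 12 ∧ b ≠ 12) ∨ (b = 12 ∧ a ≠ 12) ∨
      ((a = 3 ∧ b = 4) ∨ (a = 3 ∧ b = 6) ∨ (a = 4 ∧ b = 6)) ∨
      ((b = 3 ∧ a = 4) ∨ (b = 3 ∧ a = 6) ∨ (b = 4 ∧ a = 6)) := by decide +kernel

theorem T_ok : ∀ a ∈ clF4, tabF4.tt.testBit (clF4.idxOf a) = true → a = 8 ∨ a = 12 := by decide +kernel

theorem V_ok : ∀ a ∈ clF4, tabF4.nt.testBit (clF4.idxOf a) = true → a = 1 ∨ a = 2 ∨ a = 3 ∨ a = 4 ∨ a = 6 := by
  decide +kernel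

end F4Tab

theorem sok_f4X {F : Type w} [Field F] [Finite F] {v f : ℕ} (hv : v.Prime) (hf : f ≠ 0) (hF : Nat.card F = v ^ f) :
    SOk tabF4 ↥(chevF4.group F) v (kcl clF4 (v ^ f)) := by
  rw [← hF]
  have hvq : v ∣ Nat.card F := hF ▸ dvd_pow_self v hf
  have cls : ∀ r : ℕ, r.Prime → r ≠ v → r ∣ Nat.card ↥(chevF4.group F) → od (Nat.card F) r ∈ clF4 := by
    intro r hr hne hd
    rcases od_F4 hr hd with h | h
    · rw [hF] at h
      exact (hne (Sm.eq_of_dvd_pow hv hr h)).elim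
    · simp only [clF4, List.mem_cons, List.not_mem_nil, or_false]
      exact h
  have t8 := tor_F4_8 F
  have t12 := tor_F4_12 F
  constructor
  · intro r hr _ hne hd
    exact List.idxOf_lt_length_of_mem (cls r hr hne hd)
  · intro r s hr hs _ _ hne hne' hrs hd hd' ht
    have h := F4Tab.L_ok _ (cls r hr hne hd) _ (cls s hs hne' hd') ht
    simp only [F4Tab.L, List.mem_cons, List.not_mem_nil, or_false, Prod.mk.injEq] at h
    rcases h with ⟨ha, hb⟩ | ⟨ha, hb⟩ | ⟨ha, hb⟩ | ⟨ha, hb⟩ | ⟨ha, hb⟩ | ⟨ha, hb⟩ | ⟨ha, hb⟩ | ⟨ha, hb⟩ | ⟨ha, hb⟩ | ⟨ha, hb⟩ | ⟨ha, hb⟩ | ⟨ha, hb⟩ | ⟨ha, hb⟩ | ⟨ha, hb⟩ | ⟨ha, hb⟩ | ⟨ha, hb⟩ | ⟨ha, hb⟩ | ⟨ha, hb⟩ | ⟨ha, hb⟩ | ⟨ha, hb⟩ | ⟨ha, hb⟩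
    · exact (ExcF4.rel1 hr hs hrs (Sm.p1 hr ha) (Sm.p1 hs hb)).2.2.2
    · exact (ExcF4.rel2 hr hs hrs (Sm.p2 hr ha) (Sm.p2 hs hb)).2.2.2
    · exact (ExcF4.rel3 hr hs hrs (Sm.p3 hr ha) (Sm.p3 hs hb)).2.2.2
    · exact (ExcF4.rel4 hr hs hrs (Sm.p4 hr ha) (Sm.p4 hs hb)).2.2.2
    · exact (ExcF4.rel6 hr hs hrs (Sm.p6 hr ha) (Sm.p6 hs hb)).2.2.2
    · exact (ExcF4.rel8 hr hs hrs (Sm.p8 hr ha) (Sm.p8 hs hb)).2.2.2
    · exact (ExcF4.rel12 hr hs hrs (Sm.p12 hr ha) (Sm.p12 hs hb)).2.2.2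
    · exact (ExcF4.rel_3_1 hr hs hrs (Sm.p3 hr ha) (Sm.p1 hs hb)).2.2.2
    · exact (ExcF4.rel_3_2 hr hs hrs (Sm.p3 hr ha) (Sm.p2 hs hb)).2.2.2
    · exact (ExcF4.rel_1_2 hr hs hrs (Sm.p1 hr ha) (Sm.p2 hs hb)).2.2.2
    · exact (ExcF4.rel_3_1 hs hr hrs.symm (Sm.p3 hs hb) (Sm.p1 hr ha)).symm.2.2.2
    · exact (ExcF4.rel_3_2 hs hr hrs.symm (Sm.p3 hs hb) (Sm.p2 hr ha)).symm.2.2.2
    · exact (ExcF4.rel_1_2 hs hr hrs.symm (Sm.p1 hs hb) (Sm.p2 hr ha)).symm.2.2.2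
    · exact (CertF4.relA_4_1 hr hs hrs (Sm.p4 hr ha) (Sm.p1 hs hb)).2.2.2
    · exact (CertF4.relA_4_1 hs hr hrs.symm (Sm.p4 hs hb) (Sm.p1 hr ha)).symm.2.2.2
    · exact (CertF4.relA_4_2 hr hs hrs (Sm.p4 hr ha) (Sm.p2 hs hb)).2.2.2
    · exact (CertF4.relA_4_2 hs hr hrs.symm (Sm.p4 hs hb) (Sm.p2 hr ha)).symm.2.2.2
    · exact (CertF4.relA_6_1 hr hs hrs (Sm.p6 hr ha) (Sm.p1 hs hb)).2.2.2
    · exact (CertF4.relA_6_1 hs hr hrs.symm (Sm.p6 hs hb) (Sm.p1 hr ha)).symm.2.2.2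
    · exact (CertF4.relA_6_2 hr hs hrs (Sm.p6 hr ha) (Sm.p2 hs hb)).2.2.2
    · exact (CertF4.relA_6_2 hs hr hrs.symm (Sm.p6 hs hb) (Sm.p2 hr ha)).symm.2.2.2
  · intro r s hr hs hr5 hs5 hne hne' hrs hd hd' ht
    rcases F4Tab.N_ok _ (cls r hr hne hd) _ (cls s hs hne' hd') ht with ⟨ha, hb⟩ | ⟨ha, hb⟩ | ⟨ha, hb⟩ | ⟨ha, hb⟩ | h | h
    · exact Sm.na_of_tor t8 hr hs ha (Sm.ndvd hs hs5 (by norm_num)) hb
    · exact Sm.swap (Sm.na_of_tor t8 hs hr ha (Sm.ndvd hr hr5 (by norm_num)) hb)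
    · exact Sm.na_of_tor t12 hr hs ha (Sm.ndvd hs hs5 (by norm_num)) hb
    · exact Sm.swap (Sm.na_of_tor t12 hs hr ha (Sm.ndvd hr hr5 (by norm_num)) hb)
    · exact F4No.no_F4 hr hs rfl rfl h
    · exact Sm.swap (F4No.no_F4 hs hr rfl rfl h)
  · intro r hr _ hne hd ht
    rcases F4Tab.T_ok _ (cls r hr hne hd) ht with ha | ha
    · exact Sm.tt_of_tor t8 hr hv hvq ha (by norm_num)
    · exact Sm.tt_of_tor t12 hr hv hvq ha (by norm_num)
  · intro r hr _ hne hd ht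
    rcases F4Tab.V_ok _ (cls r hr hne hd) ht with ha | ha | ha | ha | ha
    · exact (CertSm.rel_F_1_p hr hv (Sm.p1 hr ha).2 hvq).2.2.2
    · exact (CertSm.rel_F_2_p hr hv (Sm.p2 hr ha).2 hvq).2.2.2
    · exact (CertSm.rel_F_3_p hr hv (Sm.p3 hr ha).2 hvq).2.2.2
    · exact (CertSm.rel_F_4_p hr hv (Sm.p4 hr ha).2 hvq).2.2.2
    · exact (CertSm.rel_F_6_p hr hv (Sm.p6 hr ha).2 hvq).2.2.2

/-- **`F₄(q)`** -/
theorem sok_f4 {S : Type u} [Group S] [Finite S] {v f : ℕ} (hv : v.Prime) (h : Fam.Is v f S .f4) :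
    SOk tabF4 S v (kcl clF4 (v ^ f)) := by
  obtain ⟨F, _, _, _, hF, ⟨e⟩⟩ := h
  have hf : f ≠ 0 := by
    rintro rfl
    have h1 : 1 < Fintype.card F := Fintype.one_lt_card
    rw [hF, pow_zero] at h1
    omega
  exact Sm.of_equiv e (sok_f4X hv hf (by rw [Nat.card_eq_fintype_card, hF]))

end Cfsg.Agent.R2.Spec.EE
end

private theorem dce_a9ca9005ddfe : _root_.True := by
  try have : _root_.True := by simp only [_root_.Cfsg.Agent.R2.Spec.EE.F4Tab.L.eq_1]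
  try have : _root_.True := by simp only [_root_.Cfsg.Agent.R2.Spec.EE.clF4.eq_1]
  exact _root_.True.intro
end
end
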