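import Cfsg.Agent.R2.Spec.X3.PairIF_m3
import Cfsg.Agent.R2.Spec.F1.ExcFrm_m3
import Cfsg.Agent.R2.Spec.EE.RowN_m3
import Cfsg.Agent.R2.Spec.EE.SmTFn_m3
import Cfsg.Agent.R2.Spec.P1.TopTor_m3
import Cfsg.Agent.R2.Spec.F1.MovA_m3
import Cfsg.Agent.KFacts.RgdLieCharP
import Cfsg.Agent.H35.ExcIdxTw_m3
import Cfsg.Agent.BpExc.AsmN_m3
import Cfsg.Agent.H80.Fpf.RowAlt_mg_m3
import Cfsg.Agent.H111.Fpf.SevenPar
import Cfsg.Agent.H225.PPow.ChevF
import Cfsg.Agent.H631.XZ.TE6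
import Cfsg.Agent.KFacts.TwESix.Tor
import Cfsg.Agent.H934.RowTwD4
import Cfsg.Agent.H249.PPTwD4
import Cfsg.Agent.S1055
import Cfsg.Agent.ClosedExc.Rows
import Cfsg.Agent.Schreier.TwDFour
import Cfsg.Agent.S1070
import Cfsg.Agent.S1071
import Cfsg.Agent.ChevFast.E6
import Cfsg.Agent.ChevFast.E7
import Cfsg.Agent.ChevFast.E8
import Cfsg.Agent.ChevFast.Lin
import Cfsg.Agent.R2.Spec.E.Duel_m3
import Cfsg.Agent.LieRecognition.ReeFinal
import Cfsg.Agent.H224.F4R.CovF_m3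
import Cfsg.Agent.S0204
import Cfsg.Agent.H127.TwFInv
import Cfsg.Agent.KFacts.TwF4.CentR
import Cfsg.Agent.H426.LieEx_m3
import Cfsg.Agent.R2.Spec.EE.SokBase_m3
import Cfsg.Agent.R2.Spec.EE.CertSm_m3
import Cfsg.Agent.H168.ExcCover
import Cfsg.Agent.FastGrp
import Cfsg.Agent.Prune
set_option linter.all false

section
prune_inst 0x7fb9fff8bfbdbfffffff7e7ffeb9dffc19d55fffefdff943ffecebff8fdf03862be5fbaf0de050ff0ef6e2b410b87853fb7eeeffeb6bd87ffffd1ff45ffbee5ff7ffbd0911d694240f346ffff3f07fce7f3fffffffffffffffffffffffffffbeffffffffffff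

-- part: R2/Spec/X5/NoV
section
prune_inst 0x46000440024000000000000140200202028000100002000013000050209079100804009004a800d00100492801000000000000040404000000e003000000200000028460012900d0ca00000801003180c00000000000000000000000000041000000000000
set_option linter.all false
open scoped Cfsg.Agent.FastGrp

-- part: R2/Spec/X5/VNum
section
/-!
# S3435, box X5 (helper12): `v ∣ (q ^ n + 1) / 2`: the numbers
-/

set_option autoImplicit false

namespace Cfsg.Agent.R2.Spec.X5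

open Cfsg.Agent.R2.Spec.P1.Eig

section

variable {q n u m h0 N κ : ℕ} {ε δ : ℤ}

/-- `N ∣ κ Z` -/
theorem vnum_dvd (hn : 1 ≤ n) (hm : 1 ≤ m) (hu : 1 ≤ u) (hq : 1 ≤ q) (hε : ε = 1 ∨ ε = -1)
    (heq : h0 * (u ^ m + 1) = q ^ n + 1) (h1 : N ∣ AN ε (m - 1) u) (h2 : (N : ℤ) ∣ κ * ((q ^ (n - 1) : ℕ) - δ)) :
    (N : ℤ) ∣ κ * (h0 * (ε * u + 1) - (1 + δ * q)) := by
  have h3 : (N : ℤ) ∣ (u : ℤ) ^ (m - 1) - ε := by
    rw [← AN_int hε hu]
    exact_mod_cast h1
  have h4 : (h0 : ℤ) * ((u : ℤ) ^ m + 1) = (q : ℤ) ^ n + 1 := by exact_mod_cast heq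
  have hum : (u : ℤ) ^ m = u * (u : ℤ) ^ (m - 1) := by rw [← pow_succ']; congr 1; omega
  have hqn : (q : ℤ) ^ n = q * (q : ℤ) ^ (n - 1) := by rw [← pow_succ']; congr 1; omega
  have h5 : (κ : ℤ) * (h0 * (ε * u + 1) - (1 + δ * q)) =
      q * (κ * (((q ^ (n - 1) : ℕ) : ℤ) - δ)) - (κ * h0 * u) * ((u : ℤ) ^ (m - 1) - ε) := by
    rw [hum, hqn] at h4
    push_cast
    linear_combination (κ : ℤ) * h4
  rw [h5]
  exact dvd_sub (h2.mul_left _) (h3.mul_left _)

theorem vnum_le (hn : 1 ≤ n) (hm : 1 ≤ m) (hu : 1 ≤ u) (hq : 1 ≤ q) (hε : ε = 1 ∨ ε = -1) (hδ : δ = 1 ∨ δ = -1)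
    (heq : h0 * (u ^ m + 1) = q ^ n + 1) (h1 : N ∣ AN ε (m - 1) u) (h2 : (N : ℤ) ∣ κ * ((q ^ (n - 1) : ℕ) - δ))
    (hκ : 1 ≤ κ) (hZ : (h0 * (ε * u + 1) - (1 + δ * q) : ℤ) ≠ 0) : N ≤ κ * (h0 * (u + 1) + (q + 1)) := by
  have hB : |(h0 * (ε * u + 1) - (1 + δ * q) : ℤ)| ≤ ((h0 * (u + 1) + (q + 1) : ℕ) : ℤ) := by
    have e1 : |(ε * u + 1 : ℤ)| ≤ u + 1 := by
      rcases hε with h | h <;> rw [h] <;> refine abs_le.2 ⟨?_, ?_⟩ <;> push_cast <;> linarith only [hu]
    have e2 : |(1 + δ * (q : ℤ))| ≤ q + 1 := by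
      rcases hδ with h | h <;> rw [h] <;> refine abs_le.2 ⟨?_, ?_⟩ <;> push_cast <;> linarith only [hq]
    refine (abs_sub _ _).trans ?_
    rw [abs_mul, Nat.abs_cast]
    push_cast
    gcongr
  rcases eq_zero_of_lt (vnum_dvd hn hm hu hq hε heq h1 h2) hκ hB with h3 | h3
  · exact absurd h3 hZ
  · exact h3

end

/-- the data -/
structure VD (q n u m h0 : ℕ) : Prop where
  n4 : n % 4 = 2
  n6 : 6 ≤ n
  q3 : 3 ≤ q
  qo : q % 2 = 1
  u5 : 5 ≤ u
  m6 : 6 ≤ m
  h5 : 5 ≤ h0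
  eq : h0 * (u ^ m + 1) = q ^ n + 1
  m12 : 14 ≤ n → 12 ≤ m
  hb : ∃ f', f' ^ 2 ≤ u ∧ h0 ≤ (q ^ 2 + 1) * (n / 2) * f'

structure VS (q n u m : ℕ) (ε δ : ℤ) : Prop where
  pm : ε = 1 ∨ ε = -1
  T : ∃ κ : ℕ, 1 ≤ κ ∧ κ ≤ q + 1 ∧ ((AN ε (m - 1) u : ℕ) : ℤ) ∣ κ * ((q ^ (n - 1) : ℕ) - δ)
  R6 : n = 6 → ∃ R : ℕ, 2 * q ^ 4 ≤ 15 * R ∧ R ∣ AN ε (m - 1) u ∧ (R : ℤ) ∣ ((q ^ (n - 1) : ℕ) - δ)
  R10 : n = 10 → ∃ R : ℕ, q ^ 6 ≤ 4 * R ∧ R ∣ AN ε (m - 1) u ∧ (R : ℤ) ∣ ((q ^ (n - 1) : ℕ) - δ)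

theorem pow_big {n : ℕ} (hn : 14 ≤ n) (h4 : n % 4 = 2) : 16 * n ^ 8 < 3 ^ (3 * n - 20) := by
  obtain ⟨k, rfl⟩ : ∃ k, n = 14 + 4 * k := ⟨(n - 14) / 4, by omega⟩
  clear hn h4
  induction k with
  | zero => norm_num
  | succ k ih =>
    have e1 : 3 * (14 + 4 * (k + 1)) - 20 = (3 * (14 + 4 * k) - 20) + 12 := by omega
    rw [e1, pow_add]
    have e2 : (14 + 4 * (k + 1)) ^ 8 ≤ (2 * (14 + 4 * k)) ^ 8 := Nat.pow_le_pow_left (by omega) 8
    calc 16 * (14 + 4 * (k + 1)) ^ 8 ≤ 16 * (2 * (14 + 4 * k)) ^ 8 := Nat.mul_le_mul_left _ e2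
      _ = (16 * (14 + 4 * k) ^ 8) * 256 := by rw [mul_pow]; ring
      _ < 3 ^ (3 * (14 + 4 * k) - 20) * 3 ^ 12 := by
        refine Nat.mul_lt_mul_of_lt_of_le ih (by norm_num) (by norm_num)

section

variable {q n u m h0 : ℕ} {ε δ : ℤ}

/-- `R` -/
theorem VD.R_le (D : VD q n u m h0) {ε : ℤ} (hε : ε = 1 ∨ ε = -1) {R : ℕ} (h1 : R ∣ AN ε (m - 1) u)
    (h2 : R ≤ h0 * (u + 1) + (q + 1)) : 5 * ((R - 1) * (R - (q + 1))) ≤ 6 * q ^ n := by
  have hu := D.u5
  have hm := D.m6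
  have hh := D.h5
  have hAN : 0 < AN ε (m - 1) u := by
    have a := AN_ge hε (m - 1) (by omega : 1 ≤ u)
    have : 2 ≤ u ^ (m - 1) := le_trans (by omega) (Nat.le_self_pow (by omega) u)
    omega
  have h3 := (Nat.le_of_dvd hAN h1).trans (AN_le hε (m - 1) u)
  have h4 : (R - 1) * (h0 * u) ≤ q ^ n := by
    calc (R - 1) * (h0 * u) ≤ u ^ (m - 1) * (h0 * u) := Nat.mul_le_mul_right _ (by omega)
      _ = h0 * u ^ m := by
        have : u ^ m = u ^ (m - 1) * u := by rw [← pow_succ]; congr 1; omega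
        rw [this]; ring
      _ ≤ q ^ n := by
        have := D.eq
        rw [mul_add] at this
        omega
  calc 5 * ((R - 1) * (R - (q + 1))) ≤ 5 * ((R - 1) * (h0 * (u + 1))) :=
        Nat.mul_le_mul_left _ (Nat.mul_le_mul_left _ (by omega))
    _ = (R - 1) * (h0 * (5 * (u + 1))) := by ring
    _ ≤ (R - 1) * (h0 * (6 * u)) := Nat.mul_le_mul_left _ (Nat.mul_le_mul_left _ (by omega))
    _ = 6 * ((R - 1) * (h0 * u)) := by ring
    _ ≤ _ := Nat.mul_le_mul_left _ h4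

/-- **One nonzero relation is impossible.** -/
theorem VD.ne (D : VD q n u m h0) (hδ : δ = 1 ∨ δ = -1) (S : VS q n u m ε δ)
    (hZ : (h0 * (ε * u + 1) - (1 + δ * q) : ℤ) ≠ 0) : False := by
  have hu := D.u5
  have hm := D.m6
  have hh := D.h5
  have hq3 := D.q3
  have hqo := D.qo
  have hn6 := D.n6
  have hn4 := D.n4
  have heq := D.eq
  have hup : 5 ^ 6 ≤ u ^ m := (Nat.pow_le_pow_left hu 6).trans (Nat.pow_le_pow_right (by omega) hm)
  have hlow : 5 * (u ^ m + 1) ≤ q ^ n + 1 := by rw [← heq]; exact Nat.mul_le_mul_right _ hh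
  rcases (show n = 6 ∨ n = 10 ∨ 14 ≤ n by omega) with hn | hn | hn
  · obtain ⟨R, r1, r2, r3⟩ := S.R6 hn
    have h1 := vnum_le (κ := 1) (by omega) (by omega) (by omega) (by omega) S.pm hδ heq r2
      (by rw [Nat.cast_one, one_mul]; exact r3) le_rfl hZ
    rw [one_mul] at h1
    have h2 := D.R_le S.pm r2 h1
    subst hn
    have hq7 : 7 ≤ q := by
      by_contra hcon
      have h7 : q ^ 6 ≤ 6 ^ 6 := Nat.pow_le_pow_left (by omega) 6
      norm_num at h7 hup
      omega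
    rcases (show q = 7 ∨ 9 ≤ q by omega) with h7 | h9
    · subst h7
      have hu6 : u = 5 := by
        by_contra hne
        have h8 : 6 ^ 6 ≤ u ^ m := (Nat.pow_le_pow_left (by omega : 6 ≤ u) 6).trans (Nat.pow_le_pow_right (by omega) hm)
        norm_num at h8 hlow
        omega
      subst hu6
      have hm6 : m = 6 := by
        by_contra hne
        have h8 : 5 ^ 7 ≤ 5 ^ m := Nat.pow_le_pow_right (by norm_num) (by omega)
        norm_num at h8 hlow
        omega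
      subst hm6
      norm_num at heq
      omega
    · obtain ⟨k, rfl⟩ := Nat.exists_eq_add_of_le h9
      have e1 : 2 * (9 + k) ^ 4 - 15 ≤ 15 * (R - 1) := by omega
      have e2 : 2 * (9 + k) ^ 4 - 15 * (9 + k) - 15 ≤ 15 * (R - ((9 + k) + 1)) := by (clear * - r1; omega)
      have e3 : 5 * ((2 * (9 + k) ^ 4 - 15) * (2 * (9 + k) ^ 4 - 15 * (9 + k) - 15)) ≤ 1350 * (9 + k) ^ 6 := by
        calc 5 * ((2 * (9 + k) ^ 4 - 15) * (2 * (9 + k) ^ 4 - 15 * (9 + k) - 15))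
            ≤ 5 * ((15 * (R - 1)) * (15 * (R - ((9 + k) + 1)))) := by gcongr
          _ = 225 * (5 * ((R - 1) * (R - ((9 + k) + 1)))) := by ring
          _ ≤ 225 * (6 * (9 + k) ^ 6) := Nat.mul_le_mul_left _ h2
          _ = _ := by ring
      have e4 : 2 * (9 + k) ^ 4 - 15 = 13107 + 5832 * k + 972 * k ^ 2 + 72 * k ^ 3 + 2 * k ^ 4 := by
        have : 2 * (9 + k) ^ 4 = (13107 + 5832 * k + 972 * k ^ 2 + 72 * k ^ 3 + 2 * k ^ 4) + 15 := by ring
        rw [this, Nat.add_sub_cancel]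
      have e5 : 2 * (9 + k) ^ 4 - 15 * (9 + k) - 15 = 12972 + 5817 * k + 972 * k ^ 2 + 72 * k ^ 3 + 2 * k ^ 4 := by
        have : 2 * (9 + k) ^ 4 = (12972 + 5817 * k + 972 * k ^ 2 + 72 * k ^ 3 + 2 * k ^ 4) + 15 + 15 * (9 + k) := by ring
        rw [this, Nat.add_sub_cancel, Nat.add_sub_cancel]
      rw [e4, e5] at e3
      ring_nf at e3
      linarith only [e3, Nat.zero_le (k ^ 2), Nat.zero_le (k ^ 3), Nat.zero_le (k ^ 4), Nat.zero_le (k ^ 5), Nat.zero_le (k ^ 6), Nat.zero_le (k ^ 7), Nat.zero_le (k ^ 8)]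
  · obtain ⟨R, r1, r2, r3⟩ := S.R10 hn
    have h1 := vnum_le (κ := 1) (by omega) (by omega) (by omega) (by omega) S.pm hδ heq r2
      (by rw [Nat.cast_one, one_mul]; exact r3) le_rfl hZ
    rw [one_mul] at h1
    have h2 := D.R_le S.pm r2 h1
    subst hn
    have hq5 : 5 ≤ q := by
      by_contra hcon
      have h7 : q = 3 := by omega
      subst h7
      norm_num at hlow hup
      omega
    obtain ⟨k, rfl⟩ := Nat.exists_eq_add_of_le hq5
    have e1 : (5 + k) ^ 6 - 4 ≤ 4 * (R - 1) := by omega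
    have e2 : (5 + k) ^ 6 - 4 * (5 + k) - 4 ≤ 4 * (R - ((5 + k) + 1)) := by (clear * - r1; omega)
    have e3 : 5 * (((5 + k) ^ 6 - 4) * ((5 + k) ^ 6 - 4 * (5 + k) - 4)) ≤ 96 * (5 + k) ^ 10 := by
      calc 5 * (((5 + k) ^ 6 - 4) * ((5 + k) ^ 6 - 4 * (5 + k) - 4))
          ≤ 5 * ((4 * (R - 1)) * (4 * (R - ((5 + k) + 1)))) := by gcongr
        _ = 16 * (5 * ((R - 1) * (R - ((5 + k) + 1)))) := by ring
        _ ≤ 16 * (6 * (5 + k) ^ 10) := Nat.mul_le_mul_left _ h2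
        _ = _ := by ring
    have e4 : (5 + k) ^ 6 - 4 = 15621 + 18750 * k + 9375 * k ^ 2 + 2500 * k ^ 3 + 375 * k ^ 4 + 30 * k ^ 5 + k ^ 6 := by
      have : (5 + k) ^ 6 = (15621 + 18750 * k + 9375 * k ^ 2 + 2500 * k ^ 3 + 375 * k ^ 4 + 30 * k ^ 5 + k ^ 6) + 4 := by
        ring
      rw [this, Nat.add_sub_cancel]
    have e5 : (5 + k) ^ 6 - 4 * (5 + k) - 4 =
        15601 + 18746 * k + 9375 * k ^ 2 + 2500 * k ^ 3 + 375 * k ^ 4 + 30 * k ^ 5 + k ^ 6 := by
      have : (5 + k) ^ 6 = (15601 + 18746 * k + 9375 * k ^ 2 + 2500 * k ^ 3 + 375 * k ^ 4 + 30 * k ^ 5 + k ^ 6) + 4 +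
          4 * (5 + k) := by ring
      rw [this, Nat.add_sub_cancel, Nat.add_sub_cancel]
    rw [e4, e5] at e3
    ring_nf at e3
    linarith only [e3, Nat.zero_le (k ^ 2), Nat.zero_le (k ^ 3), Nat.zero_le (k ^ 4), Nat.zero_le (k ^ 5), Nat.zero_le (k ^ 6), Nat.zero_le (k ^ 7), Nat.zero_le (k ^ 8), Nat.zero_le (k ^ 9), Nat.zero_le (k ^ 10), Nat.zero_le (k ^ 11), Nat.zero_le (k ^ 12)]
  · -- `n ≥ 14`
    obtain ⟨κ, k1, k2, k3⟩ := S.T
    have h1 := vnum_le (by omega) (by omega) (by omega) (by omega) S.pm hδ heq dvd_rfl k3 k1 hZ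
    have hm12 := D.m12 hn
    have a3 := AN_ge S.pm (m - 1) (by omega : 1 ≤ u)
    have b1 : u ^ (m - 1) ≤ 1 + (q + 1) * (h0 * (u + 1) + (q + 1)) := by
      calc u ^ (m - 1) ≤ AN ε (m - 1) u + 1 := a3
        _ ≤ (q + 1) * (h0 * (u + 1) + (q + 1)) + 1 := by
          gcongr
          exact h1.trans (Nat.mul_le_mul_right _ k2)
        _ = _ := by ring
    have hum : u ^ m = u ^ (m - 1) * u := by rw [← pow_succ]; congr 1; omega
    have hum1 : 1 ≤ u ^ (m - 1) := Nat.one_le_pow _ _ (by omega)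
    rcases le_or_gt (q + 1) (h0 * (u + 1)) with hI | hI
    · have b2 : q ^ n + 1 ≤ 3 * (h0 ^ 2 * (u * (u + 1)) * (q + 1)) := by
        have hW : 1 ≤ (q + 1) * (h0 * (u + 1)) := Nat.mul_pos (by omega) (Nat.mul_pos (by omega) (by omega))
        calc q ^ n + 1 = h0 * (u ^ (m - 1) * u + 1) := by rw [← heq, hum]
          _ ≤ h0 * (u * (1 + (q + 1) * (h0 * (u + 1) + h0 * (u + 1))) + 1) := by
            rw [mul_comm (u ^ (m - 1)) u]
            gcongr
            refine b1.trans ?_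
            gcongr
          _ = h0 * ((u + 1) + 2 * (u * ((q + 1) * (h0 * (u + 1))))) := by ring
          _ ≤ h0 * (u * ((q + 1) * (h0 * (u + 1))) + 2 * (u * ((q + 1) * (h0 * (u + 1))))) := by
            gcongr
            calc u + 1 ≤ u * (h0 * (u + 1)) := by
                  have : 1 * (u + 1) ≤ (u * h0) * (u + 1) := Nat.mul_le_mul_right _ (Nat.mul_pos (by omega) (by omega))
                  calc u + 1 = 1 * (u + 1) := by ring
                    _ ≤ (u * h0) * (u + 1) := this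
                    _ = _ := by ring
              _ ≤ u * ((q + 1) * (h0 * (u + 1))) := Nat.mul_le_mul_left _ (Nat.le_mul_of_pos_left _ (by omega))
          _ = _ := by ring
      obtain ⟨f', hf1, hf2⟩ := D.hb
      obtain ⟨c, hc⟩ : ∃ c, n = 2 * c := ⟨n / 2, by omega⟩
      have hc' : n / 2 = c := by (clear * - hc; omega)
      rw [hc'] at hf2
      have b3 : h0 ^ 2 ≤ (q ^ 2 + 1) ^ 2 * c ^ 2 * u := by
        calc h0 ^ 2 ≤ ((q ^ 2 + 1) * c * f') ^ 2 := Nat.pow_le_pow_left hf2 2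
          _ = (q ^ 2 + 1) ^ 2 * c ^ 2 * f' ^ 2 := by ring
          _ ≤ _ := Nat.mul_le_mul_left _ hf1
      have b4 : 1215 * q ^ n ≤ 1215 * (8 * (c ^ 2 * (q ^ 5 * u ^ 3))) := by
        have g1 : 9 * (q ^ 2 + 1) ≤ 10 * q ^ 2 := by nlinarith only [hq3]
        calc 1215 * q ^ n ≤ 1215 * (3 * (h0 ^ 2 * (u * (u + 1)) * (q + 1))) := by (clear * - b2; omega)
          _ = 243 * (h0 ^ 2 * (u * (5 * (u + 1))) * (3 * (q + 1))) := by ring
          _ ≤ 243 * (((q ^ 2 + 1) ^ 2 * c ^ 2 * u) * (u * (6 * u)) * (4 * q)) :=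
            Nat.mul_le_mul_left _ (Nat.mul_le_mul (Nat.mul_le_mul b3 (Nat.mul_le_mul_left _ (by omega))) (by omega))
          _ = 3 * ((9 * (q ^ 2 + 1)) ^ 2 * (c ^ 2 * u * (u * (6 * u)) * (4 * q))) := by ring
          _ ≤ 3 * ((10 * q ^ 2) ^ 2 * (c ^ 2 * u * (u * (6 * u)) * (4 * q))) := by gcongr
          _ = 7200 * (c ^ 2 * (q ^ 5 * u ^ 3)) := by ring
          _ ≤ 9720 * (c ^ 2 * (q ^ 5 * u ^ 3)) := Nat.mul_le_mul_right _ (by norm_num)
          _ = _ := by ring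
      have b5 : q ^ n ≤ 8 * (c ^ 2 * (q ^ 5 * u ^ 3)) := by omega
      have b6 : q ^ (n - 5) ≤ 2 * (n ^ 2 * u ^ 3) := by
        have g1 : q ^ 5 * q ^ (n - 5) ≤ q ^ 5 * (2 * (n ^ 2 * u ^ 3)) := by
          calc q ^ 5 * q ^ (n - 5) = q ^ n := by rw [← pow_add]; congr 1; omega
            _ ≤ 8 * (c ^ 2 * (q ^ 5 * u ^ 3)) := b5
            _ = _ := by rw [hc]; ring
        exact Nat.le_of_mul_le_mul_left g1 (Nat.pow_pos (by omega))
      have b7 : u ^ 12 ≤ q ^ n := by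
        have : u ^ 12 ≤ u ^ m := Nat.pow_le_pow_right (by omega) hm12
        omega
      have b8 : q ^ n * q ^ (3 * n - 20) ≤ q ^ n * (16 * n ^ 8) := by
        calc q ^ n * q ^ (3 * n - 20) = (q ^ (n - 5)) ^ 4 := by
              rw [← pow_add, ← pow_mul]; congr 1; (clear * - hn; omega)
          _ ≤ (2 * (n ^ 2 * u ^ 3)) ^ 4 := Nat.pow_le_pow_left b6 4
          _ = 16 * n ^ 8 * u ^ 12 := by ring
          _ ≤ 16 * n ^ 8 * q ^ n := Nat.mul_le_mul_left _ b7
          _ = _ := by ring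
      have b9 := Nat.le_of_mul_le_mul_left b8 (Nat.pow_pos (by omega))
      have b10 := pow_big hn hn4
      have b11 : 3 ^ (3 * n - 20) ≤ q ^ (3 * n - 20) := Nat.pow_le_pow_left hq3 _
      omega
    · have b2 : q ^ n + 1 ≤ 8 * q ^ 3 := by
        have g1 : 27 * (q ^ n + 1) ≤ 27 * (8 * q ^ 3) := by
          calc 27 * (q ^ n + 1) = 27 * (h0 * (u ^ (m - 1) * u + 1)) := by rw [← heq, hum]
            _ ≤ 27 * (h0 * (u ^ (m - 1) * u + u ^ (m - 1))) := by gcongr
            _ = 27 * (h0 * (u + 1) * u ^ (m - 1)) := by ring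
            _ ≤ 27 * ((q + 1) * (1 + (q + 1) * ((q + 1) + (q + 1)))) := by
              gcongr
              refine b1.trans ?_
              gcongr
            _ ≤ 27 * ((q + 1) * ((q + 1) * (q + 1) + (q + 1) * ((q + 1) + (q + 1)))) := by
              gcongr
              exact Nat.mul_pos (by omega) (by omega)
            _ = 3 * (3 * (q + 1)) ^ 3 := by ring
            _ ≤ 3 * (4 * q) ^ 3 := by gcongr 3 * ?_ ^ 3; omega
            _ ≤ _ := by ring_nf; linarith only [Nat.zero_le (q ^ 3)]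
        omega
      have b3 : q ^ 6 ≤ q ^ n := Nat.pow_le_pow_right (by omega) hn6
      have b4 : 27 * q ^ 3 ≤ q ^ 6 := by
        calc 27 * q ^ 3 = 3 ^ 3 * q ^ 3 := by norm_num
          _ ≤ q ^ 3 * q ^ 3 := by gcongr
          _ = _ := by ring
      have b5 : 1 ≤ q ^ 3 := Nat.one_le_pow _ _ (by omega)
      omega

/-- **The contradiction.** -/
theorem VD.false (D : VD q n u m h0) {ε1 : ℤ} (S1 : VS q n u m ε1 1) (S2 : VS q n u m (-ε1) (-1)) : False := by
  by_cases h1 : (h0 * (ε1 * u + 1) - (1 + 1 * q) : ℤ) = 0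
  · by_cases h2 : (h0 * (-ε1 * u + 1) - (1 + (-1) * q) : ℤ) = 0
    · have h3 : 2 * (h0 : ℤ) = 2 := by linear_combination h1 + h2
      have := D.h5
      omega
    · exact D.ne (Or.inr rfl) S2 h2
  · exact D.ne (Or.inl rfl) S1 h1

end

end Cfsg.Agent.R2.Spec.X5
end

-- part: R2/Spec/X5/NoV
section
/-!
# S3435, box X5 (helper12): `v ∣ (q ^ n + 1) / 2` is impossible
-/

set_option autoImplicit false
set_option linter.unusedSectionVars false
set_option linter.unusedVariables false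

namespace Cfsg.Agent.R2.Spec.X5

open Subgroup Cfsg
open Cfsg.Agent.H426.LieFam Cfsg.Agent.R2.Spec Cfsg.Agent.R2.Spec.P1 Cfsg.Agent.R2.Spec.F1
open Cfsg.Agent.H420.QR Cfsg.Agent.R2.Spec.P1.Eig Cfsg.Agent.H403.NumTop

universe u w

variable {t : Fam} {p f : ℕ} {L : Type w} [Group L] [Finite L] {G : Type u} [Group G] [Finite G]
variable {K : Subgroup G} [K.Normal] {S : Subgroup (G ⧸ K)} [S.Normal]
variable {t' : Fam} {v f' : ℕ}

theorem gcd_minus {u m : ℕ} (hu : u % 2 = 1) (hm : m % 2 = 0) : Nat.gcd 4 (u ^ m + 1) = 2 := by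
  have h8 : u ^ m % 8 = 1 := by
    obtain ⟨k, hk⟩ : ∃ k, m = 2 * k := ⟨m / 2, by omega⟩
    have h9 : u ^ 2 % 8 = 1 := by
      have h10 : u % 8 = 1 ∨ u % 8 = 3 ∨ u % 8 = 5 ∨ u % 8 = 7 := by omega
      rcases h10 with h10 | h10 | h10 | h10 <;> rw [Nat.pow_mod, h10]
    rw [hk, pow_mul, Nat.pow_mod, h9, one_pow]
    rfl
  have : u ^ m + 1 = 2 * (4 * (u ^ m / 8) + 1) := by omega
  rw [this, show (4 : ℕ) = 2 * 2 by norm_num, Nat.gcd_mul_left]
  have : Nat.gcd 2 (2 * 2 * (u ^ m / 8) + 1) = 1 := by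
    have h11 : Nat.Coprime 2 (2 * 2 * (u ^ m / 8) + 1) := by
      rw [Nat.coprime_two_left, Nat.odd_iff]
      omega
    exact h11
  rw [this]

theorem sq_le_five_pow (k : ℕ) : k ^ 2 ≤ 5 ^ k := by
  induction k with
  | zero => norm_num
  | succ n ih =>
    rcases Nat.eq_zero_or_pos n with rfl | hn
    · norm_num
    · have h1 : (n + 1) ^ 2 ≤ 5 * n ^ 2 := by nlinarith
      calc (n + 1) ^ 2 ≤ 5 * n ^ 2 := h1
        _ ≤ 5 * 5 ^ n := Nat.mul_le_mul_left _ ih
        _ = 5 ^ (n + 1) := by ring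

theorem vs (h : LS t p f L G) (hL : Fam.Is p f L t) (hR : Red G K S) (hF : Frm G K S t' v f')
    (hp2 : p ≠ 2) (ht : CE t) {m : ℕ} (hm : t' = .ominus m) (hm2 : m % 2 = 0) (hm6 : 6 ≤ m) (huo : v ^ f' % 2 = 1)
    {δ : ℤ} (hδ : δ = 1 ∨ δ = -1) {w : ℕ} (hw : w.Prime) (hwc : cls t (p ^ f) w = icl (rk t) δ) {ε : ℤ}
    (hε : (cls t' (v ^ f') w = m - 1 ∧ ε = 1) ∨ (cls t' (v ^ f') w = 2 * (m - 1) ∧ ε = -1)) :
    VS (p ^ f) (rk t) (v ^ f') m ε δ := by
  obtain ⟨hn, hn2⟩ := ht.rk6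
  have hq3 := h.q_three hp2
  have hqo : Odd (p ^ f) := Nat.odd_iff.2 (h.q_odd hp2)
  have hu2 : 2 ≤ v ^ f' := hF.prime.two_le.trans (Nat.le_self_pow hF.f_ne v)
  have hJ := icl_JJ (δ := δ) hn
  have hwI := ht.in_J hJ hw hwc
  have hwv := h.ne_v_J hR hF hp2 ht hJ hw hwc
  have hwS := (h.good_J hR hF hp2 ht hJ hw hwc).2
  have hwv' : ¬ w ∣ v := fun hd => hwv ((Nat.prime_dvd_prime_iff_eq hw hF.prime).1 hd)
  have hTF := top_facts_all hF.cla hF.prime hF.is
  have hB : IsB t' m := by rw [hm]; exact rfl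
  obtain ⟨j, hj⟩ : ∃ j, j = cls t' (v ^ f') w := ⟨_, rfl⟩
  rw [← hj] at hε
  have hpm : ε = 1 ∨ ε = -1 := by rcases hε with ⟨-, h⟩ | ⟨-, h⟩ <;> rw [h] <;> simp
  have htn : tnum t' (v ^ f') j = AN ε (m - 1) (v ^ f') := by
    rw [tnum_B hB]
    rcases hε with ⟨h1, h2⟩ | ⟨h1, h2⟩ <;> rw [h1, h2]
    · rw [eB_odd (by omega), eta_odd (by omega)]
    · rw [eB_even (by omega), eta_two_mul']
  have htop : P1.top t' j := by
    rw [hm]
    rcases hε with ⟨h1, h2⟩ | ⟨h1, h2⟩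
    · exact Or.inr (Or.inr ⟨h1, hm2⟩)
    · exact Or.inr (Or.inl h1)
  have hpm1 := pow_mod_two (u := v ^ f') (m := m - 1) (by omega)
  have h1n1 := Nat.one_le_pow (m - 1) (v ^ f') (by omega)
  have hdv : AN ε (m - 1) (v ^ f') ∣ ttor t' (v ^ f') j := by
    rw [hm]
    rcases hε with ⟨h1, h2⟩ | ⟨h1, h2⟩
    · have h12 : ttor (.ominus m) (v ^ f') j = ((v ^ f') ^ (m - 1) - 1) * (v ^ f' + 1) / 2 := by
        change (if j = 2 * m then _ else if j = m - 1 then _ else _) = _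
        rw [if_neg (by omega), if_pos h1, gcd_minus huo hm2]
      obtain ⟨b, hb⟩ : ∃ b, v ^ f' + 1 = 2 * b := ⟨(v ^ f' + 1) / 2, by omega⟩
      rw [h12, hb, h2, AN_one, show ((v ^ f') ^ (m - 1) - 1) * (2 * b) = 2 * (((v ^ f') ^ (m - 1) - 1) * b) by ring,
        Nat.mul_div_cancel_left _ two_pos]
      exact Dvd.intro _ rfl
    · have h12 : ttor (.ominus m) (v ^ f') j = ((v ^ f') ^ (m - 1) + 1) * (v ^ f' - 1) / 2 := by
        change (if j = 2 * m then _ else if j = m - 1 then _ else _) = _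
        rw [if_neg (by omega), if_neg (by omega), gcd_minus huo hm2]
      obtain ⟨b, hb⟩ : ∃ b, v ^ f' - 1 = 2 * b := ⟨(v ^ f' - 1) / 2, by (clear * - huo; omega)⟩
      rw [h12, hb, h2, AN_neg, show ((v ^ f') ^ (m - 1) + 1) * (2 * b) = 2 * (((v ^ f') ^ (m - 1) + 1) * b) by ring,
        Nat.mul_div_cancel_left _ two_pos]
      exact Dvd.intro _ rfl
  have hwt : w ∣ ttor t' (v ^ f') j := by
    have := Fact.mk hw
    obtain ⟨x, hx⟩ := exists_prime_orderOf_dvd_card' (G := S) w hwS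
    have h5 := hTF.ub w hw hwv' (by rw [← hj]; exact htop) x (by rw [hx])
    rwa [hx, ← hj] at h5
  have hsc := h.sc hL hR hF hp2 ht (icl_or (δ := δ) hn)
  have prim : ∀ R : ℕ, Odd R → R ∣ AN δ (rk t - 1) (p ^ f) →
      (∀ r : ℕ, r.Prime → r ∣ R → orderOf ((p ^ f : ℕ) : ZMod r) = if δ = 1 then rk t - 1 else 2 * (rk t - 1)) →
      R ∣ AN ε (m - 1) (v ^ f') := by
    intro R hRo hR1 hR2
    obtain ⟨j', g1, g2, g3, g4, g5⟩ := hsc
    have hjj : j' = j := by rw [hj, g4 w hw hwc]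
    obtain ⟨g6, g7⟩ := exists_prim ht hδ hq3 hqo hR1 hR2
    have g8 := (g5 R hRo g6 g7).2
    rwa [hjj, htn] at g8
  have hVR : ∀ R i : ℕ, i = rk t - 1 → R ∣ AN δ i (p ^ f) → (R : ℤ) ∣ ((((p ^ f) ^ (rk t - 1) : ℕ) : ℤ) - δ) := by
    intro R i hi hRd
    have h7 : ((AN δ i (p ^ f) : ℕ) : ℤ) = (((p ^ f) ^ (rk t - 1) : ℕ) : ℤ) - δ := by
      rw [AN_int hδ (by omega), hi]
      push_cast
      ring
    rw [← h7]
    exact_mod_cast hRd
  refine ⟨hpm, ?_, fun h6 => ?_, fun h10 => ?_⟩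
  · obtain ⟨κ, k1, k2, k3⟩ := winS h hL hp2 ht hδ hw hwc (hTF.elt j htop) hwt
    refine ⟨κ, k1, k2, dvd_trans ?_ k3⟩
    exact_mod_cast hdv
  · obtain ⟨R, r1, r2, r3, r4⟩ := exists_R5 hδ hq3 hqo
    exact ⟨R, r2, prim R r1 (by rw [h6]; exact r3) (by rw [h6]; exact r4), hVR R 5 (by omega) r3⟩
  · obtain ⟨R, r1, r2, r3, r4⟩ := exists_R9 hδ hq3 hqo
    exact ⟨R, r2, prim R r1 (by rw [h10]; exact r3) (by rw [h10]; exact r4), hVR R 9 (by omega) r3⟩

/-- **`v ∣ (q ^ n + 1) / 2` is impossible.** -/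
theorem noV (h : LS t p f L G) (hL : Fam.Is p f L t) (hR : Red G K S) (hF : Frm G K S t' v f') (hvp : v ≠ p)
    (hp2 : p ≠ 2) (ht : CE t) (hv : v ∣ ((p ^ f) ^ rk t + 1) / 2) : False := by
  obtain ⟨hn, hn2⟩ := ht.rk6
  have hq3 := h.q_three hp2
  obtain ⟨hA2, hAo, hAp⟩ := factsA (h.q_odd hp2) hq3 (by omega : 2 ≤ rk t) hn2
  obtain ⟨hv5, hvq2, hvq⟩ := hAp v hF.prime hv
  have hvo : v % 2 = 1 := by
    rcases hF.prime.eq_two_or_odd with h1 | h1
    · omega
    · exact h1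
  have hf1 : 1 ≤ f' := Nat.one_le_iff_ne_zero.2 hF.f_ne
  have huo : v ^ f' % 2 = 1 := by rw [pow_mod_two hf1]; exact hvo
  have hu5 : 5 ≤ v ^ f' := hv5.trans (Nat.le_self_pow (by omega) v)
  obtain ⟨m, hm, hm2, hw0, hw12⟩ := type_S h hL hR hF hvp hp2 ht hv
  obtain ⟨h0, e1, e2, e3⟩ := fac_v h hL hR hF hvp hp2 ht hv hm hw0 hm2
  obtain ⟨hvq4, c, hco, hcn⟩ := cls_v h hL hR hF hvp hp2 ht hv
  obtain ⟨r1, r2, r3⟩ := rank_S h hR hF hp2 ht
  have hrm : rk t' = m := by rw [hm]; rfl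
  rw [hrm] at r2
  obtain ⟨s1, s2⟩ := r2 ⟨m, Or.inr hm⟩
  have hh0 : 0 < h0 := by
    rcases Nat.eq_zero_or_pos h0 with h3 | h3
    · rw [h3, zero_mul] at e1
      omega
    · exact h3
  have D : VD (p ^ f) (rk t) (v ^ f') m h0 := by
    refine ⟨by (clear * - hco hcn; omega), hn, hq3, h.q_odd hp2, hu5, s1, hv5.trans (Nat.le_of_dvd hh0 e2), e1, fun h14 => ?_, ⟨f', ?_, e3⟩⟩
    · have := s2 (by omega)
      omega
    · exact (sq_le_five_pow f').trans (Nat.pow_le_pow_left hv5 f')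
  have hJ1 : icl (rk t) 1 ∈ JJ (rk t) := icl_JJ hn
  have hJ2 : icl (rk t) (-1) ∈ JJ (rk t) := icl_JJ hn
  obtain ⟨w1, g1⟩ := h.exists_J hp2 ht hJ1
  obtain ⟨w2, g2⟩ := h.exists_J hp2 ht hJ2
  rcases hw12 w1 w2 g1.prime g1.cls_eq g2.prime g2.cls_eq with ⟨a1, a2⟩ | ⟨a1, a2⟩
  · exact D.false (ε1 := 1)
      (vs h hL hR hF hp2 ht hm hm2 s1 huo (Or.inl rfl) g1.prime g1.cls_eq (Or.inl ⟨a1, rfl⟩))
      (vs h hL hR hF hp2 ht hm hm2 s1 huo (Or.inr rfl) g2.prime g2.cls_eq (Or.inr ⟨a2, by norm_num⟩))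
  · exact D.false (ε1 := -1)
      (vs h hL hR hF hp2 ht hm hm2 s1 huo (Or.inl rfl) g1.prime g1.cls_eq (Or.inr ⟨a1, rfl⟩))
      (vs h hL hR hF hp2 ht hm hm2 s1 huo (Or.inr rfl) g2.prime g2.cls_eq (Or.inl ⟨a2, by norm_num⟩))

/-- **`S` is not classical in a characteristic `v ≠ p`.** -/
theorem no_classical (h : LS t p f L G) (hL : Fam.Is p f L t) (hR : Red G K S) (hF : Frm G K S t' v f') (hvp : v ≠ p)
    (hp2 : p ≠ 2) (ht : CE t) : False := by
  by_cases hv : v ∣ ((p ^ f) ^ rk t + 1) / 2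
  · exact noV h hL hR hF hvp hp2 ht hv
  · have hcl := hF.cla
    cases t' with
    | psl n => exact noA h hL hR hF hvp hp2 ht (m := n) (e := true) ⟨rfl, rfl⟩ hv
    | psu n => exact noA h hL hR hF hvp hp2 ht (m := n) (e := false) ⟨rfl, rfl⟩ hv
    | psp n => exact noB h hL hR hF hvp hp2 ht (m := n) rfl hv
    | oodd n => exact noB h hL hR hF hvp hp2 ht (m := n) rfl hv
    | oplus n => exact noB h hL hR hF hvp hp2 ht (m := n) rfl hv
    | ominus n => exact noB h hL hR hF hvp hp2 ht (m := n) rfl hv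
    | _ => exact hcl.elim

end Cfsg.Agent.R2.Spec.X5
end
end

-- part: R2/Spec/Gamma/Vok
section
prune_inst 0x460007404200000000000001442003e228a000100002b8001310003020f879d0180400f20fa900b0091c4b2a45078400811000049425000002e00b200411a0080042b460212b5ad0cb00000c0f802000000000000000000000000000000041000000000000
set_option linter.all false
open scoped Cfsg.Agent.FastGrp

-- part: R2/Spec/Gamma/VokComb
section
/-!
# The class of the characteristic of `S` in the second number: combinatorics (helper27)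
-/

set_option autoImplicit false
set_option linter.unusedVariables false

namespace Cfsg.Agent.R2.Spec.Gamma

open Cfsg.Agent.H426.LieFam Cfsg.Agent.R2.Spec Cfsg.Agent.R2.Spec.P1 Cfsg.Agent.R2.Spec.F1
open Cfsg.Agent.R2.Spec.E (PairOK)

/-- three big classes not adjacent to `l`, different from `j` -/
def Tri (t : Fam) (j l : ℕ) : Prop :=
  ∃ a b c, Big t a ∧ Big t b ∧ Big t c ∧ a ≠ j ∧ b ≠ j ∧ c ≠ j ∧ a ≠ b ∧ a ≠ c ∧ b ≠ c ∧ na t l a ∧ na t l b ∧ na t l c

/-- two big classes not adjacent to `l`, different from `j` -/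
def Two (t : Fam) (j l : ℕ) : Prop :=
  ∃ a b, Big t a ∧ Big t b ∧ a ≠ j ∧ b ≠ j ∧ a ≠ b ∧ na t l a ∧ na t l b

/-- the exceptions -/
def VEx (t : Fam) (j l : ℕ) : Prop :=
  ((∃ n, t = .psl n ∨ t = .psu n) ∧ l = 3 ∧ 3 ∣ j) ∨
    ((∃ n, (t = .oplus n ∨ t = .ominus n) ∧ n % 4 = 3 ∧ j = 2 * (n - 1)) ∧ l = 4)

theorem not_om_eta {c l : ℕ} (h : eta l < eta c) : ¬ OddMul c l := by
  rintro ⟨k, hk, rfl⟩
  rw [eta_mul_odd hk] at h
  have : eta c * 1 ≤ eta c * k := Nat.mul_le_mul_left _ (by omega)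
  omega

theorem not_om_par {l c : ℕ} (h : (l + c) % 2 = 1) : ¬ OddMul l c := by
  rintro ⟨k, hk, rfl⟩
  have h1 : l * k % 2 = l % 2 := by rw [Nat.mul_mod, hk, mul_one, Nat.mod_mod]
  omega

theorem not_om_two {a d : ℕ} (h : ¬ a ∣ d) : ¬ OddMul (2 * a) (2 * d) := by
  rintro ⟨k, -, hk⟩
  exact h ⟨k, by rw [mul_assoc] at hk; omega⟩

theorem ndvd_of {a d e : ℕ} (h : a ∣ d + e) (h1 : 0 < e) (h2 : e < a) : ¬ a ∣ d := fun h3 => by
  have := Nat.le_of_dvd h1 ((Nat.dvd_add_right h3).1 h)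
  omega

/-- linear and unitary families -/
theorem lin_na {n j l k : ℕ} (hn : 9 ≤ n) (hl3 : 3 ≤ l) (hlj : l ≠ j) (hj : j = n ∨ j + 1 = n) (hd : l ∣ j)
    (hk : k ≤ n) (hkj : k ≠ j) (h1 : k < j → j < k + l) (h2 : j < k → k < j + l) (h3 : n < l + k) :
    n < l + k ∧ ¬ l ∣ k ∧ ¬ k ∣ l := by
  have h4 : 2 * l ≤ j := by
    obtain ⟨c, rfl⟩ := hd
    have hc : c ≠ 1 := by rintro rfl; exact hlj (mul_one l).symm
    have hc0 : c ≠ 0 := by rintro rfl; omega
    have := Nat.mul_le_mul_left l (show 2 ≤ c by omega)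
    omega
  refine ⟨h3, ?_, ?_⟩
  · rcases lt_or_gt_of_ne hkj with h5 | h5
    · refine ndvd_of (e := j - k) (by rw [show k + (j - k) = j by omega]; exact hd) (by omega) (by have := h1 h5; omega)
    · intro h6
      have h7 := (Nat.dvd_sub h6 hd)
      have := Nat.le_of_dvd (by omega) h7
      have := h2 h5
      omega
  · intro h5
    have := Nat.le_of_dvd (by omega) h5
    omega

theorem comb_lin {t : Fam} {n j l : ℕ} (hn : 9 ≤ n)
    (hB : ∀ k, Big t k ↔ 3 ≤ k ∧ k ≤ n ∧ n < 2 * k) (hN : ∀ a b, na t a b ↔ n < a + b ∧ ¬ a ∣ b ∧ ¬ b ∣ a)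
    (hj : j = n ∨ j + 1 = n) (hl3 : 3 ≤ l) (hl : l ≤ n) (hlj : l ≠ j) (hna : ¬ na t l j) :
    Tri t j l ∨ (Two t j l ∧ l = 3 ∧ 3 ∣ j) := by
  have hd : l ∣ j := by
    rw [hN] at hna
    by_contra h1
    refine hna ⟨by omega, h1, fun h2 => ?_⟩
    obtain ⟨c, hc⟩ := h2
    have hc1 : c ≠ 1 := by rintro rfl; exact hlj (by rw [hc, mul_one])
    have hc0 : c ≠ 0 := by rintro rfl; omega
    have := Nat.mul_le_mul_left j (show 2 ≤ c by omega)
    omega
  have key : ∀ k, k ≤ n → n ≤ k + 3 → k ≠ j → n < l + k → (k + 3 = n → 4 ≤ l) → (k + 3 = n → j = n → 4 ≤ l) →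
      Big t k ∧ na t l k := by
    intro k h1 h2 h3 h4 h5 h6
    refine ⟨(hB k).2 ⟨by omega, h1, by omega⟩, (hN _ _).2 (lin_na hn hl3 hlj hj hd h1 h3 ?_ ?_ h4)⟩ <;> (clear * - hj h4 hl3 h1; omega)
  rcases Nat.lt_or_ge 3 l with h4 | h4
  · left
    rcases hj with hj | hj
    · obtain ⟨a1, a2⟩ := key (n - 1) (by omega) (by omega) (by omega) (by omega) (by omega) (by omega)
      obtain ⟨b1, b2⟩ := key (n - 2) (by omega) (by omega) (by omega) (by omega) (by omega) (by omega)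
      obtain ⟨c1, c2⟩ := key (n - 3) (by omega) (by omega) (by omega) (by omega) (by omega) (by omega)
      exact ⟨_, _, _, a1, b1, c1, by omega, by omega, by omega, by omega, by omega, by omega, a2, b2, c2⟩
    · obtain ⟨a1, a2⟩ := key n (by omega) (by omega) (by omega) (by omega) (by omega) (by omega)
      obtain ⟨b1, b2⟩ := key (n - 2) (by omega) (by omega) (by omega) (by omega) (by omega) (by omega)
      obtain ⟨c1, c2⟩ := key (n - 3) (by omega) (by omega) (by omega) (by omega) (by omega) (by omega)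
      exact ⟨_, _, _, a1, b1, c1, by omega, by omega, by omega, by omega, by omega, by omega, a2, b2, c2⟩
  · right
    have hl : l = 3 := by omega
    subst hl
    refine ⟨?_, rfl, hd⟩
    rcases hj with hj | hj
    · obtain ⟨a1, a2⟩ := key (n - 1) (by omega) (by omega) (by omega) (by omega) (by omega) (by omega)
      obtain ⟨b1, b2⟩ := key (n - 2) (by omega) (by omega) (by omega) (by omega) (by omega) (by omega)
      exact ⟨_, _, a1, b1, by omega, by omega, by omega, a2, b2⟩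
    · obtain ⟨a1, a2⟩ := key n (by omega) (by omega) (by omega) (by omega) (by omega) (by omega)
      obtain ⟨b1, b2⟩ := key (n - 2) (by omega) (by omega) (by omega) (by omega) (by omega) (by omega)
      exact ⟨_, _, a1, b1, by omega, by omega, by omega, a2, b2⟩

/-- the multiple -/
theorem om_three {l j : ℕ} (hl : 0 < l) (hlj : l ≠ j) (h : OddMul l j) : ∃ k, k % 2 = 1 ∧ 3 ≤ k ∧ j = l * k ∧
    eta j = eta l * k ∧ 3 * eta l ≤ eta j := by
  obtain ⟨k, hk, rfl⟩ := h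
  have h1 : k ≠ 1 := by rintro rfl; exact hlj (mul_one l).symm
  refine ⟨k, hk, by omega, rfl, eta_mul_odd hk, ?_⟩
  rw [eta_mul_odd hk, mul_comm 3]
  exact Nat.mul_le_mul_left _ (by omega)

theorem om_self {l j : ℕ} (hlj : l ≠ j) (h1 : eta l < 2 * eta j) : ¬ OddMul j l := by
  rintro ⟨k, hk, rfl⟩
  rw [eta_mul_odd hk] at h1
  have hk1 : k ≠ 1 := by rintro rfl; exact hlj (mul_one j)
  have := Nat.mul_le_mul_left (eta j) (show 2 ≤ k by omega)
  omega

theorem eta_ge {l : ℕ} (h : 3 ≤ l) : 2 ≤ eta l := by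
  rcases eta_cases l with ⟨h1, h2⟩ | ⟨h1, h2⟩ <;> omega

theorem par_mul {l k : ℕ} (hk : k % 2 = 1) : l * k % 2 = l % 2 := by
  rw [Nat.mul_mod, hk, mul_one, Nat.mod_mod]

/-- symplectic and odd orthogonal families -/
theorem comb_sp {t : Fam} {n i j l : ℕ} (hn : 7 ≤ n) (hodd : n % 2 = 1)
    (hB : ∀ k, Big t k ↔ 3 ≤ k ∧ eta k ≤ n ∧ n < 2 * eta k)
    (hN : ∀ a b, na t a b ↔ n < eta a + eta b ∧ ¬ OddMul a b ∧ ¬ OddMul b a)
    (hj : (i = n ∧ j = 2 * n) ∨ (i = 2 * n ∧ j = n)) (hl3 : 3 ≤ l) (hl : eta l ≤ n) (hlj : l ≠ j)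
    (hna : ¬ na t l j) : Tri t j l := by
  have e1 := eta_odd hodd
  have e2 := eta_two_mul' n
  have e3 := eta_two_mul' (n - 1)
  have e4 := eta_two_mul' (n - 2)
  have hl2 := eta_ge hl3
  have hej : eta j = n := by rcases hj with ⟨-, h⟩ | ⟨-, h⟩ <;> rw [h] <;> assumption
  have hei : eta i = n := by rcases hj with ⟨h, -⟩ | ⟨h, -⟩ <;> rw [h] <;> assumption
  have hd : OddMul l j := by
    rw [hN] at hna
    by_contra h1
    exact hna ⟨by omega, h1, om_self hlj (by omega)⟩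
  obtain ⟨k, hk, hk3, hjk, hek, h3⟩ := om_three (by omega) hlj hd
  have hb : ∀ c, 3 ≤ c → n ≤ eta c + 2 → eta c ≤ n → Big t c := fun c h1 h2 h3 => (hB c).2 ⟨h1, h3, by omega⟩
  have hlodd : j = n → l % 2 = 1 := by
    intro h1
    rw [h1] at hjk
    have := par_mul (l := l) hk
    omega
  have hleven : j = 2 * n → ∃ a, l = 2 * a ∧ a ∣ n ∧ 3 ≤ a := by
    intro h1
    rw [h1] at hjk
    have h2 : l % 2 = 0 := by
      have := par_mul (l := l) hk
      (clear * - hjk this; omega)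
    obtain ⟨a, ha⟩ : ∃ a, l = 2 * a := ⟨l / 2, by omega⟩
    have h4 : n = a * k := by rw [ha, mul_assoc] at hjk; omega
    have ha2 : a ≠ 2 := by
      rintro rfl
      omega
    exact ⟨a, ha, ⟨k, h4⟩, by omega⟩
  have hel : 3 ≤ eta l := by
    rcases hj with ⟨-, h⟩ | ⟨-, h⟩
    · obtain ⟨a, h1, h2, h4⟩ := hleven h
      rw [h1, eta_two_mul']
      exact h4
    · rw [eta_odd (hlodd h)]
      exact hl3
  have c2 : ∀ d, d = 1 ∨ d = 2 → na t l (2 * (n - d)) := by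
    intro d hd
    have e5 := eta_two_mul' (n - d)
    rw [hN]
    refine ⟨by rw [e5]; omega, ?_, not_om_eta (by rw [e5]; (clear * - hej h3 hel hd; omega))⟩
    rcases hj with ⟨-, h⟩ | ⟨-, h⟩
    · obtain ⟨a, h1, h2, h4⟩ := hleven h
      rw [h1]
      exact not_om_two (ndvd_of (e := d) (by rw [Nat.sub_add_cancel (by omega)]; exact h2) (by omega) (by omega))
    · exact not_om_par (by have := hlodd h; omega)
  refine ⟨i, 2 * (n - 1), 2 * (n - 2), hb _ (by (clear * - hn hj; omega)) (by omega) (by omega), hb _ (by (clear * - hn; omega)) (by (clear * - e3; omega)) (by (clear * - e3; omega)),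
    hb _ (by (clear * - hn; omega)) (by (clear * - e4; omega)) (by (clear * - e4; omega)), by (clear * - hodd hj; omega), by (clear * - hodd hj; omega), by (clear * - hodd hj; omega), by (clear * - hodd hj; omega), by (clear * - hodd hj; omega), by (clear * - hn; omega), ?_,
    c2 1 (Or.inl rfl), c2 2 (Or.inr rfl)⟩
  rw [hN]
  refine ⟨by omega, not_om_par ?_, not_om_eta (by omega)⟩
  rcases hj with ⟨h', h⟩ | ⟨h', h⟩
  · obtain ⟨a, h1, -, -⟩ := hleven h
    omega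
  · have := hlodd h
    (clear * - h' this; omega)

/-- plus type, `n` even -/
theorem comb_pe {n i j l : ℕ} (hn : 7 ≤ n) (hev : n % 2 = 0)
    (hj : (i = n - 1 ∧ j = 2 * (n - 1)) ∨ (i = 2 * (n - 1) ∧ j = n - 1)) (hl3 : 3 ≤ l) (hl : mem (.oplus n) l)
    (hlj : l ≠ j) (hna : ¬ na (.oplus n) l j) : Tri (.oplus n) j l := by
  have hl' : eta l + 1 ≤ n := by
    rcases hl with h | h
    · exact h
    · omega
  have e1 := eta_odd (i := n - 1) (by omega)
  have e2 := eta_two_mul' (n - 1)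
  have e3 := eta_two_mul' (n - 2)
  have e4 := eta_two_mul' (n - 3)
  have e5 := eta_odd (i := n - 3) (by omega)
  have hl2 := eta_ge hl3
  have hej : eta j = n - 1 := by rcases hj with ⟨-, h⟩ | ⟨-, h⟩ <;> rw [h] <;> assumption
  have hei : eta i = n - 1 := by rcases hj with ⟨h, -⟩ | ⟨h, -⟩ <;> rw [h] <;> assumption
  have hd : OddMul l j := by
    by_contra h1
    exact hna ⟨by (clear * - hl2 hej; omega), h1, om_self hlj (by (clear * - hev hl' hej; omega)), by (clear * - hn hj; omega), by (clear * - hn hj; omega)⟩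
  obtain ⟨k, hk, hk3, hjk, hek, h3⟩ := om_three (by omega) hlj hd
  have hpar := par_mul (l := l) hk
  have hlodd : j = n - 1 → l % 2 = 1 := by (clear * - hn hev hjk hpar; omega)
  have hleven : j = 2 * (n - 1) → ∃ a, l = 2 * a ∧ n - 1 = a * k ∧ 3 ≤ a := by
    intro h1
    rw [h1] at hjk
    obtain ⟨a, ha⟩ : ∃ a, l = 2 * a := ⟨l / 2, by (clear * - hjk hpar; omega)⟩
    have h4 : n - 1 = a * k := by rw [ha, mul_assoc] at hjk; (clear * - hjk; omega)
    have ha2 : a ≠ 2 := by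
      rintro rfl
      (clear * - hev hk hek hpar h1 h4; omega)
    exact ⟨a, ha, h4, by (clear * - hl3 ha ha2; omega)⟩
  have hb : ∀ c, n ≤ eta c + 3 → eta c + 1 ≤ n → Big (.oplus n) c := fun c h1 h2 =>
    ⟨by rcases eta_cases c with h | h <;> (clear * - hn hev h1 h2 h; omega), Or.inl h2, show n < 2 * eta c by omega⟩
  have n1 : na (.oplus n) l i := by
    refine ⟨Or.inl (by (clear * - hl2 hei; omega)), not_om_par ?_, not_om_eta (by omega), by (clear * - hj hl2 hej h3; omega), by (clear * - hj hl2 hej h3; (solve | lia | omega))⟩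
    rcases hj with ⟨h', h⟩ | ⟨h', h⟩
    · obtain ⟨a, h1, -, -⟩ := hleven h
      clear hleven
      (clear * - hn hev h' h1; omega)
    · have := hlodd h
      (clear * - h' this; omega)
  have n2 : na (.oplus n) l (2 * (n - 2)) := by
    refine ⟨Or.inl ?_, ?_, not_om_eta (by (clear * - e3 hl2 hej h3; omega)), by omega, by (clear * -; omega)⟩
    · rcases hj with ⟨-, h⟩ | ⟨-, h⟩
      · obtain ⟨a, h1, -, h4⟩ := hleven h
        clear hleven
        have := eta_two_mul' a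
        rw [h1]
        (clear * - e3 hei hjk hek h4 this; omega)
      · have := eta_odd (hlodd h)
        (clear * - hl3 e2 e3 this; omega)
    · rcases hj with ⟨-, h⟩ | ⟨-, h⟩
      · obtain ⟨a, h1, h2, h4⟩ := hleven h
        clear hleven
        rw [h1]
        exact not_om_two (ndvd_of (e := 1) (by rw [show n - 2 + 1 = n - 1 by (clear * - hn; omega)]; exact ⟨k, h2⟩) (by omega)
          (by omega))
      · exact not_om_par (by have := hlodd h; (clear * - hei this; omega))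
  rcases hj with ⟨h', h⟩ | ⟨h', h⟩
  · obtain ⟨a, h1, h2, h4⟩ := hleven h
    clear hleven
    have e6 := eta_two_mul' a
    refine ⟨i, 2 * (n - 2), n - 3, hb _ (by (clear * - hn hei; omega)) (by (clear * - hn hei; omega)), hb _ (by (clear * - e3 h'; omega)) (by (clear * - hn e2 e3; omega)), hb _ (by (clear * - e5 h'; omega)) (by (clear * - hn e2 e5; omega)),
      by (clear * - hl2 hej h3 h' h; omega), by (clear * - hn h; omega), by (clear * - hn hev e2 h; omega), by (clear * - hn h'; omega), by (clear * - hn h'; omega), by (clear * - hn; omega), n1, n2, ?_⟩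
    rw [← h1] at e6
    exact ⟨by (clear * - hn hev e5 h1 h4 e6; omega), not_om_par (by (clear * - hn hev h1; omega)), not_om_eta (by (clear * - hl' e2 e5 hej h3 h4 e6; omega)), by (clear * - hn; omega), by (clear * -; omega)⟩
  · have h1 := hlodd h
    have e6 := eta_odd h1
    refine ⟨i, 2 * (n - 2), 2 * (n - 3), hb _ (by (clear * - hei; omega)) (by (clear * - hei hjk hpar h h1; omega)), hb _ (by (clear * - e2 e3; omega)) (by (clear * - hn e2 e3; omega)),
      hb _ (by (clear * - e2 e4; omega)) (by (clear * - hn e2 e4; omega)), by (clear * - hjk hpar h' h1; omega), by (clear * - hjk hpar h1; omega), by (clear * - hjk hpar h1; omega), by (clear * - hjk hpar h' h h1; omega), by (clear * - hjk hpar h' h h1; omega), by (clear * - hn e2; omega), n1, n2, ?_⟩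
    exact ⟨by (clear * - e2 e4 hl2 h1 e6; omega), not_om_par (by (clear * - hei h1; omega)), not_om_eta (by (clear * - hl' e2 e4 hl2 hej h3; omega)), by (clear * -; omega), by (clear * - hn hei; omega)⟩

/-- plus type, `n` odd -/
theorem comb_po {n i j l : ℕ} (hn : 7 ≤ n) (hodd : n % 2 = 1)
    (hj : (i = n ∧ j = 2 * (n - 1)) ∨ (i = 2 * (n - 1) ∧ j = n)) (hl3 : 3 ≤ l) (hl : mem (.oplus n) l)
    (hlj : l ≠ j) (hna : ¬ na (.oplus n) l j) :
    Tri (.oplus n) j l ∨ (Two (.oplus n) j l ∧ n % 4 = 3 ∧ j = 2 * (n - 1) ∧ l = 4) := by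
  have e1 := eta_odd hodd
  have e2 := eta_two_mul' (n - 1)
  have e3 := eta_two_mul' (n - 2)
  have e5 := eta_odd (i := n - 2) (by omega)
  have hl2 := eta_ge hl3
  have hl' : eta l ≤ n := by
    rcases hl with h | ⟨h, -⟩
    · omega
    · rw [h, e1]
  have hd : OddMul l j := by
    by_contra h1
    refine hna ⟨Or.inl ?_, h1, om_self hlj ?_, by omega, by omega⟩
    · rcases hj with ⟨-, h⟩ | ⟨-, h⟩ <;> rw [h] <;> omega
    · rcases hj with ⟨-, h⟩ | ⟨-, h⟩ <;> rw [h] <;> omega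
  obtain ⟨k, hk, hk3, hjk, hek, h3⟩ := om_three (by omega) hlj hd
  have hpar := par_mul (l := l) hk
  have hb : ∀ c, n ≤ eta c + 2 → eta c + 1 ≤ n → Big (.oplus n) c := fun c h1 h2 =>
    ⟨by rcases eta_cases c with h | h <;> (clear * - hn hodd h1 h2 h; omega), Or.inl h2, show n < 2 * eta c by omega⟩
  have hbn : Big (.oplus n) n := ⟨by omega, Or.inr ⟨rfl, hodd⟩, show n < 2 * eta n by omega⟩
  rcases hj with ⟨h', h⟩ | ⟨h', h⟩
  · rw [h, e2] at hek h3
    rw [h] at hjk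
    obtain ⟨a, ha⟩ : ∃ a, l = 2 * a := ⟨l / 2, by omega⟩
    have e6 := eta_two_mul' a
    rw [← ha] at e6
    rw [e6] at hek h3
    have hapar := par_mul (l := a) hk
    have n1 : na (.oplus n) l n := ⟨by omega, not_om_par (by (clear * - hodd ha; omega)), not_om_par (by (clear * - hodd ha; omega)), by (clear * -; omega), by (clear * - ha; omega)⟩
    have n2 : na (.oplus n) l (n - 2) := ⟨by (clear * - hn hodd e5 hl2 hpar ha; omega), not_om_par (by (clear * - hn hodd ha; omega)), not_om_par (by (clear * - hn hodd ha; omega)), by (clear * - hodd; omega), by (clear * -; omega)⟩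
    rcases Nat.lt_or_ge 2 a with h4 | h4
    · left
      refine ⟨n, n - 2, 2 * (n - 2), hbn, hb _ (by omega) (by omega), hb _ (by omega) (by omega), by (clear * - hodd hjk h hek; omega), by (clear * - hn h; omega),
        by (clear * - hn h; omega), by omega, by omega, by omega, n1, n2, by (clear * - hn e3 e6 h4; omega), ?_, not_om_eta (by (clear * - hn e3 h3 e6; omega)), by (clear * -; omega), by omega⟩
      rw [ha]
      refine not_om_two (ndvd_of (e := 1) ?_ (by omega) (by omega))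
      rw [show n - 2 + 1 = n - 1 by (clear * - hn; omega)]
      exact ⟨k, hek⟩
    · right
      have ha2 : a = 2 := by omega
      subst ha2
      exact ⟨⟨n, n - 2, hbn, hb _ (by omega) (by omega), by (clear * - hk h hek; omega), by (clear * - hk h hek; omega), by omega, n1, n2⟩, by (clear * - hk hek; omega), h, by omega⟩
  · left
    rw [h, e1] at hek h3
    have h1 : l % 2 = 1 := by omega
    have e6 := eta_odd h1
    rw [e6] at hek h3
    refine ⟨2 * (n - 1), 2 * (n - 2), n - 2, hb _ (by (clear * - hn hodd e2 hek; omega)) (by (clear * - hn hodd e2 hek; omega)), hb _ (by (clear * - hn hodd e3 e5 hek; omega)) (by (clear * - hn hodd e3 e5 hek; omega)),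
      hb _ (by (clear * - hn hodd e5 hek; omega)) (by (clear * - hn hodd e5 hek; omega)), by omega, by omega, by (clear * - hn hodd e5 hjk hek; omega), by (clear * - hn; omega), by (clear * - hn; omega), by (clear * - hn; omega),
      ⟨by (clear * - hodd e2 hek hpar e6; (solve | lia | omega)), not_om_par (by (clear * - hodd hek hpar; solve | lia | omega)), not_om_eta (by (clear * - hodd e2 hek h3 hpar e6; (solve | lia | omega))), by (clear * -; omega), by omega⟩,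
      ⟨by (clear * - hodd e3 hl2 hek hpar; omega), not_om_par (by (clear * - hodd hek hpar; solve | lia | omega)), not_om_eta (by (clear * - e3 hl2 h3 e6; omega)), by (clear * -; omega), by omega⟩,
      ⟨by (clear * - hodd e5 hl2 e6; omega), ?_, not_om_eta (by (clear * - e5 hl2 h3 e6; omega)), by (clear * -; omega), by (clear * -; omega)⟩⟩
    intro h5
    obtain ⟨k', hk', h6⟩ := h5
    refine ndvd_of (a := l) (d := n - 2) (e := 2) ?_ (by norm_num) (by omega) ⟨k', h6⟩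
    rw [show n - 2 + 2 = n by (clear * - hn; omega)]
    exact ⟨k, hek⟩

/-- minus type -/
theorem comb_m {n i j l : ℕ} (hn : 7 ≤ n)
    (hj : (i = 2 * n ∧ j = 2 * (n - 1)) ∨ (i = 2 * (n - 1) ∧ j = 2 * n)) (hl3 : 3 ≤ l) (hl : mem (.ominus n) l)
    (hlj : l ≠ j) (hna : ¬ na (.ominus n) l j) :
    Tri (.ominus n) j l ∨ (Two (.ominus n) j l ∧ n % 4 = 3 ∧ j = 2 * (n - 1) ∧ l = 4) := by
  have e1 := eta_two_mul' n
  have e2 := eta_two_mul' (n - 1)
  have e3 := eta_two_mul' (n - 2)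
  have e4 : n % 2 = 0 → eta (n - 1) = n - 1 := fun h => eta_odd (by omega)
  have e5 : n % 2 = 1 → eta (n - 2) = n - 2 := fun h => eta_odd (by omega)
  have hl2 := eta_ge hl3
  have hl' : eta l ≤ n := by
    rcases hl with h | h
    · omega
    · rw [h, e1]
  have hd : OddMul l j := by
    by_contra h1
    refine hna ⟨Or.inl ?_, h1, om_self hlj ?_⟩
    · rcases hj with ⟨-, h⟩ | ⟨-, h⟩ <;> rw [h] <;> (clear * - e2 hl2 e1; omega)
    · rcases hj with ⟨-, h⟩ | ⟨-, h⟩ <;> rw [h] <;> (clear * - hn e2 hl' e1 hl2; omega)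
  obtain ⟨k, hk, hk3, hjk, hek, h3⟩ := om_three (by omega) hlj hd
  have hpar := par_mul (l := l) hk
  have hb : ∀ c, n ≤ eta c + 2 → eta c + 1 ≤ n → Big (.ominus n) c := fun c h1 h2 =>
    ⟨by rcases eta_cases c with h | h <;> omega, Or.inl h2, show n < 2 * eta c by omega⟩
  have hbn : Big (.ominus n) (2 * n) := ⟨by omega, Or.inr rfl, show n < 2 * eta (2 * n) by omega⟩
  obtain ⟨a, ha⟩ : ∃ a, l = 2 * a := ⟨l / 2, by (clear * - hj hjk hpar; omega)⟩
  have e6 := eta_two_mul' a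
  rw [← ha] at e6
  rw [e6] at hek h3
  have hapar := par_mul (l := a) hk
  rcases hj with ⟨h', h⟩ | ⟨h', h⟩
  · rw [h, e2] at hek h3
    have n1 : na (.ominus n) l (2 * n) := by
      refine ⟨by omega, ?_, not_om_eta (by (clear * - hn e1 hl' hek e6 hapar; omega))⟩
      rw [ha]
      apply not_om_two
      intro h5
      have h6 : a ∣ n - 1 := ⟨k, hek⟩
      have h7 := Nat.dvd_sub h5 h6
      have := Nat.le_of_dvd (by (clear * - hn e1 e4 e5 hek; omega)) h7
      (clear * - hn hl2 e6 this; omega)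
    have n2 : na (.ominus n) l (2 * (n - 2)) := by
      refine ⟨by (clear * - hn e3 hl2 ha; omega), ?_, not_om_eta (by (clear * - e3 hl2 h3 e6; omega))⟩
      rw [ha]
      refine not_om_two (ndvd_of (e := 1) ?_ (by omega) (by omega))
      rw [show n - 2 + 1 = n - 1 by (clear * - hn e1 e4 e5 hek; omega)]
      exact ⟨k, hek⟩
    rcases Nat.lt_or_ge 2 a with h4 | h4
    · left
      rcases Nat.mod_two_eq_zero_or_one n with hp | hp
      · have := e4 hp
        exact ⟨2 * n, 2 * (n - 2), n - 1, hbn, hb _ (by (clear * - e3; omega)) (by (clear * - hn e3; omega)), hb _ (by (clear * - hn e1 e4 e5 hek hp this; omega)) (by (clear * - hn e1 e4 e5 hek hp this; omega)), by (clear * - hn h; omega),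
          by (clear * - hn h; omega), by (clear * - h3 h h4; omega), by (clear * - hn; omega), by (clear * - hn; omega), by (clear * - hn; omega), n1, n2, by (clear * - e6 h4 this; omega), not_om_par (by (clear * - hn ha hp; omega)),
          not_om_eta (by (clear * - h3 e6 h4 this; omega))⟩
      · have := e5 hp
        exact ⟨2 * n, 2 * (n - 2), n - 2, hbn, hb _ (by (clear * - e3; omega)) (by (clear * - e3 hp; omega)), hb _ (by (clear * - hn e1 e4 e5 hp this; omega)) (by (clear * - hn e1 e4 e5 hp this; omega)), by (clear * - h hp; omega),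
          by (clear * - hn h; omega), by (clear * - hn h; omega), by (clear * - hp; omega), by (clear * - hp; omega), by (clear * - hn; omega), n1, n2, by (clear * - hek e6 h4 this; omega), not_om_par (by (clear * - hn hek ha hp; omega)),
          not_om_eta (by (clear * - hl' h3 e6 h4 this; omega))⟩
    · right
      have ha2 : a = 2 := by omega
      subst ha2
      exact ⟨⟨2 * n, 2 * (n - 2), hbn, hb _ (by (clear * - e3; omega)) (by (clear * - hn e3; omega)), by (clear * - hk h hek; omega), by (clear * - h h3; omega), by (clear * - hn e1 e4 e5; omega), n1, n2⟩, by (clear * - hk hek; omega), h,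
        by omega⟩
  · left
    rw [h, e1] at hek h3
    have n1 : na (.ominus n) l (2 * (n - 1)) := by
      refine ⟨by (clear * - e2 hl2; omega), ?_, not_om_eta (by (clear * - e2 hl2 h3 hek e6; omega))⟩
      rw [ha]
      refine not_om_two (ndvd_of (e := 1) ?_ (by omega) (by omega))
      rw [show n - 1 + 1 = n by (clear * - hn e1 e4 e5 hek; omega)]
      exact ⟨k, hek⟩
    have n2 : na (.ominus n) l (2 * (n - 2)) := by
      refine ⟨by (clear * - e3 hl2 ha; omega), ?_, not_om_eta (by (clear * - e3 hl2 h3 e6; omega))⟩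
      rcases Nat.lt_or_ge 2 a with h4 | h4
      · rw [ha]
        refine not_om_two (ndvd_of (e := 2) ?_ (by omega) (by omega))
        rw [show n - 2 + 2 = n by (clear * - hn e1 e4 e5 hek; omega)]
        exact ⟨k, hek⟩
      · have ha2 : a = 2 := by omega
        subst ha2
        rw [ha]
        rintro ⟨k', hk', h5⟩
        (clear * - hk hek hk' h5; (solve | lia | omega))
    rcases Nat.mod_two_eq_zero_or_one n with hp | hp
    · have := e4 hp
      exact ⟨2 * (n - 1), 2 * (n - 2), n - 1, hb _ (by (clear * - e2; omega)) (by (clear * - hn e2; omega)), hb _ (by (clear * - e3; omega)) (by (clear * - hn e3; omega)),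
        hb _ (by (clear * - this; omega)) (by (clear * - hn this; omega)), by (clear * - hn h; omega),
        by (clear * - hn h; omega), by (clear * - hn h; omega), by (clear * - hn; omega), by (clear * - hn; omega), by (clear * - hn; omega), n1, n2, by (clear * - hl2 this; omega), not_om_par (by (clear * - hn ha hp; omega)),
        not_om_eta (by (clear * - hn h3 e6 this; omega))⟩
    · have := e5 hp
      exact ⟨2 * (n - 1), 2 * (n - 2), n - 2, hb _ (by (clear * - e2; omega)) (by (clear * - e2 hp; omega)), hb _ (by (clear * - e3; omega)) (by (clear * - e3 hp; omega)),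
        hb _ (by (clear * - this; omega)) (by (clear * - hp this; omega)), by (clear * - h hp; omega),
        by (clear * - h hp; omega), by (clear * - h hp; omega), by (clear * - hn; omega), by (clear * - hn; omega), by (clear * - hn; omega), n1, n2, by (clear * - hl2 hek e6 hapar hp this; (solve | lia | omega)), not_om_par (by (clear * - hn ha hp; omega)),
        not_om_eta (by (clear * - hl2 h3 e6 this; omega))⟩

/-- **The combinatorial statement.** -/
theorem vok_comb {t : Fam} (h5 : Five t) {i j l : ℕ} (hij : PairOK t i j) (hl3 : 3 ≤ l) (hl : mem t l) (hlj : l ≠ j)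
    (hna : ¬ na t l j) : Tri t j l ∨ (Two t j l ∧ VEx t j l) := by
  cases t with
  | psl n =>
    change 9 ≤ n at h5
    change (i = n ∧ j + 1 = n) ∨ (i + 1 = n ∧ j = n) at hij
    rcases comb_lin (t := .psl n) h5 (fun k => Iff.rfl) (fun a b => Iff.rfl) (by omega) hl3 hl hlj hna with h | h
    · exact Or.inl h
    · exact Or.inr ⟨h.1, Or.inl ⟨⟨n, Or.inl rfl⟩, h.2⟩⟩
  | psu n =>
    change 9 ≤ n at h5
    change (i = n ∧ j + 1 = n) ∨ (i + 1 = n ∧ j = n) at hij
    rcases comb_lin (t := .psu n) h5 (fun k => Iff.rfl) (fun a b => Iff.rfl) (by omega) hl3 hl hlj hna with h | h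
    · exact Or.inl h
    · exact Or.inr ⟨h.1, Or.inl ⟨⟨n, Or.inr rfl⟩, h.2⟩⟩
  | psp n =>
    exact Or.inl (comb_sp (t := .psp n) h5 hij.1 (fun k => Iff.rfl) (fun a b => Iff.rfl) hij.2 hl3 hl hlj hna)
  | oodd n =>
    exact Or.inl (comb_sp (t := .oodd n) h5 hij.1 (fun k => Iff.rfl) (fun a b => Iff.rfl) hij.2 hl3 hl hlj hna)
  | oplus n =>
    rcases hij with ⟨h0, h1⟩ | ⟨h0, h1⟩
    · rcases comb_po h5 h0 h1 hl3 hl hlj hna with h | ⟨a1, a2, a3, a4⟩
      · exact Or.inl h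
      · exact Or.inr ⟨a1, Or.inr ⟨⟨n, Or.inl rfl, a2, a3⟩, a4⟩⟩
    · exact Or.inl (comb_pe h5 h0 h1 hl3 hl hlj hna)
  | ominus n =>
    rcases comb_m h5 hij hl3 hl hlj hna with h | ⟨a1, a2, a3, a4⟩
    · exact Or.inl h
    · exact Or.inr ⟨a1, Or.inr ⟨⟨n, Or.inr rfl, a2, a3⟩, a4⟩⟩
  | _ => exact h5.elim

end Cfsg.Agent.R2.Spec.Gamma
end

-- part: R2/Spec/Gamma/Vok
section
/-!
# The class of the characteristic of `S` in the second number (helper27)

* `VOK` : the class of `v` is at most two, or `S` is of type `Ω⁻` (even rank) and `v` is of class three or four;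
* `LS.vok` : `VOK` for a duel in the context of `LS`.
-/

set_option autoImplicit false
set_option linter.unusedSectionVars false
set_option linter.unusedVariables false

namespace Cfsg.Agent.R2.Spec.Gamma

open Subgroup Cfsg
open Cfsg.Agent.H426.LieFam Cfsg.Agent.R2.Spec Cfsg.Agent.R2.Spec.P1 Cfsg.Agent.R2.Spec.F1
open Cfsg.Agent.H420.QR
open Cfsg.Agent.R2.Spec.E (PairOK outB Duel)

universe u w

/-- the class of the characteristic of `S` -/
def VOK (t : Fam) (q v j : ℕ) (t' : Fam) : Prop :=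
  cls t q v ≤ 2 ∨ ((∃ m, t' = .ominus m ∧ m % 2 = 0) ∧
    (((∃ n, t = .psl n ∨ t = .psu n) ∧ cls t q v = 3 ∧ 3 ∣ j) ∨
      ((∃ n, (t = .oplus n ∨ t = .ominus n) ∧ n % 4 = 3 ∧ j = 2 * (n - 1)) ∧ cls t q v = 4)))

variable {t : Fam} {p f : ℕ} {L : Type w} [Group L] [Finite L] {G : Type u} [Group G] [Finite G]
variable {K : Subgroup G} [K.Normal] {S : Subgroup (G ⧸ K)} [S.Normal]
variable {t' : Fam} {v f' : ℕ}

/-- **The class of the characteristic of `S` in the second number.** -/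
theorem LS.vok {i j i' j' w H : ℕ} (h : LS t p f L G) (hL : Fam.Is p f L t) (hR : Red G K S) (hF : Frm G K S t' v f')
    (hvp : v ≠ p) (hp2 : p ≠ 2) (h5 : Five t) (hS : BigS t') (hD : Duel t p f i j t' v f' i' j' w H S)
    (hvN : v ∣ ttor t (p ^ f) j) (hA : An t' j') : VOK t (p ^ f) v j t' := by
  by_cases hk : cls t (p ^ f) v ≤ 2
  · exact Or.inl hk
  right
  have hT : IsoRk t := small_isoRk (Or.inl h5)
  have hn : 5 ≤ rk t := rk_five (Or.inl h5)
  have hq3 := h.q_three hp2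
  obtain ⟨hi3, him, hin, hib, hije⟩ := pair_left hD.pair hn
  obtain ⟨hj3, hjm, hjn, hjb, -⟩ := pair_left (pair_symm hD.pair) hn
  have htf := top_facts_all h.cla h.prime hL
  have hv5 := (cls_facts hF.prime (show 3 ≤ cls t (p ^ f) v by omega)).1
  have hvG : v ∣ Nat.card G := by
    rw [card_eq_mul (K := K) (S := S)]
    exact Dvd.dvd.mul_right hF.vdvd _
  have hvp' : ¬ v ∣ p := fun hd => hvp ((Nat.prime_dvd_prime_iff_eq hF.prime h.prime).1 hd)
  have hvm : mem t (cls t (p ^ f) v) :=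
    (h.adj.dvd v hF.prime (by omega) hvp' (by omega)).1 ((h.dvd_iff hF.prime).1 hvG)
  have hvI : In t (p ^ f) (cls t (p ^ f) v) v := ⟨hF.prime, rfl, by omega, hvm⟩
  have hw1 : In t (p ^ f) j w := ⟨hD.w_prime, hD.clsw, hj3, hjm⟩
  have hw1v : w ≠ v := h.iso_ne_v hR hF hS hp2 hvp.symm hT hw1 hjn
  -- the second class is adjacent to `v`
  have hjv : ¬ na t (cls t (p ^ f) v) j := by
    intro hna
    have hne := hvI.ne hw1 (na_ne hna)
    have hw1N : w ∣ ttor t (p ^ f) j := by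
      have hfr := Fact.mk hw1.prime
      obtain ⟨y, hy⟩ := exists_prime_orderOf_dvd_card' (G := L) w ((h.dvd_iff hw1.prime).1 (hw1.dvd h))
      have := htf.ub w hw1.prime (hw1.not_dvd h.fpos)
        (by rw [hw1.cls_eq]; exact top_of_iso h.cla hj3 hjm hjn) y (by rw [hy])
      rw [hw1.cls_eq, hy] at this
      exact this
    obtain ⟨x, hx⟩ := htf.elt _ (top_of_iso h.cla hj3 hjm hjn)
    have hN0 : ttor t (p ^ f) j ≠ 0 := by rw [← hx]; exact (orderOf_pos x).ne'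
    have h1 : ∃ g : G, orderOf g = v * w := exists_dvd_order hN0
      (((Nat.coprime_primes hF.prime hw1.prime).2 hne).mul_dvd_of_dvd_of_dvd hvN hw1N) ((h.ord _).2 ⟨x, hx⟩)
    exact (h.adj_iff hvI hw1 hne).1 h1 hna
  have hlj : cls t (p ^ f) v ≠ j := by
    intro e
    exact h.iso_ne_v hR hF hS hp2 hvp.symm hT (r := v) (i := j) ⟨hF.prime, e, hj3, hjm⟩ hjn rfl
  -- the type of `S`
  obtain ⟨m, rfl⟩ : ∃ m, t' = .ominus m := by
    refine (h.v_low hL hR hF hS hp2 hvp hT hn hD.pair hD.vM hvN hw1 (by rw [hD.clsw']; exact hD.j'3)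
      (by rw [hD.clsw']; exact hA)).resolve_left hk
  have hj' : j' = 2 * m := hA
  have hm4 : 4 ≤ m := hF.is.1
  -- the classes not adjacent to `v`
  have key : ∀ k, Big t k → k ≠ j → na t (cls t (p ^ f) v) k → ∃ z, In t (p ^ f) k z ∧ z ≠ v ∧ z ∣ Nat.card S ∧
      (cls (.ominus m) (v ^ f') z = 2 * (m - 1) ∨ (cls (.ominus m) (v ^ f') z = m - 1 ∧ m % 2 = 0)) := by
    intro k hkb hkj hkl
    obtain ⟨z, hz⟩ := exists_in h hq3 hkb.1 hkb.2.1
    have hzv : z ≠ v := (hvI.ne hz (na_ne hkl)).symm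
    have hna : ¬ ∃ g : G, orderOf g = v * z := fun hg => (h.adj_iff hvI hz hzv.symm).1 hg hkl
    have hg := hF.good_of_na_v hS hz.prime hz.five hzv (hz.dvd h) hna
    obtain ⟨c3, cn⟩ := hF.v_nap hS hz.prime hz.ne_two hzv hg.2 (fun hx => hna (exists_of_S hx))
    have cm := hF.mem_cls hz.prime hz.ne_two hg.2 c3
    refine ⟨z, hz, hzv, hg.2, ?_⟩
    have hc2 : cls (.ominus m) (v ^ f') z ≠ 2 * m := by
      intro e
      have hzw := hz.ne hw1 hkj
      exact h.not_adj_S (S := S) hz hw1 (na_of_big h.cla hkb ⟨hj3, hjm, hjb⟩ hkj)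
        (adj_same' hF.cla hF.prime hF.is hz.prime hw1.prime hz.ne_two hw1.ne_two hzw hzv hw1v hg.2 hD.wS
          (by rw [e, hD.clsw', hj']))
    obtain ⟨c, hc⟩ : ∃ c, c = cls (.ominus m) (v ^ f') z := ⟨_, rfl⟩
    rw [← hc] at c3 cn cm hc2 ⊢
    have cn' : m < eta c + 2 := cn
    have cm' : eta c + 1 ≤ m ∨ c = 2 * m := cm
    rcases eta_cases c with ⟨h1, h2⟩ | ⟨h1, h2⟩
    · rw [Nat.odd_iff] at h1
      right
      (clear * - cn' cm' h1 h2; (solve | lia | omega))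
    · left
      (clear * - hc2 cn' cm' h2; solve | lia | omega)
  have dist : ∀ {a b za zb : ℕ}, Big t a → Big t b → a ≠ b → In t (p ^ f) a za → In t (p ^ f) b zb → za ≠ v → zb ≠ v →
      za ∣ Nat.card S → zb ∣ Nat.card S → cls (.ominus m) (v ^ f') za ≠ cls (.ominus m) (v ^ f') zb := by
    intro a b za zb ha hb hab hza hzb hzav hzbv h1 h2 e
    exact h.not_adj_S (S := S) hza hzb (na_of_big h.cla ha hb hab)
      (adj_same' hF.cla hF.prime hF.is hza.prime hzb.prime hza.ne_two hzb.ne_two (hza.ne hzb hab) hzav hzbv h1 h2 e)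
  rcases vok_comb h5 hD.pair (show 3 ≤ cls t (p ^ f) v by omega) hvm hlj hjv with
    ⟨a, b, c, ha, hb, hc, haj, hbj, hcj, hab, hac, hbc, na1, na2, na3⟩ | ⟨⟨a, b, ha, hb, haj, hbj, hab, na1, na2⟩, hex⟩
  · exfalso
    obtain ⟨za, a1, a2, a3, a4⟩ := key a ha haj na1
    obtain ⟨zb, b1, b2, b3, b4⟩ := key b hb hbj na2
    obtain ⟨zc, c1, c2, c3, c4⟩ := key c hc hcj na3
    have d1 := dist ha hb hab a1 b1 a2 b2 a3 b3
    have d2 := dist ha hc hac a1 c1 a2 c2 a3 c3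
    have d3 := dist hb hc hbc b1 c1 b2 c2 b3 c3
    (clear * - a4 b4 c4 d1 d2 d3; (solve | lia | omega))
  · obtain ⟨za, a1, a2, a3, a4⟩ := key a ha haj na1
    obtain ⟨zb, b1, b2, b3, b4⟩ := key b hb hbj na2
    have d1 := dist ha hb hab a1 b1 a2 b2 a3 b3
    exact ⟨⟨m, rfl, by (clear * - a4 b4 d1; omega)⟩, hex⟩

end Cfsg.Agent.R2.Spec.Gamma
end
end

-- part: R2/Spec/X7/N6/Z
section
prune_inst 0x60006404240000000000001442003862aa000100002000013000050201879900804009006a800d00004432001070000811000040424000000e00300000020000002800001034a104200000800002000000000000000000000000000000041000000000000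
set_option linter.all false
open scoped Cfsg.Agent.FastGrp

/-!
# Box X7, `n = 6` (helper14, S3435): the zero cases

* `Ctx.dvd6` : the primes of class six divide `|S|`;
* `Ctx.no_kap` : the primes of the radical which divide `c₅ (s - 1) / c` are equal to `v`;
* `Ctx.fac` : `c₅ (s - 1) / c = κ h E'`;
* `Ctx.no_zero` : the zero cases.
-/

set_option autoImplicit false
set_option linter.unusedSectionVars false
set_option linter.unusedVariables false

namespace Cfsg.Agent.R2.Spec.X7.N6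

open Subgroup Cfsg
open Cfsg.Agent.H426.LieFam Cfsg.Agent.R2.Spec Cfsg.Agent.R2.Spec.P1 Cfsg.Agent.R2.Spec.F1
open Cfsg.Agent.H72 Cfsg.Agent.H420.QR Cfsg.Agent.R2.Spec.E

universe u w

variable {t : Fam} {p f : ℕ} {L : Type w} [Group L] [Finite L] {G : Type u} [Group G] [Finite G]
variable {K : Subgroup G} [K.Normal] {S : Subgroup (G ⧸ K)} [S.Normal] {t' : Fam} {v f' : ℕ} {c c5 M : ℕ}

namespace Ctx

/-- **The primes of class six divide `|S|`.** -/
theorem dvd6 (X : Ctx t p f L G K S t' v f' c c5 M) (hS : BigS t') {z : ℕ} (hz : In t (p ^ f) 6 z) :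
    z ∣ Nat.card S := by
  have h := X.h
  have hF := X.hF
  have hq := F1.LS.q_three h X.p2
  by_contra hc
  have hzv : z ≠ v := by
    rintro rfl
    exact hc hF.vdvd
  have h3 : 3 ≤ cls t' (v ^ f') z := by
    by_contra h3
    push Not at h3
    obtain ⟨g, hg⟩ := F1.Frm.irr_v hF hS hz.prime hz.ne_two hzv (by omega)
    exact hc ((dvd_mul_right z v).trans (by rw [← hg]; exact orderOf_dvd_natCard g))
  have hzG := hz.dvd h
  rw [card_eq_mul (K := K) (S := S)] at hzG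
  have hbad := (hz.prime.dvd_mul.1 hzG).resolve_left hc
  have hzK : ¬ z ∣ Nat.card K := fun hd => by
    have h1 := F1.LS.kprime_cls h X.hR hF hS (by rw [X.t6.rk]; norm_num) hq hz.prime hzv hd
    rw [hz.cls_eq] at h1
    omega
  have hzd : ¬ z ∣ dg t' (v ^ f') := not_dvd_dg (Nat.one_le_pow _ _ hF.prime.pos) hz.prime h3
  obtain ⟨z5, H5⟩ := exists_in h hq (i := 5) (by norm_num) (X.t6.mem_iff.2 (by norm_num))
  have hHC : HC (sg t (p ^ f)) z 4 := h.hc X.hR hF hz hbad hzK hzd (by norm_num) (X.t6.mem_iff.2 (by norm_num))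
    (na_symm X.t6.n46) ⟨5, z5, H5, na_symm X.t6.n56, X.t6.n45⟩
  refine killer_false (X := sg t (p ^ f)) (r := z) (i := 6) hz.prime hz.five hz.cls_eq (by norm_num)
    (I := fun l => l = 4) ?_ ?_
  · rintro l rfl -
    exact hHC
  · exact Or.inl ⟨1, le_rfl, rfl, by norm_num, by norm_num⟩

/-- a prime `z ∣ c₅ (s - 1) / c` is not adjacent to the primes of class six -/
theorem not_adj6 (X : Ctx t p f L G K S t' v f' c c5 M) {w : ℕ} (hw : (sg t (p ^ f) - 1).natAbs = c * w) {z Z : ℕ}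
    (hz : z.Prime) (hzw : z ∣ c5 * w) (H : In t (p ^ f) 6 Z) : ¬ ∃ g : G, orderOf g = z * Z := by
  rintro ⟨g, hg⟩
  have n := X.n
  have hup := X.up g
  rw [hg] at hup
  have hzs := n.dvd_s hw hz hzw
  have hs0 := n.s_ne
  have hc6 := n.c_dvd6
  have hZf := Fact.mk H.prime
  have hZp : ¬ (Z : ℤ) ∣ (p : ℤ) := fun hd => H.not_dvd X.h.fpos (by exact_mod_cast hd)
  have hord : orderOf ((sg t (p ^ f) : ℤ) : ZMod Z) = 6 := H.cls_eq
  have hZ5 := H.five
  obtain ⟨s, hs⟩ : ∃ s, s = sg t (p ^ f) := ⟨_, rfl⟩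
  rw [← hs] at hup hzs hs0 hord hw n
  have key : ∀ j : ℕ, (Z : ℤ) ∣ s ^ j - 1 → 6 ∣ j := by
    intro j hj
    rw [← hord]
    apply orderOf_dvd_of_pow_eq_one
    have h1 := (ZMod.intCast_zmod_eq_zero_iff_dvd _ Z).2 hj
    push_cast at h1
    linear_combination h1
  have hZpr : _root_.Prime (Z : ℤ) := Nat.prime_iff_prime_int.1 H.prime
  have e1 : (Z : ℤ) ∣ (c * ((z * Z : ℕ) : ℤ)) := by
    push_cast
    exact ⟨c * z, by ring⟩
  have e2 : (Z : ℤ) ∣ ((z * Z : ℕ) : ℤ) := by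
    push_cast
    exact ⟨z, by ring⟩
  rcases hup with h1 | h1 | h1 | h1 | h1 | h1 | h1 | ⟨-, h1⟩ | ⟨hp5, h1⟩
  · exact absurd (key 5 (e1.trans h1)) (by decide)
  · obtain ⟨k, hk⟩ := h1
    have h2 : s ^ 5 + s ^ 4 + s ^ 3 + s ^ 2 + s + 1 = (c * z) * (Z * k) := by
      apply mul_left_cancel₀ hs0
      push_cast at hk
      linear_combination hk
    have h3 : s ^ 5 + s ^ 4 + s ^ 3 + s ^ 2 + s + 1 = 6 + (s - 1) * (s ^ 4 + 2 * s ^ 3 + 3 * s ^ 2 + 4 * s + 5) := by ring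
    have h6 : (z : ℤ) ∣ 6 := by
      have h4 : (6 : ℤ) = c * z * (Z * k) - (s - 1) * (s ^ 4 + 2 * s ^ 3 + 3 * s ^ 2 + 4 * s + 5) := by
        rw [← h2, h3]
        ring
      rw [h4]
      exact dvd_sub ⟨c * (Z * k), by ring⟩ (hzs.mul_right _)
    have key2 : ∀ d : ℕ, z = d → d ∣ c → d ∣ w → ((d : ℤ) * d) ∣ 6 := by
      rintro d rfl hdc hdw
      have h4 : ((z * z : ℕ) : ℤ) ∣ s - 1 := by
        rw [Int.natCast_dvd, hw]
        exact Nat.mul_dvd_mul hdc hdw
      push_cast at h4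
      have h5 : (6 : ℤ) = c * z * (Z * k) - (s - 1) * (s ^ 4 + 2 * s ^ 3 + 3 * s ^ 2 + 4 * s + 5) := by
        rw [← h2, h3]
        ring
      rw [h5]
      have h6 : (z : ℤ) * z ∣ c * z := mul_dvd_mul_right (by exact_mod_cast hdc) _
      exact dvd_sub (h6.mul_right _) (h4.mul_right _)
    have h7 : z ∣ 6 := by exact_mod_cast h6
    have h8 : z = 2 ∨ z = 3 := by
      have : z ∣ 2 * 3 := h7
      rcases hz.dvd_mul.1 this with h | h
      · exact Or.inl ((Nat.prime_dvd_prime_iff_eq hz Nat.prime_two).1 h)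
      · exact Or.inr ((Nat.prime_dvd_prime_iff_eq hz Nat.prime_three).1 h)
    have hc5 : Nat.Coprime z c5 := by
      rcases h8 with h | h <;> rw [h] <;> rcases n.c5_or with h' | h' <;> rw [h'] <;> decide
    have hzw' : z ∣ w := hc5.dvd_of_dvd_mul_left hzw
    have hzc : z ∣ c := by
      rw [n.hc]
      exact Nat.dvd_gcd h7 (Int.natCast_dvd.1 hzs)
    have h9 := key2 z rfl hzc hzw'
    rcases h8 with h | h <;> rw [h] at h9 <;> revert h9 <;> decide
  · exact absurd (key 4 (e2.trans h1)) (by decide)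
  · rcases hZpr.dvd_or_dvd (e1.trans h1) with h2 | h2
    · exact hZp h2
    · exact absurd (key 4 h2) (by decide)
  · rcases hZpr.dvd_or_dvd (e2.trans h1) with h2 | h2
    · exact absurd (key 3 h2) (by decide)
    · exact absurd (key 2 (h2.trans ⟨s - 1, by ring⟩)) (by decide)
  · rcases hZpr.dvd_or_dvd (e2.trans h1) with h2 | h2
    · exact hZp h2
    · exact absurd (key 3 h2) (by decide)
  · rcases hZpr.dvd_or_dvd (e2.trans h1) with h2 | h2
    · exact hZp h2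
    · exact absurd (key 2 h2) (by decide)
  · rcases hZpr.dvd_or_dvd (e2.trans h1) with h2 | h2
    · have h3 : Z ∣ 3 ^ 2 := by
        norm_num
        exact_mod_cast h2
      have := (Nat.prime_dvd_prime_iff_eq H.prime Nat.prime_three).1 (H.prime.dvd_of_dvd_pow h3)
      omega
    · exact absurd (key 2 h2) (by decide)
  · have h3 : Z ∣ 5 ^ 2 := (dvd_mul_left Z z).trans h1
    have h4 := (Nat.prime_dvd_prime_iff_eq H.prime Nat.prime_five).1 (H.prime.dvd_of_dvd_pow h3)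
    apply hZp
    rw [hp5, h4]

/-- **The primes of the radical.** -/
theorem no_kap (X : Ctx t p f L G K S t' v f' c c5 M) (hS : BigS t') {w : ℕ}
    (hw : (sg t (p ^ f) - 1).natAbs = c * w) {r : ℕ} (hr : r.Prime) (hrM : r ∣ M) (h3 : 3 ≤ cls t' (v ^ f') r)
    (hAn : An t' (cls t' (v ^ f') r)) {z : ℕ} (hz : z.Prime) (hzK : z ∣ Nat.card K) (hzw : z ∣ c5 * w) : z = v := by
  by_contra hzv
  have h := X.h
  have hF := X.hF
  have hq := F1.LS.q_three h X.p2
  obtain ⟨z6, H6⟩ := exists_in h hq (i := 6) (by norm_num) (X.t6.mem_iff.2 (by norm_num))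
  have hz6S := X.dvd6 hS H6
  have H5 := X.in5 hr hrM
  have hzs := X.n.dvd_s hw hz hzw
  have hne : z6 ≠ z := by
    rintro rfl
    have h1 : cls t (p ^ f) z6 = 6 := H6.cls_eq
    have h2 := (ZMod.intCast_zmod_eq_zero_iff_dvd _ z6).2 hzs
    push_cast at h2
    have h3 : cls t (p ^ f) z6 = 1 := cls_one_iff.2 (by linear_combination h2)
    omega
  obtain ⟨h1, h2, h4⟩ := hF.k_an hS hz hzv hzK H6.prime H6.ne_two hne hz6S (X.not_adj6 hw hz hzw H6)
  exact h.not_adj_S H5 H6 X.t6.n56 (adj_same' hF.cla hF.prime hF.is hr H6.prime H5.ne_two H6.ne_two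
    (H5.ne H6 (by norm_num)) (F1.Frm.ne_v_of_reg hF hr h3) h1 (X.good5 hr hrM).2 hz6S (an_unique hF.cla hAn h4))

/-- **The decomposition of the order of the torus of class five.** -/
theorem fac (X : Ctx t p f L G K S t' v f' c c5 M) (hS : BigS t') {w : ℕ}
    (hw : (sg t (p ^ f) - 1).natAbs = c * w) {r : ℕ} (hr : r.Prime) (hrM : r ∣ M) (h3 : 3 ≤ cls t' (v ^ f') r)
    (hAn : An t' (cls t' (v ^ f') r)) : ∃ κ h E' : ℕ, c5 * w = κ * h * E' ∧ Kp v κ c5 w ∧ h ∣ outB t' v f' ∧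
      ∃ x : S, orderOf x = M * E' := by
  have n := X.n
  have hM0 := n.M_pos
  have hc0 : 0 < c := by rcases n.c_or with h | h <;> omega
  obtain ⟨g, hg⟩ := X.eltA5
  have hg' : orderOf g = M * (c5 * w) := by
    apply Nat.eq_of_mul_eq_mul_right hc0
    rw [hg, ← n.hM, Int.natAbs_mul, Int.natAbs_mul, Int.natAbs_natCast, Int.natAbs_natCast, hw]
    ring
  obtain ⟨κ, h, E, hE, hκ, hh, y, hy⟩ := order_fac2 (K := K) (S := S) g
  rw [hg'] at hE
  have hgood : ∀ z : ℕ, z.Prime → z ∣ M → ¬ z ∣ Nat.card K * S.index := fun z hz hzM => (X.good5 hz hzM).1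
  have hcκ : Nat.Coprime M κ := Nat.coprime_of_dvd fun z hz hzM hzκ =>
    hgood z hz hzM ((hzκ.trans hκ).mul_right _)
  have hch : Nat.Coprime M h := Nat.coprime_of_dvd fun z hz hzM hzh =>
    hgood z hz hzM ((hzh.trans hh).mul_left _)
  have hME : M ∣ E := by
    have h1 : M ∣ κ * h * E := by
      rw [← hE]
      exact Dvd.intro _ rfl
    exact (Nat.Coprime.mul_right hcκ hch).dvd_of_dvd_mul_left h1
  obtain ⟨E', rfl⟩ := hME
  have h1 : c5 * w = κ * h * E' := by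
    apply Nat.eq_of_mul_eq_mul_left hM0
    rw [hE]
    ring
  have hκw : κ ∣ c5 * w := by
    rw [h1, mul_assoc]
    exact Dvd.intro _ rfl
  refine ⟨κ, h, E', h1, ⟨fun z hz hzκ => ?_, hκw⟩, ?_, y, hy⟩
  · exact X.no_kap hS hw hr hrM h3 hAn hz (hzκ.trans hκ) (hzκ.trans hκw)
  · exact (hh.trans X.hF.index_dvd_out).trans (out_dvd hS X.hF.center X.hF.prime X.hF.is)

end Ctx

/-- the linear and unitary groups: the quotient -/
theorem lin_q {m a g P : ℕ} {T : ℕ} (ha : 0 < a) (hg : g * a ∣ a * P) (hT : T = (a * P) / (a * g)) : T * g = P := by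
  obtain ⟨k, hk⟩ := hg
  have h1 : P = g * k := by
    apply Nat.eq_of_mul_eq_mul_left ha
    rw [hk]
    ring
  rw [hT, h1]
  rcases Nat.eq_zero_or_pos g with h | h
  · rw [h]
    simp
  · rw [show a * (g * k) = (a * g) * k by ring, Nat.mul_div_cancel_left _ (Nat.mul_pos ha h)]
    ring

/-- the size -/
theorem size_lin {w c5 κ h E' g f' : ℕ} (h5 : 0 < c5) (e : c5 * w = κ * h * E') (hh : h ∣ 2 * g * f')
    (hE : E' * g ∣ c5) : w ∣ 2 * κ * f' := by
  have h1 : c5 * w ∣ c5 * (2 * κ * f') := by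
    rw [e]
    calc κ * h * E' ∣ κ * (2 * g * f') * E' := Nat.mul_dvd_mul_right (Nat.mul_dvd_mul_left _ hh) _
      _ = (E' * g) * (2 * κ * f') := by ring
      _ ∣ c5 * (2 * κ * f') := Nat.mul_dvd_mul_right hE _
  exact Nat.dvd_of_mul_dvd_mul_left h5 h1

/-- **The zero cases.** -/
theorem Ctx.no_zero (X : Ctx t p f L G K S t' v f' c c5 M) (hS : BigS t') (hqp : p ^ f = p) (hq11 : 11 ≤ p ^ f)
    (hq41 : c5 = 5 → 41 ≤ p ^ f)
    {r e : ℕ} (hr : r.Prime) (hrM : r ∣ M) (h3 : 3 ≤ cls t' (v ^ f') r) (hAn : An t' (cls t' (v ^ f') r))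
    (hub : ∀ x : S, r ∣ orderOf x → orderOf x ∣ M * e)
    (hcase :
      (∃ m, t' = .psl m ∧ 4 ≤ m ∧ (((v ^ f' : ℕ) : ℤ) - 1) *
        (sg t (p ^ f) ^ 4 + sg t (p ^ f) ^ 3 + sg t (p ^ f) ^ 2 + sg t (p ^ f) + 1) = ((v ^ f' : ℕ) : ℤ) ^ m - 1 ∧
          e ∣ c5) ∨
      (∃ m, t' = .psu m ∧ 4 ≤ m ∧ m % 2 = 1 ∧ (((v ^ f' : ℕ) : ℤ) + 1) *
        (sg t (p ^ f) ^ 4 + sg t (p ^ f) ^ 3 + sg t (p ^ f) ^ 2 + sg t (p ^ f) + 1) = ((v ^ f' : ℕ) : ℤ) ^ m + 1 ∧
          e ∣ c5) ∨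
      (∃ m, t' = .psu m ∧ 4 ≤ m ∧ m % 2 = 0 ∧ v ^ f' = 5 ∧ c5 = 5 ∧ (5 : ℤ) ^ (m - 1) + 1 = 6 * M ∧ e ∣ 6) ∨
      (∃ k, (t' = .psp k ∨ t' = .oodd k ∨ t' = .oplus (k + 1)) ∧ 3 ≤ k ∧ ((v ^ f' : ℕ) : ℤ) ^ k + 1 =
        2 * (sg t (p ^ f) ^ 4 + sg t (p ^ f) ^ 3 + sg t (p ^ f) ^ 2 + sg t (p ^ f) + 1) ∧ e ∣ 2 * c5)) : False := by
  have n := X.n
  have hF := X.hF
  have hv := hF.prime
  have hf1 : 1 ≤ f' := by
    have := hF.f_ne
    omega
  have hM0 := n.M_pos
  have h50 : 0 < c5 := by rcases n.c5_or with h | h <;> omega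
  obtain ⟨w, hw⟩ : ∃ w, (sg t (p ^ f) - 1).natAbs = c * w := Int.natCast_dvd.1 n.c_dvd
  obtain ⟨κ, h, E', e1, hκ, hh, x, hx⟩ := X.fac hS hw hr hrM h3 hAn
  have hTF := top_facts_all hF.cla hv hF.is
  have hrx : r ∣ orderOf x := by
    rw [hx]
    exact hrM.mul_right _
  have hrv : ¬ r ∣ v := fun hd => F1.Frm.ne_v_of_reg hF hr h3 ((Nat.prime_dvd_prime_iff_eq hr hv).1 hd)
  have hu2 : 2 ≤ v ^ f' := hv.two_le.trans (Nat.le_self_pow (by omega) v)
  have hphi := n.phi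
  have huq : v ^ f' ≠ p ^ f := by
    intro he
    have h1 : v ∣ p ^ f := by
      rw [← he]
      exact dvd_pow_self v (by omega)
    exact X.vp ((Nat.prime_dvd_prime_iff_eq hv X.h.prime).1 (hv.dvd_of_dvd_pow h1))
  obtain ⟨s, hs⟩ : ∃ s, s = sg t (p ^ f) := ⟨_, rfl⟩
  rw [← hs] at hcase hw n hphi
  obtain ⟨U, hU⟩ : ∃ U, U = v ^ f' := ⟨_, rfl⟩
  rcases hcase with ⟨m, ht, hm, hc, -⟩ | ⟨m, ht, hm, hmo, hc, -⟩ | ⟨m, ht, hm, hme, hu5, hc5, hc, -⟩ | ⟨k, ht, hk, hc, he⟩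
  · -- `psl m`
    subst ht
    have hcm : cls (.psl m) (v ^ f') r = m := hAn
    have h1 := hTF.ub r hr hrv (by rw [hcm]; exact ⟨by omega, Or.inl rfl⟩) x hrx
    rw [hcm, hx] at h1
    rw [← hU] at h1 hc hu2
    have hcN : U ^ m - 1 = (U - 1) * (c5 * M) := by
      zify [show 1 ≤ U by omega, Nat.one_le_pow m U (by omega)]
      rw [hphi, hc]
    have hT : ttor (.psl m) U m = ((U - 1) * (c5 * M)) / ((U - 1) * Nat.gcd m (U - 1)) := by
      rw [← hcN, ttor, if_pos rfl]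
    have e0 : ((U : ℤ) - 1).natAbs = U - 1 := by omega
    have hgd := gcd_mul_dvd_ua (s := (U : ℤ)) (n := m) e0
    rw [ua_plus (by omega), hcN] at hgd
    have hTg := lin_q (m := m) (by omega) hgd hT
    have hE : E' * Nat.gcd m (U - 1) ∣ c5 := by
      have h2 := Nat.mul_dvd_mul_right h1 (Nat.gcd m (U - 1))
      rw [hTg, mul_assoc, mul_comm c5 M] at h2
      exact Nat.dvd_of_mul_dvd_mul_left hM0 h2
    have hh' : h ∣ 2 * Nat.gcd m (U - 1) * f' := by
      rw [hU]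
      exact hh
    have hd := size_lin h50 e1 hh' hE
    rcases Nat.lt_or_ge 4 m with h5 | h5
    · exact zG n hv hf1 hU (by rw [hU]; exact huq) hw (Or.inl rfl) h5 hc hκ hd
    · obtain rfl : m = 4 := by omega
      exact zG4 n hv hf1 hU hw hc hκ hd
  · -- `psu m`, `m` odd
    subst ht
    have hcm : cls (.psu m) (v ^ f') r = m := by
      have h1 : _ % 2 = 1 ∧ (_ = m ∨ _ + 1 = m) := hAn
      omega
    have h1 := hTF.ub r hr hrv (by rw [hcm]; exact ⟨by omega, Or.inl rfl⟩) x hrx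
    rw [hcm, hx] at h1
    rw [← hU] at h1 hc hu2
    have hcN : U ^ m + 1 = (U + 1) * (c5 * M) := by
      zify
      rw [hphi, hc]
    have hT : ttor (.psu m) U m = ((U + 1) * (c5 * M)) / ((U + 1) * Nat.gcd m (U + 1)) := by
      rw [← hcN, ttor, if_pos rfl, if_neg (by omega)]
    have e0 : (-(U : ℤ) - 1).natAbs = U + 1 := by omega
    have hgd := gcd_mul_dvd_ua (s := -(U : ℤ)) (n := m) e0
    rw [ua_minus_odd (Nat.odd_iff.2 hmo), hcN] at hgd
    have hTg := lin_q (m := m) (by omega) hgd hT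
    have hE : E' * Nat.gcd m (U + 1) ∣ c5 := by
      have h2 := Nat.mul_dvd_mul_right h1 (Nat.gcd m (U + 1))
      rw [hTg, mul_assoc, mul_comm c5 M] at h2
      exact Nat.dvd_of_mul_dvd_mul_left hM0 h2
    have hh' : h ∣ 2 * Nat.gcd m (U + 1) * f' := by
      rw [hU]
      exact hh
    have hd := size_lin h50 e1 hh' hE
    refine zG n hv hf1 hU (by rw [hU]; exact huq) hw (y := -(U : ℤ)) (m := m) (Or.inr ⟨rfl, hmo⟩) (by omega) ?_ hκ hd
    rw [Odd.neg_pow (Nat.odd_iff.2 hmo)]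
    linear_combination -hc
  · -- `psu m`, `m` even, `u = 5`
    subst ht
    have hv5 : v = 5 ∧ f' = 1 := (Nat.prime_five.pow_eq_iff).1 hu5
    obtain ⟨rfl, rfl⟩ := hv5
    have hcm : cls (.psu m) (5 ^ 1) r = m - 1 := by
      have h1 : _ % 2 = 1 ∧ (_ = m ∨ _ + 1 = m) := hAn
      omega
    have h1 := hTF.ub r hr hrv (by rw [hcm]; exact ⟨by omega, Or.inr (by omega)⟩) x hrx
    rw [hcm, hx] at h1
    have hcN : 5 ^ (m - 1) + 1 = 6 * M := by exact_mod_cast hc
    have hT : ttor (.psu m) (5 ^ 1) (m - 1) = (6 * M) / Nat.gcd m 6 := by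
      rw [← hcN, ttor, if_neg (by omega), if_pos hme]
      rfl
    have hTg : ttor (.psu m) (5 ^ 1) (m - 1) * Nat.gcd m 6 = 6 * M := by
      rw [hT]
      exact Nat.div_mul_cancel ((Nat.gcd_dvd_right m 6).mul_right _)
    have hE : E' * Nat.gcd m 6 ∣ 6 := by
      have h2 := Nat.mul_dvd_mul_right h1 (Nat.gcd m 6)
      rw [hTg, mul_assoc, mul_comm 6 M] at h2
      exact Nat.dvd_of_mul_dvd_mul_left hM0 h2
    have hh' : h ∣ 2 * Nat.gcd m 6 * 1 := hh
    have hd : 5 * w ∣ 72 * κ := by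
      rw [hc5] at e1
      rw [e1]
      calc κ * h * E' ∣ κ * (2 * Nat.gcd m 6 * 1) * E' := Nat.mul_dvd_mul_right (Nat.mul_dvd_mul_left _ hh') _
        _ = (E' * Nat.gcd m 6) * (2 * κ) := by ring
        _ ∣ 6 * (2 * κ) := Nat.mul_dvd_mul_right hE _
        _ ∣ 72 * κ := ⟨6, by ring⟩
    refine zF n (m := m) hw hc5 ?_ hκ hd
    rw [← hphi, hc5]
    have h5 : (5 : ℤ) ^ m = 5 * 5 ^ (m - 1) := by
      rw [← pow_succ', show m - 1 + 1 = m by omega]
    rw [h5]
    push_cast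
    linear_combination -5 * hc
  · -- `psp k`, `oodd k`, `oplus (k + 1)`
    have hE : E' ∣ e := by
      have h1 := hub x hrx
      rw [hx] at h1
      exact Nat.dvd_of_mul_dvd_mul_left hM0 h1
    have hout : outB t' v f' ∣ 24 * f' := by
      rcases ht with rfl | rfl | rfl
      · exact ⟨12, by change _ = 2 * f' * 12; ring⟩
      · exact ⟨12, by change _ = 2 * f' * 12; ring⟩
      · change (if k + 1 = 4 then 24 * f' else 8 * f') ∣ _
        split_ifs
        · exact dvd_rfl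
        · exact ⟨3, by ring⟩
    have hd : w ∣ 48 * κ * f' := by
      have h1 : c5 * w ∣ c5 * (48 * κ * f') := by
        rw [e1]
        calc κ * h * E' ∣ κ * (24 * f') * (2 * c5) :=
              Nat.mul_dvd_mul (Nat.mul_dvd_mul_left _ (hh.trans hout)) (hE.trans he)
          _ = c5 * (48 * κ * f') := by ring
      exact Nat.dvd_of_mul_dvd_mul_left h50 h1
    exact zP n hv hf1 rfl hw hk hc hκ hd

end Cfsg.Agent.R2.Spec.X7.N6
end

-- part: R2/Spec/X7/N6/Six
section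
set_option linter.all false
open scoped Cfsg.Agent.FastGrp

/-!
# Box X7, `n = 6` (helper14, S3435): the primes of class six, `S = PSL₂(u)`, `PSp₄(u)`

`Ctx.dvd6_small` : the primes of class six divide `|S|`.
-/

set_option autoImplicit false
set_option linter.unusedSectionVars false
set_option linter.unusedVariables false

namespace Cfsg.Agent.R2.Spec.X7.N6

open Subgroup Cfsg
open Cfsg.Agent.H426.LieFam Cfsg.Agent.R2.Spec Cfsg.Agent.R2.Spec.P1 Cfsg.Agent.R2.Spec.F1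
open Cfsg.Agent.H72 Cfsg.Agent.H420.QR Cfsg.Agent.R2.Spec.E

universe u w

variable {t : Fam} {p f : ℕ} {L : Type w} [Group L] [Finite L] {G : Type u} [Group G] [Finite G]
variable {K : Subgroup G} [K.Normal] {S : Subgroup (G ⧸ K)} [S.Normal] {t' : Fam} {v f' : ℕ} {c c5 M : ℕ}

/-- **The primes of class six divide `|S|`**, `S = PSL₂(u)`, `PSp₄(u)`. -/
theorem Ctx.dvd6_small (X : Ctx t p f L G K S t' v f' c c5 M) (ht : t' = .psl 2 ∨ t' = .psp 2) (hvM : ¬ v ∣ M)
    {z : ℕ} (hz : In t (p ^ f) 6 z) : z ∣ Nat.card S := by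
  have h := X.h
  have hF := X.hF
  have hR := X.hR
  have hq := F1.LS.q_three h X.p2
  by_contra hc
  have hzv : z ≠ v := by
    rintro rfl
    exact hc hF.vdvd
  have hzG := hz.dvd h
  rw [card_eq_mul (K := K) (S := S)] at hzG
  have hbad := (hz.prime.dvd_mul.1 hzG).resolve_left hc
  -- a prime of `M`
  obtain ⟨r, hr, hrM⟩ := Nat.exists_prime_and_dvd (n := M) (by have := X.n.M_gt; omega)
  have H5 := X.in5 hr hrM
  have hrg := X.good5 hr hrM
  have hrv : r ≠ v := by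
    rintro rfl
    exact hvM hrM
  have ne_p : ∀ {i x : ℕ}, In t (p ^ f) i x → x ≠ p := fun hx he => hx.not_dvd h.fpos (by rw [he])
  have hpG : p ∣ Nat.card G := (h.dvd_iff h.prime).2 h.pdvd
  have n6p : ¬ ∃ g : G, orderOf g = z * p := fun hg => (h.adjp_iff hz).1 hg (X.t6.nap_iff.2 (by norm_num))
  have n5p : ¬ ∃ g : G, orderOf g = r * p := fun hg => (h.adjp_iff H5).1 hg (X.t6.nap_iff.2 (by norm_num))
  have hzr := hz.ne H5 (by norm_num)
  have n65 : ¬ ∃ g : G, orderOf g = z * r := fun hg => (h.adj_iff hz H5 hzr).1 hg (na_symm X.t6.n56)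
  have gp := Red.two_bad hR hz.prime h.prime hr (hz.dvd h) hpG (H5.dvd h) (ne_p hz) hzr (ne_p H5).symm n6p n65
    (fun hg => n5p (swap_adj hg)) hbad
  -- the contradiction if `r` and `p` are of the same class
  have same : cls t' (v ^ f') r = cls t' (v ^ f') p → False := fun he =>
    n5p (exists_of_S (adj_same' hF.cla hF.prime hF.is hr h.prime H5.ne_two X.p2 (ne_p H5) hrv X.vp.symm hrg.2 gp.2 he))
  by_cases hzK : z ∣ Nat.card K
  · have k5 := hF.kcase hz.prime hzK hzv hr H5.ne_two hzr.symm hrg.2 n65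
    have kp := hF.kcase hz.prime hzK hzv h.prime X.p2 (ne_p hz).symm gp.2 n6p
    rcases ht with rfl | rfl
    · have red : ∀ {x : ℕ}, x.Prime → x ≠ 2 → x ≠ v → x ∣ Nat.card S →
          (x = v ∨ (3 ≤ cls (.psl 2) (v ^ f') x ∧ An (.psl 2) (cls (.psl 2) (v ^ f') x)) ∨
            ((.psl 2 : Fam) = .psl 2 ∧ x ∣ v ^ f' + 1) ∨ ((.psl 2 : Fam) = .psu 3 ∧ x ∣ v ^ f' + 1)) →
              cls (.psl 2) (v ^ f') x = 2 := by
        intro x hx hx2 hxv hxS hh
        rcases hh with h1 | h1 | ⟨-, h1⟩ | ⟨h1, -⟩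
        · exact absurd h1 hxv
        · have h2 : cls (.psl 2) (v ^ f') x ≤ 2 := Frm.mem_of_dvd hF hx hx2 h1.1 hxS
          omega
        · have hxf := Fact.mk hx
          have h2 : ((v ^ f' + 1 : ℕ) : ZMod x) = 0 := (ZMod.natCast_eq_zero_iff _ _).2 h1
          have h3 : ((sg (.psl 2) (v ^ f') : ℤ) : ZMod x) = -1 := by
            change (((v ^ f' : ℕ) : ℤ) : ZMod x) = -1
            push_cast at h2 ⊢
            linear_combination h2
          rw [cls, h3]
          have hc : ringChar (ZMod x) ≠ 2 := by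
            rw [ZMod.ringChar_zmod_n]
            exact hx2
          rw [orderOf_neg_one, if_neg hc]
        · exact absurd h1 (by simp)
      exact same ((red hr H5.ne_two hrv hrg.2 k5).trans (red h.prime X.p2 X.vp.symm gp.2 kp).symm)
    · have red : ∀ {x : ℕ}, x ≠ v →
          (x = v ∨ (3 ≤ cls (.psp 2) (v ^ f') x ∧ An (.psp 2) (cls (.psp 2) (v ^ f') x)) ∨
            ((.psp 2 : Fam) = .psl 2 ∧ x ∣ v ^ f' + 1) ∨ ((.psp 2 : Fam) = .psu 3 ∧ x ∣ v ^ f' + 1)) →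
              cls (.psp 2) (v ^ f') x = 4 := by
        intro x hxv hh
        rcases hh with h1 | h1 | ⟨h1, -⟩ | ⟨h1, -⟩
        · exact absurd h1 hxv
        · exact h1.2
        · exact absurd h1 (by simp)
        · exact absurd h1 (by simp)
      exact same ((red hrv k5).trans (red X.vp.symm kp).symm)
  · have hzd : ¬ z ∣ dg t' (v ^ f') := by
      intro hd
      have hz5 := hz.five
      rcases ht with rfl | rfl
      · have h1 : z ∣ 2 := (show z ∣ Nat.gcd 2 (v ^ f' - 1) from hd).trans (Nat.gcd_dvd_left _ _)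
        have := Nat.le_of_dvd (by norm_num) h1
        omega
      · have h1 : z ∣ 1 := hd
        have := Nat.le_of_dvd (by norm_num) h1
        omega
    have hHC : HC (sg t (p ^ f)) z 4 := h.hc hR hF hz hbad hzK hzd (by norm_num) (X.t6.mem_iff.2 (by norm_num))
      (na_symm X.t6.n46) ⟨5, r, H5, na_symm X.t6.n56, X.t6.n45⟩
    refine killer_false (X := sg t (p ^ f)) (r := z) (i := 6) hz.prime hz.five hz.cls_eq (by norm_num)
      (I := fun l => l = 4) ?_ ?_
    · rintro l rfl -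
      exact hHC
    · exact Or.inl ⟨1, le_rfl, rfl, by norm_num, by norm_num⟩

end Cfsg.Agent.R2.Spec.X7.N6
end

-- part: R2/Spec/F1/ExcMov
section
prune_inst 0x440003000040000000000001440001e02a8000000004b8000104003020306984080000e2040200910100080000000000811100000005000000400000000000000000844029289010ca00000801002000000000000000000000000000000041000000000000
set_option linter.all false
open scoped Cfsg.Agent.FastGrp

-- part: R2/Spec/F1/RgdMov
section
/-!
# Abelian moved subgroups in groups with a root group datum (helper23)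

`R` a root group datum in characteristic `p`, `r` a dominant root with `LR R r` (the highest root), `J` a set of nodes with
`r ∉ Φ_J` such that no `s_i`, `i ∈ J`, fixes the orbit `W_J r` pointwise.

* `ZV` : the centre of `V_J`; `cen_le_B` : elements of `P_J` centralizing it lie in `B`;
* `movA_par` : a prime divisor `x` of `|P_J|` not dividing `|B|` : `MovA Y p x`;
* `movA_tor` : the same for `x ∣ |T|` if the root groups are abelian;
* `exists_nc` : two commuting root groups.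
-/

set_option autoImplicit false
set_option linter.unusedSectionVars false
set_option linter.unusedVariables false

namespace Cfsg.Agent.R2.Spec.F1.RM

open CoxeterSystem Cfsg.Agent.ChevalleyStructure.CoxeterGeom Cfsg.Agent.Tits.Roots Cfsg.Agent.Tits.Core
  Cfsg.Agent.Tits.RootComb Cfsg.Agent.Tits.Exchange Cfsg.Agent.Nodes.Reps Cfsg.Agent.Nodes.BNOf
  Cfsg.Agent.Nodes.StabComb Cfsg.Agent.Nodes.Bruhat Cfsg.Agent.Nodes.OppDec Cfsg.Agent.Nodes.LeviDec
  Cfsg.Agent.Nodes.NormX Cfsg.Agent.Nodes.Coroot Cfsg.Agent.KFacts.RgdPar Cfsg.Agent.KFacts.RgdSL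
  Cfsg.Agent.KFacts.RgdTI Cfsg.Agent.KFacts.RgdCent Cfsg.Agent.KFacts.RgdVJ Cfsg.Agent.KFacts.RgdCharP
open Cfsg.Agent.R2.Spec.F1

variable {I W Y : Type*} [Fintype I] [DecidableEq I] [Group W] [Group Y] {M : CoxeterMatrix I}
  {cs : CoxeterSystem M W} {A : I → I → ℤ} {h : IsCartan M A} {p : ℕ} {T : Subgroup Y} {n : I → Y}
  {X : (I → ℤ) → Subgroup Y}

/-- the centre of `V_J` -/
def ZV (cs : CoxeterSystem M W) (h : IsCartan M A) (X : (I → ℤ) → Subgroup Y) (J : Set I) : Subgroup Y :=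
  VJ cs h X J ⊓ Subgroup.centralizer (VJ cs h X J : Set Y)

section

variable [Finite W] (R : RGD cs h p T n X)

include R

theorem zv_conj {J : Set I} {g z : Y} (hg : g ∈ PJ cs h T X J) (hz : z ∈ ZV cs h X J) : g * z * g⁻¹ ∈ ZV cs h X J := by
  have hgN := PJ_le_normalizer_VJ R J hg
  refine Subgroup.mem_inf.2 ⟨(Subgroup.mem_normalizer_iff.1 hgN z).1 hz.1, ?_⟩
  rw [Subgroup.mem_centralizer_iff]
  intro v hv
  have h1 : g⁻¹ * v * g ∈ VJ cs h X J := by
    have := (Subgroup.mem_normalizer_iff.1 (inv_mem hgN) v).1 hv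
    rwa [inv_inv] at this
  have h2 := Subgroup.mem_centralizer_iff.1 hz.2 _ h1
  calc v * (g * z * g⁻¹) = g * (g⁻¹ * v * g * z) * g⁻¹ := by group
    _ = g * (z * (g⁻¹ * v * g)) * g⁻¹ := by rw [h2]
    _ = _ := by group

variable {r : I → ℤ} (L : LR R r) (hd : ∀ i, 0 ≤ cpr cs h (sr i) r)

include L hd

/-- the root group of the highest root is central in `U` -/
theorem comm_U {u v : Y} (hu : u ∈ RGD.Sup X (RGD.Pos cs h)) (hv : v ∈ X r) : u * v = v * u := by
  have h1 : RGD.Pos cs h ⊆ Ge cs h r := fun x hx => ⟨hx.1, dom_nonneg (f := ell cs h L.root) hd hx.2⟩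
  exact L.comm' (RGD.Sup_mono h1 hu) hv

theorem X_le_ZV {J : Set I} (hr : r ∈ NotJ cs h J) {w : W} (hw : w ∈ WJ cs J) :
    X (rep cs h w r) ≤ ZV cs h X J := by
  obtain ⟨k, hk⟩ := exists_rp cs R.nsys w
  have hkP : k ∈ PJ cs h T X J := LJ_le_PJ (rp_mem_LJ R hw hk)
  intro u hu
  have h1 : k⁻¹ * u * k ∈ X r := by
    have := R.conj_mem' hk (L.root.act w) hu
    rwa [rep_inv_apply] at this
  have h2 : k⁻¹ * u * k ∈ ZV cs h X J := by
    refine Subgroup.mem_inf.2 ⟨RGD.le_Sup hr h1, ?_⟩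
    rw [Subgroup.mem_centralizer_iff]
    intro v hv
    exact comm_U R L hd (VJ_le_U J hv) h1
  have h3 := zv_conj R hkP h2
  have h4 : k * (k⁻¹ * u * k) * k⁻¹ = u := by group
  rwa [h4] at h3

/-- **Elements of `P_J` centralizing the centre of `V_J` lie in `B`.** -/
theorem cen_le_B {J : Set I} (hr : r ∈ NotJ cs h J)
    (hJ : ∀ i ∈ J, ∃ w ∈ WJ cs J, pairing A i (rep cs h w r) ≠ 0) {c : Y} (hcP : c ∈ PJ cs h T X J)
    (hc : ∀ v ∈ ZV cs h X J, c * v = v * c) : c ∈ RGD.B cs h T X := by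
  let C : Subgroup Y := Subgroup.centralizer (ZV cs h X J : Set Y) ⊓ PJ cs h T X J
  have hCP : C ≤ PJ cs h T X J := inf_le_right
  have hBC : RGD.B cs h T X ≤ Subgroup.normalizer (C : Set Y) := by
    intro b hb
    rw [Subgroup.mem_normalizer_iff]
    have key : ∀ b ∈ RGD.B cs h T X, ∀ x ∈ C, b * x * b⁻¹ ∈ C := by
      intro b hb x hx
      refine Subgroup.mem_inf.2 ⟨?_, mul_mem (mul_mem (B_le_PJ hb) hx.2) (inv_mem (B_le_PJ hb))⟩
      rw [Subgroup.mem_centralizer_iff]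
      intro v hv
      have h1 : b⁻¹ * v * b ∈ ZV cs h X J := by
        have := zv_conj R (inv_mem (B_le_PJ hb)) hv
        rwa [inv_inv] at this
      have h2 := Subgroup.mem_centralizer_iff.1 hx.1 _ h1
      calc v * (b * x * b⁻¹) = b * (b⁻¹ * v * b * x) * b⁻¹ := by group
        _ = b * (x * (b⁻¹ * v * b)) * b⁻¹ := by rw [h2]
        _ = _ := by group
    intro x
    refine ⟨fun hx => key b hb x hx, fun hx => ?_⟩
    have h1 := key b⁻¹ (inv_mem hb) _ hx
    have h2 : b⁻¹ * (b * x * b⁻¹) * b⁻¹⁻¹ = x := by group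
    rwa [h2] at h1
  have hmem : ∀ {g : Y}, g ∈ C ⊔ RGD.B cs h T X → ∃ c ∈ C, ∃ b ∈ RGD.B cs h T X, g = c * b := by
    intro g hg
    have h1 : g ∈ ((C ⊔ RGD.B cs h T X : Subgroup Y) : Set Y) := hg
    rw [Subgroup.coe_mul_of_right_le_normalizer_left _ _ hBC, Set.mem_mul] at h1
    obtain ⟨c, hc, b, hb, e⟩ := h1
    exact ⟨c, hc, b, hb, e.symm⟩
  have hle : C ⊔ RGD.B cs h T X ≤ PJ cs h T X J := sup_le hCP B_le_PJ
  have h1 := inf_eq_PJ R (P := C ⊔ RGD.B cs h T X) le_sup_right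
  have h2 : {i | n i ∈ C ⊔ RGD.B cs h T X} = (∅ : Set I) := by
    ext i
    simp only [Set.mem_ofPred_eq, Set.mem_empty_iff_false, iff_false]
    intro hi
    have hiJ : i ∈ J := by
      have h3 := (cell_mem_PJ_iff R (cell_of_rp (rp_simple cs R.nsys i))).1 (hle hi)
      by_contra hiJ
      have h4 := NotJ.act h3 (sr_mem_NotJ (cs := cs) (h := h) hiJ)
      rw [rep_simple_sr] at h4
      exact h4.1.ne_zero (le_antisymm (neg_nonpos.2 (sr_nonneg i)) h4.2.1)
    obtain ⟨c, hc, b, hb, e⟩ := hmem hi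
    obtain ⟨w, hw, ha0⟩ := hJ i hiJ
    have ha : rep cs h w r ∈ NotJ cs h J := NotJ.act hw hr
    have ha' : rep cs h (cs.simple i) (rep cs h w r) ∈ NotJ cs h J :=
      NotJ.act (Subgroup.subset_closure ⟨i, hiJ, rfl⟩) ha
    have hne : rep cs h w r ≠ rep cs h (cs.simple i) (rep cs h w r) := by
      rw [rep_simple_eq]
      intro h4
      have h5 : pairing A i (rep cs h w r) • (sr i : I → ℤ) = 0 := by
        have : rep cs h w r - (rep cs h w r - pairing A i (rep cs h w r) • sr i) = 0 := sub_eq_zero.2 h4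
        rwa [sub_sub_cancel] at this
      rcases smul_eq_zero.1 h5 with h6 | h6
      · exact ha0 h6
      · exact (isRoot_sr cs h i).ne_zero h6
    refine X_ne_bot R ha.1 ((Subgroup.eq_bot_iff_forall _).2 fun v hv => ?_)
    refine eq_one_of_conj_X R hb ha.1 ha.2.1 ha'.1 ha'.2.1 hne hv ?_
    have h4 : n i * v * (n i)⁻¹ ∈ X (rep cs h (cs.simple i) (rep cs h w r)) := by
      rw [← R.conj i _ ha.1]
      exact conj_mem_cj.2 hv
    have h5 : c⁻¹ * (n i * v * (n i)⁻¹) * c = b * v * b⁻¹ := by rw [e]; group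
    rw [← h5]
    have h8 : n i * v * (n i)⁻¹ ∈ ZV cs h X J := by
      have h9 := X_le_ZV R L hd hr (w := cs.simple i * w) (mul_mem (simple_mem_WJ cs hiJ) hw)
      rw [rep_mul_apply] at h9
      exact h9 h4
    have h6 := Subgroup.mem_centralizer_iff.1 hc.1 _ h8
    have h7 : c⁻¹ * (n i * v * (n i)⁻¹) * c = n i * v * (n i)⁻¹ := by
      calc c⁻¹ * (n i * v * (n i)⁻¹) * c = c⁻¹ * (n i * v * (n i)⁻¹ * c) := by group
        _ = c⁻¹ * (c * (n i * v * (n i)⁻¹)) := by rw [h6]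
        _ = _ := by group
    rw [h7]
    exact h4
  rw [h2, PJ_empty R] at h1
  have h3 : c ∈ (C ⊔ RGD.B cs h T X) ⊓ GG cs h T X := by
    refine ⟨Subgroup.mem_sup_left (Subgroup.mem_inf.2 ⟨?_, hcP⟩), PJ_le_GG hcP⟩
    rw [Subgroup.mem_centralizer_iff]
    exact fun v hv => (hc v hv).symm
  rwa [h1] at h3

/-- **Parabolic subgroups.** -/
theorem movA_par [Finite Y] {J : Set I} (hr : r ∈ NotJ cs h J)
    (hJ : ∀ i ∈ J, ∃ w ∈ WJ cs J, pairing A i (rep cs h w r) ≠ 0) {x : ℕ} (hx : x.Prime)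
    (hxP : x ∣ Nat.card (PJ cs h T X J)) (hxB : ¬ x ∣ Nat.card (RGD.B cs h T X)) : MovA Y p x := by
  have hxf := Fact.mk hx
  obtain ⟨⟨g, hgP⟩, hg⟩ := exists_prime_orderOf_dvd_card' x hxP
  rw [Subgroup.orderOf_mk] at hg
  have hne : ∃ a ∈ ZV cs h X J, g * a ≠ a * g := by
    by_contra hcon
    push Not at hcon
    have h1 := cen_le_B R L hd hr hJ hgP hcon
    apply hxB
    rw [← hg, ← Subgroup.orderOf_mk g h1]
    exact orderOf_dvd_natCard _
  refine ⟨ZV cs h X J, g, (isPGroup_VJ R J).to_le inf_le_left, hg, fun a ha => zv_conj R hgP ha, hne, ?_⟩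
  intro a ha b hb
  exact Subgroup.mem_centralizer_iff.1 hb.2 a ha.1

end

section

variable [Finite W] (R : RGD cs h p T n X)

include R

/-- **The torus.** -/
theorem movA_tor [Finite Y] (hN : NoCent cs h T X)
    (hab : ∀ a, IsRoot cs h a → ∀ u ∈ X a, ∀ v ∈ X a, u * v = v * u) {x : ℕ} (hx : x.Prime)
    (hxT : x ∣ Nat.card T) : MovA Y p x := by
  have hxf := Fact.mk hx
  obtain ⟨⟨c, hcT⟩, hc⟩ := exists_prime_orderOf_dvd_card' x hxT
  rw [Subgroup.orderOf_mk] at hc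
  have h1 : ∃ a, IsRoot cs h a ∧ ∃ u ∈ X a, c * u ≠ u * c := by
    by_contra hcon
    push Not at hcon
    have h2 := hN c hcT hcon
    rw [h2, orderOf_one] at hc
    exact hx.one_lt.ne hc
  obtain ⟨a, ha, u, hu, hcu⟩ := h1
  refine ⟨X a, c, R.pgrp' ha, hc, fun b hb => ?_, ⟨u, hu, hcu⟩, hab a ha⟩
  rw [← R.tor a ha c hcT]
  exact conj_mem_cj.2 hb

end

/-- dominant roots -/
theorem cpr_of_dom [Finite W] {r : I → ℤ} (hr : IsRoot cs h r) (hdom : Dom A r) (i : I) : 0 ≤ cpr cs h (sr i) r := by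
  have := Fintype.ofFinite W
  have h1 := form_nonneg_of_dom cs h hdom (sr_nonneg i)
  by_contra h2
  have h3 := two_form_cpr cs h (sr i) hr
  have h4 := form_pos cs h hr.ne_zero
  have h5 := mul_neg_of_neg_of_pos (not_le.1 h2) h4
  rw [← h3, form_comm cs h] at h5
  linarith

/-- **Two commuting root groups.** -/
theorem exists_nc [Finite W] [Fact p.Prime] (R : RGD cs h p T n X) {r : I → ℤ} (L : LR R r) (hdom : Dom A r) {i : I}
    (hi : pairing A i r ≠ 0) (hN : r ∈ NotJ cs h ({i} : Set I)) :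
    ∃ (E : Subgroup Y) (a b : Y), IsPGroup p E ∧ (∀ u ∈ E, ∀ v ∈ E, u * v = v * u) ∧ a ∈ E ∧ b ∈ E ∧ a ≠ 1 ∧ b ≠ 1 ∧
      ∃ x y : I → ℤ, IsRoot cs h x ∧ IsRoot cs h y ∧ 0 ≤ x ∧ 0 ≤ y ∧ x ≠ y ∧ a ∈ X x ∧ b ∈ X y := by
  have hd := cpr_of_dom L.root hdom
  have h1 := X_le_ZV R L hd hN (one_mem (WJ cs ({i} : Set I)))
  have h2 := X_le_ZV R L hd hN (w := cs.simple i) (simple_mem_WJ cs (Set.mem_singleton i))
  rw [map_one, Module.End.one_apply] at h1
  have hN' : rep cs h (cs.simple i) r ∈ NotJ cs h ({i} : Set I) :=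
    NotJ.act (simple_mem_WJ cs (Set.mem_singleton i)) hN
  obtain ⟨a, ha⟩ := Subgroup.ne_bot_iff_exists_ne_one.1 (X_ne_bot R L.root)
  obtain ⟨b, hb⟩ := Subgroup.ne_bot_iff_exists_ne_one.1 (X_ne_bot R hN'.1)
  refine ⟨ZV cs h X {i}, a, b, (isPGroup_VJ R _).to_le inf_le_left, fun u hu v hv => ?_, h1 a.2, h2 b.2,
    fun e => ha (Subtype.ext e), fun e => hb (Subtype.ext e), r, _, L.root, hN'.1, hN.2.1, hN'.2.1, ?_, a.2, b.2⟩
  · exact Subgroup.mem_centralizer_iff.1 hv.2 u hu.1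
  · rw [rep_simple_eq]
    intro h4
    have h5 : pairing A i r • (sr i : I → ℤ) = 0 := by
      have : r - (r - pairing A i r • sr i) = 0 := sub_eq_zero.2 h4
      rwa [sub_sub_cancel] at this
    rcases smul_eq_zero.1 h5 with h6 | h6
    · exact hi h6
    · exact (isRoot_sr cs h i).ne_zero h6

/-- different positive root groups meet trivially -/
theorem inf_eq_bot [Finite W] (R : RGD cs h p T n X) {x y : I → ℤ} (hx : IsRoot cs h x) (hy : IsRoot cs h y)
    (hx0 : 0 ≤ x) (hy0 : 0 ≤ y) (hxy : x ≠ y) {u : Y} (hu : u ∈ X x) (hu' : u ∈ X y) : u = 1 :=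
  eq_one_of_conj_X R (b := 1) (one_mem _) hx hx0 hy hy0 hxy hu (by rwa [one_mul, inv_one, mul_one])

end Cfsg.Agent.R2.Spec.F1.RM
end

-- part: R2/Spec/F1/ExcMov
section
/-!
# Abelian moved subgroups of the exceptional groups (helper23)

`u` = the order of the field, `x ≥ 5` a prime different from the characteristic, `e` the order of `u` modulo `x`:
`MovA` for

* `G₂` : `e = 1, 2`; `F₄` : `e = 1, 2, 3, 4, 6`; `E₆` : `e = 1, 2, 3, 4, 5, 6, 8`;
* `E₇` : `e = 1, …, 9, 12`; `E₈` : `e = 1, …, 8`; `²E₆` : `e = 1, 2, 3, 4, 6, 8`; `³D₄` : `e = 1, 2`.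

`nc_*` : a noncyclic abelian subgroup of characteristic order.
-/

set_option autoImplicit false
set_option linter.unusedSectionVars false
set_option linter.unusedVariables false

namespace Cfsg.Agent.R2.Spec.F1.RM

open CoxeterSystem Cfsg.Agent.ChevalleyStructure.CoxeterGeom Cfsg.Agent.ChevalleyStructure.CoxeterGeomTypes
  Cfsg.Agent.Tits.Roots Cfsg.Agent.Tits.Core
  Cfsg.Agent.Tits.RootComb Cfsg.Agent.Tits.Exchange Cfsg.Agent.Nodes.Reps Cfsg.Agent.Nodes.BNOf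
  Cfsg.Agent.Nodes.StabComb Cfsg.Agent.Nodes.Bruhat Cfsg.Agent.Nodes.OppDec Cfsg.Agent.Nodes.LeviDec
  Cfsg.Agent.Nodes.Coroot Cfsg.Agent.KFacts.RgdSL
  Cfsg.Agent.KFacts.RgdTI Cfsg.Agent.KFacts.RgdCent Cfsg.Agent.H35.ExcIdx Cfsg.Agent.H35.Poin
  Cfsg.Agent.H696.GmnNeg
open Cfsg Cfsg.Lie Cfsg.Agent.ChevalleyStructure Cfsg.Agent.ChevalleyStructure.Elts Cfsg.Agent.Nodes.RGDChev
  Cfsg.Agent.ChevalleyStructure.RootVec
open Cfsg.Agent.R2.Spec.F1

/-- words in `J` moving the highest root -/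
theorem hJ_of {l : ℕ} {W : Type*} [Group W] {M : CoxeterMatrix (Fin l)} {cs : CoxeterSystem M W}
    {A : Fin l → Fin l → ℤ} {h : IsCartan M A} {J : List (Fin l)} {r : Fin l → ℤ} (wd : Fin l → List (Fin l))
    (hc : ∀ i ∈ J, (∀ j ∈ wd i, j ∈ J) ∧ (∑ k, A i k * word A (wd i) r k) ≠ 0) :
    ∀ i ∈ {j | j ∈ J}, ∃ w ∈ WJ cs {j | j ∈ J}, pairing A i (rep cs h w r) ≠ 0 := by
  intro i hi
  obtain ⟨h1, h2⟩ := hc i hi
  refine ⟨cs.wordProd (wd i), wordProd_mem_WJ cs h1, ?_⟩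
  rw [rep_word]
  exact h2

/-- the highest root as a root -/
theorem isRoot_word {l : ℕ} {W : Type*} [Group W] {M : CoxeterMatrix (Fin l)} (cs : CoxeterSystem M W)
    {A : Fin l → Fin l → ℤ} (h : IsCartan M A) {r : Fin l → ℤ} (ω : List (Fin l)) (i : Fin l)
    (hω : word A ω (sr i) = r) : IsRoot cs h r := ⟨cs.wordProd ω, i, by rw [rep_word, hω]⟩

theorem not_dvd_72 {x d : ℕ} (hx : x.Prime) (hx5 : 5 ≤ x) (hd : d ∣ 72) : ¬ x ∣ d := by
  intro h
  have h4 : x ∣ 2 ^ 3 * 3 ^ 2 := h.trans (hd.trans (by norm_num))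
  rcases hx.dvd_mul.1 h4 with h5 | h5
  · have := Nat.le_of_dvd (by norm_num) (hx.dvd_of_dvd_pow h5)
    omega
  · have := Nat.le_of_dvd (by norm_num) (hx.dvd_of_dvd_pow h5)
    omega

/-- primes not dividing `|B|` -/
theorem not_dvd_B {I W Y : Type*} [Fintype I] [DecidableEq I] [Group W] [Group Y] {M : CoxeterMatrix I}
    {cs : CoxeterSystem M W} {A : I → I → ℤ} {h : IsCartan M A} {p : ℕ} {T : Subgroup Y} {n : I → Y}
    {X : (I → ℤ) → Subgroup Y} [Finite W] [Finite Y] [hp : Fact p.Prime] (R : RGD cs h p T n X) {x : ℕ} (hx : x.Prime)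
    (hxp : x ≠ p) (hxT : ¬ x ∣ Nat.card T) : ¬ x ∣ Nat.card (RGD.B cs h T X) := by
  rw [card_B' R, hx.dvd_mul]
  rintro (h1 | h1)
  · obtain ⟨a, ha⟩ := (IsPGroup.iff_card (p := p)).1 R.isPGroup_Upos
    rw [ha] at h1
    exact hxp ((Nat.prime_dvd_prime_iff_eq hx hp.out).1 (hx.dvd_of_dvd_pow h1))
  · exact hxT h1

/-! ### split groups -/

section Split

universe u

variable {D : ChevalleyDatum} {l : ℕ} {M : CoxeterMatrix (Fin l)} (hp : IsType D l M) (K : Type u) [Field K]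
  [Fintype K] (p : ℕ) [hpf : Fact p.Prime] [CharP K p]

include hp in
theorem dvd_tor {d x : ℕ} (hd : d ∣ 72) (hT : d * Nat.card (D.diagonalSubgroup K) = (Fintype.card K - 1) ^ D.rank)
    (hx : x.Prime) (hx5 : 5 ≤ x) : x ∣ Nat.card (TT D K) ↔ x ∣ (Fintype.card K - 1) ^ D.rank := by
  have h1 : Nat.card (TT D K) = Nat.card (D.diagonalSubgroup K) :=
    Nat.card_congr (Subgroup.subgroupOfEquivOfLe (diagonal_le_group hp.inList K)).toEquiv
  rw [h1, ← hT, hx.dvd_mul]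
  constructor
  · exact Or.inr
  · rintro (h2 | h2)
    · exact absurd h2 (not_dvd_72 hx hx5 hd)
    · exact h2

/-- the root groups of the split groups are abelian -/
theorem xx_comm {W : Type*} [Group W] (cs : CoxeterSystem M W) {a : Fin l → ℤ} (ha : IsRoot cs hp.isCartan a)
    {u v : ↥(D.group K)} (hu : u ∈ XX D l K a) (hv : v ∈ XX D l K a) : u * v = v * u := by
  obtain ⟨r, hr, rfl⟩ := (isRoot_iff hp cs a).1 ha
  have hu' : (u : GL D.Idx K) ∈ XV D l K (vec D l r) := hu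
  have hv' : (v : GL D.Idx K) ∈ XV D l K (vec D l r) := hv
  rw [XV_vec hp K hr, mem_rootSubgroup_iff hp.inList] at hu' hv'
  obtain ⟨s, hs⟩ := hu'
  obtain ⟨t, ht⟩ := hv'
  apply Subtype.ext
  rw [Subgroup.coe_mul, Subgroup.coe_mul, hs, ht, xG_add, xG_add, add_comm]

include hp hpf in
theorem movA_one (hs : IsSimpleGroup ↥(D.group K)) (hnc : ∃ a b : ↥(D.group K), a * b ≠ b * a) {d x : ℕ} (hd : d ∣ 72)
    (hT : d * Nat.card (D.diagonalSubgroup K) = (Fintype.card K - 1) ^ D.rank) (hr : 0 < D.rank) (hx : x.Prime)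
    (hx5 : 5 ≤ x) (hx1 : x ∣ Fintype.card K - 1) : MovA ↥(D.group K) p x := by
  have hW := finite_W hp M.toCoxeterSystem
  have R := rgd (K := K) hp M.toCoxeterSystem p
  refine movA_tor R (KFacts.RgdLieCharP.noCent_of_center (G1_eq_top hp _) (KFacts.RgdLieCharP.center_eq_bot hnc))
    (fun a ha u hu v hv => xx_comm hp K M.toCoxeterSystem ha hu hv) hx ?_
  exact (dvd_tor hp K hd hT hx hx5).2 (dvd_pow hx1 hr.ne')

include hp in
theorem movA_split {d x : ℕ} (hd : d ∣ 72)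
    (hT : d * Nat.card (D.diagonalSubgroup K) = (Fintype.card K - 1) ^ D.rank) {r : Fin l → ℤ}
    (L : LR (rgd (K := K) hp M.toCoxeterSystem p) r) (hdom : Dom (cartanOf D l) r) (hr0 : 0 ≤ r)
    {J : List (Fin l)} (hk : ∃ k, k ∉ J ∧ 0 < r k) (wd : Fin l → List (Fin l))
    (hc : ∀ i ∈ J, (∀ j ∈ wd i, j ∈ J) ∧ (∑ k, cartanOf D l i k * word (cartanOf D l) (wd i) r k) ≠ 0)
    (hx : x.Prime) (hx5 : 5 ≤ x) (hxp : x ≠ p) (hx1 : ¬ x ∣ Fintype.card K - 1)
    (hxP : x ∣ Nat.card ↥(PJ M.toCoxeterSystem hp.isCartan (TT D K) (XX D l K) {j | j ∈ J})) :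
    MovA ↥(D.group K) p x := by
  have hW := finite_W hp M.toCoxeterSystem
  have R := rgd (K := K) hp M.toCoxeterSystem p
  refine movA_par R L (cpr_of_dom L.root hdom) ⟨L.root, hr0, hk⟩ (hJ_of wd hc) hx hxP (not_dvd_B R hx hxp ?_)
  rw [dvd_tor hp K hd hT hx hx5]
  exact fun h => hx1 (hx.dvd_of_dvd_pow h)

end Split

/-! ### numbers -/

/-- the order of `q` modulo `x` -/
theorem dvd_sum {x q k : ℕ} (hx : x.Prime) (hk : orderOf ((q : ℕ) : ZMod x) ∣ k)
    (h1 : ¬ x ∣ q - 1) (hq : 1 ≤ q) : x ∣ ∑ t ∈ Finset.range k, q ^ t := by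
  have h2 : x ∣ q ^ k - 1 := Cfsg.Agent.H378.ExcAdj.dvd_of_od_dvd hq hk
  have h3 : (q - 1) * ∑ t ∈ Finset.range k, q ^ t = q ^ k - 1 := by
    obtain ⟨a, rfl⟩ : ∃ a, q = a + 1 := ⟨q - 1, by omega⟩
    rw [Nat.add_sub_cancel]
    apply Nat.eq_sub_of_add_eq
    induction k with
    | zero => simp
    | succ k ih =>
      clear ih h2 hk
      induction k with
      | zero => simp
      | succ k ih =>
        rw [Finset.sum_range_succ, mul_add, add_assoc, add_comm (a * _) 1, ← add_assoc, ih]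
        ring
  rw [← h3, hx.dvd_mul] at h2
  exact h2.resolve_left h1

theorem dvd_FA {x q m : ℕ} (hx : x.Prime) {e : ℕ} (he : orderOf ((q : ℕ) : ZMod x) = e) (h2 : 2 ≤ e) (hm : e ≤ m + 1)
    (h1 : ¬ x ∣ q - 1) (hq : 1 ≤ q) : x ∣ FA m q := by
  unfold FA
  refine dvd_trans ?_ (Finset.dvd_prod_of_mem _ (Finset.mem_range.2 (by omega : e - 2 < m)))
  rw [show e - 2 + 2 = e by omega]
  exact dvd_sum hx (by rw [he]) h1 hq

/-! ### `E₆`, `E₇`, `E₈`, `F₄`, `G₂` -/

section Inst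

universe u

variable (K : Type u) [Field K] [Fintype K] (p : ℕ) [hpf : Fact p.Prime] [CharP K p]

theorem exists_nc_of {G : Type*} [Group G] (h : ¬ IsMulCommutative G) : ∃ a b : G, a * b ≠ b * a := by
  by_contra hcon
  push Not at hcon
  exact h ⟨⟨hcon⟩⟩

theorem lr6 {r : Fin 6 → ℤ} (hr : IsRoot CoxeterMatrix.E₆.toCoxeterSystem hpE6.isCartan r) :
    LR (rgd (K := K) hpE6 CoxeterMatrix.E₆.toCoxeterSystem p) r := by
  have := finite_W hpE6 CoxeterMatrix.E₆.toCoxeterSystem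
  exact KFacts.RgdKap.lr_of (fun i j => (Cfsg.Agent.H225.PPow.ne6 i j).1) (fun i j => (Cfsg.Agent.H225.PPow.ne6 i j).2)
    Cfsg.Agent.H225.PPow.conn_E6 (by rw [Fintype.card_fin]; norm_num) _ _ hr

theorem lr7 {r : Fin 7 → ℤ} (hr : IsRoot CoxeterMatrix.E₇.toCoxeterSystem hpE7.isCartan r) :
    LR (rgd (K := K) hpE7 CoxeterMatrix.E₇.toCoxeterSystem p) r := by
  have := finite_W hpE7 CoxeterMatrix.E₇.toCoxeterSystem
  exact KFacts.RgdKap.lr_of (fun i j => (Cfsg.Agent.H225.PPow.ne7 i j).1) (fun i j => (Cfsg.Agent.H225.PPow.ne7 i j).2)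
    Cfsg.Agent.H225.PPow.conn_E7 (by rw [Fintype.card_fin]; norm_num) _ _ hr

theorem lr8 {r : Fin 8 → ℤ} (hr : IsRoot CoxeterMatrix.E₈.toCoxeterSystem hpE8.isCartan r) :
    LR (rgd (K := K) hpE8 CoxeterMatrix.E₈.toCoxeterSystem p) r := by
  have := finite_W hpE8 CoxeterMatrix.E₈.toCoxeterSystem
  exact KFacts.RgdKap.lr_of (fun i j => (Cfsg.Agent.H225.PPow.ne8 i j).1) (fun i j => (Cfsg.Agent.H225.PPow.ne8 i j).2)
    Cfsg.Agent.H225.PPow.conn_E8 (by rw [Fintype.card_fin]; norm_num) _ _ hr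

/-- the highest roots -/
def hr6 : Fin 6 → ℤ := ![1, 2, 2, 3, 2, 1]
def hr7 : Fin 7 → ℤ := ![2, 2, 3, 4, 3, 2, 1]
def hr8 : Fin 8 → ℤ := ![2, 3, 4, 6, 5, 4, 3, 2]
def hrF : Fin 4 → ℤ := ![2, 4, 3, 2]
def hrG : Fin 2 → ℤ := ![3, 2]

theorem root6 : IsRoot CoxeterMatrix.E₆.toCoxeterSystem hpE6.isCartan hr6 :=
  isRoot_word _ _ [1, 3, 2, 0, 4, 3, 1, 2, 3, 4] 5 (by decide +kernel)

theorem root7 : IsRoot CoxeterMatrix.E₇.toCoxeterSystem hpE7.isCartan hr7 :=
  isRoot_word _ _ [0, 2, 3, 1, 4, 3, 2, 0, 5, 4, 3, 1, 2, 3, 4, 5] 6 (by decide +kernel)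

theorem root8 : IsRoot CoxeterMatrix.E₈.toCoxeterSystem hpE8.isCartan hr8 :=
  isRoot_word _ _ [7, 6, 5, 4, 3, 1, 2, 0, 3, 2, 4, 3, 1, 5, 4, 3, 2, 0, 6, 5, 4, 3, 1, 2, 3, 4, 5, 6] 7
    (by decide +kernel)

theorem dom6 : Dom (cartanOf chevE6 6) hr6 := by
  have : ∀ i : Fin 6, 0 ≤ ∑ k, cartanOf chevE6 6 i k * hr6 k := by decide +kernel
  exact this

theorem dom7 : Dom (cartanOf chevE7 7) hr7 := by
  have : ∀ i : Fin 7, 0 ≤ ∑ k, cartanOf chevE7 7 i k * hr7 k := by decide +kernel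
  exact this

theorem dom8 : Dom (cartanOf chevE8 8) hr8 := by
  have : ∀ i : Fin 8, 0 ≤ ∑ k, cartanOf chevE8 8 i k * hr8 k := by decide +kernel
  exact this

theorem domF : Dom (cartanOf chevF4 4) hrF := by
  have : ∀ i : Fin 4, 0 ≤ ∑ k, cartanOf chevF4 4 i k * hrF k := by decide +kernel
  exact this

theorem domG : Dom (cartanOf chevG2 2) hrG := by
  have : ∀ i : Fin 2, 0 ≤ ∑ k, cartanOf chevG2 2 i k * hrG k := by decide +kernel
  exact this

theorem lrF : LR (rgd (K := K) hpF4 CoxeterMatrix.F₄.toCoxeterSystem p) hrF := by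
  have := finite_W hpF4 CoxeterMatrix.F₄.toCoxeterSystem
  have L : LR (rgd (K := K) hpF4 CoxeterMatrix.F₄.toCoxeterSystem p) (sr (3 : Fin 4)) :=
    Cfsg.Agent.H225.PPow.lr_tab hpF4 _ p (d := 0) (dvd_zero _) Cfsg.Agent.H225.PPow.lrF4_3
  have h1 := L.act (CoxeterMatrix.F₄.toCoxeterSystem.wordProd [3, 2, 1, 0, 2, 1, 2])
  have h2 : rep CoxeterMatrix.F₄.toCoxeterSystem hpF4.isCartan
      (CoxeterMatrix.F₄.toCoxeterSystem.wordProd [3, 2, 1, 0, 2, 1, 2]) (sr (3 : Fin 4)) = hrF := by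
    rw [rep_word]
    decide +kernel
  rwa [h2] at h1

theorem lrG : LR (rgd (K := K) Cfsg.Agent.H225.PPow.type_G2 CoxeterMatrix.G₂.toCoxeterSystem p) hrG := by
  have := finite_W Cfsg.Agent.H225.PPow.type_G2 CoxeterMatrix.G₂.toCoxeterSystem
  have L : LR (rgd (K := K) Cfsg.Agent.H225.PPow.type_G2 CoxeterMatrix.G₂.toCoxeterSystem p) (sr (1 : Fin 2)) :=
    Cfsg.Agent.H225.PPow.lr_tab Cfsg.Agent.H225.PPow.type_G2 _ p (d := 0) (dvd_zero _) Cfsg.Agent.H225.PPow.lrG2_1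
  have h1 := L.act (CoxeterMatrix.G₂.toCoxeterSystem.wordProd [1, 0])
  have h2 : rep CoxeterMatrix.G₂.toCoxeterSystem Cfsg.Agent.H225.PPow.type_G2.isCartan
      (CoxeterMatrix.G₂.toCoxeterSystem.wordProd [1, 0]) (sr (1 : Fin 2)) = hrG := by
    rw [rep_word]
    decide +kernel
  rwa [h2] at h1

end Inst

end Cfsg.Agent.R2.Spec.F1.RM
end

private theorem dce_bb81f756a340 : _root_.True := by
  try have : _root_.True := by simp only [_root_.Cfsg.Agent.R2.Spec.F1.RM.ZV.congr_simp]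
  exact _root_.True.intro
end

-- part: R2/Spec/F1/ExcMovC
section
prune_inst 0x460007404240000000018001440003c22aa000000006b8000214002020f818d40a0000f202a2001101000b2800000000811100040404000000400000000000000002a46009299ac08900000001000000000000000000000000000000000000000000000000
set_option linter.all false
open scoped Cfsg.Agent.FastGrp

-- part: R2/Spec/F1/ExcMovB
section
/-!
# Abelian moved subgroups of the exceptional groups, the families (helper23)

`movA_g2`, `movA_f4`, `movA_e6`, `movA_e7`, `movA_e8`, `movA_te6`, `movA_td4`.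
-/

set_option autoImplicit false
set_option linter.unusedSectionVars false
set_option linter.unusedVariables false

namespace Cfsg.Agent.R2.Spec.F1.RM

open CoxeterSystem Cfsg.Agent.ChevalleyStructure.CoxeterGeom Cfsg.Agent.ChevalleyStructure.CoxeterGeomTypes
  Cfsg.Agent.Tits.Roots Cfsg.Agent.Tits.Core
  Cfsg.Agent.Tits.RootComb Cfsg.Agent.Tits.Exchange Cfsg.Agent.Nodes.Reps Cfsg.Agent.Nodes.BNOf
  Cfsg.Agent.Nodes.StabComb Cfsg.Agent.Nodes.Bruhat Cfsg.Agent.Nodes.OppDec Cfsg.Agent.Nodes.LeviDec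
  Cfsg.Agent.Nodes.Coroot Cfsg.Agent.KFacts.RgdSL
  Cfsg.Agent.KFacts.RgdTI Cfsg.Agent.KFacts.RgdCent Cfsg.Agent.H35.ExcIdx Cfsg.Agent.H35.Poin
  Cfsg.Agent.H696.GmnNeg
open Cfsg Cfsg.Lie Cfsg.Agent.ChevalleyStructure Cfsg.Agent.ChevalleyStructure.Elts Cfsg.Agent.Nodes.RGDChev
  Cfsg.Agent.ChevalleyStructure.RootVec
open Cfsg.Agent.R2.Spec.F1

variable (K : Type) [Field K] [Fintype K] (p : ℕ) [hpf : Fact p.Prime] [CharP K p]

theorem nonneg6 : 0 ≤ hr6 := by
  have : ∀ i, 0 ≤ hr6 i := by decide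
  exact this

theorem nonneg7 : 0 ≤ hr7 := by
  have : ∀ i, 0 ≤ hr7 i := by decide
  exact this

theorem nonneg8 : 0 ≤ hr8 := by
  have : ∀ i, 0 ≤ hr8 i := by decide
  exact this

theorem nonnegF : 0 ≤ hrF := by
  have : ∀ i, 0 ≤ hrF i := by decide
  exact this

theorem nonnegG : 0 ≤ hrG := by
  have : ∀ i, 0 ≤ hrG i := by decide
  exact this

/-- **`E₆(u)`.** -/
theorem movA_e6 {x : ℕ} (hx : x.Prime) (hx5 : 5 ≤ x) (hxp : x ≠ p)
    (he : orderOf ((Nat.card K : ℕ) : ZMod x) ∈ ({1, 2, 3, 4, 5, 6, 8} : Set ℕ)) : MovA ↥(chevE6.group K) p x := by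
  have hsim := S1054.result (F := K) chevE6 (by simp)
  have hT := S1035.result (F := K) rfl (chevE6, Nat.gcd 3 (Fintype.card K - 1)) (by simp only [_root_.List.mem_cons, _root_.Prod.mk.injEq, _root_.List.not_mem_nil, _root_.or_false, _root_.true_or, _root_.or_true])
  have hd : Nat.gcd 3 (Fintype.card K - 1) ∣ 72 := (Nat.gcd_dvd_left _ _).trans (by norm_num)
  have hq : Nat.card K = Fintype.card K := Nat.card_eq_fintype_card
  by_cases h1 : x ∣ Fintype.card K - 1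
  · exact movA_one hpE6 K p hsim.1 (exists_nc_of hsim.2) hd hT (by decide) hx hx5 h1
  · refine movA_split hpE6 K p hd hT (lr6 K p root6) dom6 nonneg6 (J := [0, 1, 2, 3, 4]) ⟨5, by decide, by decide⟩
      ![[2, 3, 1], [], [3, 1], [1], [3, 1], []] (by (delta Cfsg.Agent.ChevalleyStructure.CoxeterGeomTypes.cartanOf; rewrite [Cfsg.Agent.ChevFast.E6.cartan]; decide +kernel)) hx hx5 hxp h1 ?_
    refine Cfsg.Agent.H631.Fpf.ParE6.dvd_PD5 hx ?_
    simp only [Set.mem_insert_iff, Set.mem_singleton_iff] at he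
    exact he

/-- **`E₇(u)`.** -/
theorem movA_e7 {x : ℕ} (hx : x.Prime) (hx5 : 5 ≤ x) (hxp : x ≠ p)
    (he : orderOf ((Nat.card K : ℕ) : ZMod x) ∈ ({1, 2, 3, 4, 5, 6, 7, 8, 9, 12} : Set ℕ)) :
    MovA ↥(chevE7.group K) p x := by
  have hsim := S1054.result (F := K) chevE7 (by simp)
  have hT := S1035.result (F := K) rfl (chevE7, Nat.gcd 2 (Fintype.card K - 1)) (by simp only [_root_.List.mem_cons, _root_.Prod.mk.injEq, _root_.Nat.coprime_two_left, _root_.and_true, _root_.List.not_mem_nil, _root_.or_false, _root_.true_or, _root_.or_true])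
  have hd : Nat.gcd 2 (Fintype.card K - 1) ∣ 72 := (Nat.gcd_dvd_left _ _).trans (by norm_num)
  have hq : Nat.card K = Fintype.card K := Nat.card_eq_fintype_card
  by_cases h1 : x ∣ Fintype.card K - 1
  · exact movA_one hpE7 K p hsim.1 (exists_nc_of hsim.2) hd hT (by decide) hx hx5 h1
  by_cases h7 : orderOf ((Nat.card K : ℕ) : ZMod x) = 7
  · refine movA_split hpE7 K p hd hT (lr7 K p root7) dom7 nonneg7 (J := [0, 2, 3, 4, 5, 6]) ⟨1, by decide, by decide⟩
      ![[], [], [0], [2, 0], [3, 2, 0], [4, 3, 2, 0], [5, 4, 3, 2, 0]] (by (delta Cfsg.Agent.ChevalleyStructure.CoxeterGeomTypes.cartanOf; rewrite [Cfsg.Agent.ChevFast.E7.cartan]; decide +kernel)) hx hx5 hxp h1 ?_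
    exact Cfsg.Agent.H111.Fpf.SevenPar.dvd_b K p hx h7
  · refine movA_split hpE7 K p hd hT (lr7 K p root7) dom7 nonneg7 (J := [0, 1, 2, 3, 4, 5]) ⟨6, by decide, by decide⟩
      ![[], [3, 2, 0], [0], [2, 0], [3, 2, 0], [4, 3, 2, 0], []] (by (delta Cfsg.Agent.ChevalleyStructure.CoxeterGeomTypes.cartanOf; rewrite [Cfsg.Agent.ChevFast.E7.cartan]; open scoped Cfsg.Agent.ChevFast.Lin in decide +kernel)) hx hx5 hxp h1 ?_
    refine Cfsg.Agent.H111.Fpf.SevenPar.dvd_a K p hx (by omega) ?_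
    simp only [Set.mem_insert_iff, Set.mem_singleton_iff] at he
    rcases he with h | h | h | h | h | h | h | h | h | h
    all_goals first
      | exact absurd h h7
      | simp only [Cfsg.Agent.H378.ExcAdj.od, h]; norm_num

theorem path8 : PathOK CoxeterMatrix.E₈ [0, 2, 3, 4, 5, 6, 7] [0, 2, 3, 4, 5, 6, 7] [] 0 := by
  constructor <;> decide +kernel

/-- **`E₈(u)`.** -/
theorem movA_e8 {x : ℕ} (hx : x.Prime) (hx5 : 5 ≤ x) (hxp : x ≠ p)
    (he : orderOf ((Nat.card K : ℕ) : ZMod x) ∈ ({1, 2, 3, 4, 5, 6, 7, 8} : Set ℕ)) :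
    MovA ↥(chevE8.group K) p x := by
  have hsim := S1054.result (F := K) chevE8 (by simp)
  have hT := S1035.result (F := K) rfl (chevE8, 1) (by simp only [_root_.List.mem_cons, _root_.Prod.mk.injEq, _root_.and_true, _root_.List.not_mem_nil, _root_.or_false, _root_.true_or, _root_.or_true])
  have hd : 1 ∣ 72 := one_dvd _
  have hq : Nat.card K = Fintype.card K := Nat.card_eq_fintype_card
  by_cases h1 : x ∣ Fintype.card K - 1
  · exact movA_one hpE8 K p hsim.1 (exists_nc_of hsim.2) hd hT (by decide) hx hx5 h1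
  · refine movA_split hpE8 K p hd hT (lr8 K p root8) dom8 nonneg8 (J := [0, 2, 3, 4, 5, 6, 7])
      ⟨1, by decide, by decide⟩
      ![[2, 3, 4, 5, 6, 7], [], [3, 4, 5, 6, 7], [4, 5, 6, 7], [5, 6, 7], [6, 7], [7], []]
      (by (delta Cfsg.Agent.ChevalleyStructure.CoxeterGeomTypes.cartanOf; rewrite [Cfsg.Agent.ChevFast.E8.cartan]; decide +kernel)) hx hx5 hxp h1 ?_
    have := finite_W hpE8 CoxeterMatrix.E₈.toCoxeterSystem
    have R := rgd (K := K) hpE8 CoxeterMatrix.E₈.toCoxeterSystem p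
    have hc : ∀ i, Nat.card (XX chevE8 8 K (sr i)) = Nat.card K := fun i =>
      card_XX hpE8 K CoxeterMatrix.E₈.toCoxeterSystem (isRoot_sr _ _ i)
    rw [card_step R path8 (y := Nat.card K) (fun i _ => hc i) (card_nil R)]
    refine Dvd.dvd.mul_right (Dvd.dvd.mul_right ?_ _) _
    have h1' : ¬ x ∣ Nat.card K - 1 := by rwa [hq]
    simp only [Set.mem_insert_iff, Set.mem_singleton_iff] at he
    obtain ⟨e, hee⟩ : ∃ e, e = orderOf ((Nat.card K : ℕ) : ZMod x) := ⟨_, rfl⟩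
    have h2 : e ≠ 1 := by
      intro h3
      apply h1'
      have := Cfsg.Agent.H378.ExcAdj.dvd_of_od_dvd (q := Nat.card K) (r := x) (n := 1) Nat.card_pos (by
        change orderOf ((Nat.card K : ℕ) : ZMod x) ∣ 1
        rw [← hee, h3])
      rwa [pow_one] at this
    rw [← hee] at he
    exact dvd_FA hx hee.symm (by omega) (by simp only [List.length_cons, List.length_nil]; omega) h1' Nat.card_pos

open Cfsg.Agent.H134.StrP in
theorem tabF : _root_.Cfsg.Agent.H134.StrP.Tab (cartanOf chevF4 4) [1, 2, 3] 1 [(![0, 1, 0, 0], 0), (![1, -1, 2, 0], 1), (![1, 1, -2, 2], 2),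
    (![2, -1, 0, 2], 3), (![1, 1, 0, -2], 3), (![2, -1, 2, -2], 4), (![2, 1, -2, 0], 5), (![3, -1, 0, 0], 6)] :=
  Tab.of_check (by decide +kernel)

theorem pathF : PathOK CoxeterMatrix.F₄ [2, 3] [2, 3] [] 0 := by constructor <;> decide +kernel

/-- **`F₄(u)`.** -/
theorem movA_f4 {x : ℕ} (hx : x.Prime) (hx5 : 5 ≤ x) (hxp : x ≠ p)
    (he : orderOf ((Nat.card K : ℕ) : ZMod x) ∈ ({1, 2, 3, 4, 6} : Set ℕ)) :
    MovA ↥(chevF4.group K) p x := by
  have hsim := S1054.result (F := K) chevF4 (by simp)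
  have hT := S1035.result (F := K) rfl (chevF4, 1) (by simp only [_root_.List.mem_cons, _root_.Prod.mk.injEq, _root_.and_true, _root_.List.not_mem_nil, _root_.or_false, _root_.true_or, _root_.or_true])
  have hd : 1 ∣ 72 := one_dvd _
  have hq : Nat.card K = Fintype.card K := Nat.card_eq_fintype_card
  by_cases h1 : x ∣ Fintype.card K - 1
  · exact movA_one hpF4 K p hsim.1 (exists_nc_of hsim.2) hd hT (by decide) hx hx5 h1
  · refine movA_split hpF4 K p hd hT (lrF K p) domF nonnegF (J := [1, 2, 3])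
      ⟨0, by decide, by decide⟩ ![[], [2, 3], [3], []] (by decide +kernel) hx hx5 hxp h1 ?_
    have := finite_W hpF4 CoxeterMatrix.F₄.toCoxeterSystem
    have R := rgd (K := K) hpF4 CoxeterMatrix.F₄.toCoxeterSystem p
    have hc : ∀ i, Nat.card (XX chevF4 4 K (sr i)) = Nat.card K := fun i =>
      card_XX hpF4 K CoxeterMatrix.F₄.toCoxeterSystem (isRoot_sr _ _ i)
    have h2 := card_step R pathF (y := Nat.card K) (fun i _ => hc i) (card_nil R)
    have h3 := Cfsg.Agent.H134.StrP.card_tab_step R tabF (y := Nat.card K) (fun i _ => hc i) (J' := [2, 3])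
      (by decide) h2
    rw [h3]
    refine Dvd.dvd.mul_right ?_ _
    have hN : ((([(![0, 1, 0, 0], 0), (![1, -1, 2, 0], 1), (![1, 1, -2, 2], 2),
      (![2, -1, 0, 2], 3), (![1, 1, 0, -2], 3), (![2, -1, 2, -2], 4), (![2, 1, -2, 0], 5), (![3, -1, 0, 0], 6)] :
      List ((Fin 4 → ℤ) × ℕ)).map fun e => Nat.card K ^ e.2).sum * (FA [(2 : Fin 4), 3].length (Nat.card K) * 1)) =
      ((1 + Nat.card K) * (1 + Nat.card K ^ 2) * (1 + Nat.card K ^ 3)) *
        ((1 + Nat.card K) * (1 + Nat.card K + Nat.card K ^ 2)) := by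
      simp only [List.map_cons, List.map_nil, List.sum_cons, List.sum_nil, List.length_cons, List.length_nil, FA,
        Finset.prod_range_succ, Finset.prod_range_zero, Finset.sum_range_succ, Finset.sum_range_zero]
      ring
    rw [hN]
    have h1' : ¬ x ∣ Nat.card K - 1 := by rwa [hq]
    simp only [Set.mem_insert_iff, Set.mem_singleton_iff] at he
    generalize Nat.card K = q at *
    have hcast : ∀ (P : ℤ) (N : ℕ), (x : ℤ) ∣ P → P ∣ (N : ℤ) → x ∣ N := fun P N h1 h2 =>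
      Int.natCast_dvd_natCast.1 (h1.trans h2)
    rcases he with h | h | h | h | h
    · exact absurd (by
        have := Cfsg.Agent.H378.CycTab.dvd1 h
        rw [Cfsg.Agent.H378.CycTab.pv1] at this
        have hq1 : 1 ≤ q := by rw [hq]; exact Fintype.card_pos
        have h9 : ((q - 1 : ℕ) : ℤ) = (q : ℤ) - 1 := by push_cast [Nat.cast_sub hq1]; ring
        rw [← h9] at this
        exact Int.natCast_dvd_natCast.1 this) h1'
    · refine hcast _ _ (Cfsg.Agent.H378.CycTab.dvd2 hx h) ?_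
      rw [Cfsg.Agent.H378.CycTab.pv2]
      push_cast
      exact ⟨((1 + (q : ℤ) ^ 2) * (1 + (q : ℤ) ^ 3)) * ((1 + q) * (1 + q + (q : ℤ) ^ 2)), by ring⟩
    · refine hcast _ _ (Cfsg.Agent.H378.CycTab.dvd3 hx h) ?_
      rw [Cfsg.Agent.H378.CycTab.pv3]
      push_cast
      exact ⟨((1 + (q : ℤ)) * (1 + (q : ℤ) ^ 2) * (1 + (q : ℤ) ^ 3)) * (1 + q), by ring⟩
    · refine hcast _ _ (Cfsg.Agent.H378.CycTab.dvd4 hx h) ?_
      rw [Cfsg.Agent.H378.CycTab.pv4]
      push_cast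
      exact ⟨((1 + (q : ℤ)) * (1 + (q : ℤ) ^ 3)) * ((1 + q) * (1 + q + (q : ℤ) ^ 2)), by ring⟩
    · refine hcast _ _ (Cfsg.Agent.H378.CycTab.dvd6 hx h) ?_
      rw [Cfsg.Agent.H378.CycTab.pv6]
      push_cast
      exact ⟨((1 + (q : ℤ)) * (1 + (q : ℤ) ^ 2) * (1 + q)) * ((1 + q) * (1 + q + (q : ℤ) ^ 2)), by ring⟩

theorem pathG : PathOK CoxeterMatrix.G₂ [1] [1] [] 0 := by constructor <;> decide +kernel

/-- **`G₂(u)`.** -/
theorem movA_g2 {x : ℕ} (hx : x.Prime) (hx5 : 5 ≤ x) (hxp : x ≠ p) (hK3 : 3 ≤ Fintype.card K)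
    (he : orderOf ((Nat.card K : ℕ) : ZMod x) ∈ ({1, 2} : Set ℕ)) :
    MovA ↥(chevG2.group K) p x := by
  have hsim := S1055.result (F := K) (by
    classical
    obtain ⟨a, ha⟩ : ∃ a : Kˣ, a ≠ 1 := by
      by_contra hcon
      push Not at hcon
      have h1 : Nat.card Kˣ = 1 := Nat.card_eq_one_iff_unique.2 ⟨⟨fun a b => by rw [hcon a, hcon b]⟩, ⟨1⟩⟩
      have h2 := Nat.card_units K
      rw [Nat.card_eq_fintype_card (α := K)] at h2
      omega
    exact ⟨a, a.ne_zero, fun h => ha (Units.ext h)⟩)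
  have hT := S1035.result (F := K) rfl (chevG2, 1) (by simp only [_root_.List.mem_cons, _root_.Prod.mk.injEq, _root_.and_true, _root_.List.not_mem_nil, _root_.or_false, _root_.true_or])
  have hd : 1 ∣ 72 := one_dvd _
  have hq : Nat.card K = Fintype.card K := Nat.card_eq_fintype_card
  by_cases h1 : x ∣ Fintype.card K - 1
  · exact movA_one Cfsg.Agent.H225.PPow.type_G2 K p hsim.1 (exists_nc_of hsim.2) hd hT (by decide) hx hx5 h1
  · refine movA_split Cfsg.Agent.H225.PPow.type_G2 K p hd hT (lrG K p) domG nonnegG (J := [1])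
      ⟨0, by decide, by decide⟩ ![[], []] (by decide +kernel) hx hx5 hxp h1 ?_
    have := finite_W Cfsg.Agent.H225.PPow.type_G2 CoxeterMatrix.G₂.toCoxeterSystem
    have R := rgd (K := K) Cfsg.Agent.H225.PPow.type_G2 CoxeterMatrix.G₂.toCoxeterSystem p
    have hc : ∀ i, Nat.card (XX chevG2 2 K (sr i)) = Nat.card K := fun i =>
      card_XX Cfsg.Agent.H225.PPow.type_G2 K CoxeterMatrix.G₂.toCoxeterSystem (isRoot_sr _ _ i)
    rw [card_step R pathG (y := Nat.card K) (fun i _ => hc i) (card_nil R)]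
    refine Dvd.dvd.mul_right (Dvd.dvd.mul_right ?_ _) _
    have h1' : ¬ x ∣ Nat.card K - 1 := by rwa [hq]
    simp only [Set.mem_insert_iff, Set.mem_singleton_iff] at he
    rcases he with h | h
    · exfalso
      apply h1'
      have := Cfsg.Agent.H378.ExcAdj.dvd_of_od_dvd (q := Nat.card K) (r := x) (n := 1) Nat.card_pos (by
        change orderOf ((Nat.card K : ℕ) : ZMod x) ∣ 1
        rw [h])
      rwa [pow_one] at this
    · exact dvd_FA hx h le_rfl (by simp only [List.length_cons, List.length_nil]; omega) h1' Nat.card_pos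

end Cfsg.Agent.R2.Spec.F1.RM
end

-- part: R2/Spec/F1/ExcMovC
section
/-!
# Abelian moved subgroups of `²E₆(u)`, `³D₄(u)` (helper23)
-/

set_option autoImplicit false
set_option linter.unusedSectionVars false
set_option linter.unusedVariables false

namespace Cfsg.Agent.R2.Spec.F1.RM

open CoxeterSystem Cfsg.Agent.ChevalleyStructure.CoxeterGeom Cfsg.Agent.ChevalleyStructure.CoxeterGeomTypes
  Cfsg.Agent.Tits.Roots Cfsg.Agent.Tits.Core
  Cfsg.Agent.Tits.RootComb Cfsg.Agent.Tits.Exchange Cfsg.Agent.Nodes.Reps Cfsg.Agent.Nodes.BNOf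
  Cfsg.Agent.Nodes.StabComb Cfsg.Agent.Nodes.Bruhat Cfsg.Agent.Nodes.OppDec Cfsg.Agent.Nodes.LeviDec
  Cfsg.Agent.Nodes.Coroot Cfsg.Agent.KFacts.RgdSL
  Cfsg.Agent.KFacts.RgdTI Cfsg.Agent.KFacts.RgdCent Cfsg.Agent.H35.ExcIdx Cfsg.Agent.H35.Poin
  Cfsg.Agent.H169.RealTE6
  Cfsg.Agent.H696.GmnNeg
open Cfsg Cfsg.Lie Cfsg.Agent.ChevalleyStructure
open Cfsg.Agent.R2.Spec.F1

/-- abelian root groups -/
theorem xab_of_simple {I W Y : Type*} [Fintype I] [DecidableEq I] [Group W] [Group Y] {M : CoxeterMatrix I}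
    {cs : CoxeterSystem M W} {A : I → I → ℤ} {h : IsCartan M A} {p : ℕ} {T : Subgroup Y} {n : I → Y}
    {X : (I → ℤ) → Subgroup Y} [Finite W] (R : RGD cs h p T n X)
    (hab : ∀ i, ∀ u ∈ X (sr i), ∀ v ∈ X (sr i), u * v = v * u) {a : I → ℤ} (ha : IsRoot cs h a) :
    ∀ u ∈ X a, ∀ v ∈ X a, u * v = v * u := by
  obtain ⟨w, i, rfl⟩ := ha
  obtain ⟨k, hk⟩ := exists_rp cs R.nsys w
  intro u hu v hv
  have h1 : ∀ y ∈ X (rep cs h w (sr i)), k⁻¹ * y * k ∈ X (sr i) := by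
    intro y hy
    have := R.conj_mem' hk ((isRoot_sr cs h i).act w) hy
    rwa [rep_inv_apply] at this
  have h2 := hab i _ (h1 u hu) _ (h1 v hv)
  have e1 : u * v = k * ((k⁻¹ * u * k) * (k⁻¹ * v * k)) * k⁻¹ := by group
  have e2 : v * u = k * ((k⁻¹ * v * k) * (k⁻¹ * u * k)) * k⁻¹ := by group
  rw [e1, e2, h2]

/-! ### `²E₆` -/

section E6

variable (K : Type) [Field K] [Fintype K] (p : ℕ) [hpf : Fact p.Prime] [CharP K p] {q : ℕ}

/-- the highest root -/
def hrT : Fin 4 → ℤ := ![2, 3, 4, 2]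

theorem domT : Dom Nodes.RGDTwE6.A hrT := by
  have : ∀ i : Fin 4, 0 ≤ ∑ k, Nodes.RGDTwE6.A i k * hrT k := by decide +kernel
  exact this

theorem nonnegT : 0 ≤ hrT := by
  have : ∀ i, 0 ≤ hrT i := by decide
  exact this

theorem finT : Finite CoxeterMatrix.F₄.Group := Nodes.RGDFold.finite_W (hp := Nodes.RGDTwE6.hp)
  CoxeterMatrix.F₄.toCoxeterSystem Nodes.RGDTwE6.isCartan Nodes.RGDTwE6.foldData

theorem rootT : IsRoot CoxeterMatrix.F₄.toCoxeterSystem Nodes.RGDTwE6.isCartan hrT :=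
  isRoot_word _ _ [0, 1, 2, 1, 0, 3, 2] 1 (by decide +kernel)

include hpf in
/-- the order of the parabolic subgroup with Levi factor of type `²D₄` -/
theorem card_PT {φ : K →+* K} (hφ : ∀ x, φ x = x ^ q) (hqq : ∀ t : K, (t ^ q) ^ q = t) (hq : 1 < q)
    (hK : Fintype.card K = q ^ 2) :
    Nat.card ↥(PJ CoxeterMatrix.F₄.toCoxeterSystem Nodes.RGDTwE6.isCartan (Nodes.RGDTwE6.T K q) (Nodes.RGDTwE6.X φ q)
      {j | j ∈ ([0, 1, 2] : List (Fin 4))}) =
      (((1 + q ^ 4) * (1 + q + q ^ 2)) * ((1 + q) * (1 + q ^ 3)) * (1 + q ^ 2)) *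
      Nat.card ↥(RGD.B CoxeterMatrix.F₄.toCoxeterSystem Nodes.RGDTwE6.isCartan (Nodes.RGDTwE6.T K q)
        (Nodes.RGDTwE6.X φ q)) := by
  have hfin := finT
  have R := Nodes.RGDTwE6.rgd CoxeterMatrix.F₄.toCoxeterSystem hφ hqq p
  have hc := card_X_tw (φ := φ) hφ hqq hq hK
  rw [← poly]
  exact card_PJ_chain R hc chain0 (J' := [1, 2]) (by decide) (card_PJ_chain R hc chain1 (J' := [2])
      (by decide) (card_PJ_chain R hc chain2 (J' := []) (by decide) (card_nil R)))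

/-- **`²E₆(u)`.** -/
theorem movA_te6 (hq : IsPrimePow q) (hK : Fintype.card K = q ^ 2) {x : ℕ} (hx : x.Prime) (hx5 : 5 ≤ x) (hxp : x ≠ p)
    (he : orderOf ((q : ℕ) : ZMod x) ∈ ({1, 2, 3, 4, 6, 8} : Set ℕ)) :
    MovA ↥(twistedE6 K q) p x := by
  have hsim := S1070.result hq hK
  have := hsim.1
  obtain ⟨φ, hφ, hqq⟩ := TwE6Basic.exists_frob hq hK
  have hfin := finT
  have R := Nodes.RGDTwE6.rgd CoxeterMatrix.F₄.toCoxeterSystem hφ hqq p
  have hG1 : RGD.Sup (Nodes.RGDTwE6.X φ q) {x | IsRoot CoxeterMatrix.F₄.toCoxeterSystem Nodes.RGDTwE6.isCartan x} = ⊤ :=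
    Nodes.RGDTwE6.G1_eq_top CoxeterMatrix.F₄.toCoxeterSystem hφ hqq
  have hL : Cfsg.Agent.KFacts.TwESix.Pair.LRl (Nodes.RGDTwE6.rgd CoxeterMatrix.F₄.toCoxeterSystem hφ hqq p) :=
    fun a ha hl => KFacts.TwESix.Grp.lr_long CoxeterMatrix.F₄.toCoxeterSystem hφ hqq p ha hl
  have hT : Nat.gcd 3 (q + 1) * Nat.card ↥(Nodes.RGDTwE6.T K q) = (q - 1) ^ 4 * (q + 1) ^ 2 := by
    rw [← Cfsg.Agent.S1102.result hq hK]
    congr 1
    exact Nat.card_congr (Subgroup.subgroupOfEquivOfLe inf_le_right).toEquiv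
  have hd : ¬ x ∣ Nat.gcd 3 (q + 1) := not_dvd_72 hx hx5 ((Nat.gcd_dvd_left _ _).trans (by norm_num))
  have hTx : x ∣ Nat.card ↥(Nodes.RGDTwE6.T K q) ↔ x ∣ q - 1 ∨ x ∣ q + 1 := by
    constructor
    · intro h
      have h1 : x ∣ (q - 1) ^ 4 * (q + 1) ^ 2 := by rw [← hT]; exact Dvd.dvd.mul_left h _
      rcases hx.dvd_mul.1 h1 with h2 | h2
      · exact Or.inl (hx.dvd_of_dvd_pow h2)
      · exact Or.inr (hx.dvd_of_dvd_pow h2)
    · intro h
      have h1 : x ∣ Nat.gcd 3 (q + 1) * Nat.card ↥(Nodes.RGDTwE6.T K q) := by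
        rw [hT]
        rcases h with h | h
        · exact Dvd.dvd.mul_right (dvd_pow h (by norm_num)) _
        · exact Dvd.dvd.mul_left (dvd_pow h (by norm_num)) _
      exact (hx.dvd_mul.1 h1).resolve_left hd
  have h2 : 2 ≤ q := hq.two_le
  by_cases hTd : x ∣ Nat.card ↥(Nodes.RGDTwE6.T K q)
  · exact movA_tor R (KFacts.RgdLieCharP.noCent_of_center hG1
      (KFacts.RgdLieCharP.center_eq_bot (exists_nc_of hsim.2)))
      (fun a ha u hu v hv => KFacts.TwESix.Irr.comm_X R hL ha hu hv) hx hTd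
  · have L : LR R hrT := KFacts.TwESix.Grp.lr_long CoxeterMatrix.F₄.toCoxeterSystem hφ hqq p rootT (by decide +kernel)
    refine movA_par R L (J := {j | j ∈ ([0, 1, 2] : List (Fin 4))}) (cpr_of_dom L.root domT)
      ⟨rootT, nonnegT, 3, by decide, by decide⟩ (hJ_of ![[], [0], [1, 0], []] (by decide +kernel)) hx ?_
      (not_dvd_B R hx hxp hTd)
    rw [card_PT K p hφ hqq (by omega) hK]
    refine Dvd.dvd.mul_right ?_ _
    have hn1 : ¬ x ∣ q - 1 := fun h => hTd (hTx.2 (Or.inl h))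
    have hn2 : ¬ x ∣ q + 1 := fun h => hTd (hTx.2 (Or.inr h))
    have hcast : ∀ (P : ℤ) (N : ℕ), (x : ℤ) ∣ P → P ∣ (N : ℤ) → x ∣ N := fun P N h1 h2 =>
      Int.natCast_dvd_natCast.1 (h1.trans h2)
    simp only [Set.mem_insert_iff, Set.mem_singleton_iff] at he
    rcases he with h | h | h | h | h | h
    · exfalso
      apply hn1
      have h3 := Cfsg.Agent.H378.CycTab.dvd1 h
      rw [Cfsg.Agent.H378.CycTab.pv1] at h3
      have h9 : ((q - 1 : ℕ) : ℤ) = (q : ℤ) - 1 := by push_cast [Nat.cast_sub (by omega : 1 ≤ q)]; ring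
      rw [← h9] at h3
      exact Int.natCast_dvd_natCast.1 h3
    · exfalso
      apply hn2
      have h3 := Cfsg.Agent.H378.CycTab.dvd2 hx h
      rw [Cfsg.Agent.H378.CycTab.pv2] at h3
      exact_mod_cast h3
    · refine hcast _ _ (Cfsg.Agent.H378.CycTab.dvd3 hx h) ?_
      rw [Cfsg.Agent.H378.CycTab.pv3]
      push_cast
      exact ⟨(1 + (q : ℤ) ^ 4) * ((1 + (q : ℤ)) * (1 + (q : ℤ) ^ 3)) * (1 + (q : ℤ) ^ 2), by ring⟩
    · refine hcast _ _ (Cfsg.Agent.H378.CycTab.dvd4 hx h) ?_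
      rw [Cfsg.Agent.H378.CycTab.pv4]
      push_cast
      exact ⟨((1 + (q : ℤ) ^ 4) * (1 + q + (q : ℤ) ^ 2)) * ((1 + (q : ℤ)) * (1 + (q : ℤ) ^ 3)), by ring⟩
    · refine hcast _ _ (Cfsg.Agent.H378.CycTab.dvd6 hx h) ?_
      rw [Cfsg.Agent.H378.CycTab.pv6]
      push_cast
      exact ⟨((1 + (q : ℤ) ^ 4) * (1 + q + (q : ℤ) ^ 2)) * ((1 + (q : ℤ)) * (1 + (q : ℤ))) * (1 + (q : ℤ) ^ 2), by ring⟩
    · refine hcast _ _ (Cfsg.Agent.H378.CycTab.dvd8 hx h) ?_
      rw [Cfsg.Agent.H378.CycTab.pv8]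
      push_cast
      exact ⟨(1 + q + (q : ℤ) ^ 2) * ((1 + (q : ℤ)) * (1 + (q : ℤ) ^ 3)) * (1 + (q : ℤ) ^ 2), by ring⟩

end E6

/-! ### `³D₄` -/

section D4

variable (K : Type) [Field K] [Fintype K] (p : ℕ) [hpf : Fact p.Prime] [CharP K p] {q : ℕ}

theorem domD : Dom Nodes.RGDTwD4.A Cfsg.Agent.H249.PPTwD4.z3 := by
  have : ∀ i : Fin 2, 0 ≤ ∑ k, Nodes.RGDTwD4.A i k * Cfsg.Agent.H249.PPTwD4.z3 k := by decide +kernel
  exact this

theorem nonnegD : 0 ≤ Cfsg.Agent.H249.PPTwD4.z3 := by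
  have : ∀ i, 0 ≤ Cfsg.Agent.H249.PPTwD4.z3 i := by decide
  exact this

theorem pathD : PathOK CoxeterMatrix.G₂ [0] [0] [] 0 := by constructor <;> decide +kernel

include hpf in
theorem xabD {φ : K →+* K} (hK : Fintype.card K = q ^ 3) (hφ : ∀ x, φ x = x ^ q) {a : Fin 2 → ℤ}
    (ha : IsRoot CoxeterMatrix.G₂.toCoxeterSystem Nodes.RGDTwD4.isCartan a) :
    ∀ u ∈ Nodes.RGDTwD4.X φ q a, ∀ v ∈ Nodes.RGDTwD4.X φ q a, u * v = v * u := by
  have hfin : Finite CoxeterMatrix.G₂.Group := Cfsg.Agent.H249.PPTwD4.finiteW CoxeterMatrix.G₂.toCoxeterSystem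
  have hle := D4Fixed.twisted_le_fix hK hφ
  refine xab_of_simple (Nodes.RGDTwD4.rgd CoxeterMatrix.G₂.toCoxeterSystem hK hφ p) (fun i => ?_) ha
  fin_cases i
  · intro u hu v hv
    have L : LR (Nodes.RGDTwD4.rgd CoxeterMatrix.G₂.toCoxeterSystem hK hφ p) Cfsg.Agent.H249.PPTwD4.z3 :=
      Cfsg.Agent.H249.PPTwD4.lr3 hK hφ p
    have h1 := L.act (CoxeterMatrix.G₂.toCoxeterSystem.simple 0 * CoxeterMatrix.G₂.toCoxeterSystem.simple 1)⁻¹
    rw [← Cfsg.Agent.H249.PPTwD4.rep3 CoxeterMatrix.G₂.toCoxeterSystem, rep_inv_apply] at h1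
    exact h1.comm _ (isRoot_sr _ _ 0) (by rw [cpr_self _ _ (isRoot_sr _ _ 0)]; norm_num) u hu v hv
  · intro u hu v hv
    obtain ⟨s, hs⟩ := (ClosedExc.TwD4.mem_X1 hφ hle u).1 hu
    obtain ⟨t, ht⟩ := (ClosedExc.TwD4.mem_X1 hφ hle v).1 hv
    apply Subtype.ext
    rw [Subgroup.coe_mul, Subgroup.coe_mul, hs, ht]
    exact Cfsg.Agent.Schreier.TwDFour.X_comm φ s t

/-- **`³D₄(u)`.** -/
theorem movA_td4 (hq : IsPrimePow q) (hK : Fintype.card K = q ^ 3) {x : ℕ} (hx : x.Prime) (hx5 : 5 ≤ x) (hxp : x ≠ p)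
    (he : orderOf ((q : ℕ) : ZMod x) ∈ ({1, 2, 3} : Set ℕ)) :
    MovA ↥(twistedD4 K q) p x := by
  have hsim := S1071.result hq hK
  have := hsim.1
  obtain ⟨φ, hφ⟩ := D4Fixed.exists_frob hq hK
  have hfin : Finite CoxeterMatrix.G₂.Group := Cfsg.Agent.H249.PPTwD4.finiteW CoxeterMatrix.G₂.toCoxeterSystem
  have R := Nodes.RGDTwD4.rgd CoxeterMatrix.G₂.toCoxeterSystem hK hφ p
  have hG1 : RGD.Sup (Nodes.RGDTwD4.X φ q) {x | IsRoot CoxeterMatrix.G₂.toCoxeterSystem Nodes.RGDTwD4.isCartan x} = ⊤ :=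
    Nodes.RGDTwD4.G1_eq_top CoxeterMatrix.G₂.toCoxeterSystem hK hφ
  have hT : Nat.card ↥(Nodes.RGDTwD4.T K q) = (q - 1) ^ 2 * (q ^ 2 + q + 1) := by
    rw [← Cfsg.Agent.S1106.result hq hK]
    exact Nat.card_congr (Subgroup.subgroupOfEquivOfLe inf_le_right).toEquiv
  have h2 : 2 ≤ q := hq.two_le
  have hcast : ∀ (P : ℤ) (N : ℕ), (x : ℤ) ∣ P → P ∣ (N : ℤ) → x ∣ N := fun P N h1 h2 =>
    Int.natCast_dvd_natCast.1 (h1.trans h2)
  by_cases hTd : x ∣ Nat.card ↥(Nodes.RGDTwD4.T K q)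
  · exact movA_tor R (KFacts.RgdLieCharP.noCent_of_center hG1
      (KFacts.RgdLieCharP.center_eq_bot (exists_nc_of hsim.2)))
      (fun a ha => xabD K p hK hφ ha) hx hTd
  · have L : LR R Cfsg.Agent.H249.PPTwD4.z3 := Cfsg.Agent.H249.PPTwD4.lr3 hK hφ p
    refine movA_par R L (J := {j | j ∈ ([0] : List (Fin 2))}) (cpr_of_dom L.root domD)
      ⟨L.root, nonnegD, 1, by decide, by decide⟩ (hJ_of ![[], []] (by decide +kernel)) hx ?_
      (not_dvd_B R hx hxp hTd)
    have hc := Cfsg.Agent.H934.RowTwD4.card_X hφ (by omega) hK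
    have hN := card_step R pathD (y := q) (fun i hi => by
      rw [List.mem_singleton] at hi
      rw [hc, hi, if_pos rfl]) (card_nil R)
    rw [hN]
    refine Dvd.dvd.mul_right (Dvd.dvd.mul_right ?_ _) _
    simp only [Set.mem_insert_iff, Set.mem_singleton_iff] at he
    have hn1 : ¬ x ∣ q - 1 := by
      intro h
      apply hTd
      rw [hT]
      exact Dvd.dvd.mul_right (dvd_pow h (by norm_num)) _
    rcases he with h | h | h
    · exfalso
      apply hn1
      have h3 := Cfsg.Agent.H378.CycTab.dvd1 h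
      rw [Cfsg.Agent.H378.CycTab.pv1] at h3
      have h9 : ((q - 1 : ℕ) : ℤ) = (q : ℤ) - 1 := by push_cast [Nat.cast_sub (by omega : 1 ≤ q)]; ring
      rw [← h9] at h3
      exact Int.natCast_dvd_natCast.1 h3
    · exact dvd_FA hx h le_rfl (by simp only [List.length_cons, List.length_nil]; omega) hn1 (by omega)
    · exfalso
      apply hTd
      rw [hT]
      refine Dvd.dvd.mul_left ?_ _
      refine hcast _ _ (Cfsg.Agent.H378.CycTab.dvd3 hx h) ?_
      rw [Cfsg.Agent.H378.CycTab.pv3]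
      push_cast
      exact dvd_rfl

end D4

end Cfsg.Agent.R2.Spec.F1.RM
end
end

-- part: R2/Spec/F1/ExcKA
section
prune_inst 0x420007404240000000000000042003e22a2000100000b8000000002000f81040000000620aa000000008480840030004811000040420000000a00000001180080000006000091a800800000000000000000000000000000000000000000000000000000000
set_option linter.all false
open scoped Cfsg.Agent.FastGrp

-- part: R2/Spec/F1/ExcK
section
/-!
# Primes of the radical, `S` exceptional (helper23)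

* `mvc t` : classes of primes moved by Levi complements; `movA_exc` : `MovA S v x` for `x` in these classes;
* `movW_iso` : Borel subgroups of `Sz`, `Ree`;
* `ncab` : noncyclic abelian `v`-subgroups; `ExFrm.sv_adj` : the characteristic is adjacent to the other primes of the
  radical;
* `ExFrm.kadj` : `r ∣ |K|`, `MovW S v x` : `G` has elements of order `r x`; `ExFrm.kadj_cls`, `ExFrm.kadj_adj`.
-/

set_option autoImplicit false
set_option linter.unusedSectionVars false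
set_option linter.unusedVariables false

namespace Cfsg.Agent.R2.Spec.F1

open Subgroup Cfsg
open Cfsg.Agent.H426.LieFam Cfsg.Agent.R2.Spec Cfsg.Agent.R2.Spec.P1
open Cfsg.Agent.H420.QR

universe u w

/-- classes of moved primes -/
def mvc : Fam → Finset ℕ
  | .g2 => {1, 2}
  | .f4 => {1, 2, 3, 4, 6}
  | .e6 => {1, 2, 3, 4, 5, 6, 8}
  | .e7 => {1, 2, 3, 4, 5, 6, 7, 8, 9, 12}
  | .e8 => {1, 2, 3, 4, 5, 6, 7, 8}
  | .te6 => {1, 2, 3, 4, 6, 8}
  | .td4 => {1, 2, 3}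
  | .ree => {1}
  | _ => ∅

/-- the order of `v ^ f` modulo `x` -/
noncomputable def oc (v f x : ℕ) : ℕ := orderOf ((v ^ f : ℕ) : ZMod x)

section ree

open Cfsg.Agent.LieRecognition

variable {K : Type} [Field K] [Fintype K] {m : ℕ}

theorem not_three_mul {m x : ℕ} (hx : x.Prime) (hx5 : 5 ≤ x) (h1 : x ∣ 3 ^ (2 * m + 1) - 1) :
    ¬ x ∣ 3 ^ (m + 1) + 3 := by
  intro h2
  have := Fact.mk hx
  have e1 : ((3 : ZMod x)) ^ (2 * m + 1) = 1 := by
    have h3 : ((3 ^ (2 * m + 1) - 1 : ℕ) : ZMod x) = 0 := (ZMod.natCast_eq_zero_iff _ _).2 h1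
    rw [Nat.cast_sub (Nat.one_le_pow _ _ (by norm_num))] at h3
    push_cast at h3
    exact sub_eq_zero.1 h3
  have e2 : ((3 : ZMod x)) ^ (m + 1) = -3 := by
    have h3 : ((3 ^ (m + 1) + 3 : ℕ) : ZMod x) = 0 := (ZMod.natCast_eq_zero_iff _ _).2 h2
    push_cast at h3
    exact eq_neg_of_add_eq_zero_left h3
  have e3 : ((3 : ZMod x)) ^ (2 * (m + 1)) = 9 := by
    rw [mul_comm, pow_mul, e2]
    ring
  have e4 : (3 : ZMod x) = 9 := by
    rw [← e3, show 2 * (m + 1) = (2 * m + 1) + 1 by ring, pow_succ, e1, one_mul]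
  have e5 : ((6 : ℕ) : ZMod x) = 0 := by
    have : (6 : ZMod x) = 9 - 3 := by norm_num
    push_cast
    rw [this, ← e4, sub_self]
  rw [ZMod.natCast_eq_zero_iff] at e5
  have h6 : x ∣ 2 * 3 := e5
  rcases hx.dvd_mul.1 h6 with h | h
  · have := Nat.le_of_dvd (by norm_num) h
    omega
  · have := Nat.le_of_dvd (by norm_num) h
    omega

theorem movA_ree (hK : Fintype.card K = 3 ^ (2 * m + 1)) {x : ℕ} (hx : x.Prime) (hx5 : 5 ≤ x)
    (h1 : x ∣ 3 ^ (2 * m + 1) - 1) : MovA ↥(Lie.twistedG2 K (3 ^ m)) 3 x := by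
  have D := ReeFinal.data hK
  have := Fact.mk hx
  have hch := ReeAbs.charP_three (m := m) hK
  obtain ⟨a, ha⟩ : ∃ a : Kˣ, orderOf a = x := by
    refine exists_prime_orderOf_dvd_card' x ?_
    rw [Nat.card_units, Nat.card_eq_fintype_card, hK]
    exact h1
  have hm0 : ∀ u v u' v' : K, ReeData.U m 0 u v * ReeData.U m 0 u' v' = ReeData.U m 0 (u + u') (v + v') := by
    intro u v u' v'
    rw [D.U_mul]
    congr 1
    · ring
    · rw [zero_pow (by positivity)]; ring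
    · ring
  let φ : Multiplicative (K × K) →* ↥(Lie.twistedG2 K (3 ^ m)) :=
    { toFun := fun z => ReeData.U m 0 (Multiplicative.toAdd z).1 (Multiplicative.toAdd z).2
      map_one' := by
        change ReeData.U m 0 0 0 = 1
        exact D.U_zero
      map_mul' := fun z z' => by
        rw [hm0]
        rfl }
  let ψ : Kˣ →* ↥(Lie.twistedG2 K (3 ^ m)) :=
    { toFun := ReeData.h hK
      map_one' := D.h_one
      map_mul' := D.h_mul }
  have hφ : Function.Injective φ := by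
    intro z z' hz
    have h3 := D.inj₁ 0 (Multiplicative.toAdd z).1 (Multiplicative.toAdd z).2 1 0 (Multiplicative.toAdd z').1
      (Multiplicative.toAdd z').2 1 (by
        change φ z * _ = φ z' * _
        rw [hz])
    exact Multiplicative.toAdd.injective (Prod.ext h3.2.1 h3.2.2.1)
  have hψ : Function.Injective ψ := by
    intro z z' hz
    have h3 := D.inj₁ 0 0 0 z 0 0 0 z' (by
        change _ * ψ z = _ * ψ z'
        rw [hz])
    exact h3.2.2.2
  refine movA_of_homs (V := K × K) (A := Kˣ) (p := 3) ?_ ψ φ hφ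
    (fun a z => ((a : K) ^ (3 ^ (m + 1) + 3) * z.1, (a : K) ^ (2 * 3 ^ (m + 1) + 3) * z.2)) ?_ (a := a)
    (by rw [orderOf_injective _ hψ, ha]) (v := ((1 : K), (0 : K))) ?_
  · intro z
    rw [← Nat.cast_smul_eq_nsmul K, CharP.cast_eq_zero, zero_smul]
  · intro b z
    rw [mul_inv_eq_iff_eq_mul]
    change ReeData.h hK b * ReeData.U m 0 z.1 z.2 = ReeData.U m 0 _ _ * ReeData.h hK b
    rw [D.h_U, mul_zero]
    rfl
  · intro hc
    have h3 : (a : K) ^ (3 ^ (m + 1) + 3) * 1 = 1 := congrArg Prod.fst hc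
    rw [mul_one] at h3
    have h4 : a ^ (3 ^ (m + 1) + 3) = 1 := Units.ext (by rw [Units.val_pow_eq_pow_val, h3, Units.val_one])
    have h5 := orderOf_dvd_of_pow_eq_one h4
    rw [ha] at h5
    exact not_three_mul hx hx5 h1 h5

end ree

/-- **Moved primes.** -/
theorem movA_exc {t : Fam} {v f : ℕ} {S : Type u} [Group S] (hv : v.Prime) (h : Fam.Is v f S t) {x : ℕ}
    (hx : x.Prime) (hx5 : 5 ≤ x) (hxv : x ≠ v) (he : oc v f x ∈ mvc t) : MovA S v x := by
  have hvf := Fact.mk hv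
  cases t with
  | g2 =>
    obtain ⟨h3, F, _, _, _, hF, ⟨e⟩⟩ := h
    refine (MovA.congr e).2 (RM.movA_g2 F v hx hx5 hxv (by rw [hF]; exact h3) ?_)
    rw [Nat.card_eq_fintype_card, hF]
    simpa only [mvc, oc, _root_.Nat.cast_pow, _root_.Set.mem_insert_iff, _root_.orderOf_eq_one_iff, _root_.Set.mem_singleton_iff, _root_.Finset.mem_insert, _root_.Finset.mem_singleton] using he
  | f4 =>
    obtain ⟨F, _, _, _, hF, ⟨e⟩⟩ := h
    refine (MovA.congr e).2 (RM.movA_f4 F v hx hx5 hxv ?_)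
    rw [Nat.card_eq_fintype_card, hF]
    simpa only [mvc, oc, _root_.Nat.cast_pow, _root_.Set.mem_insert_iff, _root_.orderOf_eq_one_iff, _root_.Set.mem_singleton_iff, _root_.Finset.mem_insert, _root_.Finset.mem_singleton] using he
  | e6 =>
    obtain ⟨F, _, _, _, hF, ⟨e⟩⟩ := h
    refine (MovA.congr e).2 (RM.movA_e6 F v hx hx5 hxv ?_)
    rw [Nat.card_eq_fintype_card, hF]
    simpa only [mvc, oc, _root_.Nat.cast_pow, _root_.Set.mem_insert_iff, _root_.orderOf_eq_one_iff, _root_.Set.mem_singleton_iff, _root_.Finset.mem_insert, _root_.Finset.mem_singleton] using he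
  | e7 =>
    obtain ⟨F, _, _, _, hF, ⟨e⟩⟩ := h
    refine (MovA.congr e).2 (RM.movA_e7 F v hx hx5 hxv ?_)
    rw [Nat.card_eq_fintype_card, hF]
    simpa only [mvc, oc, _root_.Nat.cast_pow, _root_.Set.mem_insert_iff, _root_.orderOf_eq_one_iff, _root_.Set.mem_singleton_iff, _root_.Finset.mem_insert, _root_.Finset.mem_singleton] using he
  | e8 =>
    obtain ⟨F, _, _, _, hF, ⟨e⟩⟩ := h
    refine (MovA.congr e).2 (RM.movA_e8 F v hx hx5 hxv ?_)
    rw [Nat.card_eq_fintype_card, hF]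
    simpa only [mvc, oc, _root_.Nat.cast_pow, _root_.Set.mem_insert_iff, _root_.orderOf_eq_one_iff, _root_.Set.mem_singleton_iff, _root_.Finset.mem_insert, _root_.Finset.mem_singleton] using he
  | te6 =>
    have hf1 := exc_fpos (t := .te6) trivial h
    obtain ⟨F, _, _, _, hF, ⟨e⟩⟩ := h
    refine (MovA.congr e).2 (RM.movA_te6 F v (hv.isPrimePow.pow (by omega)) hF hx hx5 hxv ?_)
    simpa only [mvc, oc, _root_.Nat.cast_pow, _root_.Set.mem_insert_iff, _root_.orderOf_eq_one_iff, _root_.Set.mem_singleton_iff, _root_.Finset.mem_insert, _root_.Finset.mem_singleton] using he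
  | td4 =>
    have hf1 := exc_fpos (t := .td4) trivial h
    obtain ⟨F, _, _, _, hF, ⟨e⟩⟩ := h
    refine (MovA.congr e).2 (RM.movA_td4 F v (hv.isPrimePow.pow (by omega)) hF hx hx5 hxv ?_)
    simpa only [mvc, oc, _root_.Nat.cast_pow, _root_.Set.mem_insert_iff, _root_.orderOf_eq_one_iff, _root_.Set.mem_singleton_iff, _root_.Finset.mem_insert, _root_.Finset.mem_singleton] using he
  | ree =>
    obtain ⟨rfl, m, hm, rfl, F, _, _, hF, ⟨e⟩⟩ := h
    refine (MovA.congr e).2 (movA_ree hF hx hx5 ?_)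
    have h1 : oc 3 (2 * m + 1) x = 1 := by simpa [mvc] using he
    rw [oc, orderOf_eq_one_iff] at h1
    have h2 : ((3 ^ (2 * m + 1) - 1 : ℕ) : ZMod x) = 0 := by
      rw [Nat.cast_sub (Nat.one_le_pow _ _ (by norm_num)), h1, Nat.cast_one, sub_self]
    exact (ZMod.natCast_eq_zero_iff _ _).1 h2
  | _ => simp [mvc] at he

/-- the Borel subgroup of `Sz` -/
theorem movW_sz {v f : ℕ} {S : Type u} [Group S] (h : Fam.Is v f S .sz) {x : ℕ} (hx : x.Prime) (hx5 : 5 ≤ x)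
    (h1 : x ∣ v ^ f - 1) : MovW S v x := by
  have h' := h
  obtain ⟨rfl, m, hm, rfl, F, _, _, hF, ⟨e⟩⟩ := h'
  refine (MovW.congr e).2 ?_
  have H := Cfsg.Agent.LieRecognition.SzMatrix.good hF
  have D := Cfsg.Agent.S1163.data_sz H
  have hcF : Nat.card F = 2 ^ (2 * m + 1) := by rw [Nat.card_eq_fintype_card, hF]
  have : Finite ↥(Cfsg.Lie.Sz F (2 ^ (m + 1))) := inferInstance
  have hcu : Nat.card H.unip = 2 ^ (2 * (2 * m + 1)) := by rw [H.card_unip, hcF, ← pow_mul, mul_comm]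
  have hcb : Nat.card H.borel = (2 ^ (2 * m + 1)) ^ 2 * (2 ^ (2 * m + 1) - 1) := by
    rw [H.card_borel, hcF]
  have hfx := Fact.mk hx
  have hf2 := Fact.mk Nat.prime_two
  obtain ⟨b, hb⟩ := exists_prime_orderOf_dvd_card' (G := H.borel) x (by rw [hcb]; exact Dvd.dvd.mul_left h1 _)
  have hP : IsPGroup 2 H.unip := IsPGroup.of_card hcu
  obtain ⟨z, hz⟩ := exists_prime_orderOf_dvd_card' (G := H.unip) 2 (by rw [hcu]; exact dvd_pow_self 2 (by omega))
  have hxo : orderOf (b : ↥(Cfsg.Lie.Sz F (2 ^ (m + 1)))) = x := by rw [Subgroup.orderOf_coe, hb]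
  have hzo : orderOf (z : ↥(Cfsg.Lie.Sz F (2 ^ (m + 1)))) = 2 := by rw [Subgroup.orderOf_coe, hz]
  refine ⟨H.unip, b, hP, hxo, fun a ha => D.norm b b.2 a ha, ⟨z, z.2, fun hc => ?_⟩, Or.inr (Or.inl ?_)⟩
  · refine sz_isol h hx (by omega) ?_
    obtain ⟨g, hg⟩ : ∃ g : ↥(Cfsg.Lie.Sz F (2 ^ (m + 1))), orderOf g = x * 2 := by
      refine ⟨(b : ↥(Cfsg.Lie.Sz F (2 ^ (m + 1)))) * z, ?_⟩
      rw [Commute.orderOf_mul_eq_mul_orderOf_of_coprime hc (by
        rw [hxo, hzo]; exact (Nat.coprime_primes hx Nat.prime_two).2 (by omega)), hxo, hzo]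
    exact ⟨e.symm g, by rw [MulEquiv.orderOf_eq, hg]⟩
  · intro k hk
    -- `x = 2 ^ k + 1` divides `2 ^ (2 m + 1) - 1`
    have e1 : ((2 : ZMod x)) ^ (2 * m + 1) = 1 := by
      have h3 : ((2 ^ (2 * m + 1) - 1 : ℕ) : ZMod x) = 0 := (ZMod.natCast_eq_zero_iff _ _).2 h1
      rw [Nat.cast_sub (Nat.one_le_pow _ _ (by norm_num))] at h3
      push_cast at h3
      exact sub_eq_zero.1 h3
    have h2x : (2 : ZMod x) ≠ 0 := by
      intro h0
      have h4 : ((2 : ℕ) : ZMod x) = 0 := by exact_mod_cast h0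
      have := Nat.le_of_dvd (by norm_num) ((ZMod.natCast_eq_zero_iff _ _).1 h4)
      omega
    have e2 : ((2 : ZMod x)) ^ (2 ^ k) = 1 := by
      have h3 := ZMod.pow_card_sub_one_eq_one h2x
      have h4 : 2 ^ k = x - 1 := by (clear * - hx5 hk; omega)
      exact (congrArg (fun n => (2 : ZMod x) ^ n) h4).trans h3
    have e3 : orderOf (2 : ZMod x) ∣ Nat.gcd (2 * m + 1) (2 ^ k) :=
      Nat.dvd_gcd (orderOf_dvd_of_pow_eq_one e1) (orderOf_dvd_of_pow_eq_one e2)
    have e4 : Nat.gcd (2 * m + 1) (2 ^ k) = 1 := Nat.Coprime.pow_right _ (by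
      rw [Nat.coprime_two_right, Nat.odd_iff]; omega)
    rw [e4, Nat.dvd_one, orderOf_eq_one_iff] at e3
    have e5 : ((1 : ℕ) : ZMod x) = 0 := by
      have : (1 : ZMod x) = 2 - 1 := by norm_num
      push_cast
      rw [this, e3, sub_self]
    have := Nat.le_of_dvd (by norm_num) ((ZMod.natCast_eq_zero_iff _ _).1 e5)
    omega

/-! ### noncyclic abelian subgroups -/

theorem ncab_two {S : Type u} [Group S] [Finite S] (hS : IsSimpleGroup S) (hc : ∃ a b : S, a * b ≠ b * a) :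
    ∃ P : Subgroup S, IsPGroup 2 P ∧ (∀ a ∈ P, ∀ b ∈ P, a * b = b * a) ∧ ¬ IsCyclic P := by
  obtain ⟨E, hE⟩ := Cfsg.Agent.S0204.result (G := S) (by
    intro hcy
    obtain ⟨a, b, hab⟩ := hc
    exact hab (IsCyclic.commGroup.mul_comm a b))
  have hcard : Nat.card E = 2 ^ 2 := by rw [hE.card_four]; norm_num
  refine ⟨E, IsPGroup.of_card hcard, ?_, hE.not_isCyclic⟩
  intro a ha b hb
  have h1 := IsPGroup.commutative_of_card_eq_prime_sq (p := 2) hcard ⟨a, ha⟩ ⟨b, hb⟩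
  exact congrArg Subtype.val h1

/-- two elements of order `p` in a cyclic group generate the same subgroup -/
theorem mem_zpowers_of_cyclic {P : Type*} [Group P] [Finite P] [IsCyclic P] {p : ℕ} (hp : p.Prime) {a b : P}
    (ha : orderOf a = p) (hb : orderOf b = p) : b ∈ zpowers a := by
  classical
  have := Fintype.ofFinite P
  by_contra hcon
  have h1 := IsCyclic.card_pow_eq_one_le (α := P) hp.pos
  have h2 : insert b (Finset.univ.filter fun x : P => x ∈ zpowers a) ⊆ Finset.univ.filter fun x : P => x ^ p = 1 := by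
    intro x hx
    rw [Finset.mem_insert, Finset.mem_filter] at hx
    rw [Finset.mem_filter]
    refine ⟨Finset.mem_univ _, ?_⟩
    rcases hx with rfl | ⟨-, hx⟩
    · rw [← hb, pow_orderOf_eq_one]
    · obtain ⟨k, rfl⟩ := mem_zpowers_iff.1 hx
      rw [← zpow_natCast, ← zpow_mul, mul_comm, zpow_mul, zpow_natCast, ← ha, pow_orderOf_eq_one, one_zpow]
  have h3 := Finset.card_le_card h2
  rw [Finset.card_insert_of_notMem (by rw [Finset.mem_filter]; exact fun h => hcon h.2)] at h3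
  have h4 : (Finset.univ.filter fun x : P => x ∈ zpowers a).card = p := by
    rw [← ha, ← Nat.card_zpowers, Nat.card_eq_fintype_card, Fintype.card_subtype]
  omega

section g2

open Cfsg.Agent.Tits.Roots Cfsg.Agent.Tits.Core Cfsg.Agent.Tits.RootComb Cfsg.Agent.Nodes.LeviDec
  Cfsg.Agent.Nodes.RGDChev Cfsg.Agent.ChevalleyStructure Cfsg.Agent.ChevalleyStructure.CoxeterGeomTypes

theorem ncab_g2 (K : Type) [Field K] [Fintype K] (p : ℕ) [hpf : Fact p.Prime] [CharP K p] :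
    ∃ P : Subgroup ↥(Lie.chevG2.group K), IsPGroup p P ∧ (∀ a ∈ P, ∀ b ∈ P, a * b = b * a) ∧ ¬ IsCyclic P := by
  have := finite_W Cfsg.Agent.H225.PPow.type_G2 CoxeterMatrix.G₂.toCoxeterSystem
  have R := rgd (K := K) Cfsg.Agent.H225.PPow.type_G2 CoxeterMatrix.G₂.toCoxeterSystem p
  have L := RM.lrG K p
  obtain ⟨E, a, b, hE, hab, ha, hb, ha1, hb1, x, y, hx, hy, hx0, hy0, hxy, hax, hby⟩ :=
    RM.exists_nc R L RM.domG (i := 1) (by
      have h : (∑ k, cartanOf Lie.chevG2 2 1 k * RM.hrG k) ≠ 0 := by decide +kernel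
      exact h) ⟨L.root, RM.nonnegG, 0, by decide, by decide⟩
  refine ⟨E, hE, hab, fun hcy => ?_⟩
  -- elements of order `p`
  have key : ∀ c ∈ E, c ≠ 1 → ∃ k : ℕ, orderOf (c ^ k) = p := by
    intro c hc hc1
    obtain ⟨n, hn⟩ := (IsPGroup.iff_orderOf.1 hE) ⟨c, hc⟩
    rw [Subgroup.orderOf_mk] at hn
    have hn0 : n ≠ 0 := by
      rintro rfl
      rw [pow_zero, orderOf_eq_one_iff] at hn
      exact hc1 hn
    obtain ⟨n', rfl⟩ := Nat.exists_eq_succ_of_ne_zero hn0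
    refine ⟨p ^ n', ?_⟩
    rw [orderOf_pow_of_dvd (pow_ne_zero _ hpf.out.ne_zero) (by rw [hn]; exact pow_dvd_pow _ (Nat.le_succ _)), hn,
      Nat.succ_eq_add_one, pow_succ, Nat.mul_div_cancel_left _ (pow_pos hpf.out.pos _)]
  obtain ⟨k, hk⟩ := key a ha ha1
  obtain ⟨l, hl⟩ := key b hb hb1
  have hk' : orderOf (⟨a ^ k, E.pow_mem ha k⟩ : E) = p := by rw [Subgroup.orderOf_mk, hk]
  have hl' : orderOf (⟨b ^ l, E.pow_mem hb l⟩ : E) = p := by rw [Subgroup.orderOf_mk, hl]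
  have h1 := mem_zpowers_of_cyclic hpf.out hk' hl'
  obtain ⟨j, hj⟩ := mem_zpowers_iff.1 h1
  have h2 : (a ^ k) ^ j = b ^ l := congrArg Subtype.val hj
  have h3 : b ^ l = 1 := RM.inf_eq_bot R hx hy hx0 hy0 hxy (h2 ▸ Subgroup.zpow_mem _ (Subgroup.pow_mem _ hax _) _)
    (Subgroup.pow_mem _ hby _)
  rw [h3, orderOf_one] at hl
  exact hpf.out.one_lt.ne hl

end g2

theorem ncab_congr {S T : Type*} [Group S] [Group T] (e : S ≃* T) {v : ℕ}
    (h : ∃ P : Subgroup T, IsPGroup v P ∧ (∀ a ∈ P, ∀ b ∈ P, a * b = b * a) ∧ ¬ IsCyclic P) :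
    ∃ P : Subgroup S, IsPGroup v P ∧ (∀ a ∈ P, ∀ b ∈ P, a * b = b * a) ∧ ¬ IsCyclic P := by
  obtain ⟨P, hP, hab, hnc⟩ := h
  refine ⟨P.map e.symm.toMonoidHom, hP.map _, ?_, fun hc => hnc ?_⟩
  · rintro _ ⟨a, ha, rfl⟩ _ ⟨b, hb, rfl⟩
    rw [← map_mul, ← map_mul, hab a ha b hb]
  · exact isCyclic_of_surjective (P.equivMapOfInjective e.symm.toMonoidHom e.symm.injective).symm.toMonoidHom
      (P.equivMapOfInjective e.symm.toMonoidHom e.symm.injective).symm.surjective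

/-- **Noncyclic abelian subgroups.** -/
theorem ncab {t : Fam} (ht : Exc t) {v f : ℕ} {S : Type u} [Group S] [Finite S] (hS : IsSimpleGroup S)
    (hc : ∃ a b : S, a * b ≠ b * a) (hv : v.Prime) (h : Fam.Is v f S t) :
    ∃ P : Subgroup S, IsPGroup v P ∧ (∀ a ∈ P, ∀ b ∈ P, a * b = b * a) ∧ ¬ IsCyclic P := by
  have hvf := Fact.mk hv
  have hf1 := exc_fpos ht h
  have hq : 2 ≤ v ^ f := hv.two_le.trans (Nat.le_self_pow (by omega) v)
  by_cases hv2 : v = 2
  · subst hv2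
    exact ncab_two hS hc
  have fin : ∀ {w : ℕ}, w.Prime → w ≠ v → ¬ w ∣ v - 1 → MovA S v w →
      ∃ P : Subgroup S, IsPGroup v P ∧ (∀ a ∈ P, ∀ b ∈ P, a * b = b * a) ∧ ¬ IsCyclic P :=
    fun hw hwv hw1 hm => hm.noncyclic hv hw hwv hw1
  have three : 3 ∈ mvc t → ∃ P : Subgroup S, IsPGroup v P ∧ (∀ a ∈ P, ∀ b ∈ P, a * b = b * a) ∧ ¬ IsCyclic P := by
    intro h3
    obtain ⟨r, hr⟩ := Cfsg.Agent.H436.exists_prim hq (by norm_num : 3 ≤ 3) (fun h => absurd h.2 (by norm_num))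
    have hr0 := Fact.mk hr.prime
    have hrv : r ≠ v := by
      rintro rfl
      exact hr.not_dvd (dvd_pow_self r (by omega))
    have hoc : oc v f r = 3 := by
      have h1 : ((v ^ f : ℕ) : ZMod r) ^ 3 = 1 := by
        have h2 := hr.dvd (m := 3) dvd_rfl
        have h4 : (((v ^ f) ^ 3 - 1 : ℕ) : ZMod r) = 0 := (ZMod.natCast_eq_zero_iff _ _).2 h2
        rw [Nat.cast_sub (Nat.one_le_pow _ _ (by omega))] at h4
        rw [← Nat.cast_pow]
        rw [Nat.cast_one] at h4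
        exact sub_eq_zero.1 h4
      refine orderOf_eq_prime h1 fun h2 => ?_
      have h4 := hr.not_dvd_sub (m := 1) (by norm_num)
      apply h4
      rw [pow_one, ← ZMod.natCast_eq_zero_iff, Nat.cast_sub (by omega), h2, Nat.cast_one, sub_self]
    have hr1 : ¬ r ∣ v - 1 := by
      intro hd
      have h4 := hr.not_dvd_sub (m := 1) (by norm_num)
      apply h4
      rw [pow_one]
      exact hd.trans (Nat.sub_one_dvd_pow_sub_one _ _)
    have h5 : 5 ≤ r := by
      have h6 : orderOf ((v ^ f : ℕ) : ZMod r) ∣ r - 1 := by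
        refine ZMod.orderOf_dvd_card_sub_one ?_
        intro h0
        exact hr.not_dvd ((ZMod.natCast_eq_zero_iff _ _).1 h0)
      have h7 : oc v f r ∣ r - 1 := h6
      rw [hoc] at h7
      have h8 := hr.prime.two_le
      have h9 := Nat.le_of_dvd (by omega) h7
      have h10 : r ≠ 4 := by
        rintro rfl
        exact absurd hr.prime (by norm_num)
      omega
    exact fin hr.prime hrv hr1 (movA_exc hv h hr.prime h5 hrv (by rw [hoc]; exact h3))
  cases t with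
  | g2 =>
    obtain ⟨h3, F, _, _, _, hF, ⟨e⟩⟩ := h
    exact ncab_congr e (ncab_g2 F v)
  | f4 => exact three (by decide)
  | e6 => exact three (by decide)
  | e7 => exact three (by decide)
  | e8 => exact three (by decide)
  | te6 => exact three (by decide)
  | td4 => exact three (by decide)
  | sz =>
    obtain ⟨hv2', -⟩ := h
    exact absurd hv2' hv2
  | tf4 =>
    obtain ⟨hv2', -⟩ := h
    exact absurd hv2' hv2
  | ree =>
    have h' := h
    obtain ⟨rfl, m, hm, rfl, -⟩ := h'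
    -- a prime divisor `≥ 5` of `3 ^ (2 m + 1) - 1`
    have e1 : 3 ^ (2 * m + 1) = 2 * ((3 ^ (2 * m + 1) - 1) / 2) + 1 := by
      have : 3 ^ (2 * m + 1) % 2 = 1 := by rw [Nat.pow_mod]; norm_num
      omega
    have e2 : 27 ≤ 3 ^ (2 * m + 1) := by
      calc 27 = 3 ^ 3 := by norm_num
        _ ≤ 3 ^ (2 * m + 1) := Nat.pow_le_pow_right (by norm_num) (by omega)
    obtain ⟨r, hr, hrd⟩ := Nat.exists_prime_and_dvd (n := (3 ^ (2 * m + 1) - 1) / 2) (by omega)
    have hr1 : r ∣ 3 ^ (2 * m + 1) - 1 := by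
      rw [show 3 ^ (2 * m + 1) - 1 = 2 * ((3 ^ (2 * m + 1) - 1) / 2) by omega]
      exact Dvd.dvd.mul_left hrd _
    have hr3 : r ≠ 3 := by
      rintro rfl
      have h3 : 3 ∣ 3 ^ (2 * m + 1) := dvd_pow_self 3 (by omega)
      omega
    have hr2 : r ≠ 2 := by
      rintro rfl
      have h3 : 3 ^ (2 * m + 1) % 4 = 3 := by
        rw [pow_succ, pow_mul, Nat.mul_mod, Nat.pow_mod]
        norm_num
      omega
    have h5 : 5 ≤ r := by
      have h8 := hr.two_le
      have h10 : r ≠ 4 := by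
        rintro rfl
        exact absurd hr (by norm_num)
      omega
    have hoc : oc 3 (2 * m + 1) r = 1 := by
      rw [oc, orderOf_eq_one_iff]
      have h4 : ((3 ^ (2 * m + 1) - 1 : ℕ) : ZMod r) = 0 := (ZMod.natCast_eq_zero_iff _ _).2 hr1
      rw [Nat.cast_sub (by omega), Nat.cast_one] at h4
      exact sub_eq_zero.1 h4
    refine fin hr hr3 ?_ (movA_exc hv h hr h5 hr3 (by rw [hoc]; decide))
    intro hd
    have := Nat.le_of_dvd (by norm_num) hd
    omega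
  | psl n => exact ht.elim
  | psp n => exact ht.elim
  | psu n => exact ht.elim
  | oodd n => exact ht.elim
  | oplus n => exact ht.elim
  | ominus n => exact ht.elim

section frame

variable {G : Type u} [Group G] [Finite G] {K : Subgroup G} [K.Normal] {S : Subgroup (G ⧸ K)} [S.Normal] {t' : Fam}
  {v f' : ℕ}

/-- **The characteristic is adjacent to the other primes of the radical.** -/
theorem ExFrm.sv_adj (h : ExFrm G K S t' v f') {r : ℕ} (hr : r.Prime) (hrv : r ≠ v) (hrK : r ∣ Nat.card K) :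
    ∃ g : G, orderOf g = r * v := by
  obtain ⟨P, hP, hab, hnc⟩ := ncab h.exc h.simple h.nonab h.prime h.is
  have h1 : ∃ g : G, orderOf g = v * r := by
    refine exists_adj_ab K h.nil h.prime hr (Ne.symm hrv) hrK (P.map S.subtype) (hP.map _) ?_ ?_
    · rintro _ ⟨a, ha, rfl⟩ _ ⟨b, hb, rfl⟩
      rw [← map_mul, ← map_mul, hab a ha b hb]
    · intro hc
      apply hnc
      exact isCyclic_of_surjective (P.equivMapOfInjective _ S.subtype_injective).symm.toMonoidHom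
        (P.equivMapOfInjective _ S.subtype_injective).symm.surjective
  obtain ⟨g, hg⟩ := h1
  exact ⟨g, by rw [hg, mul_comm]⟩

/-- **Primes of the radical and moved primes.** -/
theorem ExFrm.kadj (h : ExFrm G K S t' v f') {r x : ℕ} (hr : r.Prime) (hrK : r ∣ Nat.card K) (hrv : r ≠ v)
    (hx : x.Prime) (hx2 : x ≠ 2) (hxv : x ≠ v) (hxr : x ≠ r) (hM : MovW S v x) : ∃ g : G, orderOf g = r * x := by
  obtain ⟨g, hg⟩ := Cfsg.Agent.R2.Spec.F1.kadj h.nil h.simple hr hx h.prime hx2 (Ne.symm hxv) (Ne.symm hrv) hxr hrK hM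
  exact ⟨g, by rw [hg, mul_comm]⟩

/-- moved primes of the classes `mvc` -/
theorem ExFrm.kadj_cls (h : ExFrm G K S t' v f') {r x : ℕ} (hr : r.Prime) (hrK : r ∣ Nat.card K) (hrv : r ≠ v)
    (hx : x.Prime) (hx5 : 5 ≤ x) (hxv : x ≠ v) (hxr : x ≠ r) (he : oc v f' x ∈ mvc t') : ∃ g : G, orderOf g = r * x :=
  h.kadj hr hrK hrv hx (by omega) hxv hxr (movA_exc h.prime h.is hx hx5 hxv he).movW

/-- the Borel subgroup of `Sz` -/
theorem ExFrm.kadj_sz (h : ExFrm G K S .sz v f') {r x : ℕ} (hr : r.Prime) (hrK : r ∣ Nat.card K) (hrv : r ≠ v)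
    (hx : x.Prime) (hx5 : 5 ≤ x) (hxr : x ≠ r) (h1 : x ∣ v ^ f' - 1) : ∃ g : G, orderOf g = r * x := by
  refine h.kadj hr hrK hrv hx (by omega) ?_ hxr (movW_sz h.is hx hx5 h1)
  obtain ⟨rfl, -⟩ := h.is
  omega

end frame

end Cfsg.Agent.R2.Spec.F1
end

-- part: R2/Spec/F1/ExcKA
section
/-!
# Primes of the radical and primes adjacent to the characteristic, `S` exceptional (helper23)

`ExFrm.kadj_adj` : `t ≠ tf4`, `r ∣ |K|`, `r ≠ v`, `x ≥ 5` adjacent to `v` in `S`: `G` has elements of order `r x`.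
-/

set_option autoImplicit false
set_option linter.unusedSectionVars false
set_option linter.unusedVariables false

namespace Cfsg.Agent.R2.Spec.F1

open Subgroup Cfsg
open Cfsg.Agent.H426.LieFam Cfsg.Agent.R2.Spec Cfsg.Agent.R2.Spec.P1
open Cfsg.Agent.H420.QR Cfsg.Agent.H414.LieShape

universe u w

theorem oc_pow {v f x n : ℕ} (hv : v.Prime) : x ∣ (v ^ f) ^ n - 1 ↔ oc v f x ∣ n := by
  rw [oc, orderOf_dvd_iff_pow_eq_one, ← ZMod.natCast_eq_zero_iff, Nat.cast_sub (Nat.one_le_pow _ _ (pow_pos hv.pos _)),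
    Nat.cast_one, sub_eq_zero, Nat.cast_pow]

/-- the exponents of a factor -/
def facE : Fac → ℕ
  | .sub i => i
  | .add i => 2 * i
  | .tri => 12

theorem oc_dvd_facE {v f x : ℕ} (hv : v.Prime) {F : Fac} (h : x ∣ F.val (v ^ f)) : oc v f x ∣ facE F := by
  have h1 : 1 ≤ v ^ f := pow_pos hv.pos _
  cases F with
  | sub i => exact (oc_pow hv).1 h
  | add i =>
    refine (oc_pow hv).1 (h.trans ?_)
    change (v ^ f) ^ i + 1 ∣ (v ^ f) ^ (2 * i) - 1
    rw [mul_comm, pow_mul]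
    have h2 : 1 ≤ (v ^ f) ^ i := Nat.one_le_pow _ _ h1
    refine ⟨(v ^ f) ^ i - 1, ?_⟩
    have := Nat.sq_sub_sq ((v ^ f) ^ i) 1
    rw [one_pow] at this
    exact this
  | tri =>
    refine (oc_pow hv).1 (h.trans ?_)
    change (v ^ f) ^ 8 + (v ^ f) ^ 4 + 1 ∣ (v ^ f) ^ 12 - 1
    refine ⟨(v ^ f) ^ 4 - 1, ?_⟩
    have h2 : 1 ≤ (v ^ f) ^ 4 := Nat.one_le_pow _ _ h1
    have h3 : 1 ≤ (v ^ f) ^ 12 := Nat.one_le_pow _ _ h1
    zify [h2, h3]
    ring

/-- the exponent of a prime of an exceptional group -/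
theorem oc_exc {t : Fam} (ht : Exc t) {v f : ℕ} {S : Type u} [Group S] (hv : v.Prime) (h : Fam.Is v f S t) {x : ℕ}
    (hx : x.Prime) (hxv : x ≠ v) (hxS : x ∣ Nat.card S) : ∃ F ∈ t.facs, x ∣ F.val (v ^ f) ∧ oc v f x ∣ facE F := by
  obtain ⟨d, N, h1⟩ := exc_sh ht hv h
  obtain ⟨F, hF, hFd⟩ := h1.exists_fac hv hx hxv hxS
  exact ⟨F, hF, hFd, oc_dvd_facE hv hFd⟩

/-- the order of `2 ^ f` modulo a Fermat prime -/
theorem oc_fermat {f x k : ℕ} (hx : x.Prime) (hx2 : x ≠ 2) (hk : x = 2 ^ k + 1) : ∃ j : ℕ, oc 2 f x = 2 ^ j := by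
  have := Fact.mk hx
  have h2x : ((2 ^ f : ℕ) : ZMod x) ≠ 0 := by
    intro h0
    exact hx2 ((Nat.prime_dvd_prime_iff_eq hx Nat.prime_two).1 (hx.dvd_of_dvd_pow ((ZMod.natCast_eq_zero_iff _ _).1 h0)))
  have h1 : orderOf ((2 ^ f : ℕ) : ZMod x) ∣ x - 1 := ZMod.orderOf_dvd_card_sub_one h2x
  have h2 : x - 1 = 2 ^ k := by rw [hk, Nat.add_sub_cancel]
  rw [h2] at h1
  obtain ⟨j, -, hj⟩ := (Nat.dvd_prime_pow Nat.prime_two).1 h1
  exact ⟨j, hj⟩

theorem pow_two_dvd {j m : ℕ} (hm : m ∈ ([1, 2, 3, 4, 5, 6, 8, 9, 10, 12, 14, 18, 20, 24, 30] : List ℕ)) (h : 2 ^ j ∣ m) :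
    2 ^ j ∈ ([1, 2, 4, 8] : List ℕ) := by
  have hm0 : 0 < m := by
    rcases Nat.eq_zero_or_pos m with rfl | h0
    · exact absurd hm (by decide)
    · exact h0
  have hm30 : m ≤ 30 := by
    simp only [List.mem_cons, List.not_mem_nil, or_false] at hm
    omega
  have hj : j < 5 := by
    by_contra hcon
    have h1 : 2 ^ 5 ≤ 2 ^ j := Nat.pow_le_pow_right (by norm_num) (by omega)
    have h2 := Nat.le_of_dvd hm0 h
    omega
  have key : ∀ m ∈ ([1, 2, 3, 4, 5, 6, 8, 9, 10, 12, 14, 18, 20, 24, 30] : List ℕ), ∀ j < 5, 2 ^ j ∣ m →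
      2 ^ j ∈ ([1, 2, 4, 8] : List ℕ) := by decide
  exact key m hm j hj h

section frame

variable {G : Type u} [Group G] [Finite G] {K : Subgroup G} [K.Normal] {S : Subgroup (G ⧸ K)} [S.Normal] {t' : Fam}
  {v f' : ℕ}

theorem dvd_card_of_order {S : Type*} [Group S] {x v : ℕ} (h : ∃ g : S, orderOf g = x * v) : x ∣ Nat.card S := by
  obtain ⟨g, hg⟩ := h
  exact (Dvd.intro _ hg.symm).trans (orderOf_dvd_natCard g)

/-- Fermat primes adjacent to `2` are moved -/
theorem fermat_mem {t : Fam} (ht : Exc t) (htf : t ≠ .tf4) {f : ℕ} {S : Type u} [Group S]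
    (h : Fam.Is 2 f S t) {x : ℕ} (hx : x.Prime) (hx5 : 5 ≤ x) (hk : ∃ k : ℕ, x = 2 ^ k + 1)
    (hg : ∃ g : S, orderOf g = x * 2) : oc 2 f x ∈ mvc t := by
  obtain ⟨k, hk⟩ := hk
  obtain ⟨j, hj⟩ := oc_fermat (f := f) hx (by omega) hk
  have hxS := dvd_card_of_order hg
  obtain ⟨F, hF, hFd, hoc⟩ := oc_exc ht Nat.prime_two h hx (by omega) hxS
  have h48 : ∀ F ∈ t.facs, facE F ∈ ([1, 2, 3, 4, 5, 6, 8, 9, 10, 12, 14, 18, 20, 24, 30] : List ℕ) → 
      2 ^ j ∣ facE F → oc 2 f x ∈ ([1, 2, 4, 8] : List ℕ) := fun F _ h1 h2 => by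
    rw [hj]
    exact pow_two_dvd h1 h2
  rw [hj] at hoc
  cases t with
  | g2 =>
    have h1 : ∀ F ∈ Fam.g2.facs, facE F ∣ 6 := by decide
    have h2 : 2 ^ j ∣ 6 := hoc.trans (h1 F hF)
    have h3 := pow_two_dvd (by decide) h2
    rw [hj]
    simp only [List.mem_cons, List.not_mem_nil, or_false] at h3
    rcases h3 with h3 | h3 | h3 | h3 <;> rw [h3] at h2 ⊢
    · decide
    · decide
    · omega
    · omega
  | f4 =>
    have h1 : ∀ F ∈ Fam.f4.facs, facE F ∈ ([1, 2, 3, 4, 5, 6, 8, 9, 10, 12, 14, 18, 20, 24, 30] : List ℕ) := by decide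
    have h3 := pow_two_dvd (h1 F hF) hoc
    rw [hj]
    simp only [List.mem_cons, List.not_mem_nil, or_false] at h3
    rcases h3 with h3 | h3 | h3 | h3
    · rw [h3]; decide
    · rw [h3]; decide
    · rw [h3]; decide
    · exfalso
      rw [h3] at hj
      obtain ⟨E, _, _, _, hE, ⟨e⟩⟩ := h
      have hf1 : f ≠ 0 := by
        rintro rfl
        rw [pow_zero] at hE
        have := Fintype.one_lt_card (α := E)
        omega
      have heven : Even (Fintype.card E) := by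
        rw [hE]
        exact (by decide : Even 2).pow_of_ne_zero hf1
      have hiz := Cfsg.Agent.H224.F4R.iz8_even heven
      obtain ⟨g, hg⟩ := hg
      have h4 : orderOf (e g) = x * 2 := by rw [MulEquiv.orderOf_eq, hg]
      have h5 : x ∣ Fintype.card E ^ 4 + 1 := by
        rw [hE]
        have h6 : x ∣ (2 ^ f) ^ 8 - 1 := (oc_pow Nat.prime_two).2 (by rw [hj])
        have h7 : ¬ x ∣ (2 ^ f) ^ 4 - 1 := fun h7 => by
          have := (oc_pow Nat.prime_two).1 h7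
          rw [hj] at this
          omega
        have h8 : (2 ^ f) ^ 8 - 1 = ((2 ^ f) ^ 4 + 1) * ((2 ^ f) ^ 4 - 1) := by
          have := Nat.sq_sub_sq ((2 ^ f) ^ 4) 1
          rw [one_pow, ← pow_mul] at this
          exact this
        rw [h8] at h6
        exact (hx.dvd_mul.1 h6).resolve_right h7
      have h6 := hiz.iso (e g) x hx h5 (by rw [h4]; exact dvd_mul_right _ _)
      rw [h4] at h6
      exact hiz.not_two_dvd ((dvd_mul_left 2 x).trans h6)
  | e6 =>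
    have h1 : ∀ F ∈ Fam.e6.facs, facE F ∈ ([1, 2, 3, 4, 5, 6, 8, 9, 10, 12, 14, 18, 20, 24, 30] : List ℕ) := by decide
    have h3 := pow_two_dvd (h1 F hF) hoc
    rw [hj]
    simp only [List.mem_cons, List.not_mem_nil, or_false] at h3
    rcases h3 with h3 | h3 | h3 | h3 <;> rw [h3] <;> decide
  | e7 =>
    have h1 : ∀ F ∈ Fam.e7.facs, facE F ∈ ([1, 2, 3, 4, 5, 6, 8, 9, 10, 12, 14, 18, 20, 24, 30] : List ℕ) := by decide
    have h3 := pow_two_dvd (h1 F hF) hoc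
    rw [hj]
    simp only [List.mem_cons, List.not_mem_nil, or_false] at h3
    rcases h3 with h3 | h3 | h3 | h3 <;> rw [h3] <;> decide
  | e8 =>
    have h1 : ∀ F ∈ Fam.e8.facs, facE F ∈ ([1, 2, 3, 4, 5, 6, 8, 9, 10, 12, 14, 18, 20, 24, 30] : List ℕ) := by decide
    have h3 := pow_two_dvd (h1 F hF) hoc
    rw [hj]
    simp only [List.mem_cons, List.not_mem_nil, or_false] at h3
    rcases h3 with h3 | h3 | h3 | h3 <;> rw [h3] <;> decide
  | te6 =>
    have h1 : ∀ F ∈ Fam.te6.facs, facE F ∈ ([1, 2, 3, 4, 5, 6, 8, 9, 10, 12, 14, 18, 20, 24, 30] : List ℕ) := by decide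
    have h3 := pow_two_dvd (h1 F hF) hoc
    rw [hj]
    simp only [List.mem_cons, List.not_mem_nil, or_false] at h3
    rcases h3 with h3 | h3 | h3 | h3 <;> rw [h3] <;> decide
  | td4 =>
    have h1 : ∀ F ∈ Fam.td4.facs, facE F ∣ 12 := by decide
    have h2 : 2 ^ j ∣ 12 := hoc.trans (h1 F hF)
    have h3 := pow_two_dvd (by decide) h2
    rw [hj]
    simp only [List.mem_cons, List.not_mem_nil, or_false] at h3
    rcases h3 with h3 | h3 | h3 | h3
    · rw [h3]; decide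
    · rw [h3]; decide
    · exfalso
      rw [h3] at hj hoc
      have h7 : ∀ i, ¬ 4 ∣ i → ¬ x ∣ (2 ^ f) ^ i - 1 := fun i hi hd => by
        have := (oc_pow Nat.prime_two).1 hd
        rw [hj] at this
        exact hi this
      simp only [Fam.facs, List.mem_cons, List.not_mem_nil, or_false] at hF
      rcases hF with rfl | rfl | rfl
      · exact h7 2 (by norm_num) hFd
      · exact h7 6 (by norm_num) hFd
      · have h8 : x ∣ (2 ^ f) ^ 8 + (2 ^ f) ^ 4 + 1 := hFd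
        have h4 : x ∣ (2 ^ f) ^ 4 - 1 := (oc_pow Nat.prime_two).2 (by rw [hj])
        have h9 : x ∣ 3 := by
          have h10 := (ZMod.natCast_eq_zero_iff _ _).2 h8
          have h11 := (ZMod.natCast_eq_zero_iff _ _).2 h4
          rw [← ZMod.natCast_eq_zero_iff]
          rw [Nat.cast_sub (Nat.one_le_pow _ _ (pow_pos (by norm_num) _)), Nat.cast_one, sub_eq_zero, Nat.cast_pow] at h11
          push_cast at h10 h11 ⊢
          have h12 : ((2 : ZMod x) ^ f) ^ 8 = 1 := by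
            rw [show ((2 : ZMod x) ^ f) ^ 8 = (((2 : ZMod x) ^ f) ^ 4) ^ 2 by ring, h11, one_pow]
          rw [h12, h11] at h10
          rw [← h10]
          norm_num
        have := Nat.le_of_dvd (by norm_num) h9
        omega
    · rw [h3] at h2
      omega
  | sz => exact absurd hg (sz_isol h hx (by omega))
  | ree =>
    obtain ⟨hv3, -⟩ := h
    omega
  | tf4 => exact absurd rfl htf
  | psl n => exact ht.elim
  | psp n => exact ht.elim
  | psu n => exact ht.elim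
  | oodd n => exact ht.elim
  | oplus n => exact ht.elim
  | ominus n => exact ht.elim

/-- **Primes of the radical and primes adjacent to the characteristic.** -/
theorem ExFrm.kadj_adj (h : ExFrm G K S t' v f') (htf : t' ≠ .tf4) {r x : ℕ} (hr : r.Prime) (hrK : r ∣ Nat.card K)
    (hrv : r ≠ v) (hx : x.Prime) (hx5 : 5 ≤ x) (hxv : x ≠ v) (hxr : x ≠ r) (hg : ∃ g : S, orderOf g = x * v) :
    ∃ g : G, orderOf g = r * x := by
  by_contra hna
  rcases h.kcase hr hrK hrv hx (by omega) hxr hna with h1 | h1 | ⟨rfl, h1⟩ | h1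
  · exact hxv h1
  · exact h1 hg
  · exact hna (h.kadj_cls hr hrK hrv hx hx5 hxv hxr (fermat_mem h.exc htf h.is hx hx5 h1 hg))
  · exact htf h1

end frame

end Cfsg.Agent.R2.Spec.F1
end

private theorem dce_b833bc9a5a70 : _root_.True := by
  try have : _root_.True := by simp only [_root_.Cfsg.Agent.R2.Spec.F1.mvc.eq_7]
  try have : _root_.True := by simp only [_root_.Cfsg.Agent.R2.Spec.F1.mvc.eq_9]
  try have : _root_.True := by simp only [_root_.Cfsg.Agent.R2.Spec.F1.mvc.eq_4]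
  try have : _root_.True := by simp only [_root_.Cfsg.Agent.R2.Spec.F1.mvc.eq_8]
  try have : _root_.True := by simp only [_root_.Cfsg.Agent.R2.Spec.F1.mvc.eq_6]
  try have : _root_.True := by simp only [_root_.Cfsg.Agent.R2.Spec.F1.mvc.eq_2]
  try have : _root_.True := by simp only [_root_.Cfsg.Agent.R2.Spec.F1.mvc._sparseCasesOn_1.else_eq]
  try have : _root_.True := by simp only [_root_.Cfsg.Agent.R2.Spec.F1.oc.eq_1]
  try have : _root_.True := by simp only [_root_.Cfsg.Agent.R2.Spec.F1.mvc.eq_1]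
  try have : _root_.True := by simp only [_root_.Cfsg.Agent.R2.Spec.F1.mvc.eq_5]
  try have : _root_.True := by simp only [_root_.Cfsg.Agent.R2.Spec.F1.mvc.eq_3]
  exact _root_.True.intro
end

-- part: R2/Spec/F1/ExcTF4
section
set_option linter.all false
open scoped Cfsg.Agent.FastGrp

-- part: R2/Spec/F1/MovTF4
section
/-!
# Moved primes of `²F₄(q)` (helper26)

`movA_full` : an element of odd prime order `r` commuting with an involution normalizes an elementary abelian 2-subgroup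
(`Z_2 X_3 Z_4 X_5 Z_6` in the centralizer of a central root element, `Z_4 Z_6` in the centralizer of the other involutions)
without centralizing it; `movA_tf4` : the same for `Fam.Is v f S .tf4`.
-/

set_option autoImplicit false
set_option linter.unusedSectionVars false
set_option linter.unusedVariables false

namespace Cfsg.Agent.R2.Spec.F1

open Subgroup Cfsg
open Cfsg.Agent.H426.LieFam

universe u

section full

open Cfsg.Agent.SplitTwo Cfsg.Agent.SplitTwo.ZS Cfsg.Agent.TitsThree.RankTwoZ Cfsg.Agent.KFacts.TwF4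
open Cfsg.Agent.KFacts.TwF4.Arc Cfsg.Agent.KFacts.TwF4.Irr Cfsg.Agent.KFacts.TwF4.Layers
open Cfsg.Agent.KFacts.TwF4.Perf Cfsg.Agent.KFacts.TwF4.Inv Cfsg.Agent.KFacts.TwF4.SylU

/-- an abelian 2-subgroup normalized by `b` whose centralizer is a 2-group -/
theorem movA_of_cent {G : Type*} [Group G] {A C : Subgroup G} (hA : IsPGroup 2 A) (hC : IsPGroup 2 C)
    (hAC : Subgroup.centralizer (A : Set G) ≤ C) {b : G} {r : ℕ} (hr : r.Prime) (hr2 : r ≠ 2) (hb : orderOf b = r)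
    (hn : ∀ a ∈ A, b * a * b⁻¹ ∈ A) (hab : ∀ a ∈ A, ∀ a' ∈ A, a * a' = a' * a) : MovA G 2 r := by
  have hF2 := Fact.mk Nat.prime_two
  refine ⟨A, b, hA, hb, hn, ?_, hab⟩
  by_contra hcon
  push Not at hcon
  have h1 : b ∈ C := hAC (Subgroup.mem_centralizer_iff.2 fun a ha => (hcon a ha).symm)
  obtain ⟨k, hk⟩ := (IsPGroup.iff_orderOf.1 hC) ⟨b, h1⟩
  rw [Subgroup.orderOf_mk, hb] at hk
  have h3 : r ∣ 2 ^ k := by rw [← hk]
  exact hr2 ((Nat.prime_dvd_prime_iff_eq hr Nat.prime_two).1 (hr.dvd_of_dvd_pow h3))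

variable {F : Type*} [Field F] {σ : F →+* F} {G : Type u} [Group G] (S : Full σ G)

/-- in the centralizer of a central root element -/
theorem movA_PL [Finite F] [Finite G] (hR : S.R.p = 2) {b : G} {r : ℕ} (hr : r.Prime) (hr2 : r ≠ 2) (hb : orderOf b = r) (h : b ∈ S.PL) :
    MovA G 2 r := by
  have h2 : IsPGroup 2 (J S.XZ 1 7) := two_J S hR (by norm_num)
  refine movA_of_cent (A := S.Q2) (C := J S.XZ 1 7) (h2.to_le (Q2_le_Q S)) h2 ?_ hr hr2 hb
    (fun a ha => Q2_norm' S h ha) (fun a ha a' ha' => Q2_comm S ha ha')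
  rw [S.centralizer_Q2]
  exact Q1_le_Q S

/-- in the centralizer of the other involutions -/
theorem movA_HO [Finite F] [Finite G] (hR : S.R.p = 2) {b : G} {r : ℕ} (hr : r.Prime) (hr2 : r ≠ 2) (hb : orderOf b = r) (h : b ∈ S.HO) :
    MovA G 2 r := by
  have h2 : IsPGroup 2 (J S.XZ 2 8) := two_J S hR (by norm_num)
  have hle : S.W46 ≤ J S.XZ 2 8 := fun x hx => J_mono (by norm_num) (by norm_num) (S.W46_le hx)
  refine movA_of_cent (A := S.W46) (C := J S.XZ 2 8) (h2.to_le hle) h2 ?_ hr hr2 hb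
    (fun a ha => (Subgroup.mem_normalizer_iff.1 (S.W46_norm (HO_le_J S h)) a).1 ha)
    (fun a ha a' ha' => S.W46_comm (hle ha) ha')
  rw [S.centralizer_W46]

/-- **odd primes adjacent to 2** -/
theorem movA_full [Finite F] [Finite G] (hF : ∃ c : Fˣ, c ≠ 1) (hR : S.R.p = 2) {t b : G} (ht : t * t = 1) (ht1 : t ≠ 1)
    {r : ℕ} (hr : r.Prime) (hr2 : r ≠ 2) (hb : orderOf b = r) (hbt : b * t = t * b) : MovA G 2 r := by
  have hconj : ∀ k : G, orderOf (k * b * k⁻¹) = r ∧ (k * b * k⁻¹) * (k * t * k⁻¹) = (k * t * k⁻¹) * (k * b * k⁻¹) := by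
    intro k
    refine ⟨?_, ?_⟩
    · rw [← hb]
      exact (MulAut.conj k).orderOf_eq b
    · calc (k * b * k⁻¹) * (k * t * k⁻¹) = k * (b * t) * k⁻¹ := by group
        _ = k * (t * b) * k⁻¹ := by rw [hbt]
        _ = _ := by group
  rcases classes S hF hR ht ht1 with ⟨u, hu, k, hk⟩ | ⟨s, hs, k, hk⟩
  · obtain ⟨h1, h2⟩ := hconj (S.rot * (S.rot * k))
    have e1 : S.rot * (S.rot * k) * t * (S.rot * (S.rot * k))⁻¹ = S.e 2 0 u := by
      calc S.rot * (S.rot * k) * t * (S.rot * (S.rot * k))⁻¹ = S.rot * (S.rot * (k * t * k⁻¹) * S.rot⁻¹) * S.rot⁻¹ := by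
            group
        _ = S.e 2 0 u := by rw [hk, S.rot_e, S.rot_e]; rfl
    rw [e1] at h2
    have hz1 : S.e 2 0 u ≠ 1 := fun h => hu (S.e_eq_one h).2
    have hPL : S.rot * (S.rot * k) * b * (S.rot * (S.rot * k))⁻¹ ∈ S.PL := by
      rw [← S.centralizer_z (z := S.e 2 0 u) ⟨u, rfl⟩ hz1, Subgroup.mem_centralizer_singleton_iff]
      exact h2
    exact movA_PL S hR hr hr2 h1 hPL
  · obtain ⟨h1, h2⟩ := hconj (S.rot * (S.rot * k))
    have e1 : S.rot * (S.rot * k) * t * (S.rot * (S.rot * k))⁻¹ = S.o 2 s := by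
      calc S.rot * (S.rot * k) * t * (S.rot * (S.rot * k))⁻¹ = S.rot * (S.rot * (k * t * k⁻¹) * S.rot⁻¹) * S.rot⁻¹ := by
            group
        _ = S.o 2 s := by rw [hk, S.rot_o, S.rot_o]; rfl
    rw [e1] at h2
    have hHO : S.rot * (S.rot * k) * b * (S.rot * (S.rot * k))⁻¹ ∈ S.HO := by
      rw [← S.centralizer_o hs, Subgroup.mem_centralizer_singleton_iff]
      exact h2
    exact movA_HO S hR hr hr2 h1 hHO

end full

/-- **Moved primes of `²F₄(q)`.** -/
theorem movA_tf4 {v f : ℕ} {S : Type u} [Group S] (h : Fam.Is v f S .tf4) {x : ℕ} (hx : x.Prime) (hx2 : x ≠ 2)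
    (hg : ∃ g : S, orderOf g = x * 2) : MovA S v x := by
  classical
  obtain ⟨rfl, m, hm, rfl, K, _, _, hK, ⟨e⟩⟩ := h
  obtain ⟨φ, hφ⟩ := Cfsg.Agent.ChevalleyStructure.TwF4.TwistedFix.exists_rln hK
  have := Cfsg.Agent.ChevalleyStructure.TwF4.Twisted.charP_two hK
  have h8 : 2 < Fintype.card K := by
    rw [hK]
    calc 2 < 2 ^ 3 := by norm_num
      _ ≤ 2 ^ (2 * m + 1) := Nat.pow_le_pow_right (by norm_num) (by omega)
  obtain ⟨c, hc'⟩ : ∃ c : K, c ∉ ({0, 1} : Finset K) := by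
    by_contra hcon
    push Not at hcon
    have h1 : (Finset.univ : Finset K) ⊆ {0, 1} := fun x _ => hcon x
    have h2 := Finset.card_le_card h1
    have h3 : ({0, 1} : Finset K).card ≤ 2 := Finset.card_le_two
    rw [Finset.card_univ] at h2
    omega
  simp only [Finset.mem_insert, Finset.mem_singleton, not_or] at hc'
  have hU : ∃ c : Kˣ, c ≠ 1 := ⟨Units.mk0 c hc'.1, fun h => hc'.2 (congrArg Units.val h)⟩
  have hfin : Finite ↥(Lie.twistedF4 K (2 ^ m)) := inferInstance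
  refine (MovA.congr e).2 ?_
  obtain ⟨g, hg⟩ := hg
  set y : ↥(Lie.twistedF4 K (2 ^ m)) := e g with hy
  have hyo : orderOf y = x * 2 := by rw [hy, MulEquiv.orderOf_eq, hg]
  have h1 : orderOf (y ^ 2) = x := by
    rw [orderOf_pow_of_dvd (by norm_num) (by rw [hyo]; exact dvd_mul_left _ _), hyo]
    exact Nat.mul_div_cancel _ (by norm_num)
  have h2 : orderOf (y ^ x) = 2 := by
    rw [orderOf_pow_of_dvd hx.ne_zero (by rw [hyo]; exact dvd_mul_right _ _), hyo]
    exact Nat.mul_div_cancel_left _ hx.pos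
  have h3 : y ^ x * y ^ x = 1 := by
    have := pow_orderOf_eq_one (y ^ x)
    rwa [h2, pow_two] at this
  have h4 : y ^ x ≠ 1 := by
    intro h0
    rw [h0, orderOf_one] at h2
    exact absurd h2 (by norm_num)
  exact movA_full (Cfsg.Agent.KFacts.TwF4.Inst.full hK hφ) hU rfl h3 h4 hx hx2 h1 (by rw [← pow_add, ← pow_add, add_comm])

end Cfsg.Agent.R2.Spec.F1
end

-- part: R2/Spec/F1/ExcTF4
section
/-!
# Primes of the radical and primes adjacent to the characteristic, all exceptional families (helper26)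

`ExFrm.kadj_all` : `r ∣ |K|`, `r ≠ v`, `x ≥ 5` adjacent to `v` in `S`: `G` has elements of order `r x`.
-/

set_option autoImplicit false
set_option linter.unusedSectionVars false
set_option linter.unusedVariables false

namespace Cfsg.Agent.R2.Spec.F1

open Subgroup Cfsg
open Cfsg.Agent.H426.LieFam Cfsg.Agent.R2.Spec Cfsg.Agent.R2.Spec.P1

universe u w

variable {G : Type u} [Group G] [Finite G] {K : Subgroup G} [K.Normal] {S : Subgroup (G ⧸ K)} [S.Normal] {t' : Fam}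
  {v f' : ℕ}

/-- **Primes of the radical and primes adjacent to the characteristic, `²F₄`.** -/
theorem ExFrm.kadj_tf4 (h : ExFrm G K S .tf4 v f') {r x : ℕ} (hr : r.Prime) (hrK : r ∣ Nat.card K)
    (hrv : r ≠ v) (hx : x.Prime) (hx2 : x ≠ 2) (hxr : x ≠ r) (hg : ∃ g : S, orderOf g = x * v) :
    ∃ g : G, orderOf g = r * x := by
  obtain ⟨rfl, -⟩ := id h.is
  exact h.kadj hr hrK hrv hx hx2 hx2 hxr (movA_tf4 h.is hx hx2 hg).movW

/-- **Primes of the radical and primes adjacent to the characteristic.** -/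
theorem ExFrm.kadj_all (h : ExFrm G K S t' v f') {r x : ℕ} (hr : r.Prime) (hrK : r ∣ Nat.card K)
    (hrv : r ≠ v) (hx : x.Prime) (hx5 : 5 ≤ x) (hxv : x ≠ v) (hxr : x ≠ r) (hg : ∃ g : S, orderOf g = x * v) :
    ∃ g : G, orderOf g = r * x := by
  by_cases htf : t' = .tf4
  · subst htf
    exact h.kadj_tf4 hr hrK hrv hx (by omega) hxr hg
  · exact h.kadj_adj htf hr hrK hrv hx hx5 hxv hxr hg

end Cfsg.Agent.R2.Spec.F1
end
end

-- part: R2/Spec/EE/SokG2
section
set_option linter.all false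
open scoped Cfsg.Agent.FastGrp

/-!
# The table of `G₂(q)` (helper1)
-/

set_option autoImplicit false

namespace Cfsg.Agent.R2.Spec.EE

open Cfsg Cfsg.Lie Cfsg.Agent.H426.LieFam
open Cfsg.Agent.H378.ExcAdj Cfsg.Agent.H371.CycEval Cfsg.Agent.H371.Core
open Cfsg.Agent.H168

universe u w

theorem sok_g2X {F : Type w} [Field F] [Finite F] {v f : ℕ} (hv : v.Prime) (hf : f ≠ 0) (hF : Nat.card F = v ^ f) :
    SOk tabG2 ↥(chevG2.group F) v (kcl clG2 (v ^ f)) := by
  rw [← hF]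
  have hvq : v ∣ Nat.card F := hF ▸ dvd_pow_self v hf
  have cls : ∀ r : ℕ, r.Prime → r ≠ v → r ∣ Nat.card ↥(chevG2.group F) →
      od (Nat.card F) r = 1 ∨ od (Nat.card F) r = 2 ∨ od (Nat.card F) r = 3 ∨ od (Nat.card F) r = 6 := by
    intro r hr hne hd
    rcases od_G2 hr hd with h | h
    · rw [hF] at h
      exact (hne (Sm.eq_of_dvd_pow hv hr h)).elim
    · exact h
  have t3 := tor_G2_3 F
  have t6 := tor_G2_6 F
  constructor
  · intro r hr _ hne hd
    rcases cls r hr hne hd with ha | ha | ha | ha <;> rw [Sm.kcl_eq ha] <;> decide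
  · intro r s hr hs _ _ hne hne' hrs hd hd' ht
    have g11 : od (Nat.card F) r = 1 → od (Nat.card F) s = 1 → ∃ g : ↥(chevG2.group F), orderOf g = r * s :=
      fun ha hb => (ExcG2.rel1 hr hs hrs (Sm.p1 hr ha) (Sm.p1 hs hb)).2.2.2
    have g12 : od (Nat.card F) r = 1 → od (Nat.card F) s = 2 → ∃ g : ↥(chevG2.group F), orderOf g = r * s :=
      fun ha hb => (ExcG2.rel_1_2 hr hs hrs (Sm.p1 hr ha) (Sm.p2 hs hb)).2.2.2
    have g21 : od (Nat.card F) r = 2 → od (Nat.card F) s = 1 → ∃ g : ↥(chevG2.group F), orderOf g = r * s :=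
      fun ha hb => (ExcG2.rel_1_2 hs hr hrs.symm (Sm.p1 hs hb) (Sm.p2 hr ha)).symm.2.2.2
    have g22 : od (Nat.card F) r = 2 → od (Nat.card F) s = 2 → ∃ g : ↥(chevG2.group F), orderOf g = r * s :=
      fun ha hb => (ExcG2.rel2 hr hs hrs (Sm.p2 hr ha) (Sm.p2 hs hb)).2.2.2
    have g33 : od (Nat.card F) r = 3 → od (Nat.card F) s = 3 → ∃ g : ↥(chevG2.group F), orderOf g = r * s :=
      fun ha hb => (ExcG2.rel3 hr hs hrs (Sm.p3 hr ha) (Sm.p3 hs hb)).2.2.2
    have g66 : od (Nat.card F) r = 6 → od (Nat.card F) s = 6 → ∃ g : ↥(chevG2.group F), orderOf g = r * s :=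
      fun ha hb => (ExcG2.rel6 hr hs hrs (Sm.p6 hr ha) (Sm.p6 hs hb)).2.2.2
    rcases cls r hr hne hd with ha | ha | ha | ha <;> rcases cls s hs hne' hd' with hb | hb | hb | hb <;>
      rw [Sm.kcl_eq ha, Sm.kcl_eq hb] at ht <;>
      first
      | exact absurd ht (by decide)
      | exact g11 ha hb
      | exact g12 ha hb
      | exact g21 ha hb
      | exact g22 ha hb
      | exact g33 ha hb
      | exact g66 ha hb
  · intro r s hr hs hr5 hs5 hne hne' hrs hd hd' ht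
    have g3 : od (Nat.card F) r = 3 → od (Nat.card F) s ≠ 3 → ¬ ∃ g : ↥(chevG2.group F), orderOf g = r * s :=
      fun ha hb => Sm.na_of_tor t3 hr hs ha (Sm.ndvd hs hs5 (by tauto)) hb
    have g6 : od (Nat.card F) r = 6 → od (Nat.card F) s ≠ 6 → ¬ ∃ g : ↥(chevG2.group F), orderOf g = r * s :=
      fun ha hb => Sm.na_of_tor t6 hr hs ha (Sm.ndvd hs hs5 (by tauto)) hb
    have g3' : od (Nat.card F) s = 3 → od (Nat.card F) r ≠ 3 → ¬ ∃ g : ↥(chevG2.group F), orderOf g = r * s :=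
      fun ha hb => Sm.swap (Sm.na_of_tor t3 hs hr ha (Sm.ndvd hr hr5 (by tauto)) hb)
    have g6' : od (Nat.card F) s = 6 → od (Nat.card F) r ≠ 6 → ¬ ∃ g : ↥(chevG2.group F), orderOf g = r * s :=
      fun ha hb => Sm.swap (Sm.na_of_tor t6 hs hr ha (Sm.ndvd hr hr5 (by tauto)) hb)
    rcases cls r hr hne hd with ha | ha | ha | ha <;> rcases cls s hs hne' hd' with hb | hb | hb | hb <;>
      rw [Sm.kcl_eq ha, Sm.kcl_eq hb] at ht <;>
      first
      | exact absurd ht (by decide)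
      | exact g3 ha (by rw [hb]; decide)
      | exact g6 ha (by rw [hb]; decide)
      | exact g3' hb (by rw [ha]; decide)
      | exact g6' hb (by rw [ha]; decide)
  · intro r hr _ hne hd ht
    rcases cls r hr hne hd with ha | ha | ha | ha <;> rw [Sm.kcl_eq ha] at ht <;>
      first
      | exact absurd ht (by decide)
      | exact Sm.tt_of_tor t3 hr hv hvq ha (by norm_num)
      | exact Sm.tt_of_tor t6 hr hv hvq ha (by norm_num)
  · intro r hr _ hne hd ht
    rcases cls r hr hne hd with ha | ha | ha | ha <;> rw [Sm.kcl_eq ha] at ht <;>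
      first
      | exact absurd ht (by decide)
      | exact (CertSm.rel_G_1_p hr hv (Sm.p1 hr ha).2 hvq).2.2.2
      | exact (CertSm.rel_G_2_p hr hv (Sm.p2 hr ha).2 hvq).2.2.2

/-- **`G₂(q)`** -/
theorem sok_g2 {S : Type u} [Group S] [Finite S] {v f : ℕ} (hv : v.Prime) (h : Fam.Is v f S .g2) :
    SOk tabG2 S v (kcl clG2 (v ^ f)) := by
  obtain ⟨h3, F, _, _, _, hF, ⟨e⟩⟩ := h
  have hf : f ≠ 0 := by rintro rfl; norm_num at h3
  exact Sm.of_equiv e (sok_g2X hv hf (by rw [Nat.card_eq_fintype_card, hF]))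

end Cfsg.Agent.R2.Spec.EE
end
end
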