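import Cfsg.Agent.R2.Spec.EE.SokBase_m3
import Cfsg.Agent.R2.Spec.X6.MovTwo_m3
import Cfsg.Agent.R2.Spec.EE.CertSm_m3
import Cfsg.Agent.H378.RegE7
import Cfsg.Agent.H378.OmE6
import Cfsg.Agent.H482.TwoCyc.Num
import Cfsg.Agent.H378.TwAdj
import Cfsg.Agent.H378.TwRows
import Cfsg.Agent.H378.OmTE6
import Cfsg.Agent.H493.EigFast
import Cfsg.Agent.R2.Spec.EE.RowN_m3
import Cfsg.Agent.Prune
set_option linter.all false

section
prune_inst 0x7ff3fffddfbeabffffff7e7ffeddfffe1bd0dfffefdfff4bffecf3ff2f9f23921be5fb8f9de078ff1ff6e2b430b87813fbffffffef6ffc7ffffdfff45ffbee5fe5ffbf8d31d7bc241f766ff79bf07fce7f3fffffffffffffffffffffffffffbeffffffffffff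

-- part: R2/Spec/EE/SokE8
section
prune_inst 0xc0000200150000000000001200001c42f2000100000b000020c009060d808e4080020620a800020010c4308450344000000000000010000020003000411a01a000010002803dac00100086001000000000000000000000000000000000000000000000000
set_option linter.all false
open scoped Cfsg.Agent.FastGrp

/-!
# The table of `E₈(q)` (helper11)
-/

set_option autoImplicit false

namespace Cfsg.Agent.R2.Spec.EE

open Cfsg Cfsg.Lie Polynomial
open Cfsg.Agent.H426.LieFam Cfsg.Agent.H493 Cfsg.Agent.H482.TwoCyc.Untw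

universe u

namespace Sok

open H493.PGCyc in
/-- the value of the cyclotomic polynomial -/
theorem cyc_dvd {q r : ℕ} (hr : r.Prime) {a : ℕ} (ha : a ∈ clE8) (h : orderOf (q : ZMod r) = a) :
    (r : ℤ) ∣ CertTab.cyc a (q : ℤ) := by
  simp only [clE8, List.mem_cons, List.not_mem_nil, or_false] at ha
  rcases ha with rfl | rfl | rfl | rfl | rfl | rfl | rfl | rfl | rfl | rfl | rfl | rfl | rfl | rfl | rfl | rfl | rfl
  · have h1 := H378.CycTab.dvd1 h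
    rw [H378.CycTab.pv1] at h1
    rw [CertTab.cyc, pv_c1]; exact h1
  · have h1 := H378.CycTab.dvd2 hr h
    rw [H378.CycTab.pv2] at h1
    rw [CertTab.cyc, pv_c2]; exact h1
  · have h1 := H378.CycTab.dvd3 hr h
    rw [H378.CycTab.pv3] at h1
    rw [CertTab.cyc, pv_c3]; exact h1
  · have h1 := H378.CycTab.dvd4 hr h
    rw [H378.CycTab.pv4] at h1
    rw [CertTab.cyc, pv_c4]; exact h1
  · have h1 := H378.CycTab.dvd5 hr h
    rw [H378.CycTab.pv5] at h1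
    rw [CertTab.cyc, pv_c5]; exact h1
  · have h1 := H378.CycTab.dvd6 hr h
    rw [H378.CycTab.pv6] at h1
    rw [CertTab.cyc, pv_c6]; exact h1
  · have h1 := H378.CycTab.dvd7 hr h
    rw [H378.CycTab.pv7] at h1
    rw [CertTab.cyc, pv_c7]; exact h1
  · have h1 := H378.CycTab.dvd8 hr h
    rw [H378.CycTab.pv8] at h1
    rw [CertTab.cyc, pv_c8]; exact h1
  · have h1 := H378.CycTab.dvd9 hr h
    rw [H378.CycTab.pv9] at h1
    rw [CertTab.cyc, pv_c9]; exact h1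
  · have h1 := H378.CycTab.dvd10 hr h
    rw [H378.CycTab.pv10] at h1
    rw [CertTab.cyc, pv_c10]; exact h1
  · have h1 := H378.CycTab.dvd12 hr h
    rw [H378.CycTab.pv12] at h1
    rw [CertTab.cyc, pv_c12]; exact h1
  · rw [CertTab.cyc, pv_c14]
    exact H378.CycTab.of_factor hr h (a := 7) (b := 2) (c := 1) (by decide) (by decide) (by decide)
      (⟨1, by ring⟩) (⟨(q : ℤ) - 1, by ring⟩) (one_dvd _)
      (show _ = ((q : ℤ) ^ 7 - 1) * ((q : ℤ) + 1) * (1) * _ by ring)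
  · rw [CertTab.cyc, pv_c15]
    exact H378.CycTab.of_factor hr h (a := 5) (b := 3) (c := 1) (by decide) (by decide) (by decide)
      (⟨1, by ring⟩) (⟨(q : ℤ) - 1, by ring⟩) (one_dvd _)
      (show _ = ((q : ℤ) ^ 5 - 1) * ((q : ℤ) ^ 2 + q + 1) * (1) * _ by ring)
  · rw [CertTab.cyc, pv_c18]
    exact H378.CycTab.of_factor hr h (a := 9) (b := 6) (c := 1) (by decide) (by decide) (by decide)
      (⟨1, by ring⟩) (⟨(q : ℤ) ^ 3 - 1, by ring⟩) (one_dvd _)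
      (show _ = ((q : ℤ) ^ 9 - 1) * ((q : ℤ) ^ 3 + 1) * (1) * _ by ring)
  · rw [CertTab.cyc, pv_c20]
    exact H378.CycTab.of_factor hr h (a := 10) (b := 4) (c := 1) (by decide) (by decide) (by decide)
      (⟨1, by ring⟩) (⟨(q : ℤ) ^ 2 - 1, by ring⟩) (one_dvd _)
      (show _ = ((q : ℤ) ^ 10 - 1) * ((q : ℤ) ^ 2 + 1) * (1) * _ by ring)
  · rw [CertTab.cyc, pv_c24]
    exact H378.CycTab.of_factor hr h (a := 12) (b := 8) (c := 1) (by decide) (by decide) (by decide)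
      (⟨1, by ring⟩) (⟨(q : ℤ) ^ 4 - 1, by ring⟩) (one_dvd _)
      (show _ = ((q : ℤ) ^ 12 - 1) * ((q : ℤ) ^ 4 + 1) * (1) * _ by ring)
  · rw [CertTab.cyc, pv_c30]
    exact H378.CycTab.of_factor hr h (a := 15) (b := 10) (c := 6) (by decide) (by decide) (by decide)
      (⟨1, by ring⟩) (⟨(q : ℤ) ^ 5 - 1, by ring⟩) (⟨((q : ℤ) ^ 2 - 1) * ((q : ℤ) ^ 2 + q + 1), by ring⟩)
      (show _ = ((q : ℤ) ^ 15 - 1) * ((q : ℤ) ^ 5 + 1) * ((q : ℤ) ^ 2 - q + 1) * _ by ring)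

/-- the orders, class 17 : 4 -/
def cl8 : List ℕ := [1, 2, 3, 4, 5, 6, 7, 8, 9, 10, 12, 14, 15, 18, 20, 24, 30, 4]

/-- the primes of the class `i` -/
def C8 (q i r : ℕ) : Prop := orderOf ((q : ℕ) : ZMod r) = cl8.getD i 0 ∧ (i = 3 → r ≠ 5) ∧ (i = 17 → r = 5)

/-- the possible indices for the class `i` -/
def poss8 (i : ℕ) : List ℕ :=
  if i = 0 then [1, 5, 7] else if i = 1 then [2, 10, 14] else if i = 17 then [4, 20] else [cl8.getD i 0]

/-- the indices `n` with `φ(n) ≤ 8` -/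
theorem cyc_small {q r n a : ℕ} (hr : r.Prime) (h5 : 5 ≤ r) (hn : 0 < n) (hφ : n.totient ≤ 8)
    (h : (r : ℤ) ∣ (cyclotomic n ℤ).eval (q : ℤ)) (ha : orderOf (q : ZMod r) = a) :
    n = a ∨ (r = 5 ∧ n = 5 * a ∧ (a = 1 ∨ a = 2 ∨ a = 4)) ∨ (r = 7 ∧ n = 7 * a ∧ (a = 1 ∨ a = 2)) := by
  obtain ⟨k, hk⟩ := cyc_pow hr hn h
  rw [ha] at hk
  have ha0 : a ≠ 0 := by
    rintro rfl
    rw [mul_zero] at hk
    omega
  rcases Nat.eq_zero_or_pos k with rfl | h0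
  · rw [pow_zero, one_mul] at hk
    exact Or.inl hk
  have hdvd : a ∣ r - 1 := by
    rw [← ha]
    exact od_dvd_sub hr (by rw [ha]; exact ha0)
  have hr1 : 0 < r - 1 := by omega
  have ha1 : 1 ≤ a := by omega
  have hle := Nat.le_of_dvd hr1 hdvd
  have hcop : (r ^ k).Coprime a := Nat.Coprime.pow_left k ((Nat.Prime.coprime_iff_not_dvd hr).2 fun h =>
    absurd (Nat.le_of_dvd (by omega) h) (by omega))
  rw [hk, Nat.totient_mul hcop, Nat.totient_prime_pow hr h0] at hφ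
  have h2 : 0 < a.totient := Nat.totient_pos.2 (by omega)
  have h4 : 1 ≤ r ^ (k - 1) := Nat.one_le_pow _ _ hr.pos
  have h6 : (r - 1) ≤ 8 := by
    refine le_trans ?_ hφ
    calc r - 1 = 1 * (r - 1) * 1 := by ring
      _ ≤ _ := Nat.mul_le_mul (Nat.mul_le_mul_right _ h4) h2
  have hr57 : r = 5 ∨ r = 7 := by
    have h7 : r ≤ 9 := by omega
    interval_cases r
    · exact Or.inl rfl
    · exact absurd hr (by norm_num)
    · exact Or.inr rfl
    · exact absurd hr (by norm_num)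
    · exact absurd hr (by norm_num)
  have hk1 : k = 1 := by
    by_contra hk1
    have h9 : r ^ 1 ≤ r ^ (k - 1) := Nat.pow_le_pow_right hr.pos (by omega)
    rw [pow_one] at h9
    have h10 : 5 * 4 ≤ r ^ (k - 1) * (r - 1) := Nat.mul_le_mul (h5.trans h9) (by omega)
    have h11 : r ^ (k - 1) * (r - 1) * 1 ≤ r ^ (k - 1) * (r - 1) * a.totient := Nat.mul_le_mul_left _ h2
    omega
  subst hk1
  rw [pow_one] at hk
  rw [Nat.sub_self, pow_zero, one_mul] at hφ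
  rcases hr57 with rfl | rfl
  · right; left
    refine ⟨rfl, hk, ?_⟩
    have h8 : a ≤ 4 := by omega
    interval_cases a
    · exact Or.inl rfl
    · exact Or.inr (Or.inl rfl)
    · exact absurd hdvd (by decide)
    · exact Or.inr (Or.inr rfl)
  · right; right
    refine ⟨rfl, hk, ?_⟩
    have h8 : a ≤ 6 := by omega
    interval_cases a
    · exact Or.inl rfl
    · exact Or.inr rfl
    · exact absurd hφ (by decide)
    · exact absurd hdvd (by decide)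
    · exact absurd hdvd (by decide)
    · exact absurd hφ (by decide)

theorem idx8 : ∀ i < 18, (cl8.getD i 0 = 1 → i = 0) ∧ (cl8.getD i 0 = 2 → i = 1) ∧
    (cl8.getD i 0 = 4 → i = 3 ∨ i = 17) := by decide +kernel

theorem self8 : ∀ i < 18, cl8.getD i 0 ∈ poss8 i := by decide +kernel

theorem mem_poss8 {q r n i : ℕ} (hr : r.Prime) (h5 : 5 ≤ r) (hn : 0 < n) (hφ : n.totient ≤ 8)
    (h : (r : ℤ) ∣ (cyclotomic n ℤ).eval (q : ℤ)) (hi : i < 18) (ha : C8 q i r) : n ∈ poss8 i := by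
  obtain ⟨ha, hb, -⟩ := ha
  obtain ⟨j1, j2, j3⟩ := idx8 i hi
  rcases cyc_small hr h5 hn hφ h ha with h1 | ⟨h1, h2, h3⟩ | ⟨-, h2, h3⟩
  · rw [h1]
    exact self8 i hi
  · rcases h3 with h3 | h3 | h3
    · rw [h2, h3, j1 h3]; decide
    · rw [h2, h3, j2 h3]; decide
    · rcases j3 h3 with h4 | h4
      · exact absurd h1 (hb h4)
      · rw [h2, h3, h4]; decide
  · rcases h3 with h3 | h3
    · rw [h2, h3, j1 h3]; decide
    · rw [h2, h3, j2 h3]; decide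

/-- no index for both -/
def no8 (i j : ℕ) : Bool := (poss8 i).all fun n => (poss8 j).all fun m => n != m && Nat.blt 8 (n.totient + m.totient)

/-- the order is prime to the characteristic -/
theorem ords_ne {G : Type*} [Group G] {q v f l N J2 J3 : ℕ} {x : G} (hv : v.Prime) (hq : q = v ^ f)
    (h : Ords q l N J2 J3 x) {r s : ℕ} (hr : r.Prime) (hs : s.Prime) (hrv : r ≠ v) (hsv : s ≠ v)
    (hx : orderOf x = r * s) : ∃ S : Finset ℕ, (∀ n ∈ S, 0 < n) ∧ ∑ n ∈ S, Nat.totient n ≤ l ∧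
      ((r * s : ℕ) : ℤ) ∣ (∏ n ∈ S, cyclotomic n ℤ).eval (q : ℤ) := by
  obtain ⟨p, e, m, j, hp, he, hqe, ho, -, -, -, -, h1, -⟩ := h
  have hpv : p = v := by
    have h2 : p ∣ v ^ f := by rw [← hq, hqe]; exact dvd_pow_self p he.ne'
    exact (Nat.prime_dvd_prime_iff_eq hp hv).1 (hp.dvd_of_dvd_pow h2)
  subst hpv
  have hj : j = 0 := by
    by_contra hj
    have h2 : p ∣ r * s := by
      rw [← hx, ho]
      exact (dvd_pow_self p hj).mul_left m
    rcases hp.dvd_mul.1 h2 with h3 | h3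
    · exact hrv ((Nat.prime_dvd_prime_iff_eq hp hr).1 h3).symm
    · exact hsv ((Nat.prime_dvd_prime_iff_eq hp hs).1 h3).symm
  rw [hj, pow_zero, mul_one, hx] at ho
  rw [← ho] at h1
  exact h1

/-- the order is divisible by the characteristic -/
theorem ords_v {G : Type*} [Group G] {q v f l N J2 J3 : ℕ} {x : G} (hv : v.Prime) (hq : q = v ^ f)
    (h : Ords q l N J2 J3 x) {r : ℕ} (hr : r.Prime) (hrv : r ≠ v) (hx : orderOf x = r * v) :
    ∃ d c : ℕ, 1 ≤ d ∧ 0 < c ∧ c ^ 2 ≤ N ^ d ∧ (d = 1 → c = 1) ∧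
      ∃ S : Finset ℕ, (∀ n ∈ S, 0 < n) ∧ ∑ n ∈ S, Nat.totient n + d ≤ l ∧
        (r : ℤ) ∣ c * (∏ n ∈ S, cyclotomic n ℤ).eval (q : ℤ) := by
  obtain ⟨p, e, m, j, hp, he, hqe, ho, -, hmp, -, -, -, h1⟩ := h
  have hpv : p = v := by
    have h2 : p ∣ v ^ f := by rw [← hq, hqe]; exact dvd_pow_self p he.ne'
    exact (Nat.prime_dvd_prime_iff_eq hp hv).1 (hp.dvd_of_dvd_pow h2)
  subst hpv
  have hj : j ≠ 0 := by
    rintro rfl
    rw [pow_zero, mul_one, hx] at ho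
    have h2 : p ∣ m := by rw [← ho]; exact dvd_mul_left _ _
    exact (Nat.Prime.coprime_iff_not_dvd hp).1 hmp.symm h2
  have hrm : r ∣ m := by
    have h2 : r ∣ m * p ^ j := by rw [← ho, hx]; exact dvd_mul_right _ _
    rcases hr.dvd_mul.1 h2 with h3 | h3
    · exact h3
    · exact absurd ((Nat.prime_dvd_prime_iff_eq hr hp).1 (hr.dvd_of_dvd_pow h3)) hrv
  obtain ⟨d, c, h2, h3, h4, h5, S, h6, h7, h8⟩ := h1 hj
  exact ⟨d, c, h2, h3, h4, h5, S, h6, h7, (Int.natCast_dvd_natCast.2 hrm).trans h8⟩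

/-- a factor of the product -/
theorem exists_factor {q r : ℕ} (hr : r.Prime) {S : Finset ℕ}
    (h : (r : ℤ) ∣ (∏ n ∈ S, cyclotomic n ℤ).eval (q : ℤ)) : ∃ n ∈ S, (r : ℤ) ∣ (cyclotomic n ℤ).eval (q : ℤ) := by
  rw [eval_prod] at h
  exact (Nat.prime_iff_prime_int.1 hr).exists_mem_finset_dvd h

/-- two classes -/
theorem na8 {q r s i j : ℕ} (hr : r.Prime) (hs : s.Prime) (hr5 : 5 ≤ r) (hs5 : 5 ≤ s) (hi : i < 18) (hj : j < 18)
    (ha : C8 q i r) (hb : C8 q j s) (hno : no8 i j = true) {S : Finset ℕ}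
    (h0 : ∀ n ∈ S, 0 < n) (h1 : ∑ n ∈ S, Nat.totient n ≤ 8)
    (h2 : ((r * s : ℕ) : ℤ) ∣ (∏ n ∈ S, cyclotomic n ℤ).eval (q : ℤ)) : False := by
  have hle : ∀ n ∈ S, n.totient ≤ 8 := fun n hn => (Finset.single_le_sum (fun _ _ => Nat.zero_le _) hn).trans h1
  obtain ⟨n, hn, h3⟩ := exists_factor hr ((Int.natCast_dvd_natCast.2 (dvd_mul_right r s)).trans h2)
  obtain ⟨m, hm, h4⟩ := exists_factor hs ((Int.natCast_dvd_natCast.2 (dvd_mul_left s r)).trans h2)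
  have h5 := mem_poss8 hr hr5 (h0 _ hn) (hle _ hn) h3 hi ha
  have h6 := mem_poss8 hs hs5 (h0 _ hm) (hle _ hm) h4 hj hb
  rw [no8, List.all_eq_true] at hno
  have h7 := hno n h5
  rw [List.all_eq_true] at h7
  have h8 := h7 m h6
  rw [Bool.and_eq_true, bne_iff_ne, Nat.blt_eq] at h8
  have h9 : n.totient + m.totient ≤ 8 := by
    rw [← Finset.sum_pair (f := Nat.totient) h8.1]
    refine (Finset.sum_le_sum_of_subset ?_).trans h1
    intro x hx
    rw [Finset.mem_insert, Finset.mem_singleton] at hx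
    rcases hx with rfl | rfl
    · exact hn
    · exact hm
  omega

theorem mem8 : ∀ i < 18, cl8.getD i 0 ∈ clE8 := by decide +kernel

theorem all_two {n : ℕ} {A B : ℕ → ℕ → Bool} (h : (List.range n).all (fun i => (List.range n).all fun j => !(A i j) || B i j) = true)
    {i j : ℕ} (hi : i < n) (hj : j < n) (hA : A i j = true) : B i j = true := by
  rw [List.all_eq_true] at h
  have h1 := h i (List.mem_range.2 hi)
  rw [List.all_eq_true] at h1
  have h2 := h1 j (List.mem_range.2 hj)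
  rw [hA, Bool.not_true, Bool.false_or] at h2
  exact h2

theorem adj8 (i : ℕ) (hi : i < 18) (j : ℕ) (hj : j < 18) (h : (tabE8.adj.getD i 0).testBit j = true) :
    (cl8.getD i 0, cl8.getD j 0) ∈ CertTab.L8 ∨ (cl8.getD j 0, cl8.getD i 0) ∈ CertTab.L8 := by
  have h1 : (List.range 18).all (fun i => (List.range 18).all fun j => !((tabE8.adj.getD i 0).testBit j) ||
      (CertTab.L8.contains (cl8.getD i 0, cl8.getD j 0) || CertTab.L8.contains (cl8.getD j 0, cl8.getD i 0))) = true := by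
    decide +kernel
  have h2 := all_two (A := fun i j => (tabE8.adj.getD i 0).testBit j) (B := fun i j =>
    (CertTab.L8.contains (cl8.getD i 0, cl8.getD j 0) || CertTab.L8.contains (cl8.getD j 0, cl8.getD i 0))) h1 hi hj h
  simpa only [Bool.or_eq_true, List.contains_iff_mem] using h2

theorem nab8 (i : ℕ) (hi : i < 18) (j : ℕ) (hj : j < 18) (h : (tabE8.na.getD i 0).testBit j = true) :
    ((cl8.getD i 0, cl8.getD j 0) ∈ O2.pairs ∨ (cl8.getD j 0, cl8.getD i 0) ∈ O2.pairs) ∨ no8 i j = true := by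
  have h1 : (List.range 18).all (fun i => (List.range 18).all fun j => !((tabE8.na.getD i 0).testBit j) ||
      ((O2.pairs.contains (cl8.getD i 0, cl8.getD j 0) || O2.pairs.contains (cl8.getD j 0, cl8.getD i 0)) ||
        no8 i j)) = true := by
    decide +kernel
  have h2 := all_two (A := fun i j => (tabE8.na.getD i 0).testBit j) (B := fun i j =>
    ((O2.pairs.contains (cl8.getD i 0, cl8.getD j 0) || O2.pairs.contains (cl8.getD j 0, cl8.getD i 0)) ||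
      no8 i j)) h1 hi hj h
  simpa only [Bool.or_eq_true, List.contains_iff_mem] using h2

theorem tt8 : ∀ i < 18, tabE8.tt.testBit i = true → 15 ≤ cl8.getD i 0 ∧ ∀ n ∈ poss8 i, 7 < n.totient := by
  decide +kernel

theorem nt8 : ∀ i < 18, tabE8.nt.testBit i = true → cl8.getD i 0 ∈ CertTab.P8 := by decide +kernel

/-- the classes are correct -/
theorem kE8_spec {q r : ℕ} (h : orderOf ((q : ℕ) : ZMod r) ∈ clE8) : kE8 q r < 18 ∧ C8 q (kE8 q r) r := by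
  rw [kE8]
  split_ifs with h1
  · exact ⟨by norm_num, h1.2, by norm_num, fun _ => h1.1⟩
  · have h2 := List.idxOf_lt_length_of_mem h
    have h3 : clE8.length = 17 := by decide
    rw [h3] at h2
    have h4 : cl8.getD (kcl clE8 q r) 0 = orderOf ((q : ℕ) : ZMod r) := by
      have h5 : ∀ a ∈ clE8, cl8.getD (clE8.idxOf a) 0 = a := by decide +kernel
      exact h5 _ h
    refine ⟨h2.trans (by norm_num), h4.symm, fun h5 h6 => h1 ⟨h6, ?_⟩, fun h5 => absurd h5 (ne_of_lt h2)⟩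
    rw [← h4, h5]
    decide

end Sok

open Sok

theorem sok_e8 {S : Type u} [Group S] [Finite S] {v f : ℕ} (hv : v.Prime) (h : Fam.Is v f S .e8) :
    SOk tabE8 S v (kE8 (v ^ f)) := by
  obtain ⟨F, _, _, _, hc, ⟨e⟩⟩ := h
  have hq : Nat.card F = v ^ f := by rw [Nat.card_eq_fintype_card, hc]
  have hf : f ≠ 0 := by
    rintro rfl
    have h1 : 1 < Nat.card F := Finite.one_lt_card
    rw [hq, pow_zero] at h1
    omega
  refine SOk.congr e ?_
  rw [← hq]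
  refine sok_of (C8 (Nat.card F)) ?_ ?_ ?_ ?_ ?_
  · intro r hr h5 hrv hd
    apply kE8_spec
    rcases H378.ExcAdj.od_E8 hr hd with h1 | h1
    · rw [hq] at h1
      exact absurd ((Nat.prime_dvd_prime_iff_eq hr hv).1 (hr.dvd_of_dvd_pow h1)) hrv
    · simp only [clE8, List.mem_cons, List.not_mem_nil, or_false]
      exact h1
  · intro i hi j hj hbit r s hr hs hr5 hs5 hrv hsv hrs hoa hob
    exact CertTab.rel8 hr hs hrs (adj8 i hi j hj hbit) (cyc_dvd hr (mem8 i hi) hoa.1) (cyc_dvd hs (mem8 j hj) hob.1)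
  · intro i hi j hj hbit r s hr hs hr5 hs5 hrv hsv hrs hoa hob g hg
    rcases nab8 i hi j hj hbit with h1 | h1
    · exact no_two hr hs hoa.1 hob.1 h1 g hg
    · obtain ⟨S, h2, h3, h4⟩ := ords_ne hv hq (ords_E8 g) hr hs hrv hsv hg
      exact na8 hr hs hr5 hs5 hi hj hoa hob h1 h2 h3 h4
  · intro i hi hbit r hr h5 hrv hoa g hg
    obtain ⟨h15, h16⟩ := tt8 i hi hbit
    obtain ⟨d, c, hd, hc0, hcd, -, S, h2, h3, h4⟩ := ords_v hv hq (ords_E8 g) hr hrv hg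
    have hdvd : cl8.getD i 0 ∣ r - 1 := by
      rw [← hoa.1]
      exact od_dvd_sub hr (by rw [hoa.1]; omega)
    have hle := Nat.le_of_dvd (by omega) hdvd
    have hr17 : 17 ≤ r := by
      rcases Nat.lt_or_ge r 17 with h6 | h6
      · have h7 : r = 16 := by omega
        rw [h7] at hr
        exact absurd hr (by norm_num)
      · exact h6
    rcases (Nat.prime_iff_prime_int.1 hr).dvd_or_dvd h4 with h6 | h6
    · have h7 := Nat.le_of_dvd hc0 (Int.natCast_dvd_natCast.1 h6)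
      have h8 : 2 ^ d ≤ 2 ^ 8 := Nat.pow_le_pow_right (by norm_num) (by omega)
      have h9 : 17 ^ 2 ≤ c ^ 2 := Nat.pow_le_pow_left (hr17.trans h7) 2
      omega
    · obtain ⟨n, hn, h7⟩ := exists_factor hr h6
      have h8 : n.totient ≤ ∑ n ∈ S, n.totient := Finset.single_le_sum (fun _ _ => Nat.zero_le _) hn
      have h9 := mem_poss8 hr h5 (h2 n hn) (by omega) h7 hi hoa
      have h10 := h16 n h9
      omega
  · intro i hi hbit r hr h5 hrv hoa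
    exact CertTab.relp8 hr hv (nt8 i hi hbit) (cyc_dvd hr (mem8 i hi) hoa.1) (by rw [hq]; exact dvd_pow_self v hf)

/-- the special class -/
theorem spe_e8 {S : Type u} [Group S] [Finite S] {v f : ℕ} (hv : v.Prime) (h : Fam.Is v f S .e8) {r : ℕ}
    (hr : r.Prime) (hrv : r ≠ v) (hd : r ∣ Nat.card S) (hb : tabE8.sp.testBit (kE8 (v ^ f) r) = true) : r = 5 := by
  obtain ⟨F, _, _, _, hc, ⟨e⟩⟩ := h
  have hq : Nat.card F = v ^ f := by rw [Nat.card_eq_fintype_card, hc]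
  have h1 : tabE8.sp = 2 ^ 17 := by decide
  rw [h1, Nat.testBit_two_pow, decide_eq_true_iff] at hb
  have h2 : orderOf ((v ^ f : ℕ) : ZMod r) ∈ clE8 := by
    rw [Nat.card_congr e.toEquiv] at hd
    rcases H378.ExcAdj.od_E8 hr hd with h1 | h1
    · rw [hq] at h1
      exact absurd ((Nat.prime_dvd_prime_iff_eq hr hv).1 (hr.dvd_of_dvd_pow h1)) hrv
    · rw [hq] at h1
      simp only [clE8, List.mem_cons, List.not_mem_nil, or_false]
      exact h1
  exact (kE8_spec h2).2.2.2 hb.symm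

end Cfsg.Agent.R2.Spec.EE

private theorem dce_e84b5cebcbdd : _root_.True := by
  try have : _root_.True := by simp only [_root_.Cfsg.Agent.R2.Spec.EE.CertTab.cyc.eq_4]
  try have : _root_.True := by simp only [_root_.Cfsg.Agent.R2.Spec.EE.CertTab.cyc.eq_8]
  try have : _root_.True := by simp only [_root_.Cfsg.Agent.R2.Spec.EE.CertTab.cyc.eq_6]
  try have : _root_.True := by simp only [_root_.Cfsg.Agent.R2.Spec.EE.CertTab.cyc.eq_12]
  try have : _root_.True := by simp only [_root_.Cfsg.Agent.R2.Spec.EE.CertTab.cyc.eq_5]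
  try have : _root_.True := by simp only [_root_.Cfsg.Agent.R2.Spec.EE.CertTab.cyc.eq_2]
  try have : _root_.True := by simp only [_root_.Cfsg.Agent.R2.Spec.EE.Sok.no8.eq_1]
  try have : _root_.True := by simp only [_root_.Cfsg.Agent.R2.Spec.EE.CertTab.cyc.eq_17]
  try have : _root_.True := by simp only [_root_.Cfsg.Agent.R2.Spec.EE.CertTab.cyc.eq_3]
  try have : _root_.True := by simp only [_root_.Cfsg.Agent.R2.Spec.EE.CertTab.cyc.eq_14]
  try have : _root_.True := by simp only [_root_.Cfsg.Agent.R2.Spec.EE.CertTab.cyc.eq_10]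
  try have : _root_.True := by simp only [_root_.Cfsg.Agent.R2.Spec.EE.CertTab.cyc.eq_18]
  try have : _root_.True := by simp only [_root_.Cfsg.Agent.R2.Spec.EE.CertTab.cyc.eq_9]
  try have : _root_.True := by simp only [_root_.Cfsg.Agent.R2.Spec.EE.CertTab.cyc.eq_7]
  try have : _root_.True := by simp only [_root_.Cfsg.Agent.R2.Spec.EE.clE8.eq_1]
  try have : _root_.True := by simp only [_root_.Cfsg.Agent.R2.Spec.EE.CertTab.cyc.eq_15]
  try have : _root_.True := by simp only [_root_.Cfsg.Agent.R2.Spec.EE.CertTab.cyc.eq_13]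
  try have : _root_.True := by simp only [_root_.Cfsg.Agent.R2.Spec.EE.kE8.eq_1]
  try have : _root_.True := by simp only [_root_.Cfsg.Agent.R2.Spec.EE.CertTab.cyc.eq_11]
  try have : _root_.True := by simp only [_root_.Cfsg.Agent.R2.Spec.EE.CertTab.cyc.eq_1]
  try have : _root_.True := by simp only [_root_.Cfsg.Agent.R2.Spec.EE.CertTab.cyc.eq_16]
  exact _root_.True.intro
end

-- part: R2/Spec/EE/SokE6
section
prune_inst 0xc0002204154000000000001200000200700001000000000120c009060900c24080020000080000001040b080104400000000000000000000000030000002012000020400803d0c08800086001000000000000000000000000000000000000000000000000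
set_option linter.all false
open scoped Cfsg.Agent.FastGrp

/-!
# The table of `E₆(q)` (helper11)
-/

set_option autoImplicit false

namespace Cfsg.Agent.R2.Spec.EE

open Cfsg Cfsg.Lie Polynomial
open Cfsg.Agent.H426.LieFam Cfsg.Agent.H493 Cfsg.Agent.H482.TwoCyc

universe u

namespace Sok

section Val

variable {q r : ℕ} (hq : 2 ≤ q) (hr : r.Prime) (h5 : 5 ≤ r)

theorem ndvd {n : ℕ} (hr : r.Prime) (h5 : 5 ≤ r) (h : ∃ a b, n = 2 ^ a * 3 ^ b) : ¬ r ∣ n := by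
  obtain ⟨a, b, rfl⟩ := h
  intro h1
  rcases hr.dvd_mul.1 h1 with h2 | h2
  · have h3 := Nat.le_of_dvd (by norm_num) (hr.dvd_of_dvd_pow h2)
    omega
  · have h3 := Nat.le_of_dvd (by norm_num) (hr.dvd_of_dvd_pow h2)
    omega

include hr h5

theorem e2 (h : r ∣ q + 1) : orderOf (q : ZMod r) = 2 :=
  od_cyc hr (by norm_num) (ndvd hr h5 ⟨1, 0, by norm_num⟩) (by
    rw [Num.v2]
    have h1 := Int.natCast_dvd_natCast.2 h
    push_cast at h1
    exact h1)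

include hq

theorem e3 (h : r ∣ q ^ 2 + q + 1) : orderOf (q : ZMod r) = 3 :=
  od_cyc hr (by norm_num) (ndvd hr h5 ⟨0, 1, by norm_num⟩) (by
    rw [Num.v3 q hq]
    have h1 := Int.natCast_dvd_natCast.2 h
    push_cast at h1
    exact h1)

theorem e6 (h : r ∣ q ^ 2 - q + 1) : orderOf (q : ZMod r) = 6 :=
  od_cyc hr (by norm_num) (ndvd hr h5 ⟨1, 1, by norm_num⟩) (by
    rw [Num.v6 q hq]
    have h1 := Int.natCast_dvd_natCast.2 h
    have h2 : q ≤ q ^ 2 := by nlinarith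
    push_cast [Nat.cast_sub h2] at h1
    exact h1)

theorem e8 (h : r ∣ q ^ 4 + 1) : orderOf (q : ZMod r) = 8 :=
  od_cyc hr (by norm_num) (ndvd hr h5 ⟨3, 0, by norm_num⟩) (by
    rw [Num.v8 q hq]
    have h1 := Int.natCast_dvd_natCast.2 h
    push_cast at h1
    exact h1)

theorem e9 (h : r ∣ q ^ 6 + q ^ 3 + 1) : orderOf (q : ZMod r) = 9 :=
  od_cyc hr (by norm_num) (ndvd hr h5 ⟨0, 2, by norm_num⟩) (by
    rw [Num.v9 q hq]
    have h1 := Int.natCast_dvd_natCast.2 h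
    push_cast at h1
    exact h1)

theorem e12 (h : r ∣ q ^ 4 - q ^ 2 + 1) : orderOf (q : ZMod r) = 12 :=
  od_cyc hr (by norm_num) (ndvd hr h5 ⟨2, 1, by norm_num⟩) (by
    rw [Num.v12 q hq]
    have h1 := Int.natCast_dvd_natCast.2 h
    have h2 : q ^ 2 ≤ q ^ 4 := Nat.pow_le_pow_right (by omega) (by norm_num)
    push_cast [Nat.cast_sub h2] at h1
    exact h1)

/-- `q³ + 1` -/
theorem e26 (h : r ∣ q ^ 3 + 1) : orderOf (q : ZMod r) = 2 ∨ orderOf (q : ZMod r) = 6 := by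
  have h2 : q ≤ q ^ 2 := by nlinarith
  have h1 : q ^ 3 + 1 = (q + 1) * (q ^ 2 - q + 1) := by
    zify [h2]; ring
  rw [h1] at h
  rcases hr.dvd_mul.1 h with h3 | h3
  · exact Or.inl (e2 hr h5 h3)
  · exact Or.inr (e6 hq hr h5 h3)

omit h5 in
theorem es {n : ℕ} (hn : 0 < n) (h : r ∣ q ^ n - 1) : orderOf (q : ZMod r) ∈ n.divisors :=
  Nat.mem_divisors.2 ⟨od_dvd (by omega) h, hn.ne'⟩

end Val

/-- the tori of `E₆` -/
def T6 : List (List ℕ) := [[8, 1, 2], [1, 5, 2], [1, 2, 4, 6], [1, 2, 3, 6], [12, 3], [9]]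

/-- the tori, with an element of order `p` -/
def U6 : List (List ℕ) := [[1, 2, 3], [1, 2, 4], [1, 5], [2, 6, 3], [2, 6, 1]]

theorem sub_one {q r n : ℕ} (hq : 2 ≤ q) (hr : r.Prime) (hn : 0 < n) {L : List ℕ} (hL : ∀ x ∈ n.divisors, x ∈ L)
    (h : r ∣ q ^ n - 1) : orderOf (q : ZMod r) ∈ L := hL _ (es hq hr hn h)

/-- the classes in a torus -/
theorem t6 {q m : ℕ} (hq : 2 ≤ q) (h : m ∣ (q ^ 4 + 1) * (q ^ 2 - 1) ∨ m ∣ (q ^ 5 - 1) * (q + 1) ∨
    m ∣ (q ^ 4 - 1) * (q ^ 2 - q + 1) ∨ m ∣ q ^ 6 - 1 ∨ m ∣ (q ^ 4 - q ^ 2 + 1) * (q ^ 2 + q + 1) ∨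
    m ∣ q ^ 6 + q ^ 3 + 1) : ∃ T ∈ T6, ∀ r : ℕ, r.Prime → 5 ≤ r → r ∣ m → orderOf (q : ZMod r) ∈ T := by
  rcases h with h | h | h | h | h | h
  · refine ⟨[8, 1, 2], by decide, fun r hr h5 hm => ?_⟩
    rcases hr.dvd_mul.1 (hm.trans h) with h1 | h1
    · rw [e8 hq hr h5 h1]; decide
    · exact sub_one hq hr (n := 2) (by norm_num) (by decide) h1
  · refine ⟨[1, 5, 2], by decide, fun r hr h5 hm => ?_⟩
    rcases hr.dvd_mul.1 (hm.trans h) with h1 | h1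
    · exact sub_one hq hr (n := 5) (by norm_num) (by decide) h1
    · rw [e2 hr h5 h1]; decide
  · refine ⟨[1, 2, 4, 6], by decide, fun r hr h5 hm => ?_⟩
    rcases hr.dvd_mul.1 (hm.trans h) with h1 | h1
    · exact sub_one hq hr (n := 4) (by norm_num) (by decide) h1
    · rw [e6 hq hr h5 h1]; decide
  · refine ⟨[1, 2, 3, 6], by decide, fun r hr h5 hm => ?_⟩
    exact sub_one hq hr (n := 6) (by norm_num) (by decide) (hm.trans h)
  · refine ⟨[12, 3], by decide, fun r hr h5 hm => ?_⟩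
    rcases hr.dvd_mul.1 (hm.trans h) with h1 | h1
    · rw [e12 hq hr h5 h1]; decide
    · rw [e3 hq hr h5 h1]; decide
  · refine ⟨[9], by decide, fun r hr h5 hm => ?_⟩
    rw [e9 hq hr h5 (hm.trans h)]; decide

theorem u6 {q m : ℕ} (hq : 2 ≤ q) (h : m ∣ (q ^ 3 - 1) * (q + 1) ∨ m ∣ q ^ 4 - 1 ∨ m ∣ q ^ 5 - 1 ∨
    m ∣ (q ^ 3 + 1) * (q ^ 2 + q + 1) ∨ m ∣ (q ^ 3 + 1) * (q - 1)) :
    ∃ T ∈ U6, ∀ r : ℕ, r.Prime → 5 ≤ r → r ∣ m → orderOf (q : ZMod r) ∈ T := by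
  rcases h with h | h | h | h | h
  · refine ⟨[1, 2, 3], by decide, fun r hr h5 hm => ?_⟩
    rcases hr.dvd_mul.1 (hm.trans h) with h1 | h1
    · exact sub_one hq hr (n := 3) (by norm_num) (by decide) h1
    · rw [e2 hr h5 h1]; decide
  · refine ⟨[1, 2, 4], by decide, fun r hr h5 hm => ?_⟩
    exact sub_one hq hr (n := 4) (by norm_num) (by decide) (hm.trans h)
  · refine ⟨[1, 5], by decide, fun r hr h5 hm => ?_⟩
    exact sub_one hq hr (n := 5) (by norm_num) (by decide) (hm.trans h)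
  · refine ⟨[2, 6, 3], by decide, fun r hr h5 hm => ?_⟩
    rcases hr.dvd_mul.1 (hm.trans h) with h1 | h1
    · rcases e26 hq hr h5 h1 with h2 | h2 <;> rw [h2] <;> decide
    · rw [e3 hq hr h5 h1]; decide
  · refine ⟨[2, 6, 1], by decide, fun r hr h5 hm => ?_⟩
    rcases hr.dvd_mul.1 (hm.trans h) with h1 | h1
    · rcases e26 hq hr h5 h1 with h2 | h2 <;> rw [h2] <;> decide
    · exact sub_one hq hr (n := 1) (by norm_num) (by decide) (by rwa [pow_one])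

/-- the `p`-part is trivial -/
theorem eq_of_ne {p b m n r s : ℕ} (hp : p.Prime) (hr : r.Prime) (hs : s.Prime) (hrp : r ≠ p) (hsp : s ≠ p)
    (h : n = p ^ b * m) (hn : n = r * s) : m = r * s := by
  have hb : b = 0 := by
    by_contra hb
    have h2 : p ∣ r * s := by rw [← hn, h]; exact (dvd_pow_self p hb).mul_right m
    rcases hp.dvd_mul.1 h2 with h3 | h3
    · exact hrp ((Nat.prime_dvd_prime_iff_eq hp hr).1 h3).symm
    · exact hsp ((Nat.prime_dvd_prime_iff_eq hp hs).1 h3).symm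
  rw [hb, pow_zero, one_mul] at h
  rw [← h, hn]

theorem dvd_of_p {p b m n r : ℕ} (hp : p.Prime) (hr : r.Prime) (hrp : r ≠ p) (h : n = p ^ b * m) (hm : ¬ p ∣ m)
    (hn : n = r * p) : b ≠ 0 ∧ r ∣ m := by
  refine ⟨?_, ?_⟩
  · rintro rfl
    rw [pow_zero, one_mul] at h
    exact hm (by rw [← h, hn]; exact dvd_mul_left _ _)
  · have h2 : r ∣ p ^ b * m := by rw [← h, hn]; exact dvd_mul_right _ _
    rcases hr.dvd_mul.1 h2 with h3 | h3
    · exact absurd ((Nat.prime_dvd_prime_iff_eq hr hp).1 (hr.dvd_of_dvd_pow h3)) hrp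
    · exact h3

theorem adj6 (i : ℕ) (hi : i < 9) (j : ℕ) (hj : j < 9) (h : (tabE6.adj.getD i 0).testBit j = true) :
    (clE6.getD i 0, clE6.getD j 0) ∈ CertTab.L6 ∨ (clE6.getD j 0, clE6.getD i 0) ∈ CertTab.L6 := by
  have h1 : (List.range 9).all (fun i => (List.range 9).all fun j => !((tabE6.adj.getD i 0).testBit j) ||
      (CertTab.L6.contains (clE6.getD i 0, clE6.getD j 0) || CertTab.L6.contains (clE6.getD j 0, clE6.getD i 0))) =
      true := by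
    decide +kernel
  have h2 := all_two (A := fun i j => (tabE6.adj.getD i 0).testBit j) (B := fun i j =>
    (CertTab.L6.contains (clE6.getD i 0, clE6.getD j 0) || CertTab.L6.contains (clE6.getD j 0, clE6.getD i 0))) h1 hi
    hj h
  simpa only [Bool.or_eq_true, List.contains_iff_mem] using h2

theorem nab6 (i : ℕ) (hi : i < 9) (j : ℕ) (hj : j < 9) (h : (tabE6.na.getD i 0).testBit j = true) :
    ∀ T ∈ T6, clE6.getD i 0 ∈ T → clE6.getD j 0 ∈ T → False := by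
  have h1 : (List.range 9).all (fun i => (List.range 9).all fun j => !((tabE6.na.getD i 0).testBit j) ||
      (T6.all fun T => !(T.contains (clE6.getD i 0) && T.contains (clE6.getD j 0)))) = true := by
    decide +kernel
  have h2 := all_two (A := fun i j => (tabE6.na.getD i 0).testBit j) (B := fun i j =>
    (T6.all fun T => !(T.contains (clE6.getD i 0) && T.contains (clE6.getD j 0)))) h1 hi hj h
  intro T hT h3 h4
  rw [List.all_eq_true] at h2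
  have h5 := h2 T hT
  rw [List.contains_iff_mem.2 h3, List.contains_iff_mem.2 h4] at h5
  exact absurd h5 (by decide)

theorem mem6 : ∀ i < 9, clE6.getD i 0 ∈ clE8 := by decide +kernel

theorem tt6 : ∀ i < 9, tabE6.tt.testBit i = true → ∀ T ∈ U6, clE6.getD i 0 ∉ T := by decide +kernel

theorem nt6 : ∀ i < 9, tabE6.nt.testBit i = true → clE6.getD i 0 ∈ CertTab.P6 := by decide +kernel

end Sok

open Sok

theorem sok_e6 {S : Type u} [Group S] [Finite S] {v f : ℕ} (hv : v.Prime) (h : Fam.Is v f S .e6) :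
    SOk tabE6 S v (kcl clE6 (v ^ f)) := by
  obtain ⟨F, _, _, _, hc, ⟨e⟩⟩ := h
  have := Fact.mk hv
  have hq : Nat.card F = v ^ f := by rw [Nat.card_eq_fintype_card, hc]
  have h2q : 2 ≤ Nat.card F := Finite.one_lt_card
  have hf : f ≠ 0 := by
    rintro rfl
    rw [hq, pow_zero] at h2q
    omega
  have n3 : ∀ {r : ℕ}, r.Prime → 5 ≤ r → ¬ r ∣ 3 := fun hr h5 h => by
    have := Nat.le_of_dvd (by norm_num) h
    omega
  refine SOk.congr e ?_
  rw [← hq]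
  refine sok_kcl (by decide) ?_ ?_ ?_ ?_ ?_
  · intro r hr h5 hrv hd
    rcases H378.ExcAdj.od_E6 hr hd with h1 | h1
    · rw [hq] at h1
      exact absurd ((Nat.prime_dvd_prime_iff_eq hr hv).1 (hr.dvd_of_dvd_pow h1)) hrv
    · simp only [clE6, List.mem_cons, List.not_mem_nil, or_false]
      exact h1
  · intro i hi j hj hbit r s hr hs hr5 hs5 hrv hsv hrs hoa hob
    exact CertTab.rel6 hr hs hrs (n3 hr hr5) (n3 hs hs5) (adj6 i hi j hj hbit) (cyc_dvd hr (mem6 i hi) hoa)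
      (cyc_dvd hs (mem6 j hj) hob)
  · intro i hi j hj hbit r s hr hs hr5 hs5 hrv hsv hrs hoa hob g hg
    obtain ⟨b, m, hO⟩ := H378.OmE6.om_E6 (p := v) rfl g
    have hm := eq_of_ne hv hr hs hrv hsv hO.eq hg
    obtain ⟨T, hT, hall⟩ := t6 h2q hO.s0
    have h1 := hall r hr hr5 (by rw [hm]; exact dvd_mul_right _ _)
    have h2 := hall s hs hs5 (by rw [hm]; exact dvd_mul_left _ _)
    rw [hoa] at h1
    rw [hob] at h2
    exact nab6 i hi j hj hbit T hT h1 h2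
  · intro i hi hbit r hr h5 hrv hoa g hg
    obtain ⟨b, m, hO⟩ := H378.OmE6.om_E6 (p := v) rfl g
    obtain ⟨hb, hm⟩ := dvd_of_p hv hr hrv hO.eq hO.nd hg
    obtain ⟨T, hT, hall⟩ := u6 h2q (hO.s1 hb)
    have h1 := hall r hr h5 hm
    rw [hoa] at h1
    exact tt6 i hi hbit T hT h1
  · intro i hi hbit r hr h5 hrv hoa
    exact CertTab.relp6 hr hv (n3 hr h5) (nt6 i hi hbit) (cyc_dvd hr (mem6 i hi) hoa)
      (by rw [hq]; exact dvd_pow_self v hf)

end Cfsg.Agent.R2.Spec.EE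

private theorem dce_923268462ce9 : _root_.True := by
  try have : _root_.True := by simp only [_root_.Cfsg.Agent.R2.Spec.EE.clE6.eq_1]
  exact _root_.True.intro
end

-- part: R2/Spec/EE/SokB
section
set_option linter.all false
open scoped Cfsg.Agent.FastGrp

/-!
# Tools for the tables of the exceptional groups (helper6)

* `od_pos`, `od_cases` : the order of `q` modulo `r`;
* `cyc_of_od` : `r ∣ Φ_a(q)` if `q` has order `a` modulo `r`;
* `eq_of_cyc` : `r ∣ Φ_n(q)`, `φ(n) ≤ 7`, `q` of order `a ≥ 3` modulo `r` : `n = a`;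
* `exists_two` : the classes of two primes dividing `∏ Φ_n(q)`;
* `no_eig_char` : no eigencharacters of order `v`, `v ∣ q`.
-/

set_option autoImplicit false
set_option linter.unusedSectionVars false

namespace Cfsg.Agent.R2.Spec.EE.SokB

open Cfsg Cfsg.Lie Cfsg.Agent Cfsg.Agent.H493 Cfsg.Agent.H493.PGTorus Cfsg.Agent.H493.PGCyc
open Cfsg.Agent.H378.ExcAdj (od od_dvd)
open Cfsg.Agent.H378.RegFin (cyclotomic_dvd od_of_dvd)
open Cfsg.Agent.H378.ExcNear (mod_of_od)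

universe u

/-- cyclotomic values -/
theorem cyc_of_od {r q a : ℕ} (hr : r.Prime) (ha : a ∈ [1, 2, 3, 4, 5, 6, 7, 8, 9, 10, 12, 14, 18]) (h : od q r = a) :
    (r : ℤ) ∣ CertTab.cyc a (q : ℤ) := by
  simp only [List.mem_cons, List.not_mem_nil, or_false] at ha
  rcases ha with rfl | rfl | rfl | rfl | rfl | rfl | rfl | rfl | rfl | rfl | rfl | rfl | rfl
  · exact H378.CycTab.dvd1 h
  · exact H378.CycTab.dvd2 hr h
  · exact H378.CycTab.dvd3 hr h
  · exact H378.CycTab.dvd4 hr h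
  · exact H378.CycTab.dvd5 hr h
  · exact H378.CycTab.dvd6 hr h
  · exact H378.CycTab.dvd7 hr h
  · exact H378.CycTab.dvd8 hr h
  · exact H378.CycTab.dvd9 hr h
  · exact H378.CycTab.dvd10 hr h
  · exact H378.CycTab.dvd12 hr h
  · exact H378.CycTab.dvd14 hr h
  · exact H378.CycTab.dvd18 hr h

/-- the index of the cyclotomic polynomial -/
theorem eq_of_cyc {r q n a : ℕ} (hr : r.Prime) (hn : 0 < n) (hφ : n.totient ≤ 7) (h : od q r = a) (ha : 3 ≤ a)
    (hd : (r : ℤ) ∣ (Polynomial.cyclotomic n ℤ).eval ((q : ℕ) : ℤ)) : n = a := by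
  have hF : Fact r.Prime := ⟨hr⟩
  have h1 : a ∣ n := by
    rw [← h]
    exact od_of_dvd (Int.natCast_dvd.1 hd)
  have h2 := mod_of_od hr h (by omega)
  by_cases hrn : r ∣ n
  · exfalso
    have hr2 := hr.two_le
    have h3 := Nat.le_of_dvd (by omega) h2
    have hr5 : 5 ≤ r := by
      by_contra h5
      have h4 : r = 4 := by omega
      rw [h4] at hr
      exact absurd hr (by norm_num)
    have hcop : Nat.Coprime a r := by
      rw [Nat.coprime_comm]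
      refine (Nat.Prime.coprime_iff_not_dvd hr).2 fun h4 => ?_
      have h5 := Nat.le_of_dvd (by omega) h4
      omega
    have h6 : a * r ∣ n := hcop.mul_dvd_of_dvd_of_dvd h1 hrn
    have h7 := Nat.totient_dvd_of_dvd h6
    rw [Nat.totient_mul hcop, Nat.totient_prime hr] at h7
    have h8 := Nat.le_of_dvd (Nat.totient_pos.2 hn) h7
    have h9 : 2 ≤ a.totient := by
      have h10 := Nat.totient_even (show 2 < a by omega)
      have h11 := Nat.totient_pos.2 (show 0 < a by omega)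
      obtain ⟨c, hc⟩ := h10
      omega
    have h12 : 2 * 4 ≤ a.totient * (r - 1) := Nat.mul_le_mul h9 (by omega)
    omega
  · have hn0 : NeZero ((n : ℕ) : ZMod r) := ⟨fun h3 => hrn ((ZMod.natCast_eq_zero_iff n r).1 h3)⟩
    have h3 : Polynomial.IsRoot (Polynomial.cyclotomic n (ZMod r)) ((q : ℕ) : ZMod r) := by
      rw [Polynomial.IsRoot.def, ← Polynomial.map_cyclotomic n (Int.castRingHom (ZMod r)),
        show ((q : ℕ) : ZMod r) = Int.castRingHom (ZMod r) ((q : ℕ) : ℤ) by simp, Polynomial.eval_map,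
        Polynomial.eval₂_at_apply]
      exact (ZMod.intCast_zmod_eq_zero_iff_dvd _ r).2 hd
    have h4 := Polynomial.isRoot_cyclotomic_iff.1 h3
    exact h4.eq_orderOf.trans h

/-- two primes -/
theorem exists_two {r s q l a b : ℕ} (hl : l ≤ 7) (hr : r.Prime) (hs : s.Prime) {S : Finset ℕ} (hS : ∀ n ∈ S, 0 < n)
    (hl' : ∑ n ∈ S, n.totient ≤ l) (ha : od q r = a) (hb : od q s = b) (ha3 : 3 ≤ a) (hb3 : 3 ≤ b) (hab : a ≠ b)
    (h1 : (r : ℤ) ∣ (∏ n ∈ S, Polynomial.cyclotomic n ℤ).eval ((q : ℕ) : ℤ))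
    (h2 : (s : ℤ) ∣ (∏ n ∈ S, Polynomial.cyclotomic n ℤ).eval ((q : ℕ) : ℤ)) : a.totient + b.totient ≤ l := by
  have key : ∀ {r a : ℕ}, r.Prime → od q r = a → 3 ≤ a →
      (r : ℤ) ∣ (∏ n ∈ S, Polynomial.cyclotomic n ℤ).eval ((q : ℕ) : ℤ) → a ∈ S := by
    intro r a hr ha ha3 h1
    rw [Polynomial.eval_prod] at h1
    obtain ⟨n, hn, hd⟩ := (Nat.prime_iff_prime_int.1 hr).exists_mem_finset_dvd h1
    have h3 : n.totient ≤ ∑ n ∈ S, n.totient := Finset.single_le_sum (fun i _ => Nat.zero_le (Nat.totient i)) hn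
    rw [← eq_of_cyc hr (hS n hn) (by omega) ha ha3 hd]
    exact hn
  have ha' := key hr ha ha3 h1
  have hb' := key hs hb hb3 h2
  have h3 : ∑ n ∈ ({a, b} : Finset ℕ), n.totient ≤ ∑ n ∈ S, n.totient := by
    refine Finset.sum_le_sum_of_subset fun x hx => ?_
    rw [Finset.mem_insert, Finset.mem_singleton] at hx
    rcases hx with rfl | rfl
    · exact ha'
    · exact hb'
  rw [Finset.sum_pair hab] at h3
  omega

end Cfsg.Agent.R2.Spec.EE.SokB
end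

-- part: R2/Spec/EE/SokE7
section
prune_inst 0x2004104000000000000200001c4292000000000b0001004000040d808e0100000620100000001104a0a40032800000000009001000002000820001180080040304628019bc08900086001000000000000000000000000000000000000000000000000
set_option linter.all false
open scoped Cfsg.Agent.FastGrp

/-!
# The table of `E₇(q)` (helper6)

`sok_e7`.
-/

set_option autoImplicit false
set_option linter.unusedSectionVars false

namespace Cfsg.Agent.R2.Spec.EE.SokE7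

open CoxeterSystem Cfsg Cfsg.Lie Cfsg.Lie.ChevalleyDatum Cfsg.Agent Cfsg.Agent.H493 Cfsg.Agent.H493.PGTorus Cfsg.Agent.H493.PGCyc
open Cfsg.Agent.ChevalleyStructure Cfsg.Agent.ChevalleyStructure.Elts Cfsg.Agent.ChevalleyStructure.CoxeterGeom
  Cfsg.Agent.ChevalleyStructure.CoxeterGeomTypes Cfsg.Agent.ChevalleyStructure.NPerm
open Cfsg.Agent.Tits.Roots Cfsg.Agent.Tits.Core Cfsg.Agent.Nodes.Reps Cfsg.Agent.Nodes.BNOf
  Cfsg.Agent.Nodes.RGDChev Cfsg.Agent.Nodes.Bruhat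
open Cfsg.Agent.KFacts.RgdField Cfsg.Agent.KFacts.RgdChevCoord Cfsg.Agent.BpExc.TorCent Cfsg.Agent.BpExc.TorChev
open Cfsg.Agent.BpExc.Tow Cfsg.Agent.BpExc.TowChev Cfsg.Agent.BpExc.FamExt Cfsg.Agent.BpExc.FamUntw
  Cfsg.Agent.BpExc.FamInst Cfsg.Agent.BpExc.LangFr Cfsg.Agent.BpExc.FamField Cfsg.Agent.BpExc.RowsUntw
open Cfsg.Agent.H378.TorDual Cfsg.Agent.H378.TorChar Cfsg.Agent.H378.TorFin Cfsg.Agent.H378.LatRoot
  Cfsg.Agent.H378.Regular Cfsg.Agent.H378.ExcNear Cfsg.Agent.H378.RegFin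
open Cfsg.Agent.H378.ExcAdj (od od_dvd)
open Cfsg.Agent.R2.Spec.EE.SokB Cfsg.Agent.H426.LieFam

universe u v

/-- no eigencharacters of order `v`, `v ∣ q` -/
theorem no_eig_char {l : ℕ} {M : CoxeterMatrix (Fin l)} {A : Fin l → Fin l → ℤ} (h : IsCartan M A) {W : Type*} [Group W]
    (cs : CoxeterSystem M W) {k : Type u} [Field k] {q v : ℕ} (hv : v ∣ q) {w : W} {χ : Ch l k} (hE : IsEig cs h q v w χ) :
    False := by
  obtain ⟨h1, h2, h3⟩ := hE
  rw [mem_kerOf] at h1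
  obtain ⟨m, rfl⟩ := hv
  have h4 : ∀ x, χ (Multiplicative.ofAdd (rep cs h w x)) = 1 := by
    intro x
    have h5 := h1 x
    have e : (rep cs h w - (((v * m : ℕ) : ℤ)) • (1 : Module.End ℤ (Fin l → ℤ))) x =
        rep cs h w x + -((((v * m : ℕ) : ℤ)) • x) := by
      rw [← sub_eq_add_neg]
      rfl
    rw [e, ofAdd_add, map_mul, ofAdd_neg, map_inv, ofAdd_zsmul, map_zpow, zpow_natCast, mul_inv_eq_one] at h5
    rw [h5, pow_mul, ← MonoidHom.pow_apply, h3, MonoidHom.one_apply, one_pow]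
  apply h2
  refine MonoidHom.ext fun x => ?_
  have h5 := h4 (rep cs h w⁻¹ (Multiplicative.toAdd x))
  have h6 : rep cs h w (rep cs h w⁻¹ (Multiplicative.toAdd x)) = Multiplicative.toAdd x := by
    rw [← Module.End.mul_apply, ← map_mul, mul_inv_cancel, map_one, Module.End.one_apply]
  rw [h6] at h5
  rw [show x = Multiplicative.ofAdd (Multiplicative.toAdd x) from rfl, h5]
  rfl

/-! ### the facts for the group -/

section

variable {F : Type u} [Field F] [Fintype F]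

/-- the classes -/
theorem cl_E7 {r : ℕ} (hr : r.Prime) (hrq : ¬ r ∣ Nat.card F) (hd : r ∣ Nat.card ↥(chevE7.group F)) :
    od (Nat.card F) r ∈ clE7 := by
  have hq : 1 ≤ Nat.card F := Nat.card_pos
  have h1 : r ∣ Nat.gcd 2 (Nat.card F - 1) * Nat.card ↥(chevE7.group F) := hd.mul_left _
  rw [S1064.result Nat.card_eq_fintype_card.symm] at h1
  simp only [hr.dvd_mul] at h1
  have key : ∀ n ∈ [2, 6, 8, 10, 12, 14, 18], r ∣ Nat.card F ^ n - 1 → od (Nat.card F) r ∈ clE7 := by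
    intro n hn h
    have h2 := od_dvd hq h
    have h3 : ∀ n ∈ [2, 6, 8, 10, 12, 14, 18], ∀ e ≤ 18, e ∣ n → e ∈ clE7 := by decide
    refine h3 n hn _ (le_trans (Nat.le_of_dvd ?_ h2) ?_) h2
    · have h4 : ∀ n ∈ [2, 6, 8, 10, 12, 14, 18], 0 < n := by decide
      exact h4 n hn
    · have h4 : ∀ n ∈ [2, 6, 8, 10, 12, 14, 18], n ≤ 18 := by decide
      exact h4 n hn
  rcases h1 with ((((((h | h) | h) | h) | h) | h) | h) | h
  · exact absurd (hr.dvd_of_dvd_pow h) hrq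
  all_goals exact key _ (by decide) h

/-- `v` is not adjacent to the classes 7, 9, 14, 18 -/
theorem char_E7 {r v : ℕ} (hr : r.Prime) (hv : v.Prime) (hvq : v ∣ Nat.card F)
    (h : od (Nat.card F) r = 7 ∨ od (Nat.card F) r = 9 ∨ od (Nat.card F) r = 14 ∨ od (Nat.card F) r = 18)
    {x : ↥(chevE7.group F)} (hx : orderOf x = r * v) : False := by
  let cs : CoxeterSystem CoxeterMatrix.E₇ CoxeterMatrix.E₇.Group := CoxeterMatrix.E₇.toCoxeterSystem
  have := finite_W e7T cs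
  have hy : orderOf (x ^ v) = r := by
    rw [orderOf_pow, hx, Nat.gcd_eq_right (dvd_mul_left v r)]
    exact Nat.mul_div_cancel _ hv.pos
  have hz : orderOf (x ^ r) = v := by
    rw [orderOf_pow, hx, Nat.gcd_eq_right (dvd_mul_right r v)]
    exact Nat.mul_div_cancel_left _ hr.pos
  obtain ⟨w, -, φ, hφ⟩ := H378.RegE7.cent_E7 hr hy rfl h cs
  have hc : x ^ r ∈ Subgroup.centralizer {x ^ v} :=
    Subgroup.mem_centralizer_singleton_iff.2 ((Commute.refl x).pow_pow r v).eq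
  obtain ⟨k, _, χ, hE⟩ := H378.RegE7.eig_of_order e7T cs hv (F := F) (w := w) (y := φ ⟨x ^ r, hc⟩) (by
    rw [orderOf_injective φ hφ, Subgroup.orderOf_mk, hz])
  exact no_eig_char e7T.isCartan cs hvq hE

/-- nonadjacent classes -/
theorem na_E7 {r s a b : ℕ} (hr : r.Prime) (hs : s.Prime) (hrq : ¬ r ∣ Nat.card F) (hsq : ¬ s ∣ Nat.card F)
    (hab : a ≠ b) (ha : od (Nat.card F) r = a) (hb : od (Nat.card F) s = b) (ha3 : 3 ≤ a) (hb3 : 3 ≤ b)
    (h7 : 7 < a.totient + b.totient) {x : ↥(chevE7.group F)} (hx : orderOf x = r * s) : False := by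
  obtain ⟨p, e, m, j, hp, he, hq, ho, hm, hmp, -, -, ⟨S, hS, hSl, hmS⟩, -⟩ := H482.TwoCyc.Untw.ords_E7 x
  have key : ∀ {r : ℕ}, r.Prime → ¬ r ∣ Nat.card F → r ∣ orderOf x →
      (r : ℤ) ∣ (∏ n ∈ S, Polynomial.cyclotomic n ℤ).eval ((Nat.card F : ℕ) : ℤ) := by
    intro r hr hrq h
    rw [ho] at h
    rcases (hr.dvd_mul).1 h with h1 | h1
    · exact (Int.natCast_dvd_natCast.2 h1).trans hmS
    · exfalso
      apply hrq
      rw [hq, (Nat.prime_dvd_prime_iff_eq hr hp).1 (hr.dvd_of_dvd_pow h1)]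
      exact dvd_pow_self p he.ne'
  have h1 := exists_two (q := Nat.card F) (l := 7) le_rfl hr hs hS hSl ha hb ha3 hb3 hab
    (key hr hrq (by rw [hx]; exact dvd_mul_right r s)) (key hs hsq (by rw [hx]; exact dvd_mul_left s r))
  omega

end

theorem adj_mask : ∀ a ∈ clE7, ∀ b ∈ clE7, (tabE7.adj.getD (clE7.idxOf a) 0).testBit (clE7.idxOf b) = true →
    (a, b) ∈ CertTab.L7 ∨ (b, a) ∈ CertTab.L7 := by decide +kernel

theorem na_mask : ∀ a ∈ clE7, ∀ b ∈ clE7, (tabE7.na.getD (clE7.idxOf a) 0).testBit (clE7.idxOf b) = true →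
    a ≠ b ∧ 3 ≤ a ∧ 3 ≤ b ∧ 7 < a.totient + b.totient := by decide +kernel

theorem tt_mask : ∀ a ∈ clE7, tabE7.tt.testBit (clE7.idxOf a) = true → a = 7 ∨ a = 9 ∨ a = 14 ∨ a = 18 := by
  decide +kernel

theorem nt_mask : ∀ a ∈ clE7, tabE7.nt.testBit (clE7.idxOf a) = true → a ∈ CertTab.P7 := by decide +kernel

end Cfsg.Agent.R2.Spec.EE.SokE7

namespace Cfsg.Agent.R2.Spec.EE

open Cfsg Cfsg.Lie Cfsg.Agent Cfsg.Agent.H426.LieFam
open Cfsg.Agent.R2.Spec.EE.SokB Cfsg.Agent.R2.Spec.EE.SokE7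
open Cfsg.Agent.H378.ExcAdj (od od_dvd)

universe u

/-- **The table of `E₇(q)`.** -/
theorem sok_e7 {S : Type u} [Group S] [Finite S] {v f : ℕ} (hv : v.Prime) (h : Fam.Is v f S .e7) :
    SOk tabE7 S v (kcl clE7 (v ^ f)) := by
  obtain ⟨F, _, _, _, hF, ⟨e⟩⟩ := h
  have hq : Nat.card F = v ^ f := by rw [Nat.card_eq_fintype_card, hF]
  have hf : f ≠ 0 := by
    rintro rfl
    rw [pow_zero] at hF
    exact absurd hF Fintype.one_lt_card.ne'
  have hvq : v ∣ Nat.card F := by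
    rw [hq]
    exact dvd_pow_self v hf
  have hcard : Nat.card S = Nat.card ↥(chevE7.group F) := Nat.card_congr e.toEquiv
  have hnq : ∀ {r : ℕ}, r.Prime → r ≠ v → ¬ r ∣ Nat.card F := by
    intro r hr hrv h1
    rw [hq] at h1
    exact hrv ((Nat.prime_dvd_prime_iff_eq hr hv).1 (hr.dvd_of_dvd_pow h1))
  have hcl : ∀ {r : ℕ}, r.Prime → r ≠ v → r ∣ Nat.card S → od (v ^ f) r ∈ clE7 := by
    intro r hr hrv h1
    rw [hcard] at h1
    rw [← hq]
    exact cl_E7 hr (hnq hr hrv) h1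
  have hk : ∀ r : ℕ, kcl clE7 (v ^ f) r = clE7.idxOf (od (v ^ f) r) := fun r => rfl
  have htr : ∀ {n : ℕ}, (∃ g : ↥(chevE7.group F), orderOf g = n) → ∃ g : S, orderOf g = n := by
    rintro n ⟨g, hg⟩
    exact ⟨e.symm g, by rw [MulEquiv.orderOf_eq, hg]⟩
  have hcyc : ∀ {r : ℕ}, r.Prime → od (v ^ f) r ∈ clE7 → (r : ℤ) ∣ CertTab.cyc (od (v ^ f) r) ((Nat.card F : ℕ) : ℤ) := by
    intro r hr h1
    rw [hq]
    exact cyc_of_od hr h1 rfl
  have h2 : ∀ {r : ℕ}, r.Prime → 5 ≤ r → ¬ r ∣ 2 := fun hr h5 h1 => by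
    have := Nat.le_of_dvd (by norm_num) h1
    omega
  refine ⟨fun r hr h5 hrv hd => ?_, fun r s hr hs h5 h5' hrv hsv hrs hd hd' hb => ?_,
    fun r s hr hs h5 h5' hrv hsv hrs hd hd' hb => ?_, fun r hr h5 hrv hd hb => ?_, fun r hr h5 hrv hd hb => ?_⟩
  · exact List.idxOf_lt_length_of_mem (hcl hr hrv hd)
  · rw [hk, hk] at hb
    have h3 := adj_mask _ (hcl hr hrv hd) _ (hcl hs hsv hd') hb
    exact htr (CertTab.rel7 (F := F) hr hs hrs (h2 hr h5) (h2 hs h5') h3 (hcyc hr (hcl hr hrv hd))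
      (hcyc hs (hcl hs hsv hd'))).2.2.2
  · rw [hk, hk] at hb
    obtain ⟨h3, h4, h6, h7⟩ := na_mask _ (hcl hr hrv hd) _ (hcl hs hsv hd') hb
    rintro ⟨g, hg⟩
    exact na_E7 hr hs (hnq hr hrv) (hnq hs hsv) h3 (by rw [hq]) (by rw [hq]) h4 h6 h7
      (x := e g) (by rw [MulEquiv.orderOf_eq, hg])
  · rw [hk] at hb
    have h3 := tt_mask _ (hcl hr hrv hd) hb
    rintro ⟨g, hg⟩
    exact char_E7 hr hv hvq (by rw [hq]; exact h3) (x := e g) (by rw [MulEquiv.orderOf_eq, hg])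
  · rw [hk] at hb
    have h3 := nt_mask _ (hcl hr hrv hd) hb
    exact htr (CertTab.relp7 (F := F) hr hv (h2 hr h5) h3 (hcyc hr (hcl hr hrv hd)) hvq).2.2.2

end Cfsg.Agent.R2.Spec.EE
end

-- part: R2/Spec/EE/SokTE6
section
prune_inst 0xc0002204154000000000001200001c42f2000100000b000120c009060d80ce0080020620a800000010c4308410740000000000000000000000003000011a01a000020000803cac00000086001000000000000000000000000000000000000000000000000
set_option linter.all false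
open scoped Cfsg.Agent.FastGrp

-- part: R2/Spec/EE/CertTE6
section
/-!
# Eigenvector certificates for the tori of `²E₆(q)` (helper6)

* `chainH` : the torus `Φ₁Φ₂Φ₃Φ₆`; `chainI` : the torus `Φ₁Φ₂Φ₃Φ₄`; `eigD_1`, `eigD_2` : the torus `Φ₁Φ₂Φ₁₀`.
-/

set_option autoImplicit false
set_option linter.style.longLine false

namespace Cfsg.Agent.R2.Spec.EE.CertTE6

open Cfsg Cfsg.Lie Cfsg.Agent Cfsg.Agent.H129 Cfsg.Agent.H129.WData Cfsg.Agent.H493.PGTorus Cfsg.Agent.H493.PGCyc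

/-- partial products -/
def chainH : List (Fin 6 × Mat 6) := [
    (0, ![![0, 0, 1, 0, 0, 0], ![0, -1, 0, 0, 0, 0], ![-1, 0, -1, 0, 0, 0], ![1, 1, 1, 1, 0, 0], ![0, 0, 0, 0, 1, 0], ![0, 0, 0, 0, 0, 1]]),
    (1, ![![1, 0, 1, 0, 0, 0], ![0, -1, 0, 0, 0, 0], ![0, 0, -1, 0, 0, 0], ![0, 1, 1, 1, 0, 0], ![0, 0, 0, 0, 1, 0], ![0, 0, 0, 0, 0, 1]]),
    (2, ![![1, 0, 1, 0, 0, 0], ![0, 1, 0, 0, 0, 0], ![0, 0, -1, 0, 0, 0], ![0, 0, 1, 1, 0, 0], ![0, 0, 0, 0, 1, 0], ![0, 0, 0, 0, 0, 1]])]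

theorem chainH_ok : ChainOK H493.PGE6T.Am chainH :=
  H129.ChainF.ok H129.ChainF.i6 H129.ChainF.m6 (H129.ChainF.c6 <| H129.ChainF.c6 <| H129.ChainF.c6 <| H129.ChainF.nil) (by decide +kernel)

/-- the matrix of the twisted element -/
def ThH : Mat 6 := ![![0, 0, 0, 0, 0, 1], ![0, -1, 0, 0, 0, 0], ![0, 0, 0, 0, 1, 0], ![1, 1, 1, 1, 0, 0], ![-1, 0, -1, 0, 0, 0], ![0, 0, 1, 0, 0, 0]]

theorem hThH : ∀ j, hd chainH (H493.TwE6Alg.pi j) = ThH j := by decide +kernel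

/-- coefficients of the functional, cyclotomic polynomial 1 -/
def VH_1 : Fin 1 → Fin 6 → ℤ := ![![0, 0, 0, -1, 0, 0]]

theorem eigH_1 : EigOK (fun i j => ThH j i) c1 VH_1 ![0, 0, 0, -1, 0, 0] :=
  H493.EigF.ok (H493.EigF.tt ThH H129.ChainF.m6) H493.EigF.r1 (H493.EigF.mc H493.EigF.r6 <| H493.EigF.m0) H493.EigF.r6 (by decide +kernel)

/-- coefficients of the functional, cyclotomic polynomial 2 -/
def VH_2 : Fin 1 → Fin 6 → ℤ := ![![0, 2, 0, -1, 0, 0]]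

theorem eigH_2 : EigOK (fun i j => ThH j i) c2 VH_2 ![0, 0, 0, -1, 0, 0] :=
  H493.EigF.ok (H493.EigF.tt ThH H129.ChainF.m6) H493.EigF.r1 (H493.EigF.mc H493.EigF.r6 <| H493.EigF.m0) H493.EigF.r6 (by decide +kernel)

/-- coefficients of the functional, cyclotomic polynomial 3 -/
def VH_3 : Fin 2 → Fin 6 → ℤ := ![![-1, 0, 2, 0, -1, -1], ![1, 0, 1, -1, 1, -2]]

theorem eigH_3 : EigOK (fun i j => ThH j i) c3 VH_3 ![-1, 0, 0, -1, 0, 0] :=
  H493.EigF.ok (H493.EigF.tt ThH H129.ChainF.m6) H493.EigF.r2 (H493.EigF.mc H493.EigF.r6 <| H493.EigF.mc H493.EigF.r6 <| H493.EigF.m0) H493.EigF.r6 (by decide +kernel)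

/-- coefficients of the functional, cyclotomic polynomial 6 -/
def VH_6 : Fin 2 → Fin 6 → ℤ := ![![0, 0, -1, 1, 0, -1], ![1, 0, 0, 0, -1, 1]]

theorem eigH_6 : EigOK (fun i j => ThH j i) c6 VH_6 ![0, 0, -1, 0, 0, 0] :=
  H493.EigF.ok (H493.EigF.tt ThH H129.ChainF.m6) H493.EigF.r2 (H493.EigF.mc H493.EigF.r6 <| H493.EigF.mc H493.EigF.r6 <| H493.EigF.m0) H493.EigF.r6 (by decide +kernel)

/-- partial products -/
def chainI : List (Fin 6 × Mat 6) := [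
    (0, ![![-1, 0, 0, 0, 0, 0], ![0, 0, 0, 1, 0, 0], ![1, 1, 1, 1, 0, 0], ![0, -1, 0, -1, 0, 0], ![0, 1, 0, 1, 1, 0], ![0, 0, 0, 0, 0, 1]]),
    (1, ![![1, 0, 0, 0, 0, 0], ![0, 0, 0, 1, 0, 0], ![0, 1, 1, 1, 0, 0], ![0, -1, 0, -1, 0, 0], ![0, 1, 0, 1, 1, 0], ![0, 0, 0, 0, 0, 1]]),
    (3, ![![1, 0, 0, 0, 0, 0], ![0, 1, 0, 1, 0, 0], ![0, 0, 1, 1, 0, 0], ![0, 0, 0, -1, 0, 0], ![0, 0, 0, 1, 1, 0], ![0, 0, 0, 0, 0, 1]])]

theorem chainI_ok : ChainOK H493.PGE6T.Am chainI :=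
  H129.ChainF.ok H129.ChainF.i6 H129.ChainF.m6 (H129.ChainF.c6 <| H129.ChainF.c6 <| H129.ChainF.c6 <| H129.ChainF.nil) (by decide +kernel)

/-- the matrix of the twisted element -/
def ThI : Mat 6 := ![![0, 0, 0, 0, 0, 1], ![0, 0, 0, 1, 0, 0], ![0, 1, 0, 1, 1, 0], ![0, -1, 0, -1, 0, 0], ![1, 1, 1, 1, 0, 0], ![-1, 0, 0, 0, 0, 0]]

theorem hThI : ∀ j, hd chainI (H493.TwE6Alg.pi j) = ThI j := by decide +kernel

/-- coefficients of the functional, cyclotomic polynomial 1 -/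
def VI_1 : Fin 1 → Fin 6 → ℤ := ![![0, 0, -1, 0, -1, 0]]

theorem eigI_1 : EigOK (fun i j => ThI j i) c1 VI_1 ![0, 0, -1, 0, 0, 0] :=
  H493.EigF.ok (H493.EigF.tt ThI H129.ChainF.m6) H493.EigF.r1 (H493.EigF.mc H493.EigF.r6 <| H493.EigF.m0) H493.EigF.r6 (by decide +kernel)

/-- coefficients of the functional, cyclotomic polynomial 2 -/
def VI_2 : Fin 1 → Fin 6 → ℤ := ![![0, 0, 1, 0, -1, 0]]

theorem eigI_2 : EigOK (fun i j => ThI j i) c2 VI_2 ![0, 0, 1, 0, 0, 0] :=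
  H493.EigF.ok (H493.EigF.tt ThI H129.ChainF.m6) H493.EigF.r1 (H493.EigF.mc H493.EigF.r6 <| H493.EigF.m0) H493.EigF.r6 (by decide +kernel)

/-- coefficients of the functional, cyclotomic polynomial 3 -/
def VI_3 : Fin 2 → Fin 6 → ℤ := ![![0, 2, 0, -1, 0, 0], ![0, 1, -1, 1, -1, 0]]

theorem eigI_3 : EigOK (fun i j => ThI j i) c3 VI_3 ![0, 0, -1, -1, 0, 0] :=
  H493.EigF.ok (H493.EigF.tt ThI H129.ChainF.m6) H493.EigF.r2 (H493.EigF.mc H493.EigF.r6 <| H493.EigF.mc H493.EigF.r6 <| H493.EigF.m0) H493.EigF.r6 (by decide +kernel)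

/-- coefficients of the functional, cyclotomic polynomial 4 -/
def VI_4 : Fin 2 → Fin 6 → ℤ := ![![2, 0, -1, 0, 0, 0], ![0, 0, 0, 0, -1, 2]]

theorem eigI_4 : EigOK (fun i j => ThI j i) c4 VI_4 ![0, 0, -1, 0, 0, 0] :=
  H493.EigF.ok (H493.EigF.tt ThI H129.ChainF.m6) H493.EigF.r2 (H493.EigF.mc H493.EigF.r6 <| H493.EigF.mc H493.EigF.r6 <| H493.EigF.m0) H493.EigF.r6 (by decide +kernel)

/-- coefficients of the functional, cyclotomic polynomial 1 -/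
def VD_1 : Fin 1 → Fin 6 → ℤ := ![![0, -1, 0, 0, 0, 0]]

theorem eigD_1 : EigOK (fun i j => H493.PGE6T.ThD j i) c1 VD_1 ![0, -1, 0, 0, 0, 0] :=
  H493.EigF.ok (H493.EigF.tt H493.PGE6T.ThD H129.ChainF.m6) H493.EigF.r1 (H493.EigF.mc H493.EigF.r6 <| H493.EigF.m0) H493.EigF.r6 (by decide +kernel)

/-- coefficients of the functional, cyclotomic polynomial 2 -/
def VD_2 : Fin 1 → Fin 6 → ℤ := ![![0, -1, 0, 2, -2, 0]]

theorem eigD_2 : EigOK (fun i j => H493.PGE6T.ThD j i) c2 VD_2 ![0, -1, 0, 0, 0, 0] :=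
  H493.EigF.ok (H493.EigF.tt H493.PGE6T.ThD H129.ChainF.m6) H493.EigF.r1 (H493.EigF.mc H493.EigF.r6 <| H493.EigF.m0) H493.EigF.r6 (by decide +kernel)


end Cfsg.Agent.R2.Spec.EE.CertTE6
end

-- part: R2/Spec/EE/SokTE6
section
/-!
# The table of `²E₆(q)` (helper6)

`sok_te6`.
-/

set_option autoImplicit false
set_option linter.unusedSectionVars false

namespace Cfsg.Agent.R2.Spec.EE.SokTE6

open Cfsg Cfsg.Lie Cfsg.Lie.ChevalleyDatum Cfsg.Agent Cfsg.Agent.H129.WData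
open Cfsg.Agent.H493.PGTorus Cfsg.Agent.H493.PGCyc
open Cfsg.Agent.H378 Cfsg.Agent.H378.TwAdj Cfsg.Agent.H378.OmTE6
open Cfsg.Agent.H378.ExcAdj (od od_dvd)
open Cfsg.Agent.R2.Spec.EE.SokB

universe u

/-! ### arithmetic -/

theorem no_dvd {r l : ℕ} (h5 : 5 ≤ r) (h : (r : ℤ) ∣ ((l : ℕ) : ℤ)) (h0 : 0 < l) (hl : l < 5) : False := by
  have h1 := Nat.le_of_dvd h0 (Int.natCast_dvd_natCast.1 h)
  omega

theorem not2 {r q : ℕ} (d : ℕ) (h5 : 5 ≤ r) (h : (r : ℤ) ∣ (q : ℤ) ^ d + 1) : ¬ od q r ∣ d := by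
  intro h1
  rw [od, ← CycTab.dvd_iff] at h1
  refine no_dvd (l := 2) h5 ?_ (by norm_num) (by norm_num)
  have e : (((2 : ℕ) : ℤ)) = ((q : ℤ) ^ d + 1) - ((q : ℤ) ^ d - 1) := by push_cast; ring
  rw [e]
  exact dvd_sub h h1

theorem not3 {r q : ℕ} (d : ℕ) (h5 : 5 ≤ r) (h : (r : ℤ) ∣ ((q : ℤ) ^ d) ^ 2 + (q : ℤ) ^ d + 1) : ¬ od q r ∣ d := by
  intro h1
  rw [od, ← CycTab.dvd_iff] at h1
  refine no_dvd (l := 3) h5 ?_ (by norm_num) (by norm_num)
  have e : (((3 : ℕ) : ℤ)) = (((q : ℤ) ^ d) ^ 2 + (q : ℤ) ^ d + 1) - ((q : ℤ) ^ d + 2) * ((q : ℤ) ^ d - 1) := by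
    push_cast; ring
  rw [e]
  exact dvd_sub h (h1.mul_left _)

theorem od_dvd_of {r q n : ℕ} {P : ℤ} (h : (r : ℤ) ∣ P) (e : P ∣ (q : ℤ) ^ n - 1) : od q r ∣ n := by
  rw [od, ← CycTab.dvd_iff]
  exact h.trans e

theorem fin_dvd : ∀ n ∈ [1, 2, 3, 4, 6, 8, 10, 12, 18], ∀ k ≤ 18, k ∣ n → (n = 1 ∨ ¬ k ∣ n / 2 ∨ ¬ 2 ∣ n) →
    (n = 1 ∨ ¬ k ∣ n / 3 ∨ ¬ 3 ∣ n) → k = n ∨ n = 10 ∧ k = 2 := by decide +kernel

theorem od_eq {r q : ℕ} (h5 : 5 ≤ r) {a : ℕ} (ha : a ∈ [1, 2, 3, 4, 6, 8, 10, 12, 18])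
    (h : (r : ℤ) ∣ CertTab.cyc a (q : ℤ)) : od q r = a ∨ a = 10 ∧ od q r = 2 := by
  have key : ∀ {n : ℕ}, n ∈ [1, 2, 3, 4, 6, 8, 10, 12, 18] → od q r ∣ n → (n = 1 ∨ ¬ od q r ∣ n / 2 ∨ ¬ 2 ∣ n) →
    (n = 1 ∨ ¬ od q r ∣ n / 3 ∨ ¬ 3 ∣ n) → od q r = n ∨ n = 10 ∧ od q r = 2 := by
    intro n hn h1 h2 h3
    have h6 : ∀ n ∈ [1, 2, 3, 4, 6, 8, 10, 12, 18], 0 < n ∧ n ≤ 18 := by decide
    exact fin_dvd n hn _ ((Nat.le_of_dvd (h6 n hn).1 h1).trans (h6 n hn).2) h1 h2 h3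
  simp only [List.mem_cons, List.not_mem_nil, or_false] at ha
  rcases ha with rfl | rfl | rfl | rfl | rfl | rfl | rfl | rfl | rfl
  · have h' : (r : ℤ) ∣ pv c1 (q : ℤ) := h
    rw [pv_c1] at h'
    exact key (by decide) (od_dvd_of h' ⟨1, by ring⟩) (Or.inl rfl) (Or.inl rfl)
  · have h' : (r : ℤ) ∣ pv c2 (q : ℤ) := h
    rw [pv_c2] at h'
    refine key (by decide) (od_dvd_of h' ⟨q - 1, by ring⟩) (Or.inr (Or.inl ?_)) (Or.inr (Or.inr (by norm_num)))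
    exact not2 1 h5 (by rw [pow_one]; exact h')
  · have h' : (r : ℤ) ∣ pv c3 (q : ℤ) := h
    rw [pv_c3] at h'
    refine key (by decide) (od_dvd_of h' ⟨q - 1, by ring⟩) (Or.inr (Or.inr (by norm_num))) (Or.inr (Or.inl ?_))
    exact not3 1 h5 (by rw [pow_one]; exact h')
  · have h' : (r : ℤ) ∣ pv c4 (q : ℤ) := h
    rw [pv_c4] at h'
    refine key (by decide) (od_dvd_of h' ⟨(q : ℤ) ^ 2 - 1, by ring⟩) (Or.inr (Or.inl ?_)) (Or.inr (Or.inr (by norm_num)))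
    exact not2 2 h5 h'
  · have h' : (r : ℤ) ∣ pv c6 (q : ℤ) := h
    rw [pv_c6] at h'
    refine key (by decide) (od_dvd_of h' ⟨((q : ℤ) ^ 3 - 1) * (q + 1), by ring⟩) (Or.inr (Or.inl ?_))
      (Or.inr (Or.inl ?_))
    · exact not2 3 h5 (h'.trans ⟨(q : ℤ) + 1, by ring⟩)
    · exact not3 2 h5 (h'.trans ⟨(q : ℤ) ^ 2 + q + 1, by ring⟩)
  · have h' : (r : ℤ) ∣ pv c8 (q : ℤ) := h
    rw [pv_c8] at h'
    refine key (by decide) (od_dvd_of h' ⟨(q : ℤ) ^ 4 - 1, by ring⟩) (Or.inr (Or.inl ?_)) (Or.inr (Or.inr (by norm_num)))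
    exact not2 4 h5 h'
  · have h' : (r : ℤ) ∣ pv c10 (q : ℤ) := h
    rw [pv_c10] at h'
    refine key (by decide) (od_dvd_of h' ⟨((q : ℤ) ^ 5 - 1) * (q + 1), by ring⟩) (Or.inr (Or.inl ?_))
      (Or.inr (Or.inr (by norm_num)))
    exact not2 5 h5 (h'.trans ⟨(q : ℤ) + 1, by ring⟩)
  · have h' : (r : ℤ) ∣ pv c12 (q : ℤ) := h
    rw [pv_c12] at h'
    refine key (by decide) (od_dvd_of h' ⟨((q : ℤ) ^ 6 - 1) * (q ^ 2 + 1), by ring⟩) (Or.inr (Or.inl ?_))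
      (Or.inr (Or.inl ?_))
    · exact not2 6 h5 (h'.trans ⟨(q : ℤ) ^ 2 + 1, by ring⟩)
    · exact not3 4 h5 (h'.trans ⟨(q : ℤ) ^ 4 + q ^ 2 + 1, by ring⟩)
  · have h' : (r : ℤ) ∣ pv c18 (q : ℤ) := h
    rw [pv_c18] at h'
    refine key (by decide) (od_dvd_of h' ⟨((q : ℤ) ^ 9 - 1) * (q ^ 3 + 1), by ring⟩) (Or.inr (Or.inl ?_))
      (Or.inr (Or.inl ?_))
    · exact not2 9 h5 (h'.trans ⟨(q : ℤ) ^ 3 + 1, by ring⟩)
    · exact not3 6 h5 (h'.trans ⟨(q : ℤ) ^ 6 + q ^ 3 + 1, by ring⟩)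

/-- the classes of the tori -/
def TT0 : List (List ℕ) := [[1, 2, 8], [1, 2, 10], [1, 2, 3, 4], [1, 2, 3, 6], [6, 12], [18]]

/-- one torus -/
theorem mem_tor {r q : ℕ} (hr : r.Prime) (h5 : 5 ≤ r) : ∀ L : List ℕ, (∀ a ∈ L, a ∈ [1, 2, 3, 4, 6, 8, 10, 12, 18]) →
    (10 ∈ L → 2 ∈ L) → (r : ℤ) ∣ (L.map fun a => CertTab.cyc a (q : ℤ)).prod → od q r ∈ L := by
  have hp := Nat.prime_iff_prime_int.1 hr
  have key : ∀ L : List ℕ, (∀ a ∈ L, a ∈ [1, 2, 3, 4, 6, 8, 10, 12, 18]) →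
      (r : ℤ) ∣ (L.map fun a => CertTab.cyc a (q : ℤ)).prod → ∃ a ∈ L, od q r = a ∨ a = 10 ∧ od q r = 2 := by
    intro L
    induction L with
    | nil =>
      intro _ h
      rw [List.map_nil, List.prod_nil] at h
      exact (no_dvd (l := 1) h5 (by exact_mod_cast h) (by norm_num) (by norm_num)).elim
    | cons a L ih =>
      intro h1 h2
      rw [List.map_cons, List.prod_cons] at h2
      rcases hp.dvd_or_dvd h2 with h3 | h3
      · exact ⟨a, List.mem_cons_self, od_eq h5 (h1 a List.mem_cons_self) h3⟩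
      · obtain ⟨b, hb, h4⟩ := ih (fun a ha => h1 a (List.mem_cons_of_mem _ ha)) h3
        exact ⟨b, List.mem_cons_of_mem _ hb, h4⟩
  intro L h1 h2 h3
  obtain ⟨a, ha, h4 | ⟨rfl, h4⟩⟩ := key L h1 h3
  · rw [h4]; exact ha
  · rw [h4]; exact h2 ha

theorem tor_of {r q m : ℕ} {P : ℕ} (hr : r.Prime) (h5 : 5 ≤ r) (hm : m ∣ P) (hd : r ∣ m) (L : List ℕ)
    (h1 : ∀ a ∈ L, a ∈ [1, 2, 3, 4, 6, 8, 10, 12, 18]) (h2 : 10 ∈ L → 2 ∈ L)
    (e : (P : ℤ) = (L.map fun a => CertTab.cyc a (q : ℤ)).prod) : od q r ∈ L := by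
  refine mem_tor hr h5 L h1 h2 ?_
  rw [← e]
  exact Int.natCast_dvd_natCast.2 (hd.trans hm)

theorem cycs (q : ℤ) : CertTab.cyc 1 q = q - 1 ∧ CertTab.cyc 2 q = q + 1 ∧ CertTab.cyc 3 q = q ^ 2 + q + 1 ∧
    CertTab.cyc 4 q = q ^ 2 + 1 ∧ CertTab.cyc 6 q = q ^ 2 - q + 1 ∧ CertTab.cyc 8 q = q ^ 4 + 1 ∧
    CertTab.cyc 10 q = q ^ 4 - q ^ 3 + q ^ 2 - q + 1 ∧ CertTab.cyc 12 q = q ^ 4 - q ^ 2 + 1 ∧
    CertTab.cyc 18 q = q ^ 6 - q ^ 3 + 1 :=
  ⟨pv_c1 q, pv_c2 q, pv_c3 q, pv_c4 q, pv_c6 q, pv_c8 q, pv_c10 q, pv_c12 q, pv_c18 q⟩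

/-- the tori -/
theorem s0_mem {p q n b m : ℕ} (hq : 2 ≤ q) (h : Om p q n b m) :
    ∃ T ∈ TT0, ∀ r : ℕ, r.Prime → 5 ≤ r → r ∣ m → od q r ∈ T := by
  obtain ⟨e1, e2, e3, e4, e6, e8, e10, e12, e18⟩ := cycs (q : ℤ)
  have a1 : 1 ≤ q ^ 2 := Nat.one_le_pow _ _ (by (clear * - hq; omega))
  have a2 : 1 ≤ q ^ 4 := Nat.one_le_pow _ _ (by (clear * - hq; omega))
  have a3 : 1 ≤ q ^ 6 := Nat.one_le_pow _ _ (by (clear * - hq; omega))
  have a4 : q ^ 2 ≤ q ^ 4 := Nat.pow_le_pow_right (by (clear * - hq; omega)) (by norm_num)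
  have a5 : q ≤ q ^ 2 := Nat.le_self_pow (by norm_num) q
  have a6 : q ^ 3 ≤ q ^ 6 := Nat.pow_le_pow_right (by (clear * - hq; omega)) (by norm_num)
  have a7 : 1 ≤ q := by (clear * - hq; omega)
  rcases h.s0 with h1 | h1 | h1 | h1 | h1 | h1
  · refine ⟨[1, 2, 8], by decide, fun r hr h5 hd => tor_of hr h5 h1 hd _ (by decide) (by decide) ?_⟩
    simp only [List.map_cons, List.map_nil, List.prod_cons, List.prod_nil, e1, e2, e8]
    push_cast [Nat.cast_sub a1]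
    ring
  · refine ⟨[1, 2, 10], by decide, fun r hr h5 hd => tor_of hr h5 h1 hd _ (by decide) (by decide) ?_⟩
    simp only [List.map_cons, List.map_nil, List.prod_cons, List.prod_nil, e1, e2, e10]
    push_cast [Nat.cast_sub a7]
    ring
  · refine ⟨[1, 2, 3, 4], by decide, fun r hr h5 hd => tor_of hr h5 h1 hd _ (by decide) (by decide) ?_⟩
    simp only [List.map_cons, List.map_nil, List.prod_cons, List.prod_nil, e1, e2, e3, e4]
    push_cast [Nat.cast_sub a2]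
    ring
  · refine ⟨[1, 2, 3, 6], by decide, fun r hr h5 hd => tor_of hr h5 h1 hd _ (by decide) (by decide) ?_⟩
    simp only [List.map_cons, List.map_nil, List.prod_cons, List.prod_nil, e1, e2, e3, e6]
    push_cast [Nat.cast_sub a3]
    ring
  · refine ⟨[6, 12], by decide, fun r hr h5 hd => tor_of hr h5 h1 hd _ (by decide) (by decide) ?_⟩
    simp only [List.map_cons, List.map_nil, List.prod_cons, List.prod_nil, e6, e12]
    push_cast [Nat.cast_sub a4, Nat.cast_sub a5]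
    ring
  · refine ⟨[18], by decide, fun r hr h5 hd => tor_of hr h5 h1 hd _ (by decide) (by decide) ?_⟩
    simp only [List.map_cons, List.map_nil, List.prod_cons, List.prod_nil, e18]
    push_cast [Nat.cast_sub a6]
    ring

/-- the tori of the centralisers of unipotent elements -/
theorem s1_mem {p q n b m : ℕ} (hq : 2 ≤ q) (h : Om p q n b m) (hb : b ≠ 0) {r : ℕ} (hr : r.Prime) (h5 : 5 ≤ r)
    (hd : r ∣ m) : od q r ∈ [1, 2, 3, 4, 6, 10] := by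
  obtain ⟨e1, e2, e3, e4, e6, e8, e10, e12, e18⟩ := cycs (q : ℤ)
  have a0 : 1 ≤ q ^ 3 := Nat.one_le_pow _ _ (by (clear * - hq; omega))
  have a2 : 1 ≤ q ^ 4 := Nat.one_le_pow _ _ (by (clear * - hq; omega))
  have a5 : q ≤ q ^ 2 := Nat.le_self_pow (by norm_num) q
  have a7 : 1 ≤ q := by (clear * - hq; omega)
  have key : ∀ {L : List ℕ}, od q r ∈ L → (∀ a ∈ L, a ∈ [1, 2, 3, 4, 6, 10]) → od q r ∈ [1, 2, 3, 4, 6, 10] :=
    fun h1 h2 => h2 _ h1
  rcases h.s1 hb with h1 | h1 | h1 | h1 | h1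
  · refine key (tor_of hr h5 h1 hd [1, 2, 6] (by decide) (by decide) ?_) (by decide)
    simp only [List.map_cons, List.map_nil, List.prod_cons, List.prod_nil, e1, e2, e6]
    push_cast [Nat.cast_sub a7]
    ring
  · refine key (tor_of hr h5 h1 hd [1, 2, 4] (by decide) (by decide) ?_) (by decide)
    simp only [List.map_cons, List.map_nil, List.prod_cons, List.prod_nil, e1, e2, e4]
    push_cast [Nat.cast_sub a2]
    ring
  · refine key (tor_of hr h5 h1 hd [2, 10] (by decide) (by decide) ?_) (by decide)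
    simp only [List.map_cons, List.map_nil, List.prod_cons, List.prod_nil, e2, e10]
    push_cast
    ring
  · refine key (tor_of hr h5 h1 hd [1, 3, 6] (by decide) (by decide) ?_) (by decide)
    simp only [List.map_cons, List.map_nil, List.prod_cons, List.prod_nil, e1, e3, e6]
    push_cast [Nat.cast_sub a0, Nat.cast_sub a5]
    ring
  · refine key (tor_of hr h5 h1 hd [1, 2, 3] (by decide) (by decide) ?_) (by decide)
    simp only [List.map_cons, List.map_nil, List.prod_cons, List.prod_nil, e1, e2, e3]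
    push_cast [Nat.cast_sub a0]
    ring

/-! ### the facts for the group -/

/-- the adjacent classes -/
def LT : List (ℕ × ℕ) := [(1, 1), (2, 2), (3, 3), (4, 4), (6, 6), (8, 8), (10, 10), (12, 12), (18, 18),
  (1, 2), (1, 3), (1, 4), (1, 6), (1, 8), (1, 10), (2, 3), (2, 4), (2, 6), (2, 8), (2, 10), (3, 4), (3, 6), (6, 12)]

section

variable {K : Type u} [Field K] [Fintype K] {q : ℕ} (hq : IsPrimePow q) (hK : Fintype.card K = q ^ 2)

include hq hK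

/-- **adjacent classes** -/
theorem relT {r s : ℕ} (hr : r.Prime) (hs : s.Prime) (hr3 : r ≠ 3) (hs3 : s ≠ 3) {a b : ℕ} (h : (a, b) ∈ LT)
    (h1 : (r : ℤ) ∣ CertTab.cyc a (q : ℤ)) (h2 : (s : ℤ) ∣ CertTab.cyc b (q : ℤ)) : Pr ↥(twistedE6 K q) r s := by
  have g1 := H493.PGE6T.natCard_ne_of hq hK hr hr3
  have g2 := H493.PGE6T.natCard_ne_of hq hK hs hs3
  simp only [LT, List.mem_cons, Prod.mk.injEq, List.not_mem_nil, or_false] at h
  rcases h with ⟨rfl, rfl⟩ | ⟨rfl, rfl⟩ | ⟨rfl, rfl⟩ | ⟨rfl, rfl⟩ | ⟨rfl, rfl⟩ | ⟨rfl, rfl⟩ | ⟨rfl, rfl⟩ | ⟨rfl, rfl⟩ |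
    ⟨rfl, rfl⟩ | ⟨rfl, rfl⟩ | ⟨rfl, rfl⟩ | ⟨rfl, rfl⟩ | ⟨rfl, rfl⟩ | ⟨rfl, rfl⟩ | ⟨rfl, rfl⟩ | ⟨rfl, rfl⟩ | ⟨rfl, rfl⟩ |
    ⟨rfl, rfl⟩ | ⟨rfl, rfl⟩ | ⟨rfl, rfl⟩ | ⟨rfl, rfl⟩ | ⟨rfl, rfl⟩ | ⟨rfl, rfl⟩
  · exact pairE_gen hq hK CertTE6.chainI_ok CertTE6.hThI CertTE6.eigI_1 (by decide) CertTE6.eigI_1 (by decide) hr hs g1 g2 h1 h2
  · exact pairE_gen hq hK CertTE6.chainI_ok CertTE6.hThI CertTE6.eigI_2 (by decide) CertTE6.eigI_2 (by decide) hr hs g1 g2 h1 h2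
  · exact pairE_gen hq hK CertTE6.chainI_ok CertTE6.hThI CertTE6.eigI_3 (by decide) CertTE6.eigI_3 (by decide) hr hs g1 g2 h1 h2
  · exact pairE_gen hq hK CertTE6.chainI_ok CertTE6.hThI CertTE6.eigI_4 (by decide) CertTE6.eigI_4 (by decide) hr hs g1 g2 h1 h2
  · exact pairE_gen hq hK CertTE6.chainH_ok CertTE6.hThH CertTE6.eigH_6 (by decide) CertTE6.eigH_6 (by decide) hr hs g1 g2 h1 h2
  · exact pairE_gen hq hK H493.PGE6T.chainE_ok H493.PGE6T.hThE H493.PGE6T.eigE_8 (by decide) H493.PGE6T.eigE_8 (by decide) hr hs g1 g2 h1 h2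
  · exact pairE_gen hq hK H493.PGE6T.chainD_ok H493.PGE6T.hThD H493.PGE6T.eigD_10 (by decide) H493.PGE6T.eigD_10 (by decide) hr hs g1 g2 h1 h2
  · exact pairE_gen hq hK H493.PGE6T.chainF_ok H493.PGE6T.hThF H493.PGE6T.eigF_12 (by decide) H493.PGE6T.eigF_12 (by decide) hr hs g1 g2 h1 h2
  · exact pairE_gen hq hK H493.PGE6T.chainG_ok H493.PGE6T.hThG H493.PGE6T.eigG_18 (by decide) H493.PGE6T.eigG_18 (by decide) hr hs g1 g2 h1 h2
  · exact pairE_gen hq hK CertTE6.chainI_ok CertTE6.hThI CertTE6.eigI_1 (by decide) CertTE6.eigI_2 (by decide) hr hs g1 g2 h1 h2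
  · exact pairE_gen hq hK CertTE6.chainI_ok CertTE6.hThI CertTE6.eigI_1 (by decide) CertTE6.eigI_3 (by decide) hr hs g1 g2 h1 h2
  · exact pairE_gen hq hK CertTE6.chainI_ok CertTE6.hThI CertTE6.eigI_1 (by decide) CertTE6.eigI_4 (by decide) hr hs g1 g2 h1 h2
  · exact pairE_gen hq hK CertTE6.chainH_ok CertTE6.hThH CertTE6.eigH_1 (by decide) CertTE6.eigH_6 (by decide) hr hs g1 g2 h1 h2
  · exact pairE_gen hq hK H493.PGE6T.chainE_ok H493.PGE6T.hThE H493.PGE6T.eigE_1 (by decide) H493.PGE6T.eigE_8 (by decide) hr hs g1 g2 h1 h2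
  · exact pairE_gen hq hK H493.PGE6T.chainD_ok H493.PGE6T.hThD CertTE6.eigD_1 (by decide) H493.PGE6T.eigD_10 (by decide) hr hs g1 g2 h1 h2
  · exact pairE_gen hq hK CertTE6.chainI_ok CertTE6.hThI CertTE6.eigI_2 (by decide) CertTE6.eigI_3 (by decide) hr hs g1 g2 h1 h2
  · exact pairE_gen hq hK CertTE6.chainI_ok CertTE6.hThI CertTE6.eigI_2 (by decide) CertTE6.eigI_4 (by decide) hr hs g1 g2 h1 h2
  · exact pairE_gen hq hK CertTE6.chainH_ok CertTE6.hThH CertTE6.eigH_2 (by decide) CertTE6.eigH_6 (by decide) hr hs g1 g2 h1 h2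
  · exact pairE_gen hq hK H493.PGE6T.chainE_ok H493.PGE6T.hThE H493.PGE6T.eigE_2 (by decide) H493.PGE6T.eigE_8 (by decide) hr hs g1 g2 h1 h2
  · exact pairE_gen hq hK H493.PGE6T.chainD_ok H493.PGE6T.hThD CertTE6.eigD_2 (by decide) H493.PGE6T.eigD_10 (by decide) hr hs g1 g2 h1 h2
  · exact pairE_gen hq hK CertTE6.chainI_ok CertTE6.hThI CertTE6.eigI_3 (by decide) CertTE6.eigI_4 (by decide) hr hs g1 g2 h1 h2
  · exact pairE_gen hq hK CertTE6.chainH_ok CertTE6.hThH CertTE6.eigH_3 (by decide) CertTE6.eigH_6 (by decide) hr hs g1 g2 h1 h2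
  · exact pairE_gen hq hK H493.PGE6T.chainF_ok H493.PGE6T.hThF H493.PGE6T.eigF_6 (by decide) H493.PGE6T.eigF_12 (by decide) hr hs g1 g2 h1 h2

/-- **classes adjacent to the characteristic** -/
theorem relpT {r p : ℕ} (hr : r.Prime) (hp : p.Prime) (hr3 : r ≠ 3) {a : ℕ} (h : a ∈ [1, 2, 3, 4, 6, 10])
    (h1 : (r : ℤ) ∣ CertTab.cyc a (q : ℤ)) (h2 : p ∣ q) : Pr ↥(twistedE6 K q) r p := by
  have g1 := H493.PGE6T.natCard_ne_of hq hK hr hr3
  simp only [List.mem_cons, List.not_mem_nil, or_false] at h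
  rcases h with rfl | rfl | rfl | rfl | rfl | rfl
  · exact pairE_p hq hK H493.PGE6T.chainA_ok H493.PGE6T.hThA H493.PGE6T.eigA_1 (by decide) (by decide)
      H493.PGE6T.fixA H493.PGE6T.vanA_1 hr hp g1 h1 h2
  · exact pairE_p hq hK H493.PGE6T.chainA_ok H493.PGE6T.hThA H493.PGE6T.eigA_2 (by decide) (by decide)
      H493.PGE6T.fixA H493.PGE6T.vanA_2 hr hp g1 h1 h2
  · exact pairE_p hq hK H493.PGE6T.chainB_ok H493.PGE6T.hThB H493.PGE6T.eigB_3 (by decide) (by decide)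
      H493.PGE6T.fixB H493.PGE6T.vanB_3 hr hp g1 h1 h2
  · exact pairE_p hq hK H493.PGE6T.chainC_ok H493.PGE6T.hThC H493.PGE6T.eigC_4 (by decide) (by decide)
      H493.PGE6T.fixC H493.PGE6T.vanC_4 hr hp g1 h1 h2
  · exact pairE_p hq hK H493.PGE6T.chainB_ok H493.PGE6T.hThB H493.PGE6T.eigB_6 (by decide) (by decide)
      H493.PGE6T.fixB H493.PGE6T.vanB_6 hr hp g1 h1 h2
  · exact pairE_p hq hK H493.PGE6T.chainD_ok H493.PGE6T.hThD H493.PGE6T.eigD_10 (by decide) (by decide)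
      H493.PGE6T.fixD H493.PGE6T.vanD_10 hr hp g1 h1 h2

/-- the classes -/
theorem cl_TE6 {r : ℕ} (hr : r.Prime) (h5 : 5 ≤ r) (hrq : ¬ r ∣ q) (hd : r ∣ Nat.card ↥(twistedE6 K q)) :
    od q r ∈ clTE6 := by
  have h1 : r ∣ q ^ 36 * (q ^ 2 - 1) * (q ^ 5 + 1) * (q ^ 6 - 1) * (q ^ 8 - 1) * (q ^ 9 + 1) * (q ^ 12 - 1) := by
    rw [← Cfsg.Agent.S1066.result hq hK]
    exact hd.mul_left _
  have key : ∀ {a : ℕ}, a ∈ clTE6 → (r : ℤ) ∣ CertTab.cyc a (q : ℤ) → od q r ∈ clTE6 := by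
    intro a ha h
    rcases od_eq h5 ha h with h2 | ⟨-, h2⟩
    · rw [h2]; exact ha
    · rw [h2]; decide
  rcases H493.PGE6T.cover hq.two_le hr h1 with (h | h | h | h | h | h | h) | h | h | h
  · exact absurd h hrq
  · exact key (a := 1) (by decide) h
  · exact key (a := 2) (by decide) h
  · exact key (a := 3) (by decide) h
  · exact key (a := 4) (by decide) h
  · exact key (a := 6) (by decide) h
  · exact key (a := 10) (by decide) h
  · exact key (a := 8) (by decide) h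
  · exact key (a := 12) (by decide) h
  · exact key (a := 18) (by decide) h

end

theorem order_mul {G : Type*} [Group G] {r s : ℕ} (hr : r.Prime) (hs : s.Prime) (hrs : r ≠ s) (h : Pr G r s) :
    ∃ g : G, orderOf g = r * s := by
  obtain ⟨x, y, hx, hy, hc⟩ := h
  refine ⟨x * y, ?_⟩
  rw [hc.orderOf_mul_eq_mul_orderOf_of_coprime (by rw [hx, hy]; exact (Nat.coprime_primes hr hs).2 hrs), hx, hy]

theorem adj_mask : ∀ a ∈ clTE6, ∀ b ∈ clTE6, (tabTE6.adj.getD (clTE6.idxOf a) 0).testBit (clTE6.idxOf b) = true →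
    (a, b) ∈ LT ∨ (b, a) ∈ LT := by decide +kernel

theorem na_mask : ∀ a ∈ clTE6, ∀ b ∈ clTE6, (tabTE6.na.getD (clTE6.idxOf a) 0).testBit (clTE6.idxOf b) = true →
    ∀ T ∈ TT0, ¬ (a ∈ T ∧ b ∈ T) := by decide +kernel

theorem tt_mask : ∀ a ∈ clTE6, tabTE6.tt.testBit (clTE6.idxOf a) = true → a ∉ [1, 2, 3, 4, 6, 10] := by decide +kernel

theorem nt_mask : ∀ a ∈ clTE6, tabTE6.nt.testBit (clTE6.idxOf a) = true → a ∈ [1, 2, 3, 4, 6, 10] := by decide +kernel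

end Cfsg.Agent.R2.Spec.EE.SokTE6

namespace Cfsg.Agent.R2.Spec.EE

open Cfsg Cfsg.Lie Cfsg.Agent Cfsg.Agent.H426.LieFam
open Cfsg.Agent.R2.Spec.EE.SokB Cfsg.Agent.R2.Spec.EE.SokTE6
open Cfsg.Agent.H378.ExcAdj (od od_dvd)

universe u

/-- **The table of `²E₆(q)`.** -/
theorem sok_te6 {S : Type u} [Group S] [Finite S] {v f : ℕ} (hv : v.Prime) (h : Fam.Is v f S .te6) :
    SOk tabTE6 S v (kcl clTE6 (v ^ f)) := by
  obtain ⟨K, _, _, _, hK, ⟨e⟩⟩ := h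
  have hF : Fact v.Prime := ⟨hv⟩
  have hf : f ≠ 0 := by
    rintro rfl
    rw [pow_zero, one_pow] at hK
    exact absurd hK Fintype.one_lt_card.ne'
  have hq : IsPrimePow (v ^ f) := hv.isPrimePow.pow hf
  have hvq : v ∣ v ^ f := dvd_pow_self v hf
  have hcard : Nat.card S = Nat.card ↥(Lie.twistedE6 K (v ^ f)) := Nat.card_congr e.toEquiv
  have hnq : ∀ {r : ℕ}, r.Prime → r ≠ v → ¬ r ∣ v ^ f := by
    intro r hr hrv h1
    exact hrv ((Nat.prime_dvd_prime_iff_eq hr hv).1 (hr.dvd_of_dvd_pow h1))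
  have hcl : ∀ {r : ℕ}, r.Prime → 5 ≤ r → r ≠ v → r ∣ Nat.card S → od (v ^ f) r ∈ clTE6 := by
    intro r hr h5 hrv h1
    rw [hcard] at h1
    exact cl_TE6 hq hK hr h5 (hnq hr hrv) h1
  have hk : ∀ r : ℕ, kcl clTE6 (v ^ f) r = clTE6.idxOf (od (v ^ f) r) := fun r => rfl
  have htr : ∀ {n : ℕ}, (∃ g : ↥(Lie.twistedE6 K (v ^ f)), orderOf g = n) → ∃ g : S, orderOf g = n := by
    rintro n ⟨g, hg⟩
    exact ⟨e.symm g, by rw [MulEquiv.orderOf_eq, hg]⟩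
  have hsub : ∀ a ∈ clTE6, a ∈ [1, 2, 3, 4, 5, 6, 7, 8, 9, 10, 12, 14, 18] := by decide
  have hcyc : ∀ {r : ℕ}, r.Prime → od (v ^ f) r ∈ clTE6 →
      (r : ℤ) ∣ CertTab.cyc (od (v ^ f) r) ((v ^ f : ℕ) : ℤ) := by
    intro r hr h1
    exact cyc_of_od hr (hsub _ h1) rfl
  have hOm : ∀ g : S, ∃ b m : ℕ, H378.OmTE6.Om v (v ^ f) (orderOf g) b m := by
    intro g
    have h1 := H378.OmTE6.om_2E6 (p := v) hq (by rw [Nat.card_eq_fintype_card, hK]) (e g)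
    rw [MulEquiv.orderOf_eq] at h1
    exact h1
  refine ⟨fun r hr h5 hrv hd => ?_, fun r s hr hs h5 h5' hrv hsv hrs hd hd' hb => ?_,
    fun r s hr hs h5 h5' hrv hsv hrs hd hd' hb => ?_, fun r hr h5 hrv hd hb => ?_, fun r hr h5 hrv hd hb => ?_⟩
  · exact List.idxOf_lt_length_of_mem (hcl hr h5 hrv hd)
  · rw [hk, hk] at hb
    have c1 := hcl hr h5 hrv hd
    have c2 := hcl hs h5' hsv hd'
    refine htr ?_
    rcases adj_mask _ c1 _ c2 hb with h3 | h3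
    · exact order_mul hr hs hrs (relT hq hK hr hs (by omega) (by omega) h3 (hcyc hr c1) (hcyc hs c2))
    · exact order_mul hr hs hrs (relT hq hK hs hr (by omega) (by omega) h3 (hcyc hs c2) (hcyc hr c1)).symm
  · rw [hk, hk] at hb
    rintro ⟨g, hg⟩
    obtain ⟨b, m, hO⟩ := hOm g
    obtain ⟨T, hT, h3⟩ := s0_mem hq.two_le hO
    have hm : ∀ {r : ℕ}, r.Prime → r ≠ v → r ∣ orderOf g → r ∣ m := by
      intro r hr hrv h1
      rw [hO.eq] at h1
      rcases (hr.dvd_mul).1 h1 with h2 | h2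
      · exact absurd ((Nat.prime_dvd_prime_iff_eq hr hv).1 (hr.dvd_of_dvd_pow h2)) hrv
      · exact h2
    exact na_mask _ (hcl hr h5 hrv hd) _ (hcl hs h5' hsv hd') hb T hT
      ⟨h3 r hr h5 (hm hr hrv (by rw [hg]; exact dvd_mul_right r s)),
        h3 s hs h5' (hm hs hsv (by rw [hg]; exact dvd_mul_left s r))⟩
  · rw [hk] at hb
    rintro ⟨g, hg⟩
    obtain ⟨b, m, hO⟩ := hOm g
    have hm : r ∣ m := by
      have h1 : r ∣ orderOf g := by rw [hg]; exact dvd_mul_right r v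
      rw [hO.eq] at h1
      rcases (hr.dvd_mul).1 h1 with h2 | h2
      · exact absurd ((Nat.prime_dvd_prime_iff_eq hr hv).1 (hr.dvd_of_dvd_pow h2)) hrv
      · exact h2
    have hb0 : b ≠ 0 := by
      rintro rfl
      apply hO.nd
      have h1 := hO.eq
      rw [pow_zero, one_mul, hg] at h1
      rw [← h1]
      exact dvd_mul_left v r
    exact tt_mask _ (hcl hr h5 hrv hd) hb (s1_mem hq.two_le hO hb0 hr h5 hm)
  · rw [hk] at hb
    have c1 := hcl hr h5 hrv hd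
    have h3 := nt_mask _ c1 hb
    exact htr (order_mul hr hv hrv (relpT hq hK hr hv (by omega) h3 (hcyc hr c1) hvq))

end Cfsg.Agent.R2.Spec.EE
end

private theorem dce_5df4803a5459 : _root_.True := by
  try have : _root_.True := by simp only [_root_.Cfsg.Agent.R2.Spec.EE.SokTE6.LT.eq_1]
  exact _root_.True.intro
end

-- part: R2/Spec/EE/SmDef
section
set_option linter.all false

/-!
# The small ranks (helper13)

`Sm t` : `psl 8`, `psu 8`, `psp n`, `oodd n`, `oplus n`, `ominus n` with `n = 5, 6, 7`.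
-/

set_option autoImplicit false

namespace Cfsg.Agent.R2.Spec.EE

open Cfsg.Agent.H426.LieFam

/-- the small ranks -/
def smL : List Fam := [.psl 8, .psu 8, .psp 5, .psp 6, .psp 7, .oodd 5, .oodd 6, .oodd 7, .oplus 5, .oplus 6, .oplus 7,
  .ominus 5, .ominus 6, .ominus 7]

/-- the small ranks -/
def Sm (t : Fam) : Prop := t ∈ smL

theorem sm_iff (t : Fam) : Sm t ↔ t = .psl 8 ∨ t = .psu 8 ∨ t = .psp 5 ∨ t = .psp 6 ∨ t = .psp 7 ∨ t = .oodd 5 ∨
    t = .oodd 6 ∨ t = .oodd 7 ∨ t = .oplus 5 ∨ t = .oplus 6 ∨ t = .oplus 7 ∨ t = .ominus 5 ∨ t = .ominus 6 ∨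
    t = .ominus 7 := by
  simp only [Sm, smL, List.mem_cons, List.not_mem_nil, or_false]

end Cfsg.Agent.R2.Spec.EE

private theorem dce_4159f69f69f5 : _root_.True := by
  try have : _root_.True := by simp only [_root_.Cfsg.Agent.R2.Spec.EE.smL.eq_1]
  try have : _root_.True := by simp only [_root_.Cfsg.Agent.R2.Spec.EE.Sm.eq_1]
  exact _root_.True.intro
end

-- part: R2/Spec/EE/OrdX
section
set_option linter.all false
open scoped Cfsg.Agent.FastGrp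

/-!
# S3435, EE: elements of a given order in the cyclic tori of `E₆(q)`, `²E₆(q)` (helper13)

* `ordX_of_eig`, `ordX_genT` : an element `x` with `m ∣ d * orderOf x` for every `m ∣ f(q)`, `f` any monic polynomial with a
  certificate;
* `ordX12_e6`, `ordX12_te6` : `Φ₃Φ₁₂` resp. `Φ₆Φ₁₂`; `ordX8_e6`, `ordX8_te6` : `Φ₁Φ₂Φ₈`.
-/

set_option autoImplicit false
set_option linter.unusedSectionVars false
set_option linter.unnecessarySeqFocus false

namespace Cfsg.Agent.R2.Spec.EE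

universe u

theorem orderOf_dvd_of_hom {A B : Type*} [Group A] [Group B] (φ : A →* B) {d : ℕ} (hφ : ∀ x, φ x = 1 → x ^ d = 1)
    (x : A) : orderOf x ∣ d * orderOf (φ x) := by
  apply orderOf_dvd_of_pow_eq_one
  rw [mul_comm, pow_mul]
  apply hφ
  rw [map_pow, pow_orderOf_eq_one]

section Untw

open CoxeterSystem Subgroup Cfsg Cfsg.Lie Cfsg.Lie.ChevalleyDatum
open Cfsg.Agent.ChevalleyStructure Cfsg.Agent.ChevalleyStructure.Elts Cfsg.Agent.ChevalleyStructure.CoxeterGeom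
  Cfsg.Agent.ChevalleyStructure.CoxeterGeomTypes Cfsg.Agent.ChevalleyStructure.NPerm
open Cfsg.Agent.Tits.Roots Cfsg.Agent.Tits.Core Cfsg.Agent.Nodes.Reps Cfsg.Agent.Nodes.BNOf
  Cfsg.Agent.Nodes.RGDChev Cfsg.Agent.Nodes.Bruhat
open Cfsg.Agent.KFacts.RgdField Cfsg.Agent.KFacts.RgdChevCoord Cfsg.Agent.BpExc.TorCent Cfsg.Agent.BpExc.TorChev
open Cfsg.Agent.BpExc.Tow Cfsg.Agent.BpExc.TowChev Cfsg.Agent.BpExc.FamExt Cfsg.Agent.BpExc.FamUntw
  Cfsg.Agent.BpExc.FamInst Cfsg.Agent.BpExc.LangFr Cfsg.Agent.BpExc.FamField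
open Cfsg.Agent.H378.TorDual Cfsg.Agent.H378.TorChar Cfsg.Agent.H378.TorFin
open Cfsg.Agent.H493 Cfsg.Agent.H493.PGTorus Cfsg.Agent.H493.PGCyc

variable {D : ChevalleyDatum} {l : ℕ} {M : CoxeterMatrix (Fin l)} (hp : IsType D l M) {W : Type*} [Group W] [Finite W]
  (cs : CoxeterSystem M W)

theorem ordX_of_eig {d : ℕ} {B : Fin l → Fin l → ℤ} (hB : InvC D l d B) (hd : d ≠ 0) {F : Type u} [Field F] [Finite F]
    {w : W} {Th : Fin l → Fin l → ℤ} (hw : ∀ j, rep cs hp.isCartan w (sr j) = Th j)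
    {f : ℕ} {c : Fin (f + 1) → ℤ} {V : Fin (f + 1) → Fin l → ℤ} {U : Fin l → ℤ} (h : EigOK Th c V U)
    {m : ℕ} (h1 : (m : ℤ) ∣ pv c (Nat.card F)) : ∃ x : D.group F, m ∣ d * orderOf x := by
  obtain ⟨φ, hφ⟩ := exists_hom hp cs hB hd (F := F) w
  have hq : (2 : ℤ) ≤ (Nat.card F : ℤ) := by
    exact_mod_cast Finite.one_lt_card
  have hwn : (rep cs hp.isCartan w) ^ Nat.card W = 1 := by
    rw [← map_pow, pow_card_eq_one', map_one]
  obtain ⟨x, hx⟩ := exists_order_of_dvd (rep_apply_eq hp cs hw) Nat.card_pos hwn h hq h1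
  refine ⟨φ x, ?_⟩
  rw [← hx]
  exact orderOf_dvd_of_hom φ hφ x

end Untw

section Tw

open CoxeterSystem Cfsg Cfsg.Lie Cfsg.Lie.ChevalleyDatum
open Cfsg.Agent.ChevalleyStructure Cfsg.Agent.ChevalleyStructure.Elts Cfsg.Agent.ChevalleyStructure.CoxeterGeom
  Cfsg.Agent.ChevalleyStructure.CoxeterGeomTypes Cfsg.Agent.ChevalleyStructure.NPerm
open Cfsg.Agent.Tits.Roots Cfsg.Agent.Tits.Core Cfsg.Agent.Nodes Cfsg.Agent.Nodes.Reps Cfsg.Agent.Nodes.BNOf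
  Cfsg.Agent.Nodes.RGDChev Cfsg.Agent.Nodes.Bruhat Cfsg.Agent.Nodes.SubComb Cfsg.Agent.Nodes.Coroot
open Cfsg.Agent.KFacts.RgdField Cfsg.Agent.KFacts.RgdChevCoord Cfsg.Agent.BpExc.TorCent Cfsg.Agent.BpExc.TorChev
open Cfsg.Agent.GpExc.Field Cfsg.Agent.BpExc.Tow Cfsg.Agent.BpExc.TowChev Cfsg.Agent.BpExc.Fr
  Cfsg.Agent.BpExc.LangFr Cfsg.Agent.LangThm Cfsg.Agent.BpExc Cfsg.Agent.H129 Cfsg.Agent.H129.TorusChar
  Cfsg.Agent.H129.TorusCent Cfsg.Agent.H129.WData Cfsg.Agent.H129.TorusUntw Cfsg.Agent.H493.TwE6Alg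
  Cfsg.Agent.H129.TorusTw Cfsg.Agent.H129.TorusMain Cfsg.Agent.H493 Cfsg.Agent.H493.PGTorus Cfsg.Agent.H493.PGTwist
  Cfsg.Agent.H493.PGCyc Cfsg.Agent.H493.PGE6T

section Alg

variable {D : ChevalleyDatum} {l : ℕ} {M : CoxeterMatrix (Fin l)} (hp : IsType D l M) {k : Type u} [Field k]
  [IsAlgClosed k] {W : Type*} [Group W] [Finite W] (cs : CoxeterSystem M W) {p e : ℕ} [Fact p.Prime] [CharP k p]
  {σ : MulAut ↥(D.group k)} {g : (Fin l → ℤ) ≃+ (Fin l → ℤ)}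
  {G0 : Type*} [Group G0] [Finite G0] {e0 : G0 →* ↥(D.group k)}

theorem ordX_of_eig_tw (hk : LocFin k) (he : 0 < e) (hσ : IsFrob p e σ)
    (F : Fr cs hp.isCartan (TT D k) (XX D l k) σ g) {d' : ℕ} {B' : Fin l → Fin l → ℤ} (hB : InvC D l d' B')
    (hd' : d' ≠ 0) (he0 : Function.Injective e0) {d : ℕ} (hd0 : d ≠ 0) (hd : ∀ y, σ y = y → y ^ d ∈ e0.range)
    {w : W} {Th : Fin l → Fin l → ℤ} (hw : ∀ j, rep cs hp.isCartan w (g (sr j)) = Th j)
    {f : ℕ} {c : Fin (f + 1) → ℤ} {V : Fin (f + 1) → Fin l → ℤ} {U : Fin l → ℤ}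
    (h : EigOK (fun i j => Th j i) c V U) (hc : c 0 = 1 ∨ c 0 = -1)
    {m : ℕ} (h1 : (m : ℤ) ∣ pv c ((p ^ e : ℕ) : ℤ)) : ∃ x : G0, m ∣ d * orderOf x := by
  obtain ⟨n, z, hz, hσ', F'⟩ := exists_z hp cs hk he hσ F w
  have hmp : ¬ p ∣ m := fun h2 =>
    ne_char hc Fact.out he ((Int.natCast_dvd_natCast.2 h2).trans h1) rfl
  obtain ⟨t, ht, h3, h4⟩ := exists_t_of hp cs hσ' F' hB hd' hmp (hL_of_eig hp cs hw h h1)
    (x₀ := U) (lam_unit h _)
  have ho : ∀ y : ↥(D.group k), orderOf (z * y * z⁻¹) = orderOf y := fun y =>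
    orderOf_injective (MulAut.conj z).toMonoidHom (MulAut.conj z).injective y
  obtain ⟨x, hx⟩ := hd _ (fix_conj hz h3)
  refine ⟨x, ?_⟩
  rw [← orderOf_injective e0 he0 x, hx]
  have h5 : m ∣ d * orderOf ((z * t * z⁻¹) ^ d) := by
    rw [← h4, ← ho]
    apply orderOf_dvd_of_pow_eq_one
    rw [pow_mul, pow_orderOf_eq_one]
  exact h5

end Alg

section

variable {K : Type u} [Field K] [Fintype K] {q : ℕ} (hq : IsPrimePow q) (hK : Fintype.card K = q ^ 2)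
  {L : List (Fin 6 × Mat 6)} (hL : ChainOK Am L) {Th : Mat 6} (hTh : ∀ j, hd L (pi j) = Th j)
  {f : ℕ} {c : Fin (f + 1) → ℤ} {V : Fin (f + 1) → Fin 6 → ℤ} {U : Fin 6 → ℤ}
  (h : EigOK (fun i j => Th j i) c V U) (hc : c 0 = 1 ∨ c 0 = -1)

include hq hK hL hTh h hc

theorem ordX_genT {m : ℕ} (h1 : (m : ℤ) ∣ pv c q) : ∃ x : ↥(twistedE6 K q), m ∣ Nat.gcd 3 (q + 1) * orderOf x := by
  have := PGE6.finW
  obtain ⟨p, e, hpF, hpk, he, hqe, hk⟩ := setup hq hK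
  have hqe' : (q : ℤ) = ((p ^ e : ℕ) : ℤ) := by rw [hqe]
  rw [hqe'] at h1
  exact ordX_of_eig_tw RGDTwE6.hp CoxeterMatrix.E₆.toCoxeterSystem hk he isFrob_tau (fr_tau _)
    TorusChar.invC_E6 (by norm_num) (embT_injective (algebraMap K (AlgebraicClosure K)) q) (d := Nat.gcd 3 (q + 1))
    (Nat.gcd_pos_of_pos_left _ (by norm_num)).ne' (fun y hy => tau_pow _ hqe hq hK hy) (lin _ hL hTh) h hc h1

end

end Tw

/-! ### the tori -/

section Main

open Cfsg Cfsg.Lie Cfsg.Agent Cfsg.Agent.H493 Cfsg.Agent.H493.PGTorus Cfsg.Agent.H493.PGCyc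

/-- `Φ₃Φ₁₂` -/
def cA12 : Fin 6 → ℤ := ![1, 1, 0, -1, 0, 1]

theorem pv_cA12 (q : ℤ) : pv cA12 q = (q ^ 2 + q + 1) * (q ^ 4 - q ^ 2 + 1) := by
  (simp [pv, cA12, Fin.sum_univ_succ]) <;> ring

/-- `Φ₆Φ₁₂` -/
def cB12 : Fin 6 → ℤ := ![1, -1, 0, 1, 0, -1]

theorem pv_cB12 (q : ℤ) : pv cB12 q = (q ^ 2 - q + 1) * (q ^ 4 - q ^ 2 + 1) := by
  (simp [pv, cB12, Fin.sum_univ_succ]) <;> ring

/-- `Φ₁Φ₂Φ₈` -/
def cC8 : Fin 6 → ℤ := ![-1, 0, 1, 0, -1, 0]

theorem pv_cC8 (q : ℤ) : pv cC8 q = (q ^ 2 - 1) * (q ^ 4 + 1) := by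
  (simp [pv, cC8, Fin.sum_univ_succ]) <;> ring

/-- the cyclic vector -/
def vA12 : Fin 6 → Fin 6 → ℤ := ![![0, 0, 1, 1, 0, 0], ![0, 1, 1, 2, 1, 0], ![1, 1, 1, 2, 2, 1], ![0, 0, 0, 0, 1, 1],
  ![-1, -1, -1, -1, -1, 0], ![-1, -1, -1, -1, -1, -1]]

theorem eA12 : EigOK (Cfsg.Agent.H129.WData.hd CertE6.ch3_12) cA12 vA12 ![0, -1, 1, 0, 0, 0] := by decide +kernel

/-- the cyclic vector -/
def vB12 : Fin 6 → Fin 6 → ℤ := ![![0, -1, 0, 0, 0, 1], ![-1, 2, 1, -1, 0, -1], ![1, -2, -1, 1, 1, -1],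
  ![-1, 0, 0, 1, -2, 2], ![1, 1, 1, -2, 1, -1], ![-1, -1, 0, 1, 0, 0]]

theorem eB12 : EigOK (fun i j => CertTE6.th6_12 j i) cB12 vB12 ![-2, -2, -3, -4, -2, -1] := by decide +kernel

/-- the cyclic vector -/
def vA8 : Fin 6 → Fin 6 → ℤ := ![![-1, -1, -2, -2, -1, -1], ![-1, -2, -2, -3, -2, -1], ![0, 0, 0, -1, -1, 0],
  ![1, 1, 1, 1, 0, 0], ![0, 0, 0, 0, 0, -1], ![-1, -1, -1, -1, -1, -1]]

theorem eA8 : EigOK (Cfsg.Agent.H129.WData.hd CertE6.ch1_2_8) cC8 vA8 ![0, 1, -1, 0, 0, 0] := by decide +kernel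

/-- the cyclic vector -/
def vB8 : Fin 6 → Fin 6 → ℤ := ![![0, 0, -1, 1, 0, -1], ![-1, 1, 1, -1, 0, 0], ![0, -1, 1, -1, 1, 0],
  ![1, 0, -2, 1, 0, 0], ![0, 1, 0, 0, -1, 0], ![-1, -1, 1, 0, 0, 0]]

theorem eB8 : EigOK (fun i j => CertTE6.th1_2_8 j i) cC8 vB8 ![0, 0, 0, 0, 0, -1] := by decide +kernel

/-- **The Coxeter torus of `E₆`.** -/
theorem ordX12_e6 {F : Type u} [Field F] [Finite F] : ∃ x : chevE6.group F,
    (Nat.card F ^ 2 + Nat.card F + 1) * (Nat.card F ^ 4 - Nat.card F ^ 2 + 1) ∣ 3 * orderOf x := by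
  have := PGE6.finW
  refine ordX_of_eig PGE6.hp CoxeterMatrix.E₆.toCoxeterSystem H129.TorusChar.invC_E6 three_ne_zero
      (H129.WData.chain_rep PGE6.hp CoxeterMatrix.E₆.toCoxeterSystem PGE6.hA CertE6.ch3_12_ok) eA12 (dvd_of_eq ?_)
  rw [pv_cA12]
  have h2 : Nat.card F ^ 2 ≤ Nat.card F ^ 4 := Nat.pow_le_pow_right Nat.card_pos (by norm_num)
  push_cast [Nat.cast_sub h2]
  ring

/-- **The torus of type `D₅` of `E₆`.** -/
theorem ordX8_e6 {F : Type u} [Field F] [Finite F] : ∃ x : chevE6.group F,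
    (Nat.card F ^ 2 - 1) * (Nat.card F ^ 4 + 1) ∣ 3 * orderOf x := by
  have := PGE6.finW
  refine ordX_of_eig PGE6.hp CoxeterMatrix.E₆.toCoxeterSystem H129.TorusChar.invC_E6 three_ne_zero
      (H129.WData.chain_rep PGE6.hp CoxeterMatrix.E₆.toCoxeterSystem PGE6.hA CertE6.ch1_2_8_ok) eA8 (dvd_of_eq ?_)
  rw [pv_cC8]
  have h2 : 1 ≤ Nat.card F ^ 2 := Nat.one_le_pow _ _ Nat.card_pos
  push_cast [Nat.cast_sub h2]
  ring

variable {K : Type u} [Field K] [Fintype K] {q : ℕ}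

/-- **The twisted Coxeter torus of `²E₆`.** -/
theorem ordX12_te6 (hq : IsPrimePow q) (hK : Fintype.card K = q ^ 2) : ∃ x : ↥(twistedE6 K q),
    (q ^ 2 - q + 1) * (q ^ 4 - q ^ 2 + 1) ∣ 3 * orderOf x := by
  obtain ⟨x, hx⟩ := ordX_genT hq hK CertTE6.ch6_12_ok CertTE6.th6_12_eq eB12 (Or.inl rfl)
    (m := (q ^ 2 - q + 1) * (q ^ 4 - q ^ 2 + 1)) (dvd_of_eq (by
      rw [pv_cB12]
      have h1 : q ≤ q ^ 2 := Nat.le_self_pow two_ne_zero q
      have h2 : q ^ 2 ≤ q ^ 4 := Nat.pow_le_pow_right hq.one_lt.le (by norm_num)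
      push_cast [Nat.cast_sub h1, Nat.cast_sub h2]
      ring))
  exact ⟨x, hx.trans (Nat.mul_dvd_mul_right (Nat.gcd_dvd_left _ _) _)⟩

/-- **The torus of type `Φ₁Φ₂Φ₈` of `²E₆`.** -/
theorem ordX8_te6 (hq : IsPrimePow q) (hK : Fintype.card K = q ^ 2) : ∃ x : ↥(twistedE6 K q),
    (q ^ 2 - 1) * (q ^ 4 + 1) ∣ 3 * orderOf x := by
  obtain ⟨x, hx⟩ := ordX_genT hq hK CertTE6.ch1_2_8_ok CertTE6.th1_2_8_eq eB8 (Or.inr rfl)
    (m := (q ^ 2 - 1) * (q ^ 4 + 1)) (dvd_of_eq (by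
      rw [pv_cC8]
      have h2 : 1 ≤ q ^ 2 := Nat.one_le_pow _ _ hq.pos
      push_cast [Nat.cast_sub h2]
      ring))
  exact ⟨x, hx.trans (Nat.mul_dvd_mul_right (Nat.gcd_dvd_left _ _) _)⟩

end Main

end Cfsg.Agent.R2.Spec.EE

private theorem dce_f0370367ed86 : _root_.True := by
  try have : _root_.True := by simp only [_root_.Cfsg.Agent.R2.Spec.EE.cB12.eq_1]
  try have : _root_.True := by simp only [_root_.Cfsg.Agent.R2.Spec.EE.cC8.eq_1]
  try have : _root_.True := by simp only [_root_.Cfsg.Agent.R2.Spec.EE.cA12.eq_1]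
  exact _root_.True.intro
end
end
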