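import Cfsg.Agent.R2.Spec.EE.Mask_m3
import Cfsg.Agent.R2.Spec.EE.SmTFB_m3
import Cfsg.Agent.R2.Spec.EE.SmTFn_m3
import Cfsg.Agent.R2.Spec.EE.SokF4_m3
import Cfsg.Agent.R2.Spec.SDL.Alg_m3
import Cfsg.Agent.R2.Spec.EE.RowN_m3
import Cfsg.Agent.R2.Spec.X3.Setting_m3
import Cfsg.Agent.R2.Spec.EE.OrdX_m3
import Cfsg.Agent.R2.Spec.EE.SokBase_m3
import Cfsg.Agent.Prune
set_option linter.all false

section
prune_inst 0x7fffffffffffffffffff7e7ffff9fffe3bd7dfffbfdffb4bffefebffbfffb3fb3bedfbaf9de4f8ff8ed6e6bf38b97853fb7eeeffef6fdc7ffffdfff75ffbee7ff7ffbda971d79d34cffc6ffffbf17fee7f3fffffffffffffffffffffffffffffffffffffffff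

-- part: R2/Spec/EE/NumM
section
prune_inst 0x180200000000000b000000000400000048000040060000200402008000000800000000100000000000000000000000000000000100020024a200180000000000000000000000000000000000000000000000000000000
set_option linter.all false
open scoped Cfsg.Agent.FastGrp

/-!
# The numbers of the regular classes with their size (helper8)

* `class_big` : for `n ≥ 3`, `q ≥ 3`: a divisor `M` of `Φ_n(q)`, all of whose primes have `n` as order of `q`,
  `Φ_n(q) ≤ l M`, `l` the largest prime of `n`;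
* `class_num6` : the same for the class `i` of a classical family;
* `Ph_seven` ... : the values.
-/

set_option autoImplicit false
set_option linter.unusedSectionVars false

namespace Cfsg.Agent.R2.Spec.EE

open Cfsg Polynomial
open Cfsg.Agent.H426.LieFam Cfsg.Agent.R2.Spec Cfsg.Agent.R2.Spec.P1 Cfsg.Agent.R2.Spec.F1
open Cfsg.Agent.H365.Zsig

/-- the primitive part of `Φ_n(q)` -/
theorem class_big {n q l : ℕ} (hn : 3 ≤ n) (hq : 3 ≤ q) (hl : ∀ r : ℕ, r.Prime → r ∣ n → r ≤ l) (hl1 : 1 ≤ l) :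
    ∃ M : ℕ, M ∣ Ph n q ∧ (∀ r : ℕ, r.Prime → r ∣ M → orderOf (q : ZMod r) = n) ∧ Ph n q ≤ l * M := by
  have hPh1 : 1 < Ph n q := Ph_gt_one (by omega) (by omega)
  by_cases hex : ∃ r : ℕ, r.Prime ∧ r ∣ Ph n q ∧ orderOf (q : ZMod r) ≠ n
  · obtain ⟨r, hr, hrd, hro⟩ := hex
    obtain ⟨k, m, hnk, hrm, hord, hmr, hm0⟩ := (prime_dvd_Ph (by omega) (by omega) hr hrd).resolve_left hro
    have hsq := sq_not_dvd hn (by omega) hr hnk hrm hord hmr hm0
    obtain ⟨M, hM⟩ := hrd
    have hrn : r ∣ n := by rw [hnk]; exact (dvd_pow_self r (Nat.succ_ne_zero k)).mul_right m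
    have hprim : ∀ s : ℕ, s.Prime → s ∣ M → orderOf (q : ZMod s) = n := by
      intro s hs hsM
      have hsd : s ∣ Ph n q := by rw [hM]; exact hsM.mul_left r
      rcases prime_dvd_Ph (by omega) (by omega) hs hsd with h | ⟨k', m', hnk', hrm', hord', hmr', hm0'⟩
      · exact h
      · exfalso
        have hsn : s ∣ n := by rw [hnk']; exact (dvd_pow_self s (Nat.succ_ne_zero k')).mul_right m'
        -- `s = r`
        have h1 : ∀ {a b e c : ℕ}, a.Prime → b.Prime → n = a ^ (e + 1) * c → c ∣ a - 1 → b ∣ n → b ≤ a := by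
          intro a b e c ha hb hn' hc hbn
          rw [hn'] at hbn
          rcases hb.dvd_mul.1 hbn with h | h
          · exact ((Nat.prime_dvd_prime_iff_eq hb ha).1 (hb.dvd_of_dvd_pow h)).le
          · have := Nat.le_of_dvd (by have := ha.two_le; omega) (h.trans hc)
            omega
        have hsr : s = r := le_antisymm (h1 hr hs hnk hmr hsn) (h1 hs hr hnk' hmr' hrn)
        subst hsr
        apply hsq
        rw [hM, pow_two]
        exact Nat.mul_dvd_mul_left s hsM
    refine ⟨M, ⟨r, by rw [hM, mul_comm]⟩, hprim, ?_⟩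
    rw [hM]
    exact Nat.mul_le_mul_right M (hl r hr hrn)
  · push Not at hex
    exact ⟨Ph n q, dvd_rfl, hex, Nat.le_mul_of_pos_left _ (by omega)⟩

/-- the index of the cyclotomic polynomial in `q` of the class `i` -/
def idx (t : Fam) (i : ℕ) : ℕ :=
  match t with
  | .psu _ => dl i
  | _ => i

theorem class_num6 {t : Fam} (ht : Classical t) {q i l : ℕ} (hq : q % 2 = 1) (hq3 : 3 ≤ q) (hi : 3 ≤ i) (hm : mem t i)
    (hl : ∀ r : ℕ, r.Prime → r ∣ idx t i → r ≤ l) (hl1 : 1 ≤ l) :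
    ∃ M : ℕ, M ∣ tnum t q i ∧ Odd M ∧ (∀ r : ℕ, r.Prime → r ∣ M → In t q i r) ∧ Ph (idx t i) q ≤ l * M := by
  -- the common part
  have fin : ∀ M n : ℕ, 3 ≤ n → (∀ r : ℕ, r.Prime → r ∣ M → orderOf (q : ZMod r) = n) →
      (∀ r : ℕ, r.Prime → r ≠ 2 → orderOf (q : ZMod r) = n → cls t q r = i) → M ∣ tnum t q i →
      Ph (idx t i) q ≤ l * M → ∃ M : ℕ, M ∣ tnum t q i ∧ Odd M ∧ (∀ r : ℕ, r.Prime → r ∣ M → In t q i r) ∧
        Ph (idx t i) q ≤ l * M := by
    intro M n hn hM2 hcl hMt hMq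
    have h2 : ¬ 2 ∣ M := by
      intro h2
      have h3 := hM2 2 Nat.prime_two h2
      have h4 : orderOf ((q : ℕ) : ZMod 2) ∣ 2 - 1 := by
        have := Fact.mk Nat.prime_two
        apply ZMod.orderOf_dvd_card_sub_one
        rw [Ne, ZMod.natCast_eq_zero_iff]
        omega
      rw [h3] at h4
      have := Nat.le_of_dvd (by norm_num) h4
      omega
    have hin : ∀ r : ℕ, r.Prime → r ∣ M → In t q i r := fun r hr hrM =>
      ⟨hr, hcl r hr (fun h => h2 (h ▸ hrM)) (hM2 r hr hrM), hi, hm⟩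
    exact ⟨M, hMt, Nat.odd_iff.2 (by omega), hin, hMq⟩
  have hnpsu : ∀ {n r : ℕ}, (∀ m, t ≠ .psu m) → orderOf (q : ZMod r) = n → cls t q r = n := by
    intro n r h1 h2
    rw [cls_eq_co h1, ← h2]
    rfl
  by_cases hpsu : ∀ m, t ≠ .psu m
  · have hidx : idx t i = i := by
      cases t with
      | psu n => exact absurd rfl (hpsu n)
      | _ => rfl
    rw [hidx] at hl
    obtain ⟨M, hM1, hM3, hM4⟩ := class_big hi hq3 hl hl1
    have hMd : M ∣ q ^ i - 1 := hM1.trans (Ph_dvd (by omega) (by omega))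
    refine fin M i hi hM3 (fun r _ _ h => hnpsu hpsu h) ?_ (by rw [hidx]; exact hM4)
    by_cases hpsl : ∀ m, t ≠ .psl m
    · rw [tnum_tn hpsl hpsu]
      unfold Cfsg.Agent.H72.AdjOrth.tn
      split_ifs with he
      · obtain ⟨j, hj⟩ := he
        have hj' : i / 2 = j := by omega
        rw [hj']
        have hij : i = 2 * j := by omega
        rw [hij] at hMd hM3
        exact dvd_plus (by omega) (by omega) hMd hM3
      · exact hMd
    · push Not at hpsl
      obtain ⟨m, rfl⟩ := hpsl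
      exact hMd
  · push Not at hpsu
    obtain ⟨m, rfl⟩ := hpsu
    obtain ⟨M, hM1, hM3, hM4⟩ := class_big (n := dl i) (dl_three hi) hq3 hl hl1
    have hMd : M ∣ q ^ dl i - 1 := hM1.trans (Ph_dvd (by have := dl_three hi; omega) (by omega))
    refine fin M (dl i) (dl_three hi) hM3 (fun r hr hr2 h => ?_) ?_ hM4
    · rw [cls, sg]
      push_cast
      exact neg_order hr hr2 hi h
    · unfold tnum
      simp only
      split_ifs with he
      · refine hMd.trans ?_
        have h1 : dl i ∣ i := by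
          unfold dl
          split_ifs with h2 h3
          · exact dvd_rfl
          · exact Nat.div_dvd_of_dvd (Nat.dvd_of_mod_eq_zero h3)
          · exact absurd (Nat.even_iff.1 he) h3
        exact Nat.pow_sub_one_dvd_pow_sub_one q h1
      · have h1 : dl i = 2 * i := by
          unfold dl
          rw [if_neg (by rw [Nat.even_iff] at he; omega), if_neg (by rw [Nat.even_iff] at he; omega)]
        rw [h1] at hMd hM3
        exact dvd_plus (by omega) (by omega) hMd hM3

/-! ### the values -/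

theorem eval_13 (x : ℤ) : (cyclotomic 13 ℤ).eval x = x ^ 12 + x ^ 11 + x ^ 10 + x ^ 9 + x ^ 8 + x ^ 7 + x ^ 6 + x ^ 5 +
    x ^ 4 + x ^ 3 + x ^ 2 + x + 1 := by
  have : Fact (Nat.Prime 13) := ⟨by norm_num⟩
  rw [cyclotomic_prime ℤ 13]
  simp only [Finset.sum_range_succ, _root_.Finset.range_one, _root_.Finset.sum_singleton, _root_.pow_zero, _root_.pow_one, _root_.Polynomial.eval_add, _root_.Polynomial.eval_one, _root_.Polynomial.eval_X, _root_.Polynomial.eval_pow]; ring

theorem eval_26 {x : ℤ} (hx : 0 ≤ x) : (cyclotomic 26 ℤ).eval x = x ^ 12 - x ^ 11 + x ^ 10 - x ^ 9 + x ^ 8 - x ^ 7 +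
    x ^ 6 - x ^ 5 + x ^ 4 - x ^ 3 + x ^ 2 - x + 1 := by
  have h := ev_sq_odd (j := 13) (by norm_num) x
  rw [eval_13, eval_13] at h
  have h0 : x ^ 12 + x ^ 11 + x ^ 10 + x ^ 9 + x ^ 8 + x ^ 7 + x ^ 6 + x ^ 5 +
    x ^ 4 + x ^ 3 + x ^ 2 + x + 1 ≠ 0 := by (clear * - hx; positivity)
  apply mul_left_cancel₀ h0
  rw [show (26 : ℕ) = 2 * 13 by norm_num, h]
  ring

theorem eval_16 (x : ℤ) : (cyclotomic 16 ℤ).eval x = x ^ 8 + 1 := by
  rw [show (16 : ℕ) = 2 ^ (3 + 1) by norm_num, cyclotomic_prime_pow_eq_geom_sum Nat.prime_two]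
  simp only [Finset.sum_range_succ, _root_.Nat.reducePow, _root_.Finset.range_one, _root_.Finset.sum_singleton, _root_.pow_zero, _root_.pow_one, _root_.Polynomial.eval_add, _root_.Polynomial.eval_one, _root_.Polynomial.eval_pow, _root_.Polynomial.eval_X]; ring

theorem six_le {x : ℤ} (hx : 0 ≤ x) : x ^ 6 - x ^ 5 + x ^ 4 - x ^ 3 + x ^ 2 - x + 1 ≤
    x ^ 6 + x ^ 5 + x ^ 4 + x ^ 3 + x ^ 2 + x + 1 := by
  have := pow_nonneg hx 5
  have := pow_nonneg hx 3
  linarith

theorem twelve_le {x : ℤ} (hx : 0 ≤ x) : x ^ 12 - x ^ 11 + x ^ 10 - x ^ 9 + x ^ 8 - x ^ 7 + x ^ 6 - x ^ 5 + x ^ 4 -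
    x ^ 3 + x ^ 2 - x + 1 ≤ x ^ 12 + x ^ 11 + x ^ 10 + x ^ 9 + x ^ 8 + x ^ 7 + x ^ 6 + x ^ 5 + x ^ 4 + x ^ 3 + x ^ 2 +
    x + 1 := by
  have := pow_nonneg hx 11
  have := pow_nonneg hx 9
  have := pow_nonneg hx 7
  have := pow_nonneg hx 5
  have := pow_nonneg hx 3
  linarith

/-- the classes 7, 14 -/
theorem Ph_six_le {n q : ℕ} (hn : n = 7 ∨ n = 14) (hq : 1 ≤ q) :
    (q : ℤ) ^ 6 - q ^ 5 + q ^ 4 - q ^ 3 + q ^ 2 - q + 1 ≤ (Ph n q : ℤ) := by
  rw [← Ph_cast hq]
  rcases hn with rfl | rfl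
  · rw [NumA.eval_7]
    exact six_le (by positivity)
  · rw [NumA.eval_14 _ (by positivity)]

/-- the classes 13, 26 -/
theorem Ph_twelve_le {n q : ℕ} (hn : n = 13 ∨ n = 26) (hq : 1 ≤ q) :
    (q : ℤ) ^ 12 - q ^ 11 + q ^ 10 - q ^ 9 + q ^ 8 - q ^ 7 + q ^ 6 - q ^ 5 + q ^ 4 - q ^ 3 + q ^ 2 - q + 1 ≤
      (Ph n q : ℤ) := by
  rw [← Ph_cast hq]
  rcases hn with rfl | rfl
  · rw [eval_13]
    exact twelve_le (by positivity)
  · rw [eval_26 (by positivity)]

theorem Ph_sixteen {q : ℕ} (hq : 1 ≤ q) : Ph 16 q = q ^ 8 + 1 := by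
  have h1 := Ph_cast (n := 16) hq
  rw [eval_16] at h1
  exact_mod_cast h1.symm

end Cfsg.Agent.R2.Spec.EE
end

-- part: R2/Spec/FIN/T3d
section
set_option linter.all false

/-! # S3435, packet FIN, small ranks, `S = PSp_6(u)`, `Omega_7(u)`, `POmega^+_8(u)`: the search (helper7) -/

set_option autoImplicit false

namespace Cfsg.Agent.R2.Spec.FIN


theorem ominus5_three {q : ℕ} (h3 : 3 ≤ q) (ho : q % 2 = 1) (hq : q < 2 ^ 16) : chkT3 (2 ^ 10) (.ominus 5) q = true :=
  all3 (C := 1024) (dm := 1) (D := 5) (i := 10) (j := 8) (c := 65536) (t := .ominus 5)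
    (fun q => Nat.div (Nat.add (Nat.pow q 5) 1) (Nat.gcd 4 (Nat.add (Nat.pow q 5) 1)))
    (fun q => Nat.div (Nat.mul (Nat.add (Nat.pow q 4) 1) (Nat.sub q 1)) (Nat.gcd 4 (Nat.add (Nat.pow q 5) 1)))
    bk3a (by decide) rfl (by decide) (fun _ => Nat.le_refl 1) rfl (fun _ => rfl) (fun _ => rfl) (by decide +kernel) h3 ho hq

end Cfsg.Agent.R2.Spec.FIN
end

-- part: R2/Spec/SDL/Iso
section
prune_inst 0x200000000000040000000001000004000000400000400000000005021004000008000000001000000000000000000000000000000020400002000300080000002001180c00000000000000000000000000000000000000000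
set_option linter.all false
open scoped Cfsg.Agent.FastGrp

-- part: R2/Spec/SDL/Num
section
/-!
# S3435, SMALLD, `L = L_8(q)`, `U_8(q)` (helper19): the numeric lemmas

* `num_sp` : `k = 1` is impossible;
* `num_lin` : `k = 0` : `q < 5`; `num_lin3` : `q = 3` : `u ≤ 6`, `m ≤ 7`;
* `num_orth` : `k = 2, 3` : `q < 15`; `num_orth2` : `u ≤ 40`, `m ≤ 13`.
-/

set_option autoImplicit false
set_option linter.unusedSectionVars false

namespace Cfsg.Agent.R2.Spec.SDL

theorem pow5_ge {q c : ℤ} (hc : 0 ≤ c) (hq : c ≤ q) : c ^ 4 * q ≤ q ^ 5 := by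
  have h1 : c ^ 4 ≤ q ^ 4 := pow_le_pow_left₀ hc hq 4
  have h2 : c ^ 4 * q ≤ q ^ 4 * q := mul_le_mul_of_nonneg_right h1 (by omega)
  calc c ^ 4 * q ≤ q ^ 4 * q := h2
    _ = q ^ 5 := by ring

theorem num_sp {q P7 P8 e C : ℤ} (hq : 3 ≤ q) (he : |e| ≤ 2) (hC : 2 * C ≤ q + 1) (h1 : P7 = P8 + e)
    (h7 : q ^ 7 ≤ 7 * ((q + 1) * P7) + 1) (h8 : P8 ≤ C + 7 * (q * |e|)) : False := by
  have h2 := le_abs_self e
  have h3 : q * |e| ≤ q * 2 := mul_le_mul_of_nonneg_left he (by omega)
  have h4 : 2 * P7 ≤ 29 * q + 5 := by omega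
  have h5 : (q + 1) * (2 * P7) ≤ (q + 1) * (29 * q + 5) := mul_le_mul_of_nonneg_left h4 (by omega)
  have h6 := pow5_ge (c := 3) (by norm_num) hq
  have h8 : (3 ^ 4 * q) * q ^ 2 ≤ q ^ 5 * q ^ 2 := mul_le_mul_of_nonneg_right h6 (by positivity)
  have h9 : q ^ 5 * q ^ 2 = q ^ 7 := by ring
  have h10 : 3 * (q * q ^ 2) ≥ 3 * (3 * q ^ 2) := by nlinarith only [hq, sq_nonneg q]
  nlinarith only [hq, h7, h5, h8, sq_nonneg q]

theorem num_lin {q u P7 P8 α e C D W : ℤ} (hq : 5 ≤ q) (hu : 2 ≤ u) (he1 : |e| ≤ u + 1) (hC : 2 * C ≤ q + 1)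
    (hC1 : 1 ≤ C) (hα : α ≤ u + 1) (h1 : P7 ≤ 3 * P8 + |e|) (h7 : q ^ 7 ≤ 7 * ((q + 1) * P7) + 1)
    (h8 : P8 ≤ α * C + 7 * (q * |e|)) (hD : D ≤ u + 1) (hD1 : 1 ≤ D) (hDe : D * |e| ≤ u + 1)
    (hlow : u ^ 4 ≤ W) (hW : W ≤ (u + 1) * (D * P8) + 1) : False := by
  have he0 := abs_nonneg e
  obtain ⟨x, hx⟩ : ∃ x, x = u + 1 := ⟨_, rfl⟩
  have hux : u = x - 1 := by omega
  rw [← hx] at he1 hα hD hDe hW
  have a1 : α * C ≤ x * C := mul_le_mul_of_nonneg_right hα (by omega)
  have a2 : q * |e| ≤ q * x := mul_le_mul_of_nonneg_left he1 (by omega)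
  have a3 : x * (2 * C) ≤ x * (q + 1) := mul_le_mul_of_nonneg_left hC (by omega)
  have a4 : 2 * P7 ≤ x * (45 * q + 5) := by linarith only [h1, h8, he1, a1, a2, a3]
  have a5 : (q + 1) * (2 * P7) ≤ (q + 1) * (x * (45 * q + 5)) := mul_le_mul_of_nonneg_left a4 (by omega)
  have a6 : 2 * q ^ 7 ≤ 7 * ((q + 1) * (x * (45 * q + 5))) + 2 := by linarith only [h7, a5]
  have a7 := pow5_ge (c := 5) (by norm_num) hq
  have a8 : (5 ^ 4 * q) * q ^ 2 ≤ q ^ 7 := by
    calc (5 ^ 4 * q) * q ^ 2 ≤ q ^ 5 * q ^ 2 := mul_le_mul_of_nonneg_right a7 (by positivity)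
      _ = q ^ 7 := by ring
  -- `1250 q ≤ 388 x`
  have hq2 : 0 < q ^ 2 := by positivity
  have a9 : (q + 1) * (x * (45 * q + 5)) * 5 ≤ x * (6 * q) * (46 * q) := by
    have b1 : (q + 1) * 5 ≤ 6 * q := by omega
    have b2 : 45 * q + 5 ≤ 46 * q := by omega
    have b3 : 0 ≤ x * (45 * q + 5) := by nlinarith only [hq, hu, hx]
    calc (q + 1) * (x * (45 * q + 5)) * 5 = ((q + 1) * 5) * (x * (45 * q + 5)) := by ring
      _ ≤ (6 * q) * (x * (45 * q + 5)) := mul_le_mul_of_nonneg_right b1 b3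
      _ ≤ (6 * q) * (x * (46 * q)) := by
        refine mul_le_mul_of_nonneg_left (mul_le_mul_of_nonneg_left b2 (by omega)) (by omega)
      _ = x * (6 * q) * (46 * q) := by ring
  have a10 : 6250 * q * q ^ 2 ≤ (1932 * x + 1) * q ^ 2 := by nlinarith only [hq, h7, a5, a8, a9]
  have a11 : 6250 * q ≤ 1932 * x + 1 := le_of_mul_le_mul_right a10 hq2
  have hx17 : 17 ≤ x := by omega
  -- the lower bound
  have b1 : D * P8 ≤ x * (x * C) + 7 * (q * x) := by
    have c1 : D * P8 ≤ D * (x * C + 7 * (q * |e|)) := mul_le_mul_of_nonneg_left (by omega) (by omega)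
    have c2 : D * (x * C) ≤ x * (x * C) := mul_le_mul_of_nonneg_right hD (by nlinarith only [hC1, hx17])
    have c3 : q * (D * |e|) ≤ q * x := mul_le_mul_of_nonneg_left hDe (by omega)
    linarith only [c1, c2, c3]
  have b2 : 2 * W ≤ x * (x * (x * (q + 1)) + 14 * (q * x)) + 2 := by
    have c1 : x * (x * (2 * C)) ≤ x * (x * (q + 1)) := mul_le_mul_of_nonneg_left a3 (by omega)
    have c2 : x * (2 * (D * P8)) ≤ x * (x * (x * (q + 1)) + 14 * (q * x)) :=
      mul_le_mul_of_nonneg_left (by linarith only [b1, c1]) (by omega)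
    linarith only [hW, c2]
  rw [hux] at hlow
  have b3 : 2 * (x - 1) ^ 4 ≤ x * (x * (x * (q + 1)) + 14 * (q * x)) + 2 := by linarith only [hlow, b2]
  have b4 : x * (x * (x * (q + 1)) + 14 * (q * x)) = q * (x ^ 3 + 14 * x ^ 2) + x ^ 3 := by ring
  rw [b4] at b3
  have b5 : 6250 * (q * (x ^ 3 + 14 * x ^ 2)) ≤ (1932 * x + 1) * (x ^ 3 + 14 * x ^ 2) := by
    calc 6250 * (q * (x ^ 3 + 14 * x ^ 2)) = (6250 * q) * (x ^ 3 + 14 * x ^ 2) := by ring
      _ ≤ _ := mul_le_mul_of_nonneg_right a11 (by positivity)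
  have b6 : 12500 * (x - 1) ^ 4 ≤ (1932 * x + 1) * (x ^ 3 + 14 * x ^ 2) + 6250 * x ^ 3 + 12500 := by linarith only [hlow, b2, b5]
  obtain ⟨y, hy⟩ : ∃ y, x = y + 17 := ⟨x - 17, by ring⟩
  have hy0 : 0 ≤ y := by omega
  rw [hy] at b6
  ring_nf at b6
  have c1 : 0 ≤ y ^ 2 := by (clear * -; positivity)
  have c2 : 0 ≤ y ^ 3 := by (clear * - hy0; positivity)
  have c3 : 0 ≤ y ^ 4 := by (clear * -; positivity)
  linarith only [hx17, hy, b6, c1, c2, c3]

theorem num_lin3 {u P8 α e C D W : ℤ} (hu : 2 ≤ u) (he1 : |e| ≤ u + 1) (hC : 2 * C ≤ 3 + 1)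
    (hC1 : 1 ≤ C) (hα : α ≤ u + 1) 
    (h8 : P8 ≤ α * C + 7 * (3 * |e|)) (hD : D ≤ u + 1) (hD1 : 1 ≤ D) (hDe : D * |e| ≤ u + 1)
    (hlow : u ^ 4 ≤ W) (hW : W ≤ (u + 1) * (D * P8) + 1) : u ≤ 6 ∧ W ≤ (u + 1) ^ 2 * (2 * u + 23) + 1 := by
  have he0 := abs_nonneg e
  obtain ⟨x, hx⟩ : ∃ x, x = u + 1 := ⟨_, rfl⟩
  have hux : u = x - 1 := by omega
  rw [← hx] at he1 hα hD hDe hW
  have hC2 : C ≤ 2 := by omega
  have a1 : α * C ≤ x * 2 := by nlinarith only [hC, hC1, hD1, hD, hα]
  have b1 : D * P8 ≤ x * (x * 2) + 21 * x := by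
    have c1 : D * P8 ≤ D * (x * 2 + 7 * (3 * |e|)) := mul_le_mul_of_nonneg_left (by omega) (by omega)
    have c2 : D * (x * 2) ≤ x * (x * 2) := mul_le_mul_of_nonneg_right hD (by linarith only [hu, hx])
    linarith only [hDe, c1, c2]
  have b2 : W ≤ x * (x * (x * 2) + 21 * x) + 1 := by
    have c2 : x * (D * P8) ≤ x * (x * (x * 2) + 21 * x) := mul_le_mul_of_nonneg_left b1 (by omega)
    linarith
  have b3 : W ≤ x ^ 2 * (2 * u + 23) + 1 := by
    rw [hux]
    linarith only [b2]
  rw [hx] at b3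
  refine ⟨?_, b3⟩
  by_contra hcon
  obtain ⟨y, hy⟩ : ∃ y, u = y + 7 := ⟨u - 7, by ring⟩
  have hy0 : 0 ≤ y := by omega
  have b4 : u ^ 4 ≤ (u + 1) ^ 2 * (2 * u + 23) + 1 := hlow.trans b3
  rw [hy] at b4
  ring_nf at b4
  have c1 : 0 ≤ y ^ 2 := by positivity
  have c2 : 0 ≤ y ^ 3 := by positivity
  have c3 : 0 ≤ y ^ 4 := by positivity
  linarith

theorem num_orth {q u P7 P8 α e C W : ℤ} (hq : 3 ≤ q) (hu : 2 ≤ u) (he1 : |e| ≤ 2 * (u + 1) ^ 2)
    (hC : 2 * C ≤ q + 1) (hC1 : 1 ≤ C) (hα : α ≤ u + 1) (h1 : P7 ≤ 3 * P8 + |e|)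
    (h7 : q ^ 7 ≤ 7 * ((q + 1) * P7) + 1)
    (h8 : P8 ≤ α * C + 7 * (q * |e|)) (hlow : u ^ 4 ≤ W) (hW : W ≤ 8 * P8) :
    q < 15 ∧ W ≤ 4 * ((u + 1) * (q + 1)) + 112 * (q * (u + 1) ^ 2) := by
  have he0 := abs_nonneg e
  obtain ⟨x, hx⟩ : ∃ x, x = u + 1 := ⟨_, rfl⟩
  have hux : u = x - 1 := by omega
  rw [← hx] at he1 hα ⊢
  have a1 : α * C ≤ x * C := mul_le_mul_of_nonneg_right hα (by omega)
  have a2 : q * |e| ≤ q * (2 * x ^ 2) := mul_le_mul_of_nonneg_left he1 (by omega)
  have a3 : x * (2 * C) ≤ x * (q + 1) := mul_le_mul_of_nonneg_left hC (by omega)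
  have hWx : W ≤ 4 * (x * (q + 1)) + 112 * (q * x ^ 2) := by linarith only [h8, hW, a1, a2, a3]
  refine ⟨?_, hWx⟩
  by_contra hcon
  have hq15 : 15 ≤ q := by omega
  have hx3 : 3 ≤ x := by omega
  have a4 : 2 * P7 ≤ x ^ 2 * (85 * q + 5) := by
    have b1 : 3 * (x * (q + 1)) ≤ x ^ 2 * (q + 1) := by
      have b2 : 0 ≤ (x - 3) * (x * (q + 1)) := mul_nonneg (by omega) (mul_nonneg (by omega) (by omega))
      linarith only [b2]
    have b3 : 2 * P7 ≤ 3 * (x * (q + 1)) + 84 * (q * x ^ 2) + 4 * x ^ 2 := by linarith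
    linarith
  have a5 : (q + 1) * (2 * P7) ≤ (q + 1) * (x ^ 2 * (85 * q + 5)) := mul_le_mul_of_nonneg_left a4 (by omega)
  have a6 : 2 * q ^ 7 ≤ 7 * ((q + 1) * (x ^ 2 * (85 * q + 5))) + 2 := by linarith
  have a7 := pow5_ge (c := 15) (by norm_num) hq15
  have a8 : (15 ^ 4 * q) * q ^ 2 ≤ q ^ 7 := by
    calc (15 ^ 4 * q) * q ^ 2 ≤ q ^ 5 * q ^ 2 := mul_le_mul_of_nonneg_right a7 (by positivity)
      _ = q ^ 7 := by ring
  have hq2 : 0 < q ^ 2 := by positivity
  have hx2 : 0 ≤ x ^ 2 := by positivity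
  have a9 : 7 * ((q + 1) * (85 * q + 5)) ≤ 638 * q ^ 2 := by nlinarith only [hcon]
  have a10 : 7 * ((q + 1) * (x ^ 2 * (85 * q + 5))) ≤ 638 * q ^ 2 * x ^ 2 := by
    calc 7 * ((q + 1) * (x ^ 2 * (85 * q + 5))) = (7 * ((q + 1) * (85 * q + 5))) * x ^ 2 := by ring
      _ ≤ 638 * q ^ 2 * x ^ 2 := mul_le_mul_of_nonneg_right a9 hx2
  have a11 : (101250 * q) * q ^ 2 ≤ (638 * x ^ 2 + 1) * q ^ 2 := by linarith only [h7, hcon, a5, a8, a9, a10]
  have a12 : 101250 * q ≤ 638 * x ^ 2 + 1 := le_of_mul_le_mul_right a11 hq2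
  have hx49 : 48 ≤ x := by nlinarith only [hu, hx, hcon, a12]
  rw [hux] at hlow
  have b3 : (x - 1) ^ 4 ≤ 4 * (x * (q + 1)) + 112 * (q * x ^ 2) := by linarith only [h8, hW, hlow, a1, a2, a3]
  have b4 : 101250 * (x - 1) ^ 4 ≤ (638 * x ^ 2 + 1) * (4 * x + 112 * x ^ 2) + 405000 * x := by
    have c1 : (101250 * q) * (4 * x + 112 * x ^ 2) ≤ (638 * x ^ 2 + 1) * (4 * x + 112 * x ^ 2) :=
      mul_le_mul_of_nonneg_right a12 (by positivity)
    linarith only [h8, hW, hlow, a1, a2, a3, c1]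
  obtain ⟨y, hy⟩ : ∃ y, x = y + 48 := ⟨x - 48, by ring⟩
  have hy0 : 0 ≤ y := by omega
  rw [hy] at b4
  ring_nf at b4
  have c1 : 0 ≤ y ^ 2 := by (clear * -; positivity)
  have c2 : 0 ≤ y ^ 3 := by (clear * - hy0; positivity)
  have c3 : 0 ≤ y ^ 4 := by (clear * -; positivity)
  linarith only [hx49, hy, b4, c1, c2, c3]

theorem num_orth2 {q u W : ℤ} (hq : 3 ≤ q) (hq2 : q ≤ 13) (hu : 2 ≤ u) (hlow : u ^ 4 ≤ W)
    (hW : W ≤ 4 * ((u + 1) * (q + 1)) + 112 * (q * (u + 1) ^ 2)) : u ≤ 40 := by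
  by_contra hcon
  obtain ⟨y, hy⟩ : ∃ y, u = y + 41 := ⟨u - 41, by ring⟩
  have hy0 : 0 ≤ y := by omega
  have h1 : (u + 1) * (q + 1) ≤ (u + 1) * 14 := mul_le_mul_of_nonneg_left (by omega) (by omega)
  have h2 : q * (u + 1) ^ 2 ≤ 13 * (u + 1) ^ 2 := mul_le_mul_of_nonneg_right hq2 (by positivity)
  have b4 : u ^ 4 ≤ 4 * ((u + 1) * 14) + 112 * (13 * (u + 1) ^ 2) := by linarith
  rw [hy] at b4
  ring_nf at b4
  have c1 : 0 ≤ y ^ 2 := by positivity
  have c2 : 0 ≤ y ^ 3 := by positivity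
  have c3 : 0 ≤ y ^ 4 := by positivity
  linarith

end Cfsg.Agent.R2.Spec.SDL
end

-- part: R2/Spec/SDL/Iso
section
/-!
# S3435, SMALLD, `L = L_8(q)`, `U_8(q)` (helper19): both classes isolated

* `Pr8.false` : the data `Pr8` are contradictory;
* `iso8` : both classes isolated: exotic.
-/

set_option autoImplicit false
set_option linter.unusedSectionVars false

namespace Cfsg.Agent.R2.Spec.SDL

open Cfsg Cfsg.Agent.H426.LieFam Cfsg.Agent.R2.Spec Cfsg.Agent.R2.Spec.P1 Cfsg.Agent.R2.Spec.F1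
open Cfsg.Agent.R2.Spec.E

/-- the number `P` is not a candidate -/
def okP (q u A P : ℕ) : Bool := A % P != 0 || decide (7 * ((q + 1) * P) + 1 < q ^ 7) || Nat.gcd q u != 1

theorem okP_false {q u A P : ℕ} (h : okP q u A P = true) (h1 : P ∣ A) (h2 : q ^ 7 ≤ 7 * ((q + 1) * P) + 1)
    (h3 : Nat.Coprime q u) : False := by
  rw [okP, Bool.or_eq_true, Bool.or_eq_true, bne_iff_ne, decide_eq_true_iff, bne_iff_ne] at h
  rcases h with (h | h) | h
  · exact h (Nat.mod_eq_zero_of_dvd h1)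
  · omega
  · exact h h3

/-- the check for `q = 3`, `S` linear or unitary -/
def ckL (t : Fam) : Bool := (List.range 7).all fun u => (List.range 8).all fun m =>
  decide (u < 2) || decide (m < 4) || decide ((u + 1) ^ 2 * (2 * u + 23) + 1 < u ^ m) ||
    (okP 3 u (ttor t 3 7) (ttor (.psl m) u m) && okP 3 u (ttor t 3 7) (ttor (.psl m) u (m - 1)) &&
      (okP 3 u (ttor t 3 7) (ttor (.psu m) u m) && okP 3 u (ttor t 3 7) (ttor (.psu m) u (m - 1))))

theorem ckL_psl : ckL (.psl 8) = true := by decide +kernel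

theorem ckL_psu : ckL (.psu 8) = true := by decide +kernel

theorem ckL_of {t : Fam} (ht : t = .psl 8 ∨ t = .psu 8) {u m : ℕ} (hu : 2 ≤ u) (hu2 : u ≤ 6) (hm : 4 ≤ m) (hm2 : m ≤ 7)
    (hW : u ^ m ≤ (u + 1) ^ 2 * (2 * u + 23) + 1) :
    (okP 3 u (ttor t 3 7) (ttor (.psl m) u m) = true ∧ okP 3 u (ttor t 3 7) (ttor (.psl m) u (m - 1)) = true) ∧
      (okP 3 u (ttor t 3 7) (ttor (.psu m) u m) = true ∧ okP 3 u (ttor t 3 7) (ttor (.psu m) u (m - 1)) = true) := by
  have h : ckL t = true := by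
    rcases ht with rfl | rfl
    · exact ckL_psl
    · exact ckL_psu
  rw [ckL, List.all_eq_true] at h
  have h1 := h u (List.mem_range.2 (by omega))
  rw [List.all_eq_true] at h1
  have h2 := h1 m (List.mem_range.2 (by omega))
  rw [decide_eq_false (by omega), decide_eq_false (by omega), decide_eq_false (by omega), Bool.false_or,
    Bool.false_or, Bool.false_or, Bool.and_eq_true, Bool.and_eq_true, Bool.and_eq_true] at h2
  exact h2

/-- the check for `S` orthogonal -/
def ckO (t : Fam) : Bool := (List.range 7).all fun q2 => (List.range 41).all fun u => (List.range 14).all fun m =>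
  decide (q2 < 1) || decide (u < 2) || decide (m < 4) ||
    decide (4 * ((u + 1) * (2 * q2 + 1 + 1)) + 112 * ((2 * q2 + 1) * (u + 1) ^ 2) < u ^ m) ||
    ((okP (2 * q2 + 1) u (ttor t (2 * q2 + 1) 7) (ttor (.oplus m) u m) || m % 2 == 0) &&
      (okP (2 * q2 + 1) u (ttor t (2 * q2 + 1) 7) (ttor (.oplus m) u (2 * (m - 1))) || m % 2 == 0) &&
      okP (2 * q2 + 1) u (ttor t (2 * q2 + 1) 7) (ttor (.ominus m) u (2 * m)) &&
      okP (2 * q2 + 1) u (ttor t (2 * q2 + 1) 7) (ttor (.ominus m) u (2 * (m - 1))) &&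
      (okP (2 * q2 + 1) u (ttor t (2 * q2 + 1) 7) (ttor (.ominus m) u (m - 1)) || m % 2 == 1))

theorem ckO_psl : ckO (.psl 8) = true := by decide +kernel

theorem ckO_psu : ckO (.psu 8) = true := by decide +kernel

theorem ckO_of {t : Fam} (ht : t = .psl 8 ∨ t = .psu 8) {q u m : ℕ} (hq : 3 ≤ q) (hq1 : q ≤ 13) (hq2 : q % 2 = 1)
    (hu : 2 ≤ u) (hu2 : u ≤ 40) (hm : 4 ≤ m) (hm2 : m ≤ 13)
    (hW : u ^ m ≤ 4 * ((u + 1) * (q + 1)) + 112 * (q * (u + 1) ^ 2)) :
    (m % 2 = 1 → okP q u (ttor t q 7) (ttor (.oplus m) u m) = true) ∧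
      (m % 2 = 1 → okP q u (ttor t q 7) (ttor (.oplus m) u (2 * (m - 1))) = true) ∧
      okP q u (ttor t q 7) (ttor (.ominus m) u (2 * m)) = true ∧
      okP q u (ttor t q 7) (ttor (.ominus m) u (2 * (m - 1))) = true ∧
      (m % 2 = 0 → okP q u (ttor t q 7) (ttor (.ominus m) u (m - 1)) = true) := by
  have h : ckO t = true := by
    rcases ht with rfl | rfl
    · exact ckO_psl
    · exact ckO_psu
  obtain ⟨q2, rfl⟩ : ∃ q2, q = 2 * q2 + 1 := ⟨q / 2, by omega⟩
  rw [ckO, List.all_eq_true] at h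
  have h0 := h q2 (List.mem_range.2 (by omega))
  rw [List.all_eq_true] at h0
  have h1 := h0 u (List.mem_range.2 (by omega))
  rw [List.all_eq_true] at h1
  have h2 := h1 m (List.mem_range.2 (by omega))
  rw [decide_eq_false (by omega), decide_eq_false (by omega), decide_eq_false (by omega),
    decide_eq_false (by omega), Bool.false_or, Bool.false_or, Bool.false_or, Bool.false_or, Bool.and_eq_true,
    Bool.and_eq_true, Bool.and_eq_true, Bool.and_eq_true, Bool.or_eq_true, Bool.or_eq_true, Bool.or_eq_true,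
    beq_iff_eq, beq_iff_eq] at h2
  obtain ⟨⟨⟨⟨h3, h4⟩, h5⟩, h6⟩, h7⟩ := h2
  refine ⟨fun h8 => h3.resolve_right (by omega), fun h8 => h4.resolve_right (by omega), h5, h6,
    fun h8 => h7.resolve_right (by omega)⟩

/-- the lower bound of the numbers of `L_m(u)`, `U_m(u)` -/
theorem low_lin {m u x : ℕ} (hm : 4 ≤ m) (hu : 2 ≤ u) :
    (top (.psl m) x → u ^ m ≤ (u + 1) * (Nat.gcd m (u - 1) * ttor (.psl m) u x) + 1) ∧
      (top (.psu m) x → u ^ m ≤ (u + 1) * (Nat.gcd m (u + 1) * ttor (.psu m) u x) + 1) := by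
  have hp := Nat.one_le_pow m u (by omega)
  have hp2 := Nat.one_le_pow (m - 1) u (by omega)
  have e1 : u ^ m = u ^ (m - 1) * u := by rw [← pow_succ]; congr 1; omega
  have hp3 : u ≤ u ^ (m - 1) := Nat.le_self_pow (by omega) u
  constructor
  · rintro ⟨-, rfl | hx⟩
    · obtain ⟨h1, -⟩ := val_psl (n := x) (q := u) (by omega) hu
      have h2 : (u - 1) * (Nat.gcd x (u - 1) * ttor (.psl x) u x) ≤ (u + 1) * (Nat.gcd x (u - 1) * ttor (.psl x) u x) :=
        Nat.mul_le_mul_right _ (by omega)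
      have h3 : (u - 1) * (Nat.gcd x (u - 1) * ttor (.psl x) u x) = u ^ x - 1 := by rw [← h1]; ring
      omega
    · obtain rfl : x = m - 1 := by omega
      obtain ⟨-, h1⟩ := val_psl (n := m) (q := u) (by omega) hu
      rw [mul_comm (Nat.gcd m (u - 1)), h1, e1]
      obtain ⟨z, hz⟩ : ∃ z, u ^ (m - 1) = z + 1 := ⟨u ^ (m - 1) - 1, by omega⟩
      rw [hz, Nat.add_sub_cancel]
      rw [hz] at hp3
      linarith only [hp3]
  · rintro ⟨-, rfl | hx⟩
    · obtain ⟨h1, -⟩ := val_psu (n := x) (q := u) (by omega) hu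
      have h3 : (u + 1) * (Nat.gcd x (u + 1) * ttor (.psu x) u x) = if x % 2 = 0 then u ^ x - 1 else u ^ x + 1 := by
        rw [← h1]; ring
      rw [h3]
      split_ifs <;> omega
    · obtain rfl : x = m - 1 := by omega
      obtain ⟨-, h1⟩ := val_psu (n := m) (q := u) (by omega) hu
      rw [mul_comm (Nat.gcd m (u + 1)), h1, e1]
      have h2 : u ^ (m - 1) - 1 ≤ (if m % 2 = 0 then u ^ (m - 1) + 1 else u ^ (m - 1) - 1) := by
        split_ifs <;> omega
      refine le_trans ?_ (Nat.add_le_add_right (Nat.mul_le_mul_left _ h2) 1)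
      obtain ⟨z, hz⟩ : ∃ z, u ^ (m - 1) = z + 1 := ⟨u ^ (m - 1) - 1, by omega⟩
      rw [hz, Nat.add_sub_cancel]
      rw [hz] at hp3
      linarith only [hp3]

theorem m_le_seven {u m : ℕ} (hu : 2 ≤ u) (hu2 : u ≤ 6) (hW : u ^ m ≤ (u + 1) ^ 2 * (2 * u + 23) + 1) : m ≤ 7 := by
  by_contra hcon
  have h1 : u ^ 8 ≤ u ^ m := Nat.pow_le_pow_right (by omega) (by omega)
  have h2 : u ^ 8 ≤ (u + 1) ^ 2 * (2 * u + 23) + 1 := h1.trans hW
  interval_cases u <;> norm_num at h2

theorem m_le_13 {q u m : ℕ} (hq1 : q ≤ 13) (hu : 2 ≤ u) (hu2 : u ≤ 40)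
    (hW : u ^ m ≤ 4 * ((u + 1) * (q + 1)) + 112 * (q * (u + 1) ^ 2)) : m ≤ 13 := by
  by_contra hcon
  have h1 : u ^ 14 ≤ u ^ m := Nat.pow_le_pow_right (by omega) (by omega)
  have h3 : 4 * ((u + 1) * (q + 1)) + 112 * (q * (u + 1) ^ 2) ≤ 4 * ((u + 1) * 14) + 112 * (13 * (u + 1) ^ 2) :=
    Nat.add_le_add (Nat.mul_le_mul_left _ (Nat.mul_le_mul_left _ (by omega)))
      (Nat.mul_le_mul_left _ (Nat.mul_le_mul_right _ hq1))
  have h2 : u ^ 14 ≤ 4 * ((u + 1) * 14) + 112 * (13 * (u + 1) ^ 2) := (h1.trans hW).trans h3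
  interval_cases u <;> norm_num only [] at h2

variable {t t' : Fam} {q u x7 x8 k d : ℕ} {α β e C : ℤ}

theorem Pr8.P7_le (h : Pr8 t q t' u x7 x8 k d α β e C) :
    (ttor t' u x7 : ℤ) ≤ 3 * (ttor t' u x8 : ℤ) + |e| :=
  P_le h.α1 h.β3 (by positivity) h.eq

/-- **linear and unitary `S`** -/
theorem Pr8.false_lin (h : Pr8 t q t' u x7 x8 k d α β e C) (ht : t = .psl 8 ∨ t = .psu 8) (hq3 : 3 ≤ q)
    (hq2 : q % 2 = 1) (hu : 2 ≤ u) (hqu : Nat.Coprime q u) {m : ℕ} (hm : 4 ≤ m) (ht' : t' = .psl m ∨ t' = .psu m) :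
    False := by
  obtain ⟨hdd, hde⟩ := h.lin (h.lk ⟨m, ht'⟩)
  have hd : d ≤ u + 1 ∧ 1 ≤ d := by
    rcases hdd with ⟨m', hm', rfl⟩ | ⟨m', hm', rfl⟩
    · obtain rfl : m' = m := by rcases ht' with h1 | h1 <;> rw [h1] at hm' <;> cases hm'; rfl
      exact ⟨(Nat.gcd_le_right _ (by omega)).trans (by omega), Nat.gcd_pos_of_pos_left _ (by omega)⟩
    · obtain rfl : m' = m := by rcases ht' with h1 | h1 <;> rw [h1] at hm' <;> cases hm'; rfl
      exact ⟨Nat.gcd_le_right _ (by omega), Nat.gcd_pos_of_pos_left _ (by omega)⟩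
  have hW : u ^ m ≤ (u + 1) * (d * ttor t' u x8) + 1 := by
    have h8 := h.top8
    rcases ht' with rfl | rfl
    · rcases hdd with ⟨m', hm', rfl⟩ | ⟨m', hm', rfl⟩
      · cases hm'
        exact (low_lin hm hu).1 h8
      · cases hm'
    · rcases hdd with ⟨m', hm', rfl⟩ | ⟨m', hm', rfl⟩
      · cases hm'
      · cases hm'
        exact (low_lin hm hu).2 h8
  have hlow : u ^ 4 ≤ u ^ m := Nat.pow_le_pow_right (by omega) hm
  have he0 : |e| ≤ u + 1 := by
    have h1 : (1 : ℤ) * |e| ≤ d * |e| := mul_le_mul_of_nonneg_right (by exact_mod_cast hd.2) (abs_nonneg _)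
    linarith only [hde, h1]
  have hWz : ((u : ℤ)) ^ m ≤ (u + 1) * (d * (ttor t' u x8 : ℤ)) + 1 := by exact_mod_cast hW
  have hlowz : (u : ℤ) ^ 4 ≤ (u : ℤ) ^ m := by exact_mod_cast hlow
  have h7 : (q : ℤ) ^ 7 ≤ 7 * ((q + 1) * (ttor t' u x7 : ℤ)) + 1 := by exact_mod_cast h.le7
  have hdz : (d : ℤ) ≤ u + 1 := by exact_mod_cast hd.1
  have hdz1 : (1 : ℤ) ≤ d := by exact_mod_cast hd.2
  rcases Nat.lt_or_ge q 5 with hq5 | hq5
  · obtain rfl : q = 3 := by omega
    have hC2 := h.C2
    obtain ⟨h1, h2⟩ := num_lin3 (by exact_mod_cast hu) he0 (by exact_mod_cast hC2) h.C1 h.α2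
      (by exact_mod_cast h.le8) hdz hdz1 hde hlowz hWz
    have hu6 : u ≤ 6 := by exact_mod_cast h1
    have hW2 : u ^ m ≤ (u + 1) ^ 2 * (2 * u + 23) + 1 := by exact_mod_cast h2
    obtain ⟨⟨c1, c2⟩, c3, c4⟩ := ckL_of ht hu hu6 hm (m_le_seven hu hu6 hW2) hW2
    have h3 := h.top7
    rcases ht' with rfl | rfl
    · rcases h3.2 with h4 | h4
      · rw [← h4] at c1
        exact okP_false c1 (h4 ▸ h.dvd7) (h4 ▸ h.le7) hqu
      · have h5 : x7 = m - 1 := by omega
        rw [← h5] at c2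
        exact okP_false c2 h.dvd7 h.le7 hqu
    · rcases h3.2 with h4 | h4
      · rw [← h4] at c3
        exact okP_false c3 (h4 ▸ h.dvd7) (h4 ▸ h.le7) hqu
      · have h5 : x7 = m - 1 := by omega
        rw [← h5] at c4
        exact okP_false c4 h.dvd7 h.le7 hqu
  · exact num_lin (by exact_mod_cast hq5) (by exact_mod_cast hu) he0 h.C2 h.C1 h.α2 h.P7_le h7 h.le8 hdz hdz1 hde
      hlowz hWz

/-- **orthogonal `S`, `k = 2, 3`** -/
theorem Pr8.false_orth (h : Pr8 t q t' u x7 x8 k d α β e C) (ht : t = .psl 8 ∨ t = .psu 8) (hq3 : 3 ≤ q)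
    (hq2 : q % 2 = 1) (hu : 2 ≤ u) (hqu : Nat.Coprime q u) {m : ℕ} (hm : 4 ≤ m)
    (ht' : (t' = .oplus m ∧ m % 2 = 1) ∨ t' = .ominus m) : False := by
  have hW : u ^ m ≤ 8 * ttor t' u x8 := by
    have h1 := lowS hu (t' := t') (i' := x8) (by rcases ht' with ⟨rfl, -⟩ | rfl <;> exact hm) h.top8
    rcases ht' with ⟨rfl, hm2⟩ | rfl
    · rw [szE, if_neg (by omega)] at h1
      exact h1
    · exact h1
  have hlow : u ^ 4 ≤ u ^ m := Nat.pow_le_pow_right (by omega) hm
  have hWz : ((u : ℤ)) ^ m ≤ 8 * (ttor t' u x8 : ℤ) := by exact_mod_cast hW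
  have hlowz : (u : ℤ) ^ 4 ≤ (u : ℤ) ^ m := by exact_mod_cast hlow
  have h7 : (q : ℤ) ^ 7 ≤ 7 * ((q + 1) * (ttor t' u x7 : ℤ)) + 1 := by exact_mod_cast h.le7
  obtain ⟨h1, h2⟩ := num_orth (by exact_mod_cast hq3) (by exact_mod_cast hu) h.e2 h.C2 h.C1 h.α2 h.P7_le h7 h.le8
    hlowz hWz
  have hq13 : q ≤ 13 := by
    have : q < 15 := by exact_mod_cast h1
    omega
  have hu40 : u ≤ 40 := by
    have := num_orth2 (by exact_mod_cast hq3) (by exact_mod_cast hq13) (by exact_mod_cast hu) hlowz h2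
    exact_mod_cast this
  have hW2 : u ^ m ≤ 4 * ((u + 1) * (q + 1)) + 112 * (q * (u + 1) ^ 2) := by exact_mod_cast h2
  obtain ⟨c1, c2, c3, c4, c5⟩ := ckO_of ht hq3 hq13 hq2 hu hu40 hm (m_le_13 hq13 hu hu40 hW2) hW2
  have h3 := h.top7
  rcases ht' with ⟨rfl, hm2⟩ | rfl
  · rcases h3 with ⟨h4, -⟩ | h4 | ⟨-, h4⟩
    · have c1' := c1 hm2
      rw [← h4] at c1'
      exact okP_false c1' (h4 ▸ h.dvd7) (h4 ▸ h.le7) hqu
    · have c2' := c2 hm2
      rw [← h4] at c2'
      exact okP_false c2' h.dvd7 h.le7 hqu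
    · omega
  · rcases h3 with h4 | h4 | ⟨h4, h5⟩
    · rw [← h4] at c3
      exact okP_false c3 h.dvd7 h.le7 hqu
    · rw [← h4] at c4
      exact okP_false c4 h.dvd7 h.le7 hqu
    · have c5' := c5 h5
      rw [← h4] at c5'
      exact okP_false c5' h.dvd7 h.le7 hqu

/-- **The data `Pr8` are contradictory.** -/
theorem Pr8.false (h : Pr8 t q t' u x7 x8 k d α β e C) (ht : t = .psl 8 ∨ t = .psu 8) (hq3 : 3 ≤ q)
    (hq2 : q % 2 = 1) (hu : 2 ≤ u) (hqu : Nat.Coprime q u) (hr' : RkS t') : False := by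
  have h7 : (q : ℤ) ^ 7 ≤ 7 * ((q + 1) * (ttor t' u x7 : ℤ)) + 1 := by exact_mod_cast h.le7
  have sp : k = 1 → False := by
    intro hk
    obtain ⟨he, hα, hβ⟩ := h.k1 hk
    have h8 := h.le8
    have heq := h.eq
    rw [hα, one_mul] at h8
    rw [hα, hβ, one_mul, one_mul] at heq
    exact num_sp (by exact_mod_cast hq3) he h.C2 heq h7 h8
  have htop := h.top7
  cases t' with
  | psl m =>
    have hm : 4 ≤ m := by
      rcases hr' with h1 | h1 | h1
      · exact h1
      · cases h1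
      · cases h1
    exact h.false_lin ht hq3 hq2 hu hqu hm (Or.inl rfl)
  | psu m =>
    have hm : 4 ≤ m := by
      rcases hr' with h1 | h1 | h1
      · exact h1
      · cases h1
      · cases h1
    exact h.false_lin ht hq3 hq2 hu hqu hm (Or.inr rfl)
  | psp m => exact sp (h.sp ⟨m, Or.inl rfl⟩)
  | oodd m => exact sp (h.sp ⟨m, Or.inr (Or.inl rfl)⟩)
  | oplus m =>
    have hm : 4 ≤ m := by
      rcases hr' with h1 | h1 | h1
      · exact h1
      · cases h1
      · cases h1
    rcases Nat.mod_two_eq_zero_or_one m with h2 | h2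
    · exact sp (h.sp ⟨m, Or.inr (Or.inr ⟨rfl, h2⟩)⟩)
    · exact h.false_orth ht hq3 hq2 hu hqu hm (Or.inl ⟨rfl, h2⟩)
  | ominus m =>
    have hm : 4 ≤ m := by
      rcases hr' with h1 | h1 | h1
      · exact h1
      · cases h1
      · cases h1
    exact h.false_orth ht hq3 hq2 hu hqu hm (Or.inr rfl)
  | _ => exact htop.elim

/-- **`L_8(q)`, `U_8(q)`, both classes isolated: exotic.** -/
theorem iso8 {t t' : Fam} {p f i j v f' i' j' w H : ℕ} {S : Type} [Group S]
    (h : Duel t p f i j t' v f' i' j' w H S) (ht : t = .psl 8 ∨ t = .psu 8) (hr' : RkS t') (hj : top t' j') :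
    ∃ H' : ℕ, ttor t (p ^ f) j = H' * ttor t' (v ^ f') j' ∧
      Exo t (p ^ f) t' (v ^ f') i j i' j' H H' := by
  rcases pr8 h ht hr' hj with h1 | ⟨x7, x8, k, d, α, β, e, C, h1⟩
  · exact h1
  · obtain ⟨hq3, hq2⟩ := f_q h.p_prime h.p_ne h.f_pos
    have hu : 2 ≤ v ^ f' := h.v_prime.two_le.trans (Nat.le_self_pow (by have := h.f'_pos; omega) v)
    exact (h1.false ht hq3 hq2 hu
      (Nat.Coprime.pow _ _ ((Nat.coprime_primes h.p_prime h.v_prime).2 h.vp.symm)) hr').elim

end Cfsg.Agent.R2.Spec.SDL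
end

private theorem dce_f328c4b7e502 : _root_.True := by
  try have : _root_.True := by simp only [_root_.Cfsg.Agent.R2.Spec.SDL.ckL.eq_1]
  try have : _root_.True := by simp only [_root_.Cfsg.Agent.R2.Spec.SDL.okP.eq_1]
  try have : _root_.True := by simp only [_root_.Cfsg.Agent.R2.Spec.SDL.ckO.eq_1]
  exact _root_.True.intro
end

-- part: R2/Spec/EE/SurvE8
section
set_option linter.all false
open scoped Cfsg.Agent.FastGrp

/-!
# The surviving rows of `E₈` (helper8)

* `surv8` : the number of a class `i0`, all the values of which are large classes of `E₈`, is at most `u^8 + u^7`;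
* `kill8` : the contradiction.
-/

set_option autoImplicit false
set_option linter.unusedSectionVars false
set_option linter.unusedVariables false

namespace Cfsg.Agent.R2.Spec.EE

open Subgroup Cfsg
open Cfsg.Agent.H426.LieFam Cfsg.Agent.R2.Spec Cfsg.Agent.R2.Spec.P1 Cfsg.Agent.R2.Spec.F1
open Cfsg.Agent.H365.Zsig

universe u w

/-- the mask of the large classes -/
theorem mask_A8 {x : ℕ} (h : (129344 : ℕ).testBit x = true) : clE8.getD x 0 ∈ A8 ∧ x < 17 := by
  have hx : x < 17 := by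
    by_contra hcon
    rw [Nat.testBit_lt_two_pow (lt_of_lt_of_le (by norm_num : 129344 < 2 ^ 17)
      (Nat.pow_le_pow_right (by norm_num) (not_lt.1 hcon)))] at h
    exact Bool.noConfusion h
  exact ⟨(by decide : ∀ x < 17, (129344 : ℕ).testBit x = true → clE8.getD x 0 ∈ A8) x hx h, hx⟩

section main

variable {t : Fam} {p f : ℕ} {L : Type w} [Group L] [Finite L] {G : Type u} [Group G] [Finite G]
  {K : Subgroup G} [K.Normal] {S : Subgroup (G ⧸ K)} [S.Normal] {v f' : ℕ}

/-- the element -/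
theorem exists_tor (h : LS t p f L G) (hI : Fam.Is p f L t) {i M : ℕ} (hi : 3 ≤ i) (hm : mem t i) (hodd : Odd M)
    (hM : M ∣ tnum t (p ^ f) i) (hin : ∀ r : ℕ, r.Prime → r ∣ M → In t (p ^ f) i r) : ∃ g : G, orderOf g = M := by
  rw [h.ord]
  refine (torFacts h.cla h.prime hI).tor i _ hi hm hodd (fun r hr hd => ?_) hM
  rw [(hin r hr hd).cls_eq]
  exact hi

theorem val_mask {T : Tab} {c : ℕ} {k : ℕ → ℕ} {y m : ℕ} (hm : m < 2 ^ T.n) (h : m.testBit (val T c v k y) = true) :
    y ≠ v ∧ ¬ y ∣ c ∧ m.testBit (k y) = true := by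
  have hbig : ∀ x, T.n ≤ x → m.testBit x = false := fun x hx =>
    Nat.testBit_lt_two_pow (hm.trans_le (Nat.pow_le_pow_right (by norm_num) hx))
  rw [val] at h
  split_ifs at h with h1 h2 h2
  · rw [hbig _ (by omega)] at h; exact Bool.noConfusion h
  · rw [hbig _ (by omega)] at h; exact Bool.noConfusion h
  · rw [hbig _ (by omega)] at h; exact Bool.noConfusion h
  · exact ⟨h1, h2, h⟩

/-- **The number of the class `i0`.** -/
theorem surv8 (h : EX t p f L G K S .e8 v f' tabE8 (kE8 (v ^ f')))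
    (hgd : ∀ i ∈ cls3 t, ∃ y, Gd t (p ^ f) (Nat.card ↥K) S.index i y) {i0 : ℕ} (hi : 3 ≤ i0) (hm : mem t i0)
    (hbig : ∀ y, In t (p ^ f) i0 y → Gd t (p ^ f) (Nat.card ↥K) S.index i0 y ∧ (¬ y ∣ Nat.card ↥K → ¬ y ∣ S.index))
    (hk : (dat tabE8.tbl t (cls3 t)).go (cls3 t).length (st0 tabE8.tbl (cls3 t) (tabE8.domX i0 129344)) 0 = false)
    {M : ℕ} (hM : M ∣ tnum t (p ^ f) i0) (hodd : Odd M) (hin : ∀ r : ℕ, r.Prime → r ∣ M → In t (p ^ f) i0 r) :
    M ≤ (v ^ f') ^ 8 + (v ^ f') ^ 7 := by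
  obtain ⟨g, hg⟩ := exists_tor h.ls h.is hi hm hodd hM hin
  have key : ∀ y : ℕ, y.Prime → y ∣ M → y ≠ v ∧ ¬ y ∣ Nat.card ↥K ∧ (129344 : ℕ).testBit (kE8 (v ^ f') y) = true :=
    fun y hy hd => val_mask (T := tabE8) (by decide) (h.row_val hgd hk (hbig y (hin y hy hd)).1)
  refine numA8_le h.ef.vp h.frm.is hg (fun y hy hd => (key y hy hd).2.1)
    (fun y hy hd => (hbig y (hin y hy hd)).2 (key y hy hd).2.1)
    (fun y hy hd => ⟨(hin y hy hd).five, (key y hy hd).1⟩) (fun y hy hd => mask_A8 (key y hy hd).2.2)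

/-- the size of the class number -/
theorem size8' (h : EX t p f L G K S .e8 v f' tabE8 (kE8 (v ^ f')))
    (hgd : ∀ i ∈ cls3 t, ∃ y, Gd t (p ^ f) (Nat.card ↥K) S.index i y) {i0 : ℕ} (hi : 3 ≤ i0) (hm : mem t i0)
    (hbig : ∀ y, In t (p ^ f) i0 y → Gd t (p ^ f) (Nat.card ↥K) S.index i0 y ∧ (¬ y ∣ Nat.card ↥K → ¬ y ∣ S.index))
    (hk : (dat tabE8.tbl t (cls3 t)).go (cls3 t).length (st0 tabE8.tbl (cls3 t) (tabE8.domX i0 129344)) 0 = false)
    {l : ℕ} (hl : ∀ r : ℕ, r.Prime → r ∣ idx t i0 → r ≤ l) (hl1 : 1 ≤ l) :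
    Ph (idx t i0) (p ^ f) ≤ l * ((v ^ f') ^ 8 + (v ^ f') ^ 7) := by
  obtain ⟨hq, hq3⟩ := q_odd h.ls h.p2
  obtain ⟨M, h1, h2, h3, h4⟩ := class_num6 h.ls.cla hq hq3 hi hm hl hl1
  exact h4.trans (Nat.mul_le_mul_left l (surv8 h hgd hi hm hbig hk h1 h2 h3))

/-- the kernel fact: the values of the class `i0` are large classes of `E₈` -/
def KF8 (t : Fam) (i0 : ℕ) : Prop :=
  (dat tabE8.tbl t (cls3 t)).go (cls3 t).length (st0 tabE8.tbl (cls3 t) (tabE8.domX i0 129344)) 0 = false

/-- the size of the class number, for a big class -/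
theorem big8_rk (h : EX t p f L G K S .e8 v f' tabE8 (kE8 (v ^ f'))) (h5 : Five t) {i0 : ℕ} (hb : Big t i0)
    (hr : rk t ≤ 18 ∨ ((∀ i, wt t i = i) ∧ rk t ≤ 24)) (hk : KF8 t i0) {l : ℕ}
    (hl : ∀ r : ℕ, r.Prime → r ∣ idx t i0 → r ≤ l) (hl1 : 1 ≤ l) :
    Ph (idx t i0) (p ^ f) ≤ l * ((v ^ f') ^ 8 + (v ^ f') ^ 7) :=
  size8' h (h.gd_all fun M hM5 hM => flt8 h.ls h.is h.p2 h.frm.is hr hM5 hM) hb.1 hb.2.1
    (fun y hy => ⟨h.gd_big h5 hy hb, fun hyK => h.big_index h5 hy hb hyK⟩) hk hl hl1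

theorem prime_le {n l : ℕ} (hn : 0 < n) (h : ∀ r ∈ List.range (n + 1), r ∣ n → l < r → ¬ r.Prime) (r : ℕ) (hr : r.Prime)
    (hd : r ∣ n) : r ≤ l := by
  by_contra hcon
  exact h r (List.mem_range.2 (by have := Nat.le_of_dvd hn hd; omega)) hd (by omega) hr

/-- **The classes 7, 14.** -/
theorem kill8a (h : EX t p f L G K S .e8 v f' tabE8 (kE8 (v ^ f'))) (h5 : Five t) {i0 : ℕ} (hb : Big t i0)
    (hr : rk t ≤ 18 ∨ ((∀ i, wt t i = i) ∧ rk t ≤ 24)) (hk : KF8 t i0) (hi : idx t i0 = 7 ∨ idx t i0 = 14)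
    (hr10 : rk t ≤ 10) {R : ℕ} (hB : (v ^ f') ^ 78 ≤ 1260 * (2 * rk t * p ^ f * R)) (hR : R ≤ 3 * (p ^ f) ^ 36) :
    False := by
  obtain ⟨hq, hq3⟩ := q_odd h.ls h.p2
  have hu := field_two (Or.inl rfl) h.frm.is
  have h1 := big8_rk h h5 hb hr hk (l := 7) (by
    rcases hi with h0 | h0 <;> rw [h0] <;> exact prime_le (by norm_num) (by decide)) (by norm_num)
  refine n1 hq3 hu ?_ (hB.trans ?_)
  · refine (Ph_six_le hi (by omega)).trans ?_
    exact_mod_cast h1
  · exact Nat.mul_le_mul_left _ (Nat.mul_le_mul (Nat.mul_le_mul_right _ (Nat.mul_le_mul_left _ hr10)) hR)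

/-- **The class 16.** -/
theorem kill8b (h : EX t p f L G K S .e8 v f' tabE8 (kE8 (v ^ f'))) (h5 : Five t) (hb : Big t 16)
    (hk : KF8 t 16) (hi : idx t 16 = 16) (hr10 : rk t ≤ 10) (hR : RR t (p ^ f) ≤ 2 * (p ^ f) ^ 64) :
    False := by
  obtain ⟨hq, hq3⟩ := q_odd h.ls h.p2
  have hu := field_two (Or.inl rfl) h.frm.is
  have h1 := big8_rk h h5 hb (Or.inl (by omega)) hk (l := 2) (by
    rw [hi]; exact prime_le (by norm_num) (by decide)) (by norm_num)
  rw [hi, Ph_sixteen (by omega)] at h1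
  exact n2 hq3 hq hu h1 ((bigB8 h.ls h.is h.p2 h.frm.is).trans
    (Nat.mul_le_mul_left _ (Nat.mul_le_mul (Nat.mul_le_mul_right _ (Nat.mul_le_mul_left _ hr10)) hR)))

/-- **The classes 13, 26.** -/
theorem kill8c (h : EX t p f L G K S .e8 v f' tabE8 (kE8 (v ^ f'))) (h5 : Five t) (hb : Big t 13)
    (hw : ∀ i, wt t i = i) (hk : KF8 t 13) (hi : idx t 13 = 13 ∨ idx t 13 = 26) (hr13 : rk t ≤ 13)
    (hR : RR t (p ^ f) ≤ 4 * (p ^ f) ^ 58) :
    False := by
  obtain ⟨hq, hq3⟩ := q_odd h.ls h.p2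
  have hu := field_two (Or.inl rfl) h.frm.is
  have h1 := big8_rk h h5 hb (Or.inr ⟨hw, by omega⟩) hk (l := 13) (by
    rcases hi with h0 | h0 <;> rw [h0] <;> exact prime_le (by norm_num) (by decide)) (by norm_num)
  refine n3 hq3 hu ?_ ((bigB8 h.ls h.is h.p2 h.frm.is).trans ?_)
  · refine (Ph_twelve_le hi (by omega)).trans ?_
    exact_mod_cast h1
  · exact Nat.mul_le_mul_left _ (Nat.mul_le_mul (Nat.mul_le_mul_right _ (Nat.mul_le_mul_left _ hr13)) hR)

end main

/-! ### the rows -/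

section rows

variable {p f : ℕ} {L : Type w} [Group L] [Finite L] {G : Type u} [Group G] [Finite G]
  {K : Subgroup G} [K.Normal] {S : Subgroup (G ⧸ K)} [S.Normal] {v f' : ℕ}

theorem pw {q a b c d : ℕ} (hq : 3 ≤ q) (hab : a ≤ b) (hcd : c ≤ d) : a * q ^ c ≤ b * q ^ d :=
  Nat.mul_le_mul hab (Nat.pow_le_pow_right (by omega) hcd)

theorem s8_psl9 (h : EX (.psl 9) p f L G K S .e8 v f' tabE8 (kE8 (v ^ f'))) (hk : KF8 (.psl 9) 7) : False :=
  kill8a h (show 9 ≤ 9 by omega) ⟨by omega, show 7 ≤ 9 by omega, show 9 < 2 * 7 by omega⟩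
    (Or.inl (show 9 ≤ 18 by omega)) hk (Or.inl rfl) (show 9 ≤ 10 by omega) (bigB8 h.ls h.is h.p2 h.frm.is)
    ((RR_psl9 (q_odd h.ls h.p2).2).trans (pw (q_odd h.ls h.p2).2 le_rfl (by norm_num)))

theorem s8_psu9 (h : EX (.psu 9) p f L G K S .e8 v f' tabE8 (kE8 (v ^ f'))) (hk : KF8 (.psu 9) 7) : False :=
  kill8a h (show 9 ≤ 9 by omega) ⟨by omega, show 7 ≤ 9 by omega, show 9 < 2 * 7 by omega⟩
    (Or.inl (show 9 ≤ 18 by omega)) hk (Or.inr rfl) (show 9 ≤ 10 by omega) (bigB8 h.ls h.is h.p2 h.frm.is)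
    ((RR_psu9 (q_odd h.ls h.p2).2).trans ((one_mul _).symm.trans_le (pw (q_odd h.ls h.p2).2 (by norm_num) (by norm_num))))

theorem s8_psl10 (h : EX (.psl 10) p f L G K S .e8 v f' tabE8 (kE8 (v ^ f'))) (hk : KF8 (.psl 10) 7) : False :=
  kill8a h (show 9 ≤ 10 by omega) ⟨by omega, show 7 ≤ 10 by omega, show 10 < 2 * 7 by omega⟩
    (Or.inl (show 10 ≤ 18 by omega)) hk (Or.inl rfl) (show 10 ≤ 10 by omega) (bigB8 h.ls h.is h.p2 h.frm.is)
    ((RR_psl10 (q_odd h.ls h.p2).2).trans (pw (q_odd h.ls h.p2).2 (by norm_num) (by norm_num)))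

theorem s8_psu10 (h : EX (.psu 10) p f L G K S .e8 v f' tabE8 (kE8 (v ^ f'))) (hk : KF8 (.psu 10) 7) : False :=
  kill8a h (show 9 ≤ 10 by omega) ⟨by omega, show 7 ≤ 10 by omega, show 10 < 2 * 7 by omega⟩
    (Or.inl (show 10 ≤ 18 by omega)) hk (Or.inr rfl) (show 10 ≤ 10 by omega) (bigB8 h.ls h.is h.p2 h.frm.is)
    ((RR_psu10 (q_odd h.ls h.p2).2).trans ((one_mul _).symm.trans_le (pw (q_odd h.ls h.p2).2 (by norm_num) (by norm_num))))

theorem s8_psl13 (h : EX (.psl 13) p f L G K S .e8 v f' tabE8 (kE8 (v ^ f'))) (hk : KF8 (.psl 13) 13) : False :=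
  kill8c h (show 9 ≤ 13 by omega) ⟨by omega, show 13 ≤ 13 by omega, show 13 < 2 * 13 by omega⟩
    (fun _ => rfl) hk (Or.inl rfl) (show 13 ≤ 13 by omega) (RR_psl13 (q_odd h.ls h.p2).2)

theorem s8_psu13 (h : EX (.psu 13) p f L G K S .e8 v f' tabE8 (kE8 (v ^ f'))) (hk : KF8 (.psu 13) 13) : False :=
  kill8c h (show 9 ≤ 13 by omega) ⟨by omega, show 13 ≤ 13 by omega, show 13 < 2 * 13 by omega⟩
    (fun _ => rfl) hk (Or.inr rfl) (show 13 ≤ 13 by omega)
    ((RR_psu13 (q_odd h.ls h.p2).2).trans ((one_mul _).symm.trans_le (pw (q_odd h.ls h.p2).2 (by norm_num) le_rfl)))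

theorem s8_psp8 (h : EX (.psp 8) p f L G K S .e8 v f' tabE8 (kE8 (v ^ f'))) (hk : KF8 (.psp 8) 16) : False :=
  kill8b h (show 7 ≤ 8 by omega) ⟨by omega, show eta 16 ≤ 8 by decide, show 8 < 2 * eta 16 by decide⟩ hk rfl
    (show 8 ≤ 10 by omega) ((RR_psp8 (q_odd h.ls h.p2).2).trans (pw (q_odd h.ls h.p2).2 le_rfl (by norm_num)))

theorem s8_oodd8 (h : EX (.oodd 8) p f L G K S .e8 v f' tabE8 (kE8 (v ^ f'))) (hk : KF8 (.oodd 8) 16) : False :=
  kill8b h (show 7 ≤ 8 by omega) ⟨by omega, show eta 16 ≤ 8 by decide, show 8 < 2 * eta 16 by decide⟩ hk rfl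
    (show 8 ≤ 10 by omega) ((RR_oodd8 (q_odd h.ls h.p2).2).trans (pw (q_odd h.ls h.p2).2 le_rfl (by norm_num)))

theorem s8_psp10 (h : EX (.psp 10) p f L G K S .e8 v f' tabE8 (kE8 (v ^ f'))) (hk : KF8 (.psp 10) 16) : False :=
  kill8b h (show 7 ≤ 10 by omega) ⟨by omega, show eta 16 ≤ 10 by decide, show 10 < 2 * eta 16 by decide⟩ hk rfl
    (show 10 ≤ 10 by omega) (RR_psp10 (q_odd h.ls h.p2).2)

theorem s8_oodd10 (h : EX (.oodd 10) p f L G K S .e8 v f' tabE8 (kE8 (v ^ f'))) (hk : KF8 (.oodd 10) 16) : False :=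
  kill8b h (show 7 ≤ 10 by omega) ⟨by omega, show eta 16 ≤ 10 by decide, show 10 < 2 * eta 16 by decide⟩ hk rfl
    (show 10 ≤ 10 by omega) (RR_oodd10 (q_odd h.ls h.p2).2)

theorem s8_oplus8 (h : EX (.oplus 8) p f L G K S .e8 v f' tabE8 (kE8 (v ^ f'))) (hk : KF8 (.oplus 8) 7) : False :=
  kill8a h (show 7 ≤ 8 by omega) ⟨by omega, Or.inl (show eta 7 + 1 ≤ 8 by decide), show 8 < 2 * eta 7 by decide⟩
    (Or.inl (show 8 ≤ 18 by omega)) hk (Or.inl rfl) (show 8 ≤ 10 by omega) (bigB8M h.ls h.is h.p2 nb_oplus8 h.frm.is)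
    ((RM_oplus8 (q_odd h.ls h.p2).2).trans (pw (q_odd h.ls h.p2).2 (by norm_num) le_rfl))

theorem s8_oplus9 (h : EX (.oplus 9) p f L G K S .e8 v f' tabE8 (kE8 (v ^ f'))) (hk : KF8 (.oplus 9) 16) : False :=
  kill8b h (show 7 ≤ 9 by omega) ⟨by omega, Or.inl (show eta 16 + 1 ≤ 9 by decide), show 9 < 2 * eta 16 by decide⟩ hk rfl
    (show 9 ≤ 10 by omega) ((RR_oplus9 (q_odd h.ls h.p2).2).trans (pw (q_odd h.ls h.p2).2 le_rfl (by norm_num)))

theorem s8_ominus8 (h : EX (.ominus 8) p f L G K S .e8 v f' tabE8 (kE8 (v ^ f'))) (hk : KF8 (.ominus 8) 16) : False :=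
  kill8b h (show 7 ≤ 8 by omega) ⟨by omega, Or.inr (show 16 = 2 * 8 by norm_num), show 8 < 2 * eta 16 by decide⟩ hk rfl
    (show 8 ≤ 10 by omega) ((RR_ominus8 (q_odd h.ls h.p2).2).trans (pw (q_odd h.ls h.p2).2 le_rfl (by norm_num)))

theorem s8_ominus9 (h : EX (.ominus 9) p f L G K S .e8 v f' tabE8 (kE8 (v ^ f'))) (hk : KF8 (.ominus 9) 16) : False :=
  kill8b h (show 7 ≤ 9 by omega) ⟨by omega, Or.inl (show eta 16 + 1 ≤ 9 by decide), show 9 < 2 * eta 16 by decide⟩ hk rfl
    (show 9 ≤ 10 by omega) ((RR_ominus9 (q_odd h.ls h.p2).2).trans (pw (q_odd h.ls h.p2).2 le_rfl (by norm_num)))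

theorem s8_ominus10 (h : EX (.ominus 10) p f L G K S .e8 v f' tabE8 (kE8 (v ^ f'))) (hk : KF8 (.ominus 10) 16) : False :=
  kill8b h (show 7 ≤ 10 by omega) ⟨by omega, Or.inl (show eta 16 + 1 ≤ 10 by decide), show 10 < 2 * eta 16 by decide⟩ hk rfl
    (show 10 ≤ 10 by omega) (RR_ominus10 (q_odd h.ls h.p2).2)

end rows

end Cfsg.Agent.R2.Spec.EE
end

-- part: R2/Spec/EE/SmN7
section
prune_inst 0x1c0280000400000b0001000000000000000000000600000001000000000000400008110000000210000000000000000000000020000000000000000000000000000000000000000000000000000000000000000000000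
set_option linter.all false
open scoped Cfsg.Agent.FastGrp

-- part: R2/Spec/EE/SmC7
section
/-!
# Small rank, `S = E₇(u)`: common part (helper3)

* `Pm n q` : the primitive part of `Φ_n(q)`;
* `EX.kill` : the primes of a class with a `Killer` do not divide the index;
* `sv7_one` : a class with all values in the large classes of `E₇`;
* `EX.two_out` : of two nonadjacent classes one has no prime dividing `|K|` or equal to `v`; `sv7_out`.
-/

set_option autoImplicit false
set_option linter.unusedSectionVars false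
set_option linter.unusedVariables false

namespace Cfsg.Agent.R2.Spec.EE

open Subgroup Cfsg Polynomial
open Cfsg.Agent.H426.LieFam Cfsg.Agent.R2.Spec Cfsg.Agent.R2.Spec.P1 Cfsg.Agent.R2.Spec.F1
open Cfsg.Agent.H365.Zsig

universe u w

/-! ### the primitive part -/

/-- the primitive part of `Φ_n(q)` -/
noncomputable def Pm (n q : ℕ) : ℕ := Ph n q / Nat.gcd (Ph n q) n

theorem Pm_dvd (n q : ℕ) : Pm n q ∣ Ph n q := Nat.div_dvd_of_dvd (Nat.gcd_dvd_left _ _)

theorem Ph_eq_mul (n q : ℕ) : Ph n q = Nat.gcd (Ph n q) n * Pm n q :=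
  (Nat.mul_div_cancel' (Nat.gcd_dvd_left _ _)).symm

theorem Pm_ord {n q r : ℕ} (hn : 3 ≤ n) (hq : 2 ≤ q) (hr : r.Prime) (hd : r ∣ Pm n q) : orderOf (q : ZMod r) = n := by
  have hrd : r ∣ Ph n q := hd.trans (Pm_dvd n q)
  by_contra hro
  obtain ⟨k, m, hnk, hrm, hord, hmr, hm0⟩ := (prime_dvd_Ph (by omega) hq hr hrd).resolve_left hro
  refine sq_not_dvd hn hq hr hnk hrm hord hmr hm0 ?_
  have h1 : r ∣ Nat.gcd (Ph n q) n := Nat.dvd_gcd hrd (by
    rw [hnk]; exact (dvd_pow_self r (Nat.succ_ne_zero k)).mul_right m)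
  rw [Ph_eq_mul n q, sq]
  exact Nat.mul_dvd_mul h1 hd

theorem Pm_odd {n q : ℕ} (hn : 3 ≤ n) (hq : 2 ≤ q) (hq2 : q % 2 = 1) : Odd (Pm n q) := by
  rw [Nat.odd_iff]
  by_contra h1
  have h2 : 2 ∣ Pm n q := by omega
  have h3 := Pm_ord hn hq Nat.prime_two h2
  have h4 : orderOf ((q : ℕ) : ZMod 2) ∣ 2 - 1 := by
    have := Fact.mk Nat.prime_two
    apply ZMod.orderOf_dvd_card_sub_one
    rw [Ne, ZMod.natCast_eq_zero_iff]
    omega
  rw [h3] at h4
  have := Nat.le_of_dvd (by norm_num) h4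
  omega

theorem Pm_le {n q : ℕ} (hn : 1 ≤ n) : Ph n q ≤ n * Pm n q := by
  conv_lhs => rw [Ph_eq_mul n q]
  exact Nat.mul_le_mul_right _ (Nat.le_of_dvd hn (Nat.gcd_dvd_right _ _))

/-- the primitive part and the torus number -/
theorem Pm_tor {t : Fam} (ht : Classical t) {q i : ℕ} (hq : q % 2 = 1) (hq3 : 3 ≤ q) (hi : 3 ≤ i) (hm : mem t i) :
    Pm (idx t i) q ∣ tnum t q i ∧ Odd (Pm (idx t i) q) ∧ ∀ r : ℕ, r.Prime → r ∣ Pm (idx t i) q → In t q i r := by
  by_cases hpsu : ∀ m, t ≠ .psu m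
  · have hidx : idx t i = i := by
      unfold idx
      cases t with
      | psu m => exact absurd rfl (hpsu m)
      | _ => rfl
    rw [hidx]
    have h : ∀ r : ℕ, r.Prime → r ∣ Pm i q → orderOf (q : ZMod r) = i := fun r hr hd => Pm_ord hi (by omega) hr hd
    have hMd : Pm i q ∣ q ^ i - 1 := (Pm_dvd i q).trans (Ph_dvd (by omega) (by omega))
    refine ⟨?_, Pm_odd hi (by omega) hq, fun r hr hrM => ⟨hr, ?_, hi, hm⟩⟩
    · by_cases hpsl : ∀ m, t ≠ .psl m
      · rw [tnum_tn hpsl hpsu]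
        unfold Cfsg.Agent.H72.AdjOrth.tn
        split_ifs with he
        · obtain ⟨j, hj⟩ := he
          have hj' : i / 2 = j := by omega
          rw [hj']
          have hij : i = 2 * j := by omega
          rw [hij] at hMd h ⊢
          exact dvd_plus (by omega) (by omega) hMd h
        · exact hMd
      · push Not at hpsl
        obtain ⟨m, rfl⟩ := hpsl
        exact hMd
    · rw [cls_eq_co hpsu]
      exact h r hr hrM
  · push Not at hpsu
    obtain ⟨m, rfl⟩ := hpsu
    have hidx : idx (.psu m) i = dl i := rfl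
    rw [hidx]
    have h : ∀ r : ℕ, r.Prime → r ∣ Pm (dl i) q → orderOf (q : ZMod r) = dl i := fun r hr hd =>
      Pm_ord (dl_three hi) (by omega) hr hd
    have hodd := Pm_odd (dl_three hi) (by omega) hq
    have hMd : Pm (dl i) q ∣ q ^ dl i - 1 := (Pm_dvd _ q).trans (Ph_dvd (by have := dl_three hi; omega) (by omega))
    refine ⟨?_, hodd, fun r hr hrM => ⟨hr, ?_, hi, hm⟩⟩
    · unfold tnum
      simp only
      split_ifs with he
      · refine hMd.trans ?_
        have h1 : dl i ∣ i := by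
          unfold dl
          split_ifs with h2 h3
          · exact dvd_rfl
          · exact Nat.div_dvd_of_dvd (Nat.dvd_of_mod_eq_zero h3)
          · exact absurd (Nat.even_iff.1 he) h3
        exact Nat.pow_sub_one_dvd_pow_sub_one q h1
      · have h1 : dl i = 2 * i := by
          unfold dl
          rw [if_neg (by rw [Nat.even_iff] at he; omega), if_neg (by rw [Nat.even_iff] at he; omega)]
        rw [h1] at hMd h ⊢
        exact dvd_plus (by omega) (by omega) hMd h
    · rw [cls, sg]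
      push_cast
      refine neg_order hr (fun h2 => ?_) hi (h r hr hrM)
      rw [h2] at hrM
      exact absurd (Nat.odd_iff.1 hodd) (by omega)

/-! ### the index -/

/-- the classes which give congruences for the class `i` -/
def KI (t : Fam) (i l : ℕ) : Prop :=
  3 ≤ l ∧ mem t l ∧ na t i l ∧ ∃ m, 3 ≤ m ∧ mem t m ∧ na t i m ∧ na t l m

section

variable {t : Fam} {p f : ℕ} {L : Type w} [Group L] [Finite L] {G : Type u} [Group G] [Finite G]
  {K : Subgroup G} [K.Normal] {S : Subgroup (G ⧸ K)} [S.Normal] {t' : Fam} {v f' : ℕ} {T : Tab} {k : ℕ → ℕ}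

theorem EX.kill (h : EX t p f L G K S t' v f' T k) {i r : ℕ} (hr : In t (p ^ f) i r) (hrK : ¬ r ∣ Nat.card ↥K)
    (hk : Killer (KI t i) i) : ¬ r ∣ S.index := by
  intro hd
  refine killer_false hr.prime hr.five (X := sg t (p ^ f)) hr.cls_eq hr.reg (I := KI t i) ?_ hk
  intro l hl hli
  obtain ⟨h3, hm, hna, m, hm3, hmm, h1, h2⟩ := hl
  obtain ⟨z, hz⟩ := h.exists_in hm3 hmm
  exact h.ls.ehc h.red h.frm hr (hd.mul_left _) hrK h3 hm hna ⟨m, z, hz, h1, h2⟩

theorem EX.gd_of_kill (h : EX t p f L G K S t' v f' T k) {i y : ℕ} (hy : In t (p ^ f) i y)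
    (hk : Killer (KI t i) i) : Gd t (p ^ f) (Nat.card ↥K) S.index i y := by
  refine ⟨hy, fun hyK => ⟨1, ?_, ?_⟩⟩
  · rw [pow_one]
    exact in_dvd_tnum h.ls.cla (by have := h.q_odd; omega) hy
  · rw [pow_one]
    exact h.kill hy hyK hk

/-- **Two nonadjacent classes are not both outside of `S`.** -/
theorem EX.two_out (h : EX t p f L G K S t' v f' T k) (hkv : T.kv = true) {i j : ℕ} (hij : na t i j) :
    (∀ y, In t (p ^ f) i y → ¬ y ∣ Nat.card ↥K ∧ y ≠ v) ∨ (∀ z, In t (p ^ f) j z → ¬ z ∣ Nat.card ↥K ∧ z ≠ v) := by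
  by_contra hcon
  rw [not_or] at hcon
  obtain ⟨h1, h2⟩ := hcon
  push Not at h1 h2
  obtain ⟨y, hy, hy1⟩ := h1
  obtain ⟨z, hz, hz1⟩ := h2
  have hne : y ≠ z := hy.ne hz (na_ne hij)
  have hno : ¬ ∃ g : G, orderOf g = y * z := fun hg => (h.ls.adj_iff hy hz hne).1 hg hij
  by_cases hyK : y ∣ Nat.card ↥K
  · by_cases hzK : z ∣ Nat.card ↥K
    · exact hno (exists_mul_nil h.ef.nil hy.prime hz.prime hne hyK hzK)
    · have hzv := hz1 hzK
      have hyv : y ≠ v := fun h3 => hne (h3.trans hzv.symm)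
      obtain ⟨g, hg⟩ := h.ef.kv hkv y hy.prime hyK hyv
      exact hno ⟨g, by rw [hg, hzv]⟩
  · have hyv := hy1 hyK
    by_cases hzK : z ∣ Nat.card ↥K
    · have hzv : z ≠ v := fun h3 => hne (hyv.trans h3.symm)
      obtain ⟨g, hg⟩ := h.ef.kv hkv z hz.prime hzK hzv
      exact hno ⟨g, by rw [hg, hyv, mul_comm]⟩
    · exact hne (hyv.trans (hz1 hzK).symm)

end

/-! ### the elements -/

/-- the mask of the large classes -/
theorem mask_A7s {x : ℕ} (h : (8144 : ℕ).testBit x = true) : clE7.getD x 0 ∈ A7 := by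
  have hx : x < 13 := by
    by_contra hcon
    rw [Nat.testBit_lt_two_pow (lt_of_lt_of_le (by norm_num : 8144 < 2 ^ 13)
      (Nat.pow_le_pow_right (by norm_num) (not_lt.1 hcon)))] at h
    exact Bool.noConfusion h
  exact (by decide : ∀ x < 13, (8144 : ℕ).testBit x = true → clE7.getD x 0 ∈ A7) x hx h

theorem ord_le {X : Type*} [Group X] {x : X} {q l N J2 J3 : ℕ} (hO : H482.TwoCyc.Untw.Ords q l N J2 J3 x)
    (hM : ∀ r : ℕ, r.Prime → r ∣ orderOf x → ¬ r ∣ q) : orderOf x ≤ (q + 1) ^ l := by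
  obtain ⟨p, e, m, j, hp, he, hq, ho, hm, hmp, h2, h3, ⟨S, hS, hSl, hmS⟩, -⟩ := hO
  have hq2 : 2 ≤ q := by rw [hq]; exact hp.two_le.trans (Nat.le_self_pow he.ne' p)
  have hj : j = 0 := by
    by_contra hj
    refine hM p hp ?_ (by rw [hq]; exact dvd_pow_self p he.ne')
    rw [ho]
    exact (dvd_pow_self p hj).mul_left m
  rw [ho, hj, pow_zero, mul_one]
  have h4 := H482.TwoCyc.Untw.card_pos_eval q hq2 (c := 1) one_pos (m := m) (S := S) (by rwa [Nat.cast_one, one_mul])
  rw [one_mul] at h4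
  exact h4.trans (Nat.pow_le_pow_right (by omega) hSl)

/-- the order of `E₇(u)` without the characteristic part -/
def E7n (u : ℕ) : ℕ := (u ^ 2 - 1) * (u ^ 6 - 1) * (u ^ 8 - 1) * (u ^ 10 - 1) * (u ^ 12 - 1) * (u ^ 14 - 1) * (u ^ 18 - 1)

theorem dvd_E7n {F : Type u} [Field F] [Fintype F] {M : ℕ} (hM : Nat.Coprime M (Nat.card F))
    (hd : M ∣ Nat.card ↥(Cfsg.Lie.chevE7.group F)) : M ∣ E7n (Nat.card F) := by
  have h1 : M ∣ Nat.gcd 2 (Nat.card F - 1) * Nat.card ↥(Cfsg.Lie.chevE7.group F) := hd.mul_left _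
  rw [Cfsg.Agent.S1064.result Nat.card_eq_fintype_card.symm] at h1
  have h2 : M ∣ (Nat.card F) ^ 63 * E7n (Nat.card F) := by
    refine h1.trans (dvd_of_eq ?_)
    unfold E7n
    ring
  exact (hM.pow_right 63).dvd_of_dvd_mul_left h2

section main

variable {t : Fam} {p f : ℕ} {L : Type w} [Group L] [Finite L] {G : Type u} [Group G] [Finite G]
  {K : Subgroup G} [K.Normal] {S : Subgroup (G ⧸ K)} [S.Normal] {v f' : ℕ}

/-- **A class with all values in the large classes of `E₇`.** -/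
theorem sv7_one (h : EX t p f L G K S .e7 v f' tabE7 (kcl clE7 (v ^ f'))) (hr : rk t ≤ 12) {i0 : ℕ} (hi : 3 ≤ i0)
    (hm : mem t i0) (hkl : Killer (KI t i0) i0)
    (hk : (dat tabE7.tbl t (cls3 t)).go (cls3 t).length (st0 tabE7.tbl (cls3 t) (tabE7.domX i0 8144)) 0 = false) :
    ∃ a ∈ A7, (Pm (idx t i0) (p ^ f) : ℤ) ∣ (cyclotomic a ℤ).eval ((v ^ f' : ℕ) : ℤ) := by
  obtain ⟨hq, hq3⟩ := h.q_odd
  obtain ⟨hM, hodd, hin⟩ := Pm_tor h.ls.cla hq hq3 hi hm
  have hgd := h.gd_e7 (Or.inl hr)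
  obtain ⟨g, hg⟩ := exists_tor h.ls h.is hi hm hodd hM hin
  have key : ∀ y : ℕ, y.Prime → y ∣ Pm (idx t i0) (p ^ f) →
      y ≠ v ∧ ¬ y ∣ Nat.card ↥K ∧ (8144 : ℕ).testBit (kcl clE7 (v ^ f') y) = true :=
    fun y hy hd => val_mask (T := tabE7) (by decide) (h.row_val hgd hk (h.gd_of_kill (hin y hy hd) hkl))
  exact numA7 h.ef.vp h.frm.is hg (fun y hy hd => (key y hy hd).2.1)
    (fun y hy hd => h.kill (hin y hy hd) (key y hy hd).2.1 hkl)
    (fun y hy hd => ⟨(hin y hy hd).five, (key y hy hd).1⟩) (fun y hy hd => mask_A7s (key y hy hd).2.2)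

/-- **A class without primes in `K ∪ {v}`.** -/
theorem sv7_out (h : EX t p f L G K S .e7 v f' tabE7 (kcl clE7 (v ^ f'))) {i0 : ℕ} (hi : 3 ≤ i0)
    (hm : mem t i0) (hkl : Killer (KI t i0) i0) (ho : ∀ y, In t (p ^ f) i0 y → ¬ y ∣ Nat.card ↥K ∧ y ≠ v) :
    Pm (idx t i0) (p ^ f) ≤ (v ^ f' + 1) ^ 7 ∧ Pm (idx t i0) (p ^ f) ∣ E7n (v ^ f') := by
  obtain ⟨hq, hq3⟩ := h.q_odd
  obtain ⟨hM, hodd, hin⟩ := Pm_tor h.ls.cla hq hq3 hi hm
  obtain ⟨g, hg⟩ := exists_tor h.ls h.is hi hm hodd hM hin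
  obtain ⟨s, hs⟩ := exists_of_coprime hg (fun y hy hd => (ho y (hin y hy hd)).1)
    (fun y hy hd => h.kill (hin y hy hd) (ho y (hin y hy hd)).1 hkl)
  obtain ⟨F, i1, i2, i3, hcF, ⟨e⟩⟩ := h.frm.is
  have hqF : Nat.card F = v ^ f' := by rw [Nat.card_eq_fintype_card, hcF]
  have hnd : ∀ r : ℕ, r.Prime → r ∣ Pm (idx t i0) (p ^ f) → ¬ r ∣ v ^ f' := fun r hr hd h1 =>
    (ho r (hin r hr hd)).2 ((Nat.prime_dvd_prime_iff_eq hr h.ef.vp).1 (hr.dvd_of_dvd_pow h1))
  have he : orderOf (e s) = Pm (idx t i0) (p ^ f) := by rw [MulEquiv.orderOf_eq, hs]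
  refine ⟨?_, ?_⟩
  · have h1 := ord_le (H482.TwoCyc.Untw.ords_E7 (e s)) (fun r hr hd => by
      rw [he] at hd
      rw [hqF]
      exact hnd r hr hd)
    rw [he, hqF] at h1
    exact h1
  · have h2 : Nat.Coprime (Pm (idx t i0) (p ^ f)) (Nat.card F) := by
      rw [hqF]
      exact Nat.coprime_of_dvd fun r hr hd => hnd r hr hd
    have h3 : Pm (idx t i0) (p ^ f) ∣ Nat.card ↥(Cfsg.Lie.chevE7.group F) := by
      rw [← he]
      exact orderOf_dvd_natCard _
    rw [← hqF]
    exact dvd_E7n h2 h3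

end main

end Cfsg.Agent.R2.Spec.EE
end

-- part: R2/Spec/EE/SmN7
section
/-!
# Small rank, `S = E₇(u)`: the numbers (helper3)
-/

set_option autoImplicit false
set_option maxRecDepth 100000

namespace Cfsg.Agent.R2.Spec.EE

open Polynomial
open Cfsg.Agent.H365.Zsig Cfsg.Agent.H426.LieFam Cfsg.Agent.R2.Spec Cfsg.Agent.R2.Spec.P1 Cfsg.Agent.R2.Spec.F1
open NumPoly NumAr NumA

/-- the bound for `u` -/
theorem lt_U {u q a b φ C E s : ℕ} (U : ℕ) (hA : b * q ^ φ ≤ a * u ^ s) (hB : u ^ 46 ≤ C * q ^ E)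
    (hs : s * E ≤ 46 * φ) (hu : 0 < u) (hchk : C ^ φ * a ^ E < b ^ E * U ^ (46 * φ - s * E)) : u < U := by
  by_contra hcon
  push Not at hcon
  have h1 : u ^ (46 * φ) ≤ C ^ φ * q ^ (φ * E) := by
    calc u ^ (46 * φ) = (u ^ 46) ^ φ := by rw [← pow_mul]
      _ ≤ (C * q ^ E) ^ φ := Nat.pow_le_pow_left hB φ
      _ = C ^ φ * q ^ (φ * E) := by rw [mul_pow, ← pow_mul, mul_comm E φ]
  have h2 : b ^ E * q ^ (φ * E) ≤ a ^ E * u ^ (s * E) := by
    calc b ^ E * q ^ (φ * E) = (b * q ^ φ) ^ E := by rw [mul_pow, ← pow_mul]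
      _ ≤ (a * u ^ s) ^ E := Nat.pow_le_pow_left hA E
      _ = a ^ E * u ^ (s * E) := by rw [mul_pow, ← pow_mul]
  have h3 : b ^ E * u ^ (46 * φ) ≤ C ^ φ * a ^ E * u ^ (s * E) := by
    calc b ^ E * u ^ (46 * φ) ≤ b ^ E * (C ^ φ * q ^ (φ * E)) := Nat.mul_le_mul_left _ h1
      _ = C ^ φ * (b ^ E * q ^ (φ * E)) := by ring
      _ ≤ C ^ φ * (a ^ E * u ^ (s * E)) := Nat.mul_le_mul_left _ h2
      _ = C ^ φ * a ^ E * u ^ (s * E) := by ring
  have h4 : u ^ (46 * φ) = u ^ (46 * φ - s * E) * u ^ (s * E) := by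
    rw [← pow_add, Nat.sub_add_cancel hs]
  have h5 : b ^ E * u ^ (46 * φ - s * E) ≤ C ^ φ * a ^ E := by
    refine Nat.le_of_mul_le_mul_right ?_ (Nat.pow_pos hu : 0 < u ^ (s * E))
    rw [mul_assoc, ← h4]
    exact h3
  have h6 : b ^ E * U ^ (46 * φ - s * E) ≤ b ^ E * u ^ (46 * φ - s * E) :=
    Nat.mul_le_mul_left _ (Nat.pow_le_pow_left hcon _)
  omega

/-- the bound for `q` -/
theorem lt_Q {u q a b φ s U : ℕ} (Q : ℕ) (hA : b * q ^ φ ≤ a * u ^ s) (hu : u < U)
    (hchk : a * (U - 1) ^ s < b * Q ^ φ) : q < Q := by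
  by_contra hcon
  push Not at hcon
  have h1 : b * Q ^ φ ≤ b * q ^ φ := Nat.mul_le_mul_left _ (Nat.pow_le_pow_left hcon _)
  have h2 : a * u ^ s ≤ a * (U - 1) ^ s := Nat.mul_le_mul_left _ (Nat.pow_le_pow_left (by omega) _)
  omega

/-- `Φ_n(q)`, computable -/
def pc (n q : ℕ) : ℕ := (ev (cl n) (q : ℤ)).natAbs

theorem Ph_pc {n q : ℕ} (hn : n ∈ [1, 2, 3, 4, 5, 6, 7, 8, 9, 10, 11, 12, 13, 14, 16, 18, 20]) : Ph n q = pc n q := by
  rw [Ph, pc, cl_pos hn (by positivity)]

/-- `M` divides a large class number -/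
def c7 (u M : ℕ) : Bool := [7, 9, 14, 18, 5, 8, 10, 12].any fun a => Nat.beq (pc a u % M) 0

theorem c7_of {u M : ℕ} (h : ∃ a ∈ A7, (M : ℤ) ∣ (cyclotomic a ℤ).eval ((u : ℕ) : ℤ)) : c7 u M = true := by
  obtain ⟨a, ha, h⟩ := h
  rw [c7, List.any_eq_true]
  refine ⟨a, ha, ?_⟩
  rw [Nat.beq_eq]
  have h1 : a ∈ [1, 2, 3, 4, 5, 6, 7, 8, 9, 10, 11, 12, 13, 14, 16, 18, 20] :=
    (by decide : ∀ a ∈ A7, a ∈ [1, 2, 3, 4, 5, 6, 7, 8, 9, 10, 11, 12, 13, 14, 16, 18, 20]) a ha
  rw [← Ph_pc h1, Ph]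
  exact Nat.mod_eq_zero_of_dvd (Int.natCast_dvd.1 h)

/-- the check of a box, one class -/
def bx (n C E U Q : ℕ) : Bool :=
  (List.range U).all fun u => (List.range Q).all fun q =>
    !(Nat.ble 2 u && (Nat.ble 3 q && (Nat.beq (q % 2) 1 && (Nat.beq (Nat.gcd u q) 1 && (Nat.ble (u ^ 46) (C * q ^ E) &&
      c7 u (pc n q / Nat.gcd (pc n q) n))))))

theorem bx_false {n C E U Q : ℕ} (h : bx n C E U Q = true) {u q : ℕ} (hn : n ∈ [1, 2, 3, 4, 5, 6, 7, 8, 9, 10, 11, 12, 13, 14, 16, 18, 20])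
    (hu : u < U) (hq : q < Q) (hu2 : 2 ≤ u) (hq3 : 3 ≤ q) (hq2 : q % 2 = 1) (hc : Nat.gcd u q = 1)
    (hB : u ^ 46 ≤ C * q ^ E) (hd : ∃ a ∈ A7, (Pm n q : ℤ) ∣ (cyclotomic a ℤ).eval ((u : ℕ) : ℤ)) : False := by
  rw [bx, List.all_eq_true] at h
  have h1 := h u (List.mem_range.2 hu)
  rw [List.all_eq_true] at h1
  have h2 := h1 q (List.mem_range.2 hq)
  have h3 := c7_of hd
  rw [Pm, Ph_pc hn] at h3
  rw [Bool.not_eq_true', (Nat.ble_eq (x := 2) (y := u)).mpr hu2, (Nat.ble_eq (x := 3) (y := q)).mpr hq3,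
    (Nat.beq_eq (x := q % 2) (y := 1)).mpr hq2, (Nat.beq_eq (x := Nat.gcd u q) (y := 1)).mpr hc,
    (Nat.ble_eq (x := u ^ 46) (y := C * q ^ E)).mpr hB, h3] at h2
  exact Bool.noConfusion h2

/-- **One class, contradiction.** -/
theorem num_one {u q n a b φ C E : ℕ} (U Q : ℕ) (hn : n ∈ [1, 2, 3, 4, 5, 6, 7, 8, 9, 10, 11, 12, 13, 14, 16, 18, 20])
    (hn1 : 1 ≤ n) (hu2 : 2 ≤ u) (hq3 : 3 ≤ q) (hq2 : q % 2 = 1) (hc : Nat.gcd u q = 1)
    (hlow : b * q ^ φ ≤ a * Ph n q) (hd : ∃ a ∈ A7, (Pm n q : ℤ) ∣ (cyclotomic a ℤ).eval ((u : ℕ) : ℤ))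
    (hB : u ^ 46 ≤ C * q ^ E) (hs : 6 * E ≤ 46 * φ)
    (hU : C ^ φ * (a * n * 2) ^ E < b ^ E * U ^ (46 * φ - 6 * E)) (hQ : (a * n * 2) * (U - 1) ^ 6 < b * Q ^ φ)
    (hbx : bx n C E U Q = true) : False := by
  have h1 : Pm n q ≤ 2 * u ^ 6 := by
    obtain ⟨x, hx, h⟩ := hd
    exact size7 hx hu2 h
  have hA : b * q ^ φ ≤ (a * n * 2) * u ^ 6 := by
    calc b * q ^ φ ≤ a * Ph n q := hlow
      _ ≤ a * (n * Pm n q) := Nat.mul_le_mul_left _ (Pm_le hn1)
      _ ≤ a * (n * (2 * u ^ 6)) := Nat.mul_le_mul_left _ (Nat.mul_le_mul_left _ h1)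
      _ = (a * n * 2) * u ^ 6 := by ring
  have hu := lt_U U hA hB hs (by omega) hU
  have hq := lt_Q Q hA hu hQ
  exact bx_false hbx hn hu hq hu2 hq3 hq2 hc hB hd

/-- the check for one `u`, an element of `E₇(u)` : `q` between `lo` and `hi` -/
def rz (n C E a b u lo hi : ℕ) : Bool :=
  Nat.blt (C * lo ^ E) (u ^ 46) && (Nat.blt (a * n * (u + 1) ^ 7) (b * hi ^ 4) &&
    (List.range (hi - lo)).all fun k =>
      !(Nat.ble 3 (lo + k) && (Nat.beq ((lo + k) % 2) 1 && (Nat.beq (Nat.gcd u (lo + k)) 1 &&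
        (Nat.ble (pc n (lo + k) / Nat.gcd (pc n (lo + k)) n) ((u + 1) ^ 7) &&
          Nat.beq (E7n u % (pc n (lo + k) / Nat.gcd (pc n (lo + k)) n)) 0)))))

/-- the check of the list, from `u` on -/
def bz (n C E a b : ℕ) : List (ℕ × ℕ) → ℕ → Bool
  | [], _ => true
  | x :: l, u => rz n C E a b u x.1 x.2 && bz n C E a b l (u + 1)

theorem bz_get {n C E a b : ℕ} : ∀ {l : List (ℕ × ℕ)} {u0 : ℕ}, bz n C E a b l u0 = true → ∀ {u : ℕ}, u0 ≤ u →
    u < u0 + l.length → ∃ lo hi, rz n C E a b u lo hi = true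
  | [], u0, _, u, h1, h2 => by
    rw [List.length_nil] at h2
    omega
  | x :: l, u0, h, u, h1, h2 => by
    rw [bz, Bool.and_eq_true] at h
    rcases Nat.eq_or_lt_of_le h1 with h3 | h3
    · exact ⟨x.1, x.2, by rw [← h3]; exact h.1⟩
    · rw [List.length_cons] at h2
      exact bz_get h.2 h3 (by omega)

theorem rz_false {n C E a b u q lo hi : ℕ} (h : rz n C E a b u lo hi = true)
    (hn : n ∈ [1, 2, 3, 4, 5, 6, 7, 8, 9, 10, 11, 12, 13, 14, 16, 18, 20])
    (hq3 : 3 ≤ q) (hq2 : q % 2 = 1) (hc : Nat.gcd u q = 1) (hA : b * q ^ 4 ≤ a * n * (u + 1) ^ 7)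
    (hB : u ^ 46 ≤ C * q ^ E) (hd : Pm n q ≤ (u + 1) ^ 7 ∧ Pm n q ∣ E7n u) : False := by
  rw [rz, Bool.and_eq_true, Bool.and_eq_true, List.all_eq_true] at h
  obtain ⟨h1, h2, h3⟩ := h
  have h1' : C * lo ^ E < u ^ 46 := Nat.blt_eq.mp h1
  have h2' : a * n * (u + 1) ^ 7 < b * hi ^ 4 := Nat.blt_eq.mp h2
  have hlo : lo < q := by
    by_contra hcon
    have := Nat.mul_le_mul_left C (Nat.pow_le_pow_left (not_lt.1 hcon) E)
    omega
  have hhi : q < hi := by
    by_contra hcon
    have := Nat.mul_le_mul_left b (Nat.pow_le_pow_left (not_lt.1 hcon) 4)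
    omega
  have h4 := h3 (q - lo) (List.mem_range.2 (by omega))
  have h5 : lo + (q - lo) = q := by omega
  rw [h5] at h4
  rw [Pm, Ph_pc hn] at hd
  rw [Bool.not_eq_true', (Nat.ble_eq (x := 3) (y := q)).mpr hq3,
    (Nat.beq_eq (x := q % 2) (y := 1)).mpr hq2, (Nat.beq_eq (x := Nat.gcd u q) (y := 1)).mpr hc,
    (Nat.ble_eq).mpr hd.1, (Nat.beq_eq (y := 0)).mpr (Nat.mod_eq_zero_of_dvd hd.2)] at h4
  exact Bool.noConfusion h4

/-- **An element of `E₇(u)`, contradiction.** -/
theorem num_two {u q n a b C E : ℕ} (U : ℕ) {l : List (ℕ × ℕ)} (hn : n ∈ [1, 2, 3, 4, 5, 6, 7, 8, 9, 10, 11, 12, 13, 14, 16, 18, 20])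
    (hn1 : 1 ≤ n) (hu2 : 2 ≤ u) (hq3 : 3 ≤ q) (hq2 : q % 2 = 1) (hc : Nat.gcd u q = 1)
    (hlow : b * q ^ 4 ≤ a * Ph n q) (hd : Pm n q ≤ (u + 1) ^ 7 ∧ Pm n q ∣ E7n u)
    (hB : u ^ 46 ≤ C * q ^ E) (hs : 7 * E ≤ 46 * 4)
    (hU : C ^ 4 * (a * n * 2187) ^ E < (b * 128) ^ E * U ^ (46 * 4 - 7 * E))
    (hbz : bz n C E a b l 2 = true) (hl : U ≤ 2 + l.length) : False := by
  have h0 : 128 * (u + 1) ^ 7 ≤ 2187 * u ^ 7 := by
    have h1 : (2 * (u + 1)) ^ 7 ≤ (3 * u) ^ 7 := Nat.pow_le_pow_left (by omega) 7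
    rw [mul_pow, mul_pow] at h1
    norm_num at h1
    exact h1
  have hA0 : b * q ^ 4 ≤ a * n * (u + 1) ^ 7 := by
    calc b * q ^ 4 ≤ a * Ph n q := hlow
      _ ≤ a * (n * Pm n q) := Nat.mul_le_mul_left _ (Pm_le hn1)
      _ ≤ a * (n * (u + 1) ^ 7) := Nat.mul_le_mul_left _ (Nat.mul_le_mul_left _ hd.1)
      _ = a * n * (u + 1) ^ 7 := by ring
  have hA : (b * 128) * q ^ 4 ≤ (a * n * 2187) * u ^ 7 := by
    calc (b * 128) * q ^ 4 = 128 * (b * q ^ 4) := by ring
      _ ≤ 128 * (a * n * (u + 1) ^ 7) := Nat.mul_le_mul_left _ hA0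
      _ = (a * n) * (128 * (u + 1) ^ 7) := by ring
      _ ≤ (a * n) * (2187 * u ^ 7) := Nat.mul_le_mul_left _ h0
      _ = (a * n * 2187) * u ^ 7 := by ring
  have hu := lt_U U hA hB hs (by omega) hU
  obtain ⟨lo, hi, h⟩ := bz_get hbz hu2 (by omega)
  exact rz_false h hn hq3 hq2 hc hA0 hB hd

/-! ### lower bounds -/

theorem low5 {q : ℕ} : 1 * q ^ 4 ≤ 1 * Ph 5 q := by
  rw [Ph_pc (by decide), pc, one_mul, one_mul]
  zify
  refine le_trans ?_ (le_abs_self _)
  simp only [NumPoly.cl, ev]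
  nlinarith [Int.natCast_nonneg q, pow_nonneg (Int.natCast_nonneg q) 2, pow_nonneg (Int.natCast_nonneg q) 3]

theorem low7 {q : ℕ} : 1 * q ^ 6 ≤ 1 * Ph 7 q := by
  rw [Ph_pc (by decide), pc, one_mul, one_mul]
  zify
  refine le_trans ?_ (le_abs_self _)
  simp only [NumPoly.cl, ev]
  nlinarith [Int.natCast_nonneg q, pow_nonneg (Int.natCast_nonneg q) 2, pow_nonneg (Int.natCast_nonneg q) 3,
    pow_nonneg (Int.natCast_nonneg q) 4, pow_nonneg (Int.natCast_nonneg q) 5]

theorem low8 {q : ℕ} : 1 * q ^ 4 ≤ 1 * Ph 8 q := by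
  rw [Ph_pc (by decide), pc, one_mul, one_mul]
  zify
  refine le_trans ?_ (le_abs_self _)
  simp only [NumPoly.cl, ev]
  nlinarith [Int.natCast_nonneg q]

theorem low14 {q : ℕ} (hq : 3 ≤ q) : 3 * q ^ 6 ≤ 4 * Ph 14 q := by
  rw [Ph_pc (by decide), pc]
  zify
  refine (six (q := (q : ℤ)) (by exact_mod_cast hq)).trans ?_
  refine mul_le_mul_of_nonneg_left (le_trans (le_of_eq ?_) (le_abs_self _)) (by norm_num)
  simp only [NumPoly.cl, ev]
  ring

theorem low10 {q : ℕ} (hq : 3 ≤ q) : 2 * q ^ 4 ≤ 3 * Ph 10 q := by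
  rw [Ph_pc (by decide), pc]
  zify
  obtain ⟨t, ht⟩ : ∃ t : ℤ, (q : ℤ) = t + 3 := ⟨q - 3, by ring⟩
  have ht0 : 0 ≤ t := by have : (3 : ℤ) ≤ q := by exact_mod_cast hq
                         linarith
  refine le_trans ?_ (mul_le_mul_of_nonneg_left (le_abs_self _) (by norm_num))
  simp only [NumPoly.cl, ev]
  rw [ht]
  nlinarith [pow_nonneg ht0 2, pow_nonneg ht0 3, pow_nonneg ht0 4]

/-! ### the bounds of the products -/

theorem RR_psl8 {q : ℕ} (hq : 3 ≤ q) : RR (.psl 8) q ≤ 3 * q ^ 22 := by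
  have h : cycs (.psl 8) = [1, 2, 3, 4, 5, 6, 7, 8] := by decide
  unfold RR
  rw [h]
  exact bound_pos (by decide) (by decide +kernel) hq

theorem RR_psu8 {q : ℕ} (hq : 3 ≤ q) : RR (.psu 8) q ≤ 1 * q ^ 22 := by
  have h : cycs (.psu 8) = [1, 2, 3, 4, 5, 6, 7, 8] := by decide
  unfold RR
  rw [h]
  exact bound_neg (by decide) (by decide +kernel) hq

theorem RR_psp5 {q : ℕ} (hq : 3 ≤ q) : RR (.psp 5) q ≤ 2 * q ^ 20 := by
  have h : cycs (.psp 5) = [1, 2, 3, 4, 5, 6, 8, 10] := by decide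
  unfold RR
  rw [h]
  exact bound_pos (by decide) (by decide +kernel) hq

theorem RR_psp6 {q : ℕ} (hq : 3 ≤ q) : RR (.psp 6) q ≤ 2 * q ^ 24 := by
  have h : cycs (.psp 6) = [1, 2, 3, 4, 5, 6, 8, 10, 12] := by decide
  unfold RR
  rw [h]
  exact bound_pos (by decide) (by decide +kernel) hq

theorem RR_psp7 {q : ℕ} (hq : 3 ≤ q) : RR (.psp 7) q ≤ 2 * q ^ 36 := by
  have h : cycs (.psp 7) = [1, 2, 3, 4, 5, 6, 7, 8, 10, 12, 14] := by decide
  unfold RR
  rw [h]
  exact bound_pos (by decide) (by decide +kernel) hq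

end Cfsg.Agent.R2.Spec.EE
end

private theorem dce_a175b36dc4cf : _root_.True := by
  try have : _root_.True := by simp only [_root_.Cfsg.Agent.R2.Spec.EE.c7.eq_1]
  try have : _root_.True := by simp only [_root_.Cfsg.Agent.R2.Spec.EE.bz.eq_1]
  try have : _root_.True := by simp only [_root_.Cfsg.Agent.R2.Spec.EE.bz.eq_2]
  try have : _root_.True := by simp only [_root_.Cfsg.Agent.R2.Spec.EE.bz.eq_def]
  try have : _root_.True := by simp only [_root_.Cfsg.Agent.R2.Spec.EE.Pm.eq_1]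
  try have : _root_.True := by simp only [_root_.Cfsg.Agent.R2.Spec.EE.pc.eq_1]
  try have : _root_.True := by simp only [_root_.Cfsg.Agent.R2.Spec.EE.rz.eq_1]
  try have : _root_.True := by simp only [_root_.Cfsg.Agent.R2.Spec.EE.bx.eq_1]
  exact _root_.True.intro
end

-- part: R2/Spec/EE/SmB7
section
set_option linter.all false

/-!
# Small rank, `S = E₇(u)`: the boxes (helper3)
-/

set_option autoImplicit false
set_option maxRecDepth 100000

namespace Cfsg.Agent.R2.Spec.EE

theorem bx_psl8 : bx 8 60480 23 11 64 = true := by decide +kernel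
theorem bx_psu8 : bx 8 20160 23 10 55 = true := by decide +kernel
theorem bx_psp5 : bx 8 25200 21 6 23 = true := by decide +kernel
theorem bx_rk6 : bx 5 30240 25 19 136 = true := by decide +kernel
theorem bx_rk7 : bx 7 35280 37 20 30 = true := by decide +kernel
theorem bx_om7 : bx 14 35280 37 39 70 = true := by decide +kernel

def z5 : List (ℕ × ℕ) := [(2, 11), (6, 17), (12, 26), (20, 35), (31, 46), (43, 57), (58, 70), (75, 85), (95, 100), (117, 117), (142, 
  142), (170, 170), (199, 199), (232, 232), (267, 267), (305, 305), (346, 346), (390, 390), (436, 436), (486, 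
  486), (538, 538), (593, 593), (651, 651), (712, 712), (776, 776), (842, 842), (912, 912), (985, 985), (1061, 
  1061), (1140, 1140), (1222, 1222), (1308, 1308), (1396, 1396), (1488, 1488), (1582, 1582), (1680, 1680)]

theorem bz_5 : bz 5 25200 21 1 1 z5 2 = true := by decide +kernel

def z8 : List (ℕ × ℕ) := [(2, 12), (6, 20), (12, 29), (20, 39), (31, 51), (43, 65), (58, 79), (75, 95), (95, 112), (117, 131), (142, 
  150), (170, 171), (199, 199), (232, 232), (267, 267), (305, 305), (346, 346), (390, 390), (436, 436), (486, 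
  486), (538, 538), (593, 593), (651, 651), (712, 712), (776, 776), (842, 842), (912, 912), (985, 985), (1061, 
  1061), (1140, 1140), (1222, 1222), (1308, 1308), (1396, 1396), (1488, 1488), (1582, 1582), (1680, 1680), 
  (1781, 1781), (1886, 1886), (1993, 1993), (2104, 2104), (2218, 2218), (2336, 2336), (2456, 2456), (2580, 
  2580), (2707, 2707), (2838, 2838), (2972, 2972)]

theorem bz_8 : bz 8 25200 21 1 1 z8 2 = true := by decide +kernel

def z10 : List (ℕ × ℕ) := [(2, 14), (6, 23), (12, 33), (20, 46), (31, 60), (43, 75), (58, 93), (75, 111), (95, 131), (117, 153), (142, 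
  176), (170, 200), (199, 226), (232, 252), (267, 281), (305, 310), (346, 346), (390, 390), (436, 436), (486, 
  486), (538, 538), (593, 593), (651, 651), (712, 712), (776, 776), (842, 842), (912, 912), (985, 985), (1061, 
  1061), (1140, 1140), (1222, 1222), (1308, 1308), (1396, 1396), (1488, 1488), (1582, 1582), (1680, 1680), 
  (1781, 1781), (1886, 1886), (1993, 1993), (2104, 2104), (2218, 2218), (2336, 2336), (2456, 2456), (2580, 
  2580), (2707, 2707), (2838, 2838), (2972, 2972), (3109, 3109), (3250, 3250), (3394, 3394), (3542, 3542), 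
  (3693, 3693), (3847, 3847), (4005, 4005), (4166, 4166), (4331, 4331), (4499, 4499), (4671, 4671), (4846, 
  4846), (5024, 5024), (5207, 5207), (5392, 5392), (5582, 5582), (5775, 5775), (5971, 5971), (6171, 6171), 
  (6374, 6374), (6582, 6582)]

theorem bz_10 : bz 10 25200 21 3 2 z10 2 = true := by decide +kernel

end Cfsg.Agent.R2.Spec.EE
end

-- part: R2/Spec/EE/SmE7
section
set_option linter.all false
open scoped Cfsg.Agent.FastGrp

-- part: R2/Spec/EE/RowM7
section
/-!
# S3435, EE, small rank, `S = E₇` : rows computed by the kernel (helper3, generator of helper13)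
-/

set_option autoImplicit false
set_option maxRecDepth 1000000

namespace Cfsg.Agent.R2.Spec.EE

open Cfsg.Agent.H426.LieFam

theorem m7_psl8 : (dat tabE7.tbl (.psl 8) (cls3 (.psl 8))).go (cls3 (.psl 8)).length (st0 tabE7.tbl (cls3 (.psl 8)) (tabE7.domX 8 8144)) 0 = false := by
  have h1 : dat tabE7.tbl (.psl 8) (cls3 (.psl 8)) = ⟨6, 17, 102, 65535, 713629290912389367327904946890034153351282688, 46767695579943437187834250694438388239876310958080, 46768409209234349577201578599385278274029662240768, 3794235376272239287185190022853405196290748413840239441717879928585412488382578687, 355716153383677250737039583775322780229486850042327018891488155343020921171482624, 989329153874853875898219458443575404528766728067532903353829469456759249402061665996186742164141917396866011302379786772922008470534374112471134771995663298189496845904904192, 129672361527531029953952092790597145186007070803466876752119362274114966305709831999668700828519313541204411494036977045037105272289937440396085660568890868450064802062939120074753⟩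 := by decide +kernel
  have h2 : (cls3 (.psl 8)).length = 6 ∧ st0 tabE7.tbl (cls3 (.psl 8)) (tabE7.domX 8 8144) = 40955942975244768552164910226840044044525766705152 := by decide +kernel
  rw [h1, h2.1, h2.2]
  decide +kernel

theorem m7_psu8 : (dat tabE7.tbl (.psu 8) (cls3 (.psu 8))).go (cls3 (.psu 8)).length (st0 tabE7.tbl (cls3 (.psu 8)) (tabE7.domX 8 8144)) 0 = false := by
  have h1 : dat tabE7.tbl (.psu 8) (cls3 (.psu 8)) = ⟨6, 17, 102, 65535, 713629290912389367327904946890034153351282688, 46767695579943437187834250694438388239876310958080, 46768409209234349577201578599385278274029662240768, 3794235376272239287185190022853405196290748413840239441717879928585412488382578687, 355716153383677250737039583775322780229486850042327018891488155343020921171482624, 989329153874853875898219458443575404528766728067532903353829469456759249402061665996186742164141917396866011302379786772922008470534374112471134771995663298189496845904904192, 129672361527531029953952092790597145186007070803466876752119362274114966305709831999668700828519313541204411494036977045037105272289937440396085660568890868450064802062939120074753⟩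 := by decide +kernel
  have h2 : (cls3 (.psu 8)).length = 6 ∧ st0 tabE7.tbl (cls3 (.psu 8)) (tabE7.domX 8 8144) = 40955942975244768552164910226840044044525766705152 := by decide +kernel
  rw [h1, h2.1, h2.2]
  decide +kernel

theorem m7_psp5 : (dat tabE7.tbl (.psp 5) (cls3 (.psp 5))).go (cls3 (.psp 5)).length (st0 tabE7.tbl (cls3 (.psp 5)) (tabE7.domX 8 8144)) 0 = false := by
  have h1 : dat tabE7.tbl (.psp 5) (cls3 (.psp 5)) = ⟨6, 17, 102, 65535, 713629290912389367327904946890034153351282688, 46767695579943437187834250694438388239876310958080, 46768409209234349577201578599385278274029662240768, 3794235376272239287185190022853405196290748413840239441717879928585412488382578687, 355716153383677250737039583775322780229486850042327018891488155343020921171482624, 989329153874854315245269706802597163370417869276698808597688678628305450647705966105033414818877202588214181276780397195868634561594095917826976783148668358886096027107983360, 129672361527531029953512745740348786164248229152325667586214118414905794759508586355368591981846658805919220145867002644426682325663846380674280304726879715445004105463757916995585⟩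 := by decide +kernel
  have h2 : (cls3 (.psp 5)).length = 6 ∧ st0 tabE7.tbl (cls3 (.psp 5)) (tabE7.domX 8 8144) = 46767651239789897921868707562873541450751285395456 := by decide +kernel
  rw [h1, h2.1, h2.2]
  decide +kernel

theorem m7_oodd5 : (dat tabE7.tbl (.oodd 5) (cls3 (.oodd 5))).go (cls3 (.oodd 5)).length (st0 tabE7.tbl (cls3 (.oodd 5)) (tabE7.domX 8 8144)) 0 = false := by
  have h1 : dat tabE7.tbl (.oodd 5) (cls3 (.oodd 5)) = ⟨6, 17, 102, 65535, 713629290912389367327904946890034153351282688, 46767695579943437187834250694438388239876310958080, 46768409209234349577201578599385278274029662240768, 3794235376272239287185190022853405196290748413840239441717879928585412488382578687, 355716153383677250737039583775322780229486850042327018891488155343020921171482624, 989329153874854315245269706802597163370417869276698808597688678628305450647705966105033414818877202588214181276780397195868634561594095917826976783148668358886096027107983360, 129672361527531029953512745740348786164248229152325667586214118414905794759508586355368591981846658805919220145867002644426682325663846380674280304726879715445004105463757916995585⟩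 := by decide +kernel
  have h2 : (cls3 (.oodd 5)).length = 6 ∧ st0 tabE7.tbl (cls3 (.oodd 5)) (tabE7.domX 8 8144) = 46767651239789897921868707562873541450751285395456 := by decide +kernel
  rw [h1, h2.1, h2.2]
  decide +kernel

theorem m7_psp6 : (dat tabE7.tbl (.psp 6) (cls3 (.psp 6))).go (cls3 (.psp 6)).length (st0 tabE7.tbl (cls3 (.psp 6)) (tabE7.domX 5 8144)) 0 = false := by
  have h1 : dat tabE7.tbl (.psp 6) (cls3 (.psp 6)) = ⟨7, 17, 119, 65535, 93536818418468699154403157198789003292133034033152, 6129935395054346199083810907022637330749938385362616320, 6130028931872764667782965310179836119753230518396649472, 3794235376272239287185190022853405196290748413840239441717879928585412488382578687, 355716153383677250737039583775322780229486850042327018891488155343020921171482624, 3334032653090417633989338462530849472682717333308148795679834211658121964674262272253155083746341949931164838271545728332828304418897491416409600567114904714554322156724624280531147092017992174514768548782271792245630367558405008968170602496,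 436994993873214129706097178252764185826553885664240839136896039955994627102881464995767805527990745733785502443190960245810556182339787322045247322904175804894674697426578115306242639676034055300087541799750006132598207690454554550799086808858625⟩ := by decide +kernel
  have h2 : (cls3 (.psp 6)).length = 7 ∧ st0 tabE7.tbl (cls3 (.psp 6)) (tabE7.domX 5 8144) = 6129935395054346199081229970400572655688491097636470784 := by decide +kernel
  rw [h1, h2.1, h2.2]
  decide +kernel

theorem m7_oodd6 : (dat tabE7.tbl (.oodd 6) (cls3 (.oodd 6))).go (cls3 (.oodd 6)).length (st0 tabE7.tbl (cls3 (.oodd 6)) (tabE7.domX 5 8144)) 0 = false := by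
  have h1 : dat tabE7.tbl (.oodd 6) (cls3 (.oodd 6)) = ⟨7, 17, 119, 65535, 93536818418468699154403157198789003292133034033152, 6129935395054346199083810907022637330749938385362616320, 6130028931872764667782965310179836119753230518396649472, 3794235376272239287185190022853405196290748413840239441717879928585412488382578687, 355716153383677250737039583775322780229486850042327018891488155343020921171482624, 3334032653090417633989338462530849472682717333308148795679834211658121964674262272253155083746341949931164838271545728332828304418897491416409600567114904714554322156724624280531147092017992174514768548782271792245630367558405008968170602496, 436994993873214129706097178252764185826553885664240839136896039955994627102881464995767805527990745733785502443190960245810556182339787322045247322904175804894674697426578115306242639676034055300087541799750006132598207690454554550799086808858625⟩ := by decide +kernel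
  have h2 : (cls3 (.oodd 6)).length = 7 ∧ st0 tabE7.tbl (cls3 (.oodd 6)) (tabE7.domX 5 8144) = 6129935395054346199081229970400572655688491097636470784 := by decide +kernel
  rw [h1, h2.1, h2.2]
  decide +kernel

theorem m7_oplus6 : (dat tabE7.tbl (.oplus 6) (cls3 (.oplus 6))).go (cls3 (.oplus 6)).length (st0 tabE7.tbl (cls3 (.oplus 6)) (tabE7.domX 5 8144)) 0 = false := by
  have h1 : dat tabE7.tbl (.oplus 6) (cls3 (.oplus 6)) = ⟨6, 17, 102, 65535, 713629290912389367327904946890034153351282688, 46767695579943437187834250694438388239876310958080, 46768409209234349577201578599385278274029662240768, 3794235376272239287185190022853405196290748413840239441717879928585412488382578687, 355716153383677250737039583775322780229486850042327018891488155343020921171482624, 989329153874854315245269706802597163370417869190052880656413214266480007393234600242274453727975825092956170324373279019647360069298348841771385635656088357674305736977416192, 129672361527531029953512745740348786164248229152325754232142059690370156584951840826734454740807749707296715403877955051544858546938338676421356360318027208025005317254048047562753⟩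 := by decide +kernel
  have h2 : (cls3 (.oplus 6)).length = 6 ∧ st0 tabE7.tbl (cls3 (.oplus 6)) (tabE7.domX 5 8144) = 46767695579943434606897628629763326792588584812544 := by decide +kernel
  rw [h1, h2.1, h2.2]
  decide +kernel

theorem m7_ominus6 : (dat tabE7.tbl (.ominus 6) (cls3 (.ominus 6))).go (cls3 (.ominus 6)).length (st0 tabE7.tbl (cls3 (.ominus 6)) (tabE7.domX 5 8144)) 0 = false := by
  have h1 : dat tabE7.tbl (.ominus 6) (cls3 (.ominus 6)) = ⟨7, 17, 119, 65535, 93536818418468699154403157198789003292133034033152, 6129935395054346199083810907022637330749938385362616320, 6130028931872764667782965310179836119753230518396649472, 3794235376272239287185190022853405196290748413840239441717879928585412488382578687, 355716153383677250737039583775322780229486850042327018891488155343020921171482624, 3334032653090417633989338462530849472682717333308148795679834211658121964674262272253155083771915314055353446631023772839293922795590007401121044234953118527805367441136144240556694688510277831486904542398703266480379759826333249836800802816,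 436994993873214129706097178252764185826553885664240839136896039955994627102881464995767805527990720160421378254582600767766049716721410629529262611460507966680861446381293703786282614128437563014430569663756389701123972941062286622558218178658305⟩ := by decide +kernel
  have h2 : (cls3 (.ominus 6)).length = 7 ∧ st0 tabE7.tbl (cls3 (.ominus 6)) (tabE7.domX 5 8144) = 6129935395054346199081229970400572655688491097636470784 := by decide +kernel
  rw [h1, h2.1, h2.2]
  decide +kernel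

theorem m7_psp7 : (dat tabE7.tbl (.psp 7) (cls3 (.psp 7))).go (cls3 (.psp 7)).length (st0 tabE7.tbl (cls3 (.psp 7)) (tabE7.domX 7 8144)) 0 = false := by
  have h1 : dat tabE7.tbl (.psp 7) (cls3 (.psp 7)) = ⟨9, 17, 153, 65535, 1606950304316854021071297658271782962194460946987903338151936, 105311488193405028270907492034841296427413998160852245265787125760, 105313095143709345124928563332499568210376192621799233169125277696, 3794235376272239287185190022853405196290748413840239441717879928585412488382578687, 355716153383677250737039583775322780229486850042327018891488155343020921171482624, 191993926328907918082012619114218258793988419137044983994960249685805525596090596636893973563166851207638539685570453902960595609340108276910143588439471834399331169715426551140962771968582666973309883358852789565105902505903653964123918915976946773155672716782247230094304575724617366774796298679661215515520902823097471737153655615164406803744672348198678184042668634880131368456359761552843007076597760,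 25164835917856289730927475999919701398386856086915588467620810965680840390500362589221856179787044889745536392205044501871760186652533690116565020589167894473642963412997928815344552742337320917280973380286643030566116508256532282894336539349029281073261735871147812097604543801444294959008721132526960378141127390586454838506756800986438809836210696267139923797970823285603050646604125283521995324821097021441⟩ := by decide +kernel
  have h2 : (cls3 (.psp 7)).length = 9 ∧ st0 tabE7.tbl (cls3 (.psp 7)) (tabE7.domX 7 8144) = 105311488193405028270863151881302030461870866596005456140761563136 := by decide +kernel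
  rw [h1, h2.1, h2.2]
  decide +kernel

theorem m7_oodd7 : (dat tabE7.tbl (.oodd 7) (cls3 (.oodd 7))).go (cls3 (.oodd 7)).length (st0 tabE7.tbl (cls3 (.oodd 7)) (tabE7.domX 7 8144)) 0 = false := by
  have h1 : dat tabE7.tbl (.oodd 7) (cls3 (.oodd 7)) = ⟨9, 17, 153, 65535, 1606950304316854021071297658271782962194460946987903338151936, 105311488193405028270907492034841296427413998160852245265787125760, 105313095143709345124928563332499568210376192621799233169125277696, 3794235376272239287185190022853405196290748413840239441717879928585412488382578687, 355716153383677250737039583775322780229486850042327018891488155343020921171482624, 191993926328907918082012619114218258793988419137044983994960249685805525596090596636893973563166851207638539685570453902960595609340108276910143588439471834399331169715426551140962771968582666973309883358852789565105902505903653964123918915976946773155672716782247230094304575724617366774796298679661215515520902823097471737153655615164406803744672348198678184042668634880131368456359761552843007076597760,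 25164835917856289730927475999919701398386856086915588467620810965680840390500362589221856179787044889745536392205044501871760186652533690116565020589167894473642963412997928815344552742337320917280973380286643030566116508256532282894336539349029281073261735871147812097604543801444294959008721132526960378141127390586454838506756800986438809836210696267139923797970823285603050646604125283521995324821097021441⟩ := by decide +kernel
  have h2 : (cls3 (.oodd 7)).length = 9 ∧ st0 tabE7.tbl (cls3 (.oodd 7)) (tabE7.domX 7 8144) = 105311488193405028270863151881302030461870866596005456140761563136 := by decide +kernel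
  rw [h1, h2.1, h2.2]
  decide +kernel

theorem m7_oplus7 : (dat tabE7.tbl (.oplus 7) (cls3 (.oplus 7))).go (cls3 (.oplus 7)).length (st0 tabE7.tbl (cls3 (.oplus 7)) (tabE7.domX 7 8144)) 0 = false := by
  have h1 : dat tabE7.tbl (.oplus 7) (cls3 (.oplus 7)) = ⟨8, 17, 136, 65535, 12260057863745529335565930620359672257953205110502850560, 803462892100563265006313263205271121424963296916804311449600, 803475152158427010535648829135891481097221250121914814300160, 3794235376272239287185190022853405196290748413840239441717879928585412488382578687, 355716153383677250737039583775322780229486850042327018891488155343020921171482624, 193027303243385854186371643505220074262278762698938635675320956273385866148042797983873935182780041465598488453936809886960508735696139902439098065523206794094813246397095005275979731383334040617656134529139559711921266948021479447897225102760924312468635909939606794430793773270054389549142039961582004375932882649088, 25300281663413827294061918339869652981968418022262733591515707135280565300662800111087154154799974865274012911090069507401346846766167526731588184645013111628937237665694507182793976459377612985014492579112760155580478743398997650516333056448523214089899919809272336261593165738304279926058763527441893035859480172816367617⟩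 := by decide +kernel
  have h2 : (cls3 (.oplus 7)).length = 8 ∧ st0 tabE7.tbl (cls3 (.oplus 7)) (tabE7.domX 7 8144) = 803462892100563220666159723939305578293398450127679285886976 := by decide +kernel
  rw [h1, h2.1, h2.2]
  decide +kernel

theorem m7_ominus7 : (dat tabE7.tbl (.ominus 7) (cls3 (.ominus 7))).go (cls3 (.ominus 7)).length (st0 tabE7.tbl (cls3 (.ominus 7)) (tabE7.domX 14 8144)) 0 = false := by
  have h1 : dat tabE7.tbl (.ominus 7) (cls3 (.ominus 7)) = ⟨8, 17, 136, 65535, 12260057863745529335565930620359672257953205110502850560, 803462892100563265006313263205271121424963296916804311449600, 803475152158427010535648829135891481097221250121914814300160, 3794235376272239287185190022853405196290748413840239441717879928585412488382578687, 355716153383677250737039583775322780229486850042327018891488155343020921171482624, 193027303243385854186371648494820848099078291839870418267417371442014017236686651740242041275809782434064488406718699108531818682687445778352066775549327869147513633448087593600831945260092810195225714610093636057508288107482056863851467903722421904417464784418858400816430848435391814560135458871371348154891953504256,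 25300281663413827294061918339864663381194581222733592659733115038865396672511711467233397786693881835533044445090116725512125275456220535425712271676303085507862184965307456190205651607163736226244915009532679201504133156377838189938917102205722252592307970980397857009986780101229114588633752534022983246515701213745512449⟩ := by decide +kernel
  have h2 : (cls3 (.ominus 7)).length = 8 ∧ st0 tabE7.tbl (cls3 (.ominus 7)) (tabE7.domX 14 8144) = 703617742622068874106550237692374177493835205628298262478848 := by decide +kernel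
  rw [h1, h2.1, h2.2]
  decide +kernel

end Cfsg.Agent.R2.Spec.EE
end

-- part: R2/Spec/EE/SmE7
section
/-!
# Small rank, `S = E₇(u)` (helper3)

`sm_e7` : none of `psl 8`, `psu 8`, `psp n`, `oodd n`, `oplus n`, `ominus n` (`n = 5, 6, 7`).
-/

set_option autoImplicit false
set_option linter.unusedSectionVars false
set_option linter.unusedVariables false

namespace Cfsg.Agent.R2.Spec.EE

open Subgroup Cfsg Polynomial
open Cfsg.Agent.H426.LieFam Cfsg.Agent.R2.Spec Cfsg.Agent.R2.Spec.P1 Cfsg.Agent.R2.Spec.F1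
open Cfsg.Agent.H365.Zsig

universe u w

/-- the boolean form of `KI`, third class `k` -/
def kib (t : Fam) (i l k : ℕ) : Bool :=
  Nat.ble 3 l && (memB t l && (naB t i l && (Nat.ble 3 k && (memB t k && (naB t i k && naB t l k)))))

theorem kI_of {t : Fam} {i l : ℕ} (k : ℕ) (hi : 0 < i) (h : kib t i l k = true) : KI t i l := by
  rw [kib, Bool.and_eq_true, Bool.and_eq_true, Bool.and_eq_true, Bool.and_eq_true, Bool.and_eq_true,
    Bool.and_eq_true] at h
  obtain ⟨h1, h2, h3, h4, h5, h6, h7⟩ := h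
  have h1' : 3 ≤ l := Nat.ble_eq.mp h1
  have h4' : 3 ≤ k := Nat.ble_eq.mp h4
  exact ⟨h1', mem_of_memB h2, na_of_naB hi (by omega) h3, k, h4', mem_of_memB h5, na_of_naB hi (by omega) h6,
    na_of_naB (by omega) (by omega) h7⟩

theorem kill8 {t : Fam} {i : ℕ} (k : ℕ) (hi : 0 < i) (h : kib t i 8 k = true) (h8 : 8 ≠ i) (h4 : ¬ i ∣ 4) :
    Killer (KI t i) i :=
  Or.inl ⟨2, by norm_num, kI_of (l := 8) k hi h, h8, h4⟩

theorem kill4 {t : Fam} {i : ℕ} (k : ℕ) (hi : 0 < i) (h : kib t i 4 k = true) (h8 : 4 ≠ i) (h4 : ¬ i ∣ 2) :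
    Killer (KI t i) i :=
  Or.inl ⟨1, le_rfl, kI_of (l := 4) k hi h, h8, h4⟩

theorem kill56 {t : Fam} (k m : ℕ) (h5 : kib t 8 5 k = true) (h6 : kib t 8 6 m = true) : Killer (KI t 8) 8 := by
  unfold Killer
  refine Or.inr (Or.inr (Or.inr (Or.inr (Or.inr (Or.inr (Or.inr (Or.inl ⟨rfl, ?_, ?_⟩)))))))
  · exact kI_of k (by norm_num) h5
  · exact kI_of m (by norm_num) h6

section main

variable {t : Fam} {p f : ℕ} {L : Type w} [Group L] [Finite L] {G : Type u} [Group G] [Finite G]
  {K : Subgroup G} [K.Normal] {S : Subgroup (G ⧸ K)} [S.Normal] {v f' : ℕ}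

theorem EX.cop (h : EX t p f L G K S .e7 v f' tabE7 (kcl clE7 (v ^ f'))) : Nat.gcd (v ^ f') (p ^ f) = 1 :=
  Nat.Coprime.pow _ _ ((Nat.coprime_primes h.ef.vp h.ls.prime).2 h.vp)

/-- one class -/
theorem one7 (h : EX t p f L G K S .e7 v f' tabE7 (kcl clE7 (v ^ f'))) {i0 n a b φ C E r c : ℕ} (U Q : ℕ)
    (hr : rk t = r) (hr12 : r ≤ 12) (hi : 3 ≤ i0) (hm : memB t i0 = true) (hidx : idx t i0 = n)
    (hkl : Killer (KI t i0) i0)
    (hk : (dat tabE7.tbl t (cls3 t)).go (cls3 t).length (st0 tabE7.tbl (cls3 t) (tabE7.domX i0 8144)) 0 = false)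
    (hn : n ∈ [1, 2, 3, 4, 5, 6, 7, 8, 9, 10, 11, 12, 13, 14, 16, 18, 20]) (hn1 : 1 ≤ n)
    (hlow : ∀ {q : ℕ}, 3 ≤ q → b * q ^ φ ≤ a * Ph n q) (hRR : ∀ {q : ℕ}, 3 ≤ q → RR t q ≤ c * q ^ E)
    (hC : 1260 * (2 * r * c) = C) (hs : 6 * (E + 1) ≤ 46 * φ)
    (hU : C ^ φ * (a * n * 2) ^ (E + 1) < b ^ (E + 1) * U ^ (46 * φ - 6 * (E + 1)))
    (hQ : (a * n * 2) * (U - 1) ^ 6 < b * Q ^ φ) (hbx : bx n C (E + 1) U Q = true) : False := by
  obtain ⟨hq, hq3⟩ := h.q_odd
  have h1 := sv7_one h (by omega) hi (mem_of_memB hm) hkl hk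
  rw [hidx] at h1
  refine num_one U Q hn hn1 (field_two (Or.inr rfl) h.frm.is) hq3 hq h.cop (hlow hq3) h1 ?_ hs hU hQ hbx
  refine (bigB7 h.ls h.is h.p2 h.frm.is).trans ?_
  rw [hr, ← hC]
  calc 1260 * (2 * r * p ^ f * RR t (p ^ f)) ≤ 1260 * (2 * r * p ^ f * (c * (p ^ f) ^ E)) :=
        Nat.mul_le_mul_left _ (Nat.mul_le_mul_left _ (hRR hq3))
    _ = 1260 * (2 * r * c) * (p ^ f) ^ (E + 1) := by rw [pow_succ]; ring

/-- an element of `E₇(u)` -/
theorem two7 (h : EX t p f L G K S .e7 v f' tabE7 (kcl clE7 (v ^ f'))) {i0 n a b C E r c : ℕ} (U : ℕ) {l : List (ℕ × ℕ)}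
    (hr : rk t = r) (hi : 3 ≤ i0) (hm : memB t i0 = true) (hidx : idx t i0 = n)
    (hkl : Killer (KI t i0) i0)
    (ho : ∀ y, In t (p ^ f) i0 y → ¬ y ∣ Nat.card ↥K ∧ y ≠ v)
    (hn : n ∈ [1, 2, 3, 4, 5, 6, 7, 8, 9, 10, 11, 12, 13, 14, 16, 18, 20]) (hn1 : 1 ≤ n)
    (hlow : ∀ {q : ℕ}, 3 ≤ q → b * q ^ 4 ≤ a * Ph n q) (hRR : ∀ {q : ℕ}, 3 ≤ q → RR t q ≤ c * q ^ E)
    (hC : 1260 * (2 * r * c) = C) (hs : 7 * (E + 1) ≤ 46 * 4)
    (hU : C ^ 4 * (a * n * 2187) ^ (E + 1) < (b * 128) ^ (E + 1) * U ^ (46 * 4 - 7 * (E + 1)))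
    (hbz : bz n C (E + 1) a b l 2 = true) (hl : U ≤ 2 + l.length) : False := by
  obtain ⟨hq, hq3⟩ := h.q_odd
  have h1 := sv7_out h hi (mem_of_memB hm) hkl ho
  rw [hidx] at h1
  refine num_two U hn hn1 (field_two (Or.inr rfl) h.frm.is) hq3 hq h.cop (hlow hq3) h1 ?_ hs hU hbz hl
  refine (bigB7 h.ls h.is h.p2 h.frm.is).trans ?_
  rw [hr, ← hC]
  calc 1260 * (2 * r * p ^ f * RR t (p ^ f)) ≤ 1260 * (2 * r * p ^ f * (c * (p ^ f) ^ E)) :=
        Nat.mul_le_mul_left _ (Nat.mul_le_mul_left _ (hRR hq3))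
    _ = 1260 * (2 * r * c) * (p ^ f) ^ (E + 1) := by rw [pow_succ]; ring

/-- **Small rank, `E₇`.** -/
theorem sm_e7 (h : EX t p f L G K S .e7 v f' tabE7 (kcl clE7 (v ^ f'))) (ht : Sm t) : False := by
  rw [sm_iff] at ht
  rcases ht with rfl | rfl | rfl | rfl | rfl | rfl | rfl | rfl | rfl | rfl | rfl | rfl | rfl | rfl
  · exact one7 h (r := 8) (c := 3) (E := 22) 11 64 rfl (by norm_num) (by norm_num) (by decide) (by decide)
      (kill56 7 7 (by decide) (by decide)) m7_psl8 (by decide) (by norm_num)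
      (fun {q} hq => low8) (fun {q} hq => RR_psl8 hq) (by norm_num) (by norm_num)
      (by norm_num) (by norm_num) bx_psl8
  · exact one7 h (r := 8) (c := 1) (E := 22) 10 55 rfl (by norm_num) (by norm_num) (by decide) (by decide)
      (kill56 7 7 (by decide) (by decide)) m7_psu8 (by decide) (by norm_num)
      (fun {q} hq => low8) (fun {q} hq => RR_psu8 hq) (by norm_num) (by norm_num)
      (by norm_num) (by norm_num) bx_psu8
  · exact one7 h (r := 5) (c := 2) (E := 20) 6 23 rfl (by norm_num) (by norm_num) (by decide) (by decide)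
      (kill4 5 (by norm_num) (by decide) (by norm_num) (by norm_num)) m7_psp5 (by decide) (by norm_num)
      (fun {q} hq => low8) (fun {q} hq => RR_psp5 hq) (by norm_num) (by norm_num)
      (by norm_num) (by norm_num) bx_psp5
  · exact one7 h (r := 6) (c := 2) (E := 24) 19 136 rfl (by norm_num) (by norm_num) (by decide) (by decide)
      (kill8 10 (by norm_num) (by decide) (by norm_num) (by norm_num)) m7_psp6 (by decide) (by norm_num)
      (fun {q} hq => low5) (fun {q} hq => RR_psp6 hq) (by norm_num) (by norm_num)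
      (by norm_num) (by norm_num) bx_rk6
  · exact one7 h (r := 7) (c := 2) (E := 36) 20 30 rfl (by norm_num) (by norm_num) (by decide) (by decide)
      (kill8 10 (by norm_num) (by decide) (by norm_num) (by norm_num)) m7_psp7 (by decide) (by norm_num)
      (fun {q} hq => low7) (fun {q} hq => RR_psp7 hq) (by norm_num) (by norm_num)
      (by norm_num) (by norm_num) bx_rk7
  · exact one7 h (r := 5) (c := 2) (E := 20) 6 23 rfl (by norm_num) (by norm_num) (by decide) (by decide)
      (kill4 5 (by norm_num) (by decide) (by norm_num) (by norm_num)) m7_oodd5 (by decide) (by norm_num)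
      (fun {q} hq => low8) (fun {q} hq => RR_psp5 hq) (by norm_num) (by norm_num)
      (by norm_num) (by norm_num) bx_psp5
  · exact one7 h (r := 6) (c := 2) (E := 24) 19 136 rfl (by norm_num) (by norm_num) (by decide) (by decide)
      (kill8 10 (by norm_num) (by decide) (by norm_num) (by norm_num)) m7_oodd6 (by decide) (by norm_num)
      (fun {q} hq => low5) (fun {q} hq => RR_psp6 hq) (by norm_num) (by norm_num)
      (by norm_num) (by norm_num) bx_rk6
  · exact one7 h (r := 7) (c := 2) (E := 36) 20 30 rfl (by norm_num) (by norm_num) (by decide) (by decide)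
      (kill8 10 (by norm_num) (by decide) (by norm_num) (by norm_num)) m7_oodd7 (by decide) (by norm_num)
      (fun {q} hq => low7) (fun {q} hq => RR_psp7 hq) (by norm_num) (by norm_num)
      (by norm_num) (by norm_num) bx_rk7
  · have hna : na (.oplus 5) 5 8 := na_of_naB (by norm_num) (by norm_num) (by decide)
    rcases h.two_out rfl hna with ho | ho
    · exact two7 h (r := 5) (c := 2) (E := 20) 38 rfl (by norm_num) (by decide) (by decide)
        (kill8 3 (by norm_num) (by decide) (by norm_num) (by norm_num)) ho (by decide) (by norm_num)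
        (fun {q} hq => low5) (fun {q} hq => RR_psp5 hq) (by norm_num) (by norm_num) (by norm_num) bz_5 (by decide)
    · exact two7 h (r := 5) (c := 2) (E := 20) 49 rfl (by norm_num) (by decide) (by decide)
        (kill4 5 (by norm_num) (by decide) (by norm_num) (by norm_num)) ho (by decide) (by norm_num)
        (fun {q} hq => low8) (fun {q} hq => RR_psp5 hq) (by norm_num) (by norm_num) (by norm_num) bz_8 (by decide)
  · exact one7 h (r := 6) (c := 2) (E := 24) 19 136 rfl (by norm_num) (by norm_num) (by decide) (by decide)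
      (kill8 10 (by norm_num) (by decide) (by norm_num) (by norm_num)) m7_oplus6 (by decide) (by norm_num)
      (fun {q} hq => low5) (fun {q} hq => RR_psp6 hq) (by norm_num) (by norm_num)
      (by norm_num) (by norm_num) bx_rk6
  · exact one7 h (r := 7) (c := 2) (E := 36) 20 30 rfl (by norm_num) (by norm_num) (by decide) (by decide)
      (kill8 10 (by norm_num) (by decide) (by norm_num) (by norm_num)) m7_oplus7 (by decide) (by norm_num)
      (fun {q} hq => low7) (fun {q} hq => RR_psp7 hq) (by norm_num) (by norm_num)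
      (by norm_num) (by norm_num) bx_rk7
  · have hna : na (.ominus 5) 10 8 := na_of_naB (by norm_num) (by norm_num) (by decide)
    rcases h.two_out rfl hna with ho | ho
    · exact two7 h (r := 5) (c := 2) (E := 20) 70 rfl (by norm_num) (by decide) (by decide)
        (kill8 3 (by norm_num) (by decide) (by norm_num) (by norm_num)) ho (by decide) (by norm_num)
        (fun {q} hq => low10 hq) (fun {q} hq => RR_psp5 hq) (by norm_num) (by norm_num) (by norm_num) bz_10 (by decide)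
    · exact two7 h (r := 5) (c := 2) (E := 20) 49 rfl (by norm_num) (by decide) (by decide)
        (kill4 10 (by norm_num) (by decide) (by norm_num) (by norm_num)) ho (by decide) (by norm_num)
        (fun {q} hq => low8) (fun {q} hq => RR_psp5 hq) (by norm_num) (by norm_num) (by norm_num) bz_8 (by decide)
  · exact one7 h (r := 6) (c := 2) (E := 24) 19 136 rfl (by norm_num) (by norm_num) (by decide) (by decide)
      (kill8 10 (by norm_num) (by decide) (by norm_num) (by norm_num)) m7_ominus6 (by decide) (by norm_num)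
      (fun {q} hq => low5) (fun {q} hq => RR_psp6 hq) (by norm_num) (by norm_num)
      (by norm_num) (by norm_num) bx_rk6
  · exact one7 h (r := 7) (c := 2) (E := 36) 39 70 rfl (by norm_num) (by norm_num) (by decide) (by decide)
      (kill8 10 (by norm_num) (by decide) (by norm_num) (by norm_num)) m7_ominus7 (by decide) (by norm_num)
      (fun {q} hq => low14 hq) (fun {q} hq => RR_psp7 hq) (by norm_num) (by norm_num)
      (by norm_num) (by norm_num) bx_om7

end main

end Cfsg.Agent.R2.Spec.EE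
end

private theorem dce_d2ab04122f6e : _root_.True := by
  try have : _root_.True := by simp only [_root_.Cfsg.Agent.R2.Spec.EE.kib.eq_1]
  exact _root_.True.intro
end
end
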